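import Mathlib
import Cfsg.Agent.Helper9.DihedralAut

set_option autoImplicit false

namespace Cfsg.Agent.Helper2

open Subgroup

/-- If an odd-order element `g` has a `2`-power power commuting with `x`, then `g` commutes
with `x`. -/
theorem commute_of_two_pow_commute_of_odd {G : Type*} [Group G] {g x : G}
    (hodd : Odd (orderOf g)) (j : ℕ) (h : Commute (g ^ (2 ^ j)) x) : Commute g x := by
  have hcop : (2 ^ j).Coprime (orderOf g) :=
    Nat.Coprime.pow_left _ (Nat.coprime_two_left.mpr hodd)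
  obtain ⟨m, hm⟩ := exists_pow_eq_self_of_coprime hcop
  rw [← hm]
  exact h.pow_left m

theorem commute_of_conj_eq {G : Type*} [Group G] {g x : G} (h : g * x * g⁻¹ = x) :
    Commute g x := mul_inv_eq_iff_eq_mul.mp h

theorem conj_eq_of_commute {G : Type*} [Group G] {g x : G} (h : Commute g x) :
    g * x * g⁻¹ = x := mul_inv_eq_iff_eq_mul.mpr h

/-- In a group where `x² = y² = (xy)² = z` and `z² = 1`, the commutator of `x` and `y` is `z`. -/
theorem comm_eq_of_sq {G : Type*} [Group G] {x y z : G} (hxx : x * x = z) (hyy : y * y = z)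
    (hxy : (x * y) * (x * y) = z) (hz2 : z * z = 1) : x * y * x⁻¹ * y⁻¹ = z := by
  have hzy : z * y = y * z := by rw [← hyy, mul_assoc]
  have hxinv : x⁻¹ = x * z := inv_eq_of_mul_eq_one_right (by rw [← mul_assoc, hxx, hz2])
  have hyinv : y⁻¹ = y * z := inv_eq_of_mul_eq_one_right (by rw [← mul_assoc, hyy, hz2])
  calc x * y * x⁻¹ * y⁻¹ = x * y * (x * z) * (y * z) := by rw [hxinv, hyinv]
    _ = x * y * x * (z * y) * z := by simp only [mul_assoc]
    _ = (x * y) * (x * y) * (z * z) := by rw [hzy]; simp only [mul_assoc]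
    _ = z := by rw [hxy, hz2, mul_one]

/-- In the same situation, `y x = x y z`. -/
theorem swap_eq_of_sq {G : Type*} [Group G] {x y z : G} (hxx : x * x = z) (hyy : y * y = z)
    (hxy : (x * y) * (x * y) = z) (hz2 : z * z = 1) : y * x = x * y * z := by
  have hxinv : x⁻¹ = x * z := inv_eq_of_mul_eq_one_right (by rw [← mul_assoc, hxx, hz2])
  have hyinv : y⁻¹ = y * z := inv_eq_of_mul_eq_one_right (by rw [← mul_assoc, hyy, hz2])
  calc y * x = x⁻¹ * ((x * y) * (x * y)) * y⁻¹ := by group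
    _ = (x * z) * z * (y * z) := by rw [hxy, hxinv, hyinv]
    _ = x * y * z := by rw [mul_assoc x z z, hz2, mul_one, mul_assoc]


/-- **Core of the quaternion automorphism argument.**  `Q` is a `2`-subgroup with a cyclic subgroup
`H` of index at most `2`, all elements of `Q` outside `H` square to `z`, and `z` is the unique
involution of `Q`.  If an odd order element `g` normalizes but does not centralize `Q`, then there
are `x, y` generating a quaternion group of order `8` which `g` permutes like an element of order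
`3` in `SL(2,3)`. -/
theorem quaternion_aut_core_strong {G : Type*} [Group G] [Finite G] (Q H : Subgroup G) (g z : G)
    (hHQ : H ≤ Q) (hQ2 : IsPGroup 2 Q) (hcyc : IsCyclic H) (hidx : H.relIndex Q ∣ 2)
    (hzQ : z ∈ Q) (hz1 : z ≠ 1) (hz2 : z * z = 1)
    (hsq : ∀ s ∈ Q, s ∉ H → s * s = z) (hinv : ∀ w ∈ Q, w * w = 1 → w = 1 ∨ w = z)
    (hgN : g ∈ normalizer (Q : Set G)) (hodd : Odd (orderOf g))
    (hgC : g ∉ centralizer (Q : Set G)) :
    ∃ x y : G, x ∈ H ∧ y ∈ Q ∧ y ∉ H ∧ (∀ h ∈ H, h = 1 ∨ h = x ∨ h = z ∨ h = x * z) ∧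
      (∀ w ∈ Q, w ∉ H → y⁻¹ * w ∈ H) ∧
      x * x = z ∧ y * y = z ∧ x * y * x⁻¹ * y⁻¹ = z ∧ g * x * g⁻¹ = y ∧
      g * y * g⁻¹ = x * y := by
  have hconjQ : ∀ q ∈ Q, g * q * g⁻¹ ∈ Q := fun q hq => (mem_normalizer_iff.mp hgN q).mp hq
  have hconj_mul : ∀ a b : G, g * (a * b) * g⁻¹ = (g * a * g⁻¹) * (g * b * g⁻¹) := by
    intro a b; group
  -- the index two property
  have hc : ∀ s ∈ Q, ∀ t ∈ Q, s ∉ H → t ∉ H → s⁻¹ * t ∈ H := by
    intro s hs t ht hsH htH
    have h12 : H.relIndex Q = 1 ∨ H.relIndex Q = 2 := (Nat.dvd_prime Nat.prime_two).mp hidx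
    rcases h12 with h1 | h2
    · exact absurd (Subgroup.relIndex_eq_one.mp h1 hs) hsH
    · have key := Subgroup.mul_mem_iff_of_index_two (H := H.subgroupOf Q) h2
        (a := ⟨s⁻¹, Q.inv_mem hs⟩) (b := ⟨t, ht⟩)
      simp only [mem_subgroupOf, Subgroup.coe_mul] at key
      rw [key]
      constructor
      · intro h; exact absurd (by simpa using H.inv_mem h) hsH
      · intro h; exact absurd h htH
  obtain ⟨c, hcgen⟩ := hcyc.exists_generator
  have hpowc : ∀ h ∈ H, ∃ k : ℤ, h = (c : G) ^ k := by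
    intro h hh
    obtain ⟨k, hk⟩ := Subgroup.mem_zpowers_iff.mp (hcgen ⟨h, hh⟩)
    refine ⟨k, ?_⟩
    have := congrArg Subtype.val hk
    simpa using this.symm
  obtain ⟨x, hxdef⟩ : ∃ x : G, x = (c : G) := ⟨_, rfl⟩
  rw [← hxdef] at hpowc
  have hxH : x ∈ H := hxdef ▸ c.2
  have hxQ : x ∈ Q := hHQ hxH
  -- `y = g x g⁻¹` is not in `H`
  have hyH : g * x * g⁻¹ ∉ H := by
    intro hy
    have hconj : ∀ h ∈ (H : Set G), g * h * g⁻¹ ∈ (H : Set G) := by
      intro h hh
      obtain ⟨k, rfl⟩ := hpowc h hh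
      have : g * x ^ k * g⁻¹ = (g * x * g⁻¹) ^ k := by
        simpa using (map_zpow (MulAut.conj g) x k)
      rw [this]; exact H.zpow_mem hy k
    have hgNH : g ∈ normalizer (H : Set G) := mem_normalizer_fintype hconj
    have hgCH := Helper9.mem_centralizer_of_isCyclic_two_group H hcyc (hQ2.to_le hHQ) g hgNH hodd
    exact hgC (Helper9.mem_centralizer_of_relIndex_dvd_two Q H hHQ hQ2 hidx g hgN hgCH hodd)
  obtain ⟨y, hydef⟩ : ∃ y : G, y = g * x * g⁻¹ := ⟨_, rfl⟩
  rw [← hydef] at hyH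
  have hyQ : y ∈ Q := hydef ▸ hconjQ x hxQ
  have hyy : y * y = z := hsq y hyQ hyH
  -- `z` is fixed by `g`
  have hgz : g * z * g⁻¹ = z := by
    have h1 : g * z * g⁻¹ ∈ Q := hconjQ z hzQ
    have h2 : (g * z * g⁻¹) * (g * z * g⁻¹) = 1 := by
      rw [← hconj_mul z z, hz2]; group
    rcases hinv _ h1 h2 with h | h
    · exfalso; apply hz1
      have : g * z * g⁻¹ = g * 1 * g⁻¹ := by rw [h]; group
      simpa using this
    · exact h
  have hxx : x * x = z := by
    have : g * (x * x) * g⁻¹ = g * z * g⁻¹ := by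
      rw [hgz, hconj_mul x x, ← hydef, hyy]
    simpa using this
  have hzx : z * x = x * z := by rw [← hxx, mul_assoc]
  have hzy : z * y = y * z := by rw [← hyy, mul_assoc]
  have hxyQ : x * y ∈ Q := Q.mul_mem hxQ hyQ
  have hxyH : x * y ∉ H := by
    intro h
    apply hyH
    have := H.mul_mem (H.inv_mem hxH) h
    simpa using this
  have hxyxy : (x * y) * (x * y) = z := hsq _ hxyQ hxyH
  have hcomm : x * y * x⁻¹ * y⁻¹ = z := comm_eq_of_sq hxx hyy hxyxy hz2
  have hswap : y * x = x * y * z := swap_eq_of_sq hxx hyy hxyxy hz2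
  -- enumeration of `H`
  have hx4 : x ^ (4 : ℤ) = 1 := by
    have : x ^ (4 : ℤ) = (x * x) * (x * x) := by
      rw [show (4 : ℤ) = ((4 : ℕ) : ℤ) from rfl, zpow_natCast]; simp only [pow_succ, pow_zero, one_mul, mul_assoc]
    rw [this, hxx, hz2]
  have henum : ∀ h ∈ H, h = 1 ∨ h = x ∨ h = z ∨ h = x * z := by
    intro h hh
    obtain ⟨k, rfl⟩ := hpowc h hh
    rw [zpow_eq_zpow_emod k hx4]
    have h0 : 0 ≤ k % 4 := Int.emod_nonneg k (by norm_num)
    have h4 : k % 4 < 4 := Int.emod_lt_of_pos k (by norm_num)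
    interval_cases (k % 4)
    · left; simp
    · right; left; simp
    · right; right; left
      rw [show (2 : ℤ) = ((2 : ℕ) : ℤ) from rfl, zpow_natCast, pow_two, hxx]
    · right; right; right
      rw [show (3 : ℤ) = ((3 : ℕ) : ℤ) from rfl, zpow_natCast, pow_succ, pow_two, hxx, hzx]
  -- `g` does not commute with `x` nor with `y`
  have hngx : ¬ Commute g x := by
    intro h
    apply hyH
    rw [hydef, conj_eq_of_commute h]; exact hxH
  have hngy : ¬ Commute g y := by
    intro h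
    apply hngx
    have h1 : g * y * g⁻¹ = y := conj_eq_of_commute h
    rw [hydef] at h1
    have h2 : g * (g * x * g⁻¹) * g⁻¹ = g * x * g⁻¹ := h1
    have h3 : g * x * g⁻¹ = x := by
      have : g * (g * x * g⁻¹) * g⁻¹ = g * x * g⁻¹ := h2
      simpa using this
    exact commute_of_conj_eq h3
  -- `y' = g y g⁻¹`
  obtain ⟨y', hy'def⟩ : ∃ y' : G, y' = g * y * g⁻¹ := ⟨_, rfl⟩
  have hy'Q : y' ∈ Q := hy'def ▸ hconjQ y hyQ
  have hy'y' : y' * y' = z := by
    rw [hy'def, ← hconj_mul y y, hyy, hgz]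
  have hg2x : g ^ 2 * x * (g ^ 2)⁻¹ = y' := by
    rw [hy'def, hydef, pow_two, mul_inv_rev]; simp only [mul_assoc]
  have hg2y : g ^ 2 * y * (g ^ 2)⁻¹ = g * y' * g⁻¹ := by
    rw [hy'def, pow_two, mul_inv_rev]; simp only [mul_assoc]
  have hy'H : y' ∉ H := by
    intro h
    rcases henum y' h with h1 | h1 | h1 | h1
    · rw [h1, one_mul] at hy'y'; exact hz1 hy'y'.symm
    · -- `g² x g⁻² = x`
      apply hngx
      apply commute_of_two_pow_commute_of_odd hodd 1
      apply commute_of_conj_eq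
      rw [pow_one, hg2x, h1]
    · rw [h1, hz2] at hy'y'; exact hz1 hy'y'.symm
    · -- `g⁴ x g⁻⁴ = x`
      apply hngx
      apply commute_of_two_pow_commute_of_odd hodd 2
      apply commute_of_conj_eq
      have : g ^ 2 ^ 2 * x * (g ^ 2 ^ 2)⁻¹ = g ^ 2 * (g ^ 2 * x * (g ^ 2)⁻¹) * (g ^ 2)⁻¹ := by
        rw [show (2 : ℕ) ^ 2 = 2 + 2 from rfl, pow_add, mul_inv_rev]; simp only [mul_assoc]
      rw [this, hg2x, h1]
      have h5 : g ^ 2 * (x * z) * (g ^ 2)⁻¹ = g * (g * (x * z) * g⁻¹) * g⁻¹ := by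
        rw [pow_two, mul_inv_rev]; simp only [mul_assoc]
      rw [h5, hconj_mul x z, ← hydef, hgz, hconj_mul y z, ← hy'def, hgz, h1, mul_assoc, hz2,
        mul_one]
  have hα : y⁻¹ * y' ∈ H := hc y hyQ y' hy'Q hyH hy'H
  rcases henum _ hα with h1 | h1 | h1 | h1
  · -- `y' = y`
    exfalso
    apply hngy
    apply commute_of_conj_eq
    rw [← hy'def]
    have : y * (y⁻¹ * y') = y * 1 := by rw [h1]
    simpa using this
  · -- `y' = y x = x y z`
    have h2 : y' = x * y * z := by
      have : y * (y⁻¹ * y') = y * x := by rw [h1]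
      rw [← hswap]; simpa using this
    have hzH : z ∈ H := hxx ▸ H.mul_mem hxH hxH
    have hyzH : y * z ∉ H := by
      intro h
      apply hyH
      have := H.mul_mem h (H.inv_mem hzH)
      simpa using this
    refine ⟨x * z, y * z, H.mul_mem hxH hzH, Q.mul_mem hyQ hzQ, hyzH, ?_,
      fun w hw hwH => hc (y * z) (Q.mul_mem hyQ hzQ) w hw hyzH hwH, ?_, ?_, ?_, ?_, ?_⟩
    · intro h hh
      rcases henum h hh with h1 | h1 | h1 | h1
      · left; exact h1
      · right; right; right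
        rw [h1, mul_assoc, hz2, mul_one]
      · right; right; left; exact h1
      · right; left; exact h1
    · calc x * z * (x * z) = x * (z * x) * z := by simp only [mul_assoc]
        _ = (x * x) * (z * z) := by rw [hzx]; simp only [mul_assoc]
        _ = z := by rw [hxx, hz2, mul_one]
    · calc y * z * (y * z) = y * (z * y) * z := by simp only [mul_assoc]
        _ = (y * y) * (z * z) := by rw [hzy]; simp only [mul_assoc]
        _ = z := by rw [hyy, hz2, mul_one]
    · have e1 : x * z * (y * z) = x * y := by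
        calc x * z * (y * z) = x * (z * y) * z := by simp only [mul_assoc]
          _ = x * y * (z * z) := by rw [hzy]; simp only [mul_assoc]
          _ = x * y := by rw [hz2, mul_one]
      apply comm_eq_of_sq (z := z) _ _ _ hz2
      · calc x * z * (x * z) = x * (z * x) * z := by simp only [mul_assoc]
          _ = (x * x) * (z * z) := by rw [hzx]; simp only [mul_assoc]
          _ = z := by rw [hxx, hz2, mul_one]
      · calc y * z * (y * z) = y * (z * y) * z := by simp only [mul_assoc]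
          _ = (y * y) * (z * z) := by rw [hzy]; simp only [mul_assoc]
          _ = z := by rw [hyy, hz2, mul_one]
      · rw [e1, hxyxy]
    · rw [hconj_mul x z, ← hydef, hgz]
    · rw [hconj_mul y z, ← hy'def, hgz, h2]
      calc x * y * z * z = x * y * (z * z) := by simp only [mul_assoc]
        _ = x * y := by rw [hz2, mul_one]
        _ = x * y * (z * z) := by rw [hz2, mul_one]
        _ = x * (y * z) * z := by simp only [mul_assoc]
        _ = x * (z * y) * z := by rw [hzy]
        _ = x * z * (y * z) := by simp only [mul_assoc]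
  · -- `y' = y z`
    exfalso
    apply hngy
    apply commute_of_two_pow_commute_of_odd hodd 1
    apply commute_of_conj_eq
    have h2 : y' = y * z := by
      have : y * (y⁻¹ * y') = y * z := by rw [h1]
      simpa using this
    rw [pow_one, hg2y, h2, hconj_mul y z, ← hy'def, hgz, h2, mul_assoc, hz2, mul_one]
  · -- `y' = y x z = x y`
    have h2 : y' = x * y := by
      have : y * (y⁻¹ * y') = y * (x * z) := by rw [h1]
      have h3 : y' = y * (x * z) := by simpa using this
      rw [h3, ← mul_assoc, hswap, mul_assoc, hz2, mul_one]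
    exact ⟨x, y, hxH, hyQ, hyH, henum, fun w hw hwH => hc y hyQ w hw hyH hwH, hxx, hyy, hcomm,
      hydef.symm, by rw [← hy'def, h2]⟩

/-- **Core of the quaternion automorphism argument.**  `Q` is a `2`-subgroup with a cyclic subgroup
`H` of index at most `2`, all elements of `Q` outside `H` square to `z`, and `z` is the unique
involution of `Q`.  If an odd order element `g` normalizes but does not centralize `Q`, then there
are `x, y` generating a quaternion group of order `8` which `g` permutes like an element of order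
`3` in `SL(2,3)`. -/
theorem quaternion_aut_core {G : Type*} [Group G] [Finite G] (Q H : Subgroup G) (g z : G)
    (hHQ : H ≤ Q) (hQ2 : IsPGroup 2 Q) (hcyc : IsCyclic H) (hidx : H.relIndex Q ∣ 2)
    (hzQ : z ∈ Q) (hz1 : z ≠ 1) (hz2 : z * z = 1)
    (hsq : ∀ s ∈ Q, s ∉ H → s * s = z) (hinv : ∀ w ∈ Q, w * w = 1 → w = 1 ∨ w = z)
    (hgN : g ∈ normalizer (Q : Set G)) (hodd : Odd (orderOf g))
    (hgC : g ∉ centralizer (Q : Set G)) :
    ∃ x y : G, x * x = z ∧ y * y = z ∧ x * y * x⁻¹ * y⁻¹ = z ∧ g * x * g⁻¹ = y ∧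
      g * y * g⁻¹ = x * y := by
  obtain ⟨x, y, -, -, -, -, -, h1, h2, h3, h4, h5⟩ :=
    quaternion_aut_core_strong Q H g z hHQ hQ2 hcyc hidx hzQ hz1 hz2 hsq hinv hgN hodd hgC
  exact ⟨x, y, h1, h2, h3, h4, h5⟩

/-- The "sign" homomorphism of a generalized quaternion group, killing the cyclic part. -/
def quatSign (N : ℕ) : QuaternionGroup N →* Multiplicative (ZMod 2) where
  toFun w := match w with
    | QuaternionGroup.a _ => 1
    | QuaternionGroup.xa _ => Multiplicative.ofAdd 1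
  map_one' := rfl
  map_mul' := by
    rintro (i | i) (j | j)
    · rfl
    · rfl
    · rfl
    · change (1 : Multiplicative (ZMod 2)) = Multiplicative.ofAdd 1 * Multiplicative.ofAdd 1
      decide

theorem quatSign_eq_one_iff {N : ℕ} (w : QuaternionGroup N) :
    quatSign N w = 1 ↔ ∃ i, w = QuaternionGroup.a i := by
  rcases w with i | i
  · exact ⟨fun _ => ⟨i, rfl⟩, fun _ => rfl⟩
  · constructor
    · intro h
      exfalso
      change Multiplicative.ofAdd (1 : ZMod 2) = 1 at h
      revert h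
      decide
    · rintro ⟨j, hj⟩
      cases hj

theorem quat_a_mem_zpowers {N : ℕ} [NeZero N] (i : ZMod (2 * N)) :
    (QuaternionGroup.a i : QuaternionGroup N) ∈ zpowers (QuaternionGroup.a 1 : QuaternionGroup N) := by
  refine ⟨(i.val : ℤ), ?_⟩
  simp only
  rw [zpow_natCast, QuaternionGroup.a_one_pow, ZMod.natCast_zmod_val]

theorem zmod_two_mul_self_ne_zero {N : ℕ} [NeZero N] : (N : ZMod (2 * N)) ≠ 0 := by
  rw [Ne, ZMod.natCast_eq_zero_iff]
  intro h
  have := Nat.le_of_dvd (Nat.pos_of_ne_zero (NeZero.ne N)) h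
  have := NeZero.ne N
  omega

theorem zmod_two_mul_self_add_self {N : ℕ} : (N : ZMod (2 * N)) + N = 0 := by
  rw [← two_mul]
  exact_mod_cast ZMod.natCast_self (2 * N)

theorem zmod_two_mul_eq_of_add_self {N : ℕ} [NeZero N] (k : ZMod (2 * N)) (hk : k + k = 0) :
    k = 0 ∨ k = N := by
  have hv : k.val < 2 * N := ZMod.val_lt k
  have hk' : ((k.val + k.val : ℕ) : ZMod (2 * N)) = 0 := by
    rw [Nat.cast_add, ZMod.natCast_zmod_val, hk]
  rw [ZMod.natCast_eq_zero_iff] at hk'
  obtain ⟨t, ht⟩ := hk'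
  have hN := NeZero.ne N
  have ht2 : t < 2 := by
    by_contra h
    push Not at h
    have : 2 * N * 2 ≤ 2 * N * t := Nat.mul_le_mul_left _ h
    omega
  interval_cases t
  · left
    have : k.val = 0 := by omega
    exact (ZMod.val_eq_zero k).mp this
  · right
    have : k.val = N := by omega
    have h2 : (k.val : ZMod (2 * N)) = k := ZMod.natCast_zmod_val k
    rw [← h2]; exact congrArg _ this


/-- If the `2`-subgroup `Q` embeds in a generalized quaternion group and an odd order element `g`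
normalizes but does not centralize `Q`, then `Q` contains a quaternion group `⟨x, y⟩` of order
`8` on which `g` acts as an automorphism of order `3`. -/
theorem quaternion_aut_embed {G : Type*} [Group G] [Finite G] {N : ℕ} [NeZero N]
    (Q : Subgroup G) (hQ2 : IsPGroup 2 Q)
    (ι : Q →* QuaternionGroup N) (hι : Function.Injective ι) (g : G)
    (hgN : g ∈ normalizer (Q : Set G)) (hodd : Odd (orderOf g))
    (hgC : g ∉ centralizer (Q : Set G)) :
    ∃ x y z : G, z ≠ 1 ∧ z * z = 1 ∧ x * x = z ∧ y * y = z ∧ x * y * x⁻¹ * y⁻¹ = z ∧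
      g * x * g⁻¹ = y ∧ g * y * g⁻¹ = x * y := by
  obtain ⟨H0, hH0⟩ : ∃ H0 : Subgroup Q, H0 = ((quatSign N).comp ι).ker := ⟨_, rfl⟩
  obtain ⟨H, hH⟩ : ∃ H : Subgroup G, H = H0.map Q.subtype := ⟨_, rfl⟩
  have hHQ : H ≤ Q := by
    rw [hH]; rintro _ ⟨y, _, rfl⟩; exact y.2
  have hmem0 : ∀ y : Q, y ∈ H0 ↔ ∃ i, ι y = QuaternionGroup.a i := by
    intro y
    rw [hH0, MonoidHom.mem_ker, MonoidHom.comp_apply, quatSign_eq_one_iff]
  have hmem : ∀ x (hx : x ∈ Q), x ∈ H ↔ ∃ i, ι ⟨x, hx⟩ = QuaternionGroup.a i := by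
    intro x hx
    rw [hH, Subgroup.mem_map]
    constructor
    · rintro ⟨y, hy, rfl⟩
      exact (hmem0 y).mp hy
    · intro h
      exact ⟨⟨x, hx⟩, (hmem0 _).mpr h, rfl⟩
  have hcyc0 : IsCyclic H0 := by
    let f : H0 →* zpowers (QuaternionGroup.a 1 : QuaternionGroup N) :=
      (ι.comp H0.subtype).codRestrict _ (fun y => by
        obtain ⟨i, hi⟩ := (hmem0 y.1).mp y.2
        change ι y.1 ∈ _
        rw [hi]
        exact quat_a_mem_zpowers i)
    have hf : Function.Injective f := by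
      intro a b hab
      have := congrArg Subtype.val hab
      change ι a.1 = ι b.1 at this
      exact Subtype.ext (hι this)
    exact isCyclic_of_injective f hf
  have hcyc : IsCyclic H := by
    have e : H0 ≃* H := hH ▸ H0.equivMapOfInjective Q.subtype Q.subtype_injective
    exact isCyclic_of_surjective e e.surjective
  have hidx : H.relIndex Q ∣ 2 := by
    have h1 : H.subgroupOf Q = H0 := by
      rw [hH]
      exact Subgroup.comap_map_eq_self_of_injective Q.subtype_injective H0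
    rw [Subgroup.relIndex, h1, hH0, Subgroup.index_ker]
    have h2 := Subgroup.card_subgroup_dvd_card ((quatSign N).comp ι).range
    have h3 : Nat.card (Multiplicative (ZMod 2)) = 2 := by
      rw [Nat.card_eq_fintype_card]; rfl
    rwa [h3] at h2
  by_cases hs : ∃ s ∈ Q, s ∉ H
  · obtain ⟨s, hsQ, hsH⟩ := hs
    -- every element outside H maps to xa
    have hxa : ∀ t (ht : t ∈ Q), t ∉ H → ∃ i, ι ⟨t, ht⟩ = QuaternionGroup.xa i := by
      intro t ht htH
      rw [hmem t ht] at htH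
      push Not at htH
      rcases hψ : ι ⟨t, ht⟩ with i | i
      · exact absurd hψ (htH i)
      · exact ⟨i, rfl⟩
    have hsqι : ∀ t (ht : t ∈ Q), t ∉ H →
        ι ⟨t * t, Q.mul_mem ht ht⟩ = QuaternionGroup.a N := by
      intro t ht htH
      obtain ⟨i, hi⟩ := hxa t ht htH
      have : (⟨t * t, Q.mul_mem ht ht⟩ : Q) = ⟨t, ht⟩ * ⟨t, ht⟩ := rfl
      rw [this, map_mul, hi, QuaternionGroup.xa_mul_xa]
      congr 1
      ring
    obtain ⟨z, hz⟩ : ∃ z : G, z = s * s := ⟨_, rfl⟩
    have hzQ : z ∈ Q := hz ▸ Q.mul_mem hsQ hsQ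
    have hιz : ι ⟨z, hzQ⟩ = QuaternionGroup.a N := by
      subst hz; exact hsqι s hsQ hsH
    have hz1 : z ≠ 1 := by
      intro h
      have : (⟨z, hzQ⟩ : Q) = 1 := Subtype.ext h
      rw [this, map_one, QuaternionGroup.one_def] at hιz
      injection hιz with h0
      exact zmod_two_mul_self_ne_zero h0.symm
    have hz2 : z * z = 1 := by
      have : ι (⟨z, hzQ⟩ * ⟨z, hzQ⟩) = ι 1 := by
        rw [map_mul, hιz, QuaternionGroup.a_mul_a, zmod_two_mul_self_add_self, map_one,
          QuaternionGroup.one_def]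
      exact congrArg Subtype.val (hι this)
    have hsq : ∀ t ∈ Q, t ∉ H → t * t = z := by
      intro t ht htH
      have : ι ⟨t * t, Q.mul_mem ht ht⟩ = ι ⟨z, hzQ⟩ := by rw [hsqι t ht htH, hιz]
      exact congrArg Subtype.val (hι this)
    have hinv : ∀ w ∈ Q, w * w = 1 → w = 1 ∨ w = z := by
      intro w hw hww
      have hww' : ι ⟨w, hw⟩ * ι ⟨w, hw⟩ = 1 := by
        rw [← map_mul]
        have : (⟨w, hw⟩ * ⟨w, hw⟩ : Q) = 1 := Subtype.ext hww
        rw [this, map_one]
      rcases hψ : ι ⟨w, hw⟩ with i | i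
      · rw [hψ, QuaternionGroup.a_mul_a, QuaternionGroup.one_def] at hww'
        injection hww' with h0
        rcases zmod_two_mul_eq_of_add_self i h0 with h | h
        · left
          have : ι ⟨w, hw⟩ = ι 1 := by rw [hψ, h, map_one, QuaternionGroup.one_def]
          exact congrArg Subtype.val (hι this)
        · right
          have : ι ⟨w, hw⟩ = ι ⟨z, hzQ⟩ := by rw [hψ, h, hιz]
          exact congrArg Subtype.val (hι this)
      · exfalso
        rw [hψ, QuaternionGroup.xa_mul_xa, QuaternionGroup.one_def] at hww'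
        injection hww' with h0
        apply zmod_two_mul_self_ne_zero (N := N)
        rw [← h0]; ring
    obtain ⟨x, y, h1, h2, h3, h4, h5⟩ :=
      quaternion_aut_core Q H g z hHQ hQ2 hcyc hidx hzQ hz1 hz2 hsq hinv hgN hodd hgC
    exact ⟨x, y, z, hz1, hz2, h1, h2, h3, h4, h5⟩
  · exfalso
    push Not at hs
    have hQH : Q = H := le_antisymm hs hHQ
    have hcycQ : IsCyclic Q := hQH ▸ hcyc
    exact hgC (Helper9.mem_centralizer_of_isCyclic_two_group Q hcycQ hQ2 g hgN hodd)

theorem inv_mul_mem_of_relIndex_dvd_two {G : Type*} [Group G] {Q H : Subgroup G}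
    (hidx : H.relIndex Q ∣ 2) {s t : G} (hs : s ∈ Q) (ht : t ∈ Q) (hsH : s ∉ H) (htH : t ∉ H) :
    s⁻¹ * t ∈ H := by
  have h12 : H.relIndex Q = 1 ∨ H.relIndex Q = 2 := (Nat.dvd_prime Nat.prime_two).mp hidx
  rcases h12 with h1 | h2
  · exact absurd (Subgroup.relIndex_eq_one.mp h1 hs) hsH
  · have key := Subgroup.mul_mem_iff_of_index_two (H := H.subgroupOf Q) h2
      (a := ⟨s⁻¹, Q.inv_mem hs⟩) (b := ⟨t, ht⟩)
    simp only [mem_subgroupOf, Subgroup.coe_mul] at key
    rw [key]
    constructor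
    · intro h; exact absurd (by simpa using H.inv_mem h) hsH
    · intro h; exact absurd h htH

/-- If the odd order element `g` normalizes but does not centralize the `2`-group `Q`, and `H` is a
cyclic subgroup of index at most two of `Q`, then `g` conjugates a generator of `H` outside `H`. -/
theorem exists_gen_conj_not_mem {G : Type*} [Group G] [Finite G] (Q H : Subgroup G) (g : G)
    (hHQ : H ≤ Q) (hQ2 : IsPGroup 2 Q) (hcyc : IsCyclic H) (hidx : H.relIndex Q ∣ 2)
    (hgN : g ∈ normalizer (Q : Set G)) (hodd : Odd (orderOf g))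
    (hgC : g ∉ centralizer (Q : Set G)) :
    ∃ c ∈ H, (∀ h ∈ H, ∃ k : ℤ, h = c ^ k) ∧ g * c * g⁻¹ ∉ H := by
  obtain ⟨c, hcgen⟩ := hcyc.exists_generator
  have hpowc : ∀ h ∈ H, ∃ k : ℤ, h = (c : G) ^ k := by
    intro h hh
    obtain ⟨k, hk⟩ := Subgroup.mem_zpowers_iff.mp (hcgen ⟨h, hh⟩)
    refine ⟨k, ?_⟩
    have := congrArg Subtype.val hk
    simpa using this.symm
  refine ⟨c, c.2, hpowc, ?_⟩
  intro hy
  have hconj : ∀ h ∈ (H : Set G), g * h * g⁻¹ ∈ (H : Set G) := by
    intro h hh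
    obtain ⟨k, rfl⟩ := hpowc h hh
    have : g * (c : G) ^ k * g⁻¹ = (g * c * g⁻¹) ^ k := by
      simpa using (map_zpow (MulAut.conj g) (c : G) k)
    rw [this]; exact H.zpow_mem hy k
  have hgNH : g ∈ normalizer (H : Set G) := mem_normalizer_fintype hconj
  have hgCH := Helper9.mem_centralizer_of_isCyclic_two_group H hcyc (hQ2.to_le hHQ) g hgNH hodd
  exact hgC (Helper9.mem_centralizer_of_relIndex_dvd_two Q H hHQ hQ2 hidx g hgN hgCH hodd)

/-- **Unified core** for dihedral / semidihedral / quaternion type `2`-groups: `H` cyclic of index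
at most `2` in `Q`, with unique involution `z` fixed by `g`; the elements outside `H` square to `1`
or `z` and invert the elements of `H` of order `4`. -/
theorem qd_aut_core {G : Type*} [Group G] [Finite G] (Q H : Subgroup G) (g z : G)
    (hHQ : H ≤ Q) (hQ2 : IsPGroup 2 Q) (hcyc : IsCyclic H) (hidx : H.relIndex Q ∣ 2)
    (hzH : z ∈ H) (hz1 : z ≠ 1) (hz2 : z * z = 1) (hgz : g * z * g⁻¹ = z)
    (hinvH : ∀ w ∈ H, w * w = 1 → w = 1 ∨ w = z)
    (hsq : ∀ s ∈ Q, s ∉ H → s * s = 1 ∨ s * s = z)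
    (hconj : ∀ s ∈ Q, s ∉ H → ∀ h ∈ H, h * h = z → s * h * s⁻¹ = h⁻¹)
    (hgN : g ∈ normalizer (Q : Set G)) (hodd : Odd (orderOf g))
    (hgC : g ∉ centralizer (Q : Set G)) :
    ∃ x y : G, x ∈ H ∧ y ∈ Q ∧ y ∉ H ∧ (∀ h ∈ H, h = 1 ∨ h = x ∨ h = z ∨ h = x * z) ∧
      (∀ w ∈ Q, w ∉ H → y⁻¹ * w ∈ H) ∧
      x * x = z ∧ y * y = z ∧ x * y * x⁻¹ * y⁻¹ = z ∧ g * x * g⁻¹ = y ∧
      g * y * g⁻¹ = x * y := by
  have hconjQ : ∀ q ∈ Q, g * q * g⁻¹ ∈ Q := fun q hq => (mem_normalizer_iff.mp hgN q).mp hq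
  have hconj_mul : ∀ a b : G, g * (a * b) * g⁻¹ = (g * a * g⁻¹) * (g * b * g⁻¹) := by
    intro a b; group
  obtain ⟨c, hcH, hpowc, hy'H⟩ := exists_gen_conj_not_mem Q H g hHQ hQ2 hcyc hidx hgN hodd hgC
  have hy'Q : g * c * g⁻¹ ∈ Q := hconjQ c (hHQ hcH)
  have hcc : c * c = z := by
    rcases hsq _ hy'Q hy'H with h1 | h1
    · exfalso
      rw [← hconj_mul c c] at h1
      have h2 : c * c = 1 := by
        have : g * (c * c) * g⁻¹ = g * 1 * g⁻¹ := by rw [h1]; group
        simpa using this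
      rcases hinvH c hcH h2 with h3 | h3
      · apply hy'H; rw [h3]; simp
      · apply hy'H; rw [h3, hgz]; exact hzH
    · rw [← hconj_mul c c, ← hgz] at h1
      simpa using h1
  have hy'y' : (g * c * g⁻¹) * (g * c * g⁻¹) = z := by
    rw [← hconj_mul c c, hcc, hgz]
  -- elements outside `H` invert `H`
  have hinvert : ∀ s ∈ Q, s ∉ H → ∀ h ∈ H, s * h * s⁻¹ = h⁻¹ := by
    intro s hs hsH h hh
    obtain ⟨k, rfl⟩ := hpowc h hh
    have h1 : s * c * s⁻¹ = c⁻¹ := hconj s hs hsH c hcH hcc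
    have h2 : s * c ^ k * s⁻¹ = (s * c * s⁻¹) ^ k := by
      simpa using (map_zpow (MulAut.conj s) c k)
    rw [h2, h1, inv_zpow]
  have hzcomm : ∀ h ∈ H, z * h = h * z := by
    intro h hh
    obtain ⟨k, rfl⟩ := hpowc h hh
    rw [← hcc]
    exact (((Commute.refl c).mul_left (Commute.refl c)).zpow_right k).eq
  have hsq' : ∀ s ∈ Q, s ∉ H → s * s = z := by
    intro s hs hsH
    have hh : (g * c * g⁻¹)⁻¹ * s ∈ H := inv_mul_mem_of_relIndex_dvd_two hidx hy'Q hs hy'H hsH
    obtain ⟨y', hy'def⟩ : ∃ y' : G, y' = g * c * g⁻¹ := ⟨_, rfl⟩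
    rw [← hy'def] at hh hy'y' hy'H hy'Q
    obtain ⟨h, hhdef⟩ : ∃ h : G, h = y'⁻¹ * s := ⟨_, rfl⟩
    rw [← hhdef] at hh
    have hs' : s = y' * h := by rw [hhdef]; group
    have h1 : y' * h * y'⁻¹ = h⁻¹ := hinvert y' hy'Q hy'H h hh
    have h2 : y' * h = h⁻¹ * y' := by rw [← h1]; group
    calc s * s = (y' * h) * (y' * h) := by rw [hs']
      _ = (h⁻¹ * y') * (y' * h) := by rw [← h2]
      _ = h⁻¹ * (y' * y') * h := by simp only [mul_assoc]
      _ = h⁻¹ * (z * h) := by rw [hy'y', mul_assoc]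
      _ = z := by rw [hzcomm h hh]; group
  have hinv : ∀ w ∈ Q, w * w = 1 → w = 1 ∨ w = z := by
    intro w hw hww
    by_cases hwH : w ∈ H
    · exact hinvH w hwH hww
    · exfalso
      apply hz1
      rw [← hsq' w hw hwH, hww]
  exact quaternion_aut_core_strong Q H g z hHQ hQ2 hcyc hidx (hHQ hzH) hz1 hz2 hsq' hinv hgN hodd
    hgC

end Cfsg.Agent.Helper2
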