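import Cfsg.Agent.Helper2.CentralProd
import Cfsg.Agent.Helper22.SL23

set_option autoImplicit false

namespace Cfsg.Agent.Helper2

open scoped Pointwise

/-- **Gluing along a cyclic extension.** -/
theorem exists_mulEquiv_of_cyclicExtension {X X' : Type*} [Group X] [Group X']
    (N : Subgroup X) (N' : Subgroup X') [N.Normal] [N'.Normal] (g : X) (g' : X')
    (hgen : ∀ w : X, ∃ n ∈ N, ∃ k : ℤ, w = n * g ^ k)
    (hgen' : ∀ w : X', ∃ n ∈ N', ∃ k : ℤ, w = n * g' ^ k)
    (hdisj : ∀ k : ℤ, g ^ k ∈ N → g ^ k = 1) (hdisj' : ∀ k : ℤ, g' ^ k ∈ N' → g' ^ k = 1)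
    (hord : orderOf g = orderOf g') (θ : N ≃* N')
    (hθ : ∀ n : N, ((θ (MulAut.conjNormal g n) : N') : X') = g' * ((θ n : N') : X') * g'⁻¹) :
    ∃ φ : X ≃* X', (∀ n : N, φ (n : X) = ((θ n : N') : X')) ∧ φ g = g' := by
  set ψ : Multiplicative ℤ →* MulAut N := (MulAut.conjNormal).comp (zpowersHom X g) with hψ
  have hψ_apply : ∀ (k : Multiplicative ℤ) (n : N),
      ((ψ k n : N) : X) = g ^ (Multiplicative.toAdd k) * (n : X) * (g ^ (Multiplicative.toAdd k))⁻¹ := by
    intro k n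
    rfl
  -- the two homs out of the semidirect product
  set F : N ⋊[ψ] Multiplicative ℤ →* X := SemidirectProduct.lift N.subtype (zpowersHom X g)
    (by
      intro k
      ext n
      rfl) with hF
  -- compatibility for all powers
  have hθk : ∀ (k : Multiplicative ℤ) (n : N), ((θ (ψ k n) : N') : X') =
      g' ^ (Multiplicative.toAdd k) * ((θ n : N') : X') * (g' ^ (Multiplicative.toAdd k))⁻¹ := by
    have h1 : (MulAut.congr θ).toMonoidHom.comp ψ =
        (MulAut.conjNormal (H := N')).comp (zpowersHom X' g') := by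
      apply MonoidHom.ext_mint
      ext n'
      show ((θ (MulAut.conjNormal (g ^ (1 : ℤ)) (θ.symm n')) : N') : X') =
        g' ^ (1 : ℤ) * (n' : X') * (g' ^ (1 : ℤ))⁻¹
      rw [zpow_one, zpow_one, hθ, MulEquiv.apply_symm_apply]
    intro k n
    have h2 := DFunLike.congr_fun (DFunLike.congr_fun h1 k) (θ n)
    have h3 : ((MulAut.congr θ).toMonoidHom.comp ψ) k (θ n) = θ (ψ k n) := by
      show θ (ψ k (θ.symm (θ n))) = θ (ψ k n)
      rw [MulEquiv.symm_apply_apply]
    rw [h3] at h2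
    rw [h2]
    rfl
  set F' : N ⋊[ψ] Multiplicative ℤ →* X' :=
    SemidirectProduct.lift (N'.subtype.comp θ.toMonoidHom) (zpowersHom X' g')
    (by
      intro k
      ext n
      exact hθk k n) with hF'
  have hFa : ∀ a : N ⋊[ψ] Multiplicative ℤ, F a = (a.left : X) * g ^ (Multiplicative.toAdd a.right) :=
    fun a => rfl
  have hFa' : ∀ a : N ⋊[ψ] Multiplicative ℤ,
      F' a = ((θ a.left : N') : X') * g' ^ (Multiplicative.toAdd a.right) := fun a => rfl
  have hsurj : Function.Surjective F := by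
    intro w
    obtain ⟨n, hn, k, rfl⟩ := hgen w
    exact ⟨⟨⟨n, hn⟩, Multiplicative.ofAdd k⟩, rfl⟩
  have hsurj' : Function.Surjective F' := by
    intro w
    obtain ⟨n, hn, k, rfl⟩ := hgen' w
    refine ⟨⟨θ.symm ⟨n, hn⟩, Multiplicative.ofAdd k⟩, ?_⟩
    rw [hFa']
    simp
  have hpow : ∀ k : ℤ, g ^ k = 1 ↔ g' ^ k = 1 := by
    intro k
    rw [← orderOf_dvd_iff_zpow_eq_one, ← orderOf_dvd_iff_zpow_eq_one, hord]
  have hker : F.ker = F'.ker := by
    ext a
    rw [MonoidHom.mem_ker, MonoidHom.mem_ker, hFa, hFa']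
    constructor
    · intro h
      have h1 : g ^ (Multiplicative.toAdd a.right) = ((a.left⁻¹ : N) : X) := by
        rw [Subgroup.coe_inv]; exact eq_inv_of_mul_eq_one_right h
      have h2 : g ^ (Multiplicative.toAdd a.right) = 1 := hdisj _ (h1 ▸ (a.left⁻¹).2)
      have h3 : a.left = 1 := by
        rw [h2, mul_one] at h
        exact Subtype.ext h
      rw [h3, map_one, (hpow _).mp h2]
      simp
    · intro h
      have h1 : g' ^ (Multiplicative.toAdd a.right) = (((θ a.left)⁻¹ : N') : X') := by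
        rw [Subgroup.coe_inv]; exact eq_inv_of_mul_eq_one_right h
      have h2 : g' ^ (Multiplicative.toAdd a.right) = 1 := hdisj' _ (h1 ▸ ((θ a.left)⁻¹).2)
      have h3 : θ a.left = 1 := by
        rw [h2, mul_one] at h
        exact Subtype.ext h
      have h4 : a.left = 1 := by
        rw [← θ.map_one] at h3
        exact θ.injective h3
      rw [h4, (hpow _).mpr h2]
      simp
  set e := QuotientGroup.quotientKerEquivOfSurjective F hsurj with he
  set e' := QuotientGroup.quotientKerEquivOfSurjective F' hsurj' with he'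
  set φ : X ≃* X' := e.symm.trans ((QuotientGroup.quotientMulEquivOfEq hker).trans e') with hφ
  have key : ∀ a : N ⋊[ψ] Multiplicative ℤ, φ (F a) = F' a := by
    intro a
    have h3 : e.symm (F a) = (a : (N ⋊[ψ] Multiplicative ℤ) ⧸ F.ker) := by
      rw [MulEquiv.symm_apply_eq]
      rfl
    rw [hφ, MulEquiv.trans_apply, h3, MulEquiv.trans_apply]
    rfl
  refine ⟨φ, ?_, ?_⟩
  · intro n
    have := key ⟨n, 1⟩
    rw [hFa, hFa'] at this
    simpa using this
  · have := key ⟨1, Multiplicative.ofAdd 1⟩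
    rw [hFa, hFa'] at this
    simpa using this

theorem HeisZ.pow_four (u : HeisZ) : u ^ 4 = ⟨4 * u.a, 4 * u.b, 4 * u.c - 6 * (u.a * u.b)⟩ := by
  have h2 : u ^ 2 = ⟨2 * u.a, 2 * u.b, 2 * u.c - u.b * u.a⟩ := by
    rw [pow_two]
    ext <;> simp <;> ring
  have h4 : u ^ 4 = u ^ 2 * u ^ 2 := by rw [← pow_add]
  rw [h4, h2]
  ext <;> simp <;> ring

/-- in a quaternion-type group every element has order dividing four -/
theorem pow_four_eq_one_of_quaternion_relations {A : Type*} [Group A] (x y : A)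
    (hgen : Subgroup.closure ({x, y} : Set A) = ⊤)
    (hx : x ^ 2 = x * y * x⁻¹ * y⁻¹) (hy : y ^ 2 = x * y * x⁻¹ * y⁻¹)
    (hc : (x * y * x⁻¹ * y⁻¹) ^ 2 = 1) (w : A) : w ^ 4 = 1 := by
  set c := x * y * x⁻¹ * y⁻¹ with hcdef
  have hcx : Commute c x := by
    rw [← hx]; exact (Commute.refl x).pow_left 2
  have hcy : Commute c y := by
    rw [← hy]; exact (Commute.refl y).pow_left 2
  obtain ⟨u, rfl⟩ := heisEval_surjective x y hcx hcy hgen w
  rw [← map_pow, HeisZ.pow_four, heisEval_apply, ← hcdef]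
  have hx4 : x ^ (4 : ℤ) = 1 := by
    have : x ^ 4 = 1 := by
      calc x ^ 4 = (x ^ 2) ^ 2 := by rw [← pow_mul]
        _ = 1 := by rw [hx, hc]
    exact_mod_cast this
  have hy4 : y ^ (4 : ℤ) = 1 := by
    have : y ^ 4 = 1 := by
      calc y ^ 4 = (y ^ 2) ^ 2 := by rw [← pow_mul]
        _ = 1 := by rw [hy, hc]
    exact_mod_cast this
  have hc2 : c ^ (2 : ℤ) = 1 := by exact_mod_cast hc
  have e1 : (4 : ℤ) * u.c - 6 * (u.a * u.b) = 2 * (2 * u.c - 3 * (u.a * u.b)) := by ring
  rw [zpow_mul, zpow_mul, hx4, hy4, e1, zpow_mul, hc2, one_zpow, one_zpow, one_zpow, one_mul, one_mul]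

open Cfsg.Agent.Helper22

def slX : SL23 := ⟨!![0, 1; 2, 0], by rw [Matrix.det_fin_two_of]; decide⟩
def slY : SL23 := ⟨!![1, 1; 1, 2], by rw [Matrix.det_fin_two_of]; decide⟩
def slG : SL23 := ⟨!![0, 1; 2, 2], by rw [Matrix.det_fin_two_of]; decide⟩

def tX : T3 := (0, 1, 2, 0)
def tY : T3 := (1, 1, 1, 2)
def tG : T3 := (0, 1, 2, 2)

theorem ent_slX : ent slX = tX := by simp [ent, slX, tX]
theorem ent_slY : ent slY = tY := by simp [ent, slY, tY]
theorem ent_slG : ent slG = tG := by simp [ent, slG, tG]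

theorem slX_sq : slX ^ 2 = slX * slY * slX⁻¹ * slY⁻¹ := by
  apply ent_injective
  rw [ent_sq, ent_comm, ent_slX, ent_slY]
  decide

theorem slY_sq : slY ^ 2 = slX * slY * slX⁻¹ * slY⁻¹ := by
  apply ent_injective
  rw [ent_sq, ent_comm, ent_slX, ent_slY]
  decide

theorem slComm_sq : (slX * slY * slX⁻¹ * slY⁻¹) ^ 2 = 1 := by
  apply ent_injective
  rw [ent_sq, ent_comm, ent_slX, ent_slY, ent_one]
  decide

theorem slComm_ne_one : slX * slY * slX⁻¹ * slY⁻¹ ≠ 1 := by
  intro h
  have := congrArg ent h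
  rw [ent_comm, ent_slX, ent_slY, ent_one] at this
  revert this
  decide

theorem slG_conj_X : slG * slX * slG⁻¹ = slY := by
  apply ent_injective
  rw [ent_mul, ent_mul, ent_inv, ent_slX, ent_slY, ent_slG]
  decide

theorem slG_conj_Y : slG * slY * slG⁻¹ = slX * slY := by
  apply ent_injective
  rw [ent_mul, ent_mul, ent_inv, ent_mul, ent_slX, ent_slY, ent_slG]
  decide

theorem slG_cube : slG ^ 3 = 1 := by
  apply ent_injective
  have : slG ^ 3 = slG * slG * slG := by rw [pow_succ, pow_two]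
  rw [this, ent_mul, ent_mul, ent_slG, ent_one]
  decide

theorem slG_ne_one : slG ≠ 1 := by
  intro h
  have := congrArg ent h
  rw [ent_slG, ent_one] at this
  revert this
  decide

/-- every matrix is a word `x^a y^b g^i` -/
theorem t_words : ∀ a b c d : ZMod 3, tdet (a, b, c, d) = 1 →
    ∃ (i : Fin 4) (j : Fin 2) (k : Fin 3), (a, b, c, d) =
      tmul (tmul ([tone, tX, tmul tX tX, tmul (tmul tX tX) tX].get i) ([tone, tY].get j))
        ([tone, tG, tmul tG tG].get k) := by
  decide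

theorem closure_slX_slY_slG : Subgroup.closure ({slX, slY, slG} : Set SL23) = ⊤ := by
  rw [eq_top_iff]
  intro M _
  have hX : slX ∈ Subgroup.closure ({slX, slY, slG} : Set SL23) := Subgroup.subset_closure (by simp)
  have hY : slY ∈ Subgroup.closure ({slX, slY, slG} : Set SL23) := Subgroup.subset_closure (by simp)
  have hG : slG ∈ Subgroup.closure ({slX, slY, slG} : Set SL23) := Subgroup.subset_closure (by simp)
  obtain ⟨i, j, k, h⟩ := t_words (M 0 0) (M 0 1) (M 1 0) (M 1 1) (tdet_ent M)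
  have hM : M = ([1, slX, slX * slX, slX * slX * slX].get i) * ([1, slY].get j) *
      ([1, slG, slG * slG].get k) := by
    apply ent_injective
    rw [ent_mul, ent_mul]
    show (M 0 0, M 0 1, M 1 0, M 1 1) = _
    rw [h]
    congr 1
    · congr 1
      · fin_cases i <;> simp [ent_one, ent_mul, ent_slX]
      · fin_cases j <;> simp [ent_one, ent_slY]
    · fin_cases k <;> simp [ent_one, ent_mul, ent_slG]
  rw [hM]
  refine mul_mem (mul_mem ?_ ?_) ?_
  · fin_cases i <;> simp [one_mem, hX, mul_mem]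
  · fin_cases j <;> simp [one_mem, hY]
  · fin_cases k <;> simp [one_mem, hG, mul_mem]

/-- the structure of a group generated by quaternion-type `x, y` and `g` of order three permuting them -/
theorem sl23_structure {X : Type*} [Group X] (x y g : X)
    (hx : x ^ 2 = x * y * x⁻¹ * y⁻¹) (hy : y ^ 2 = x * y * x⁻¹ * y⁻¹)
    (hc : (x * y * x⁻¹ * y⁻¹) ^ 2 = 1)
    (hgx : g * x * g⁻¹ = y) (hgy : g * y * g⁻¹ = x * y) (hg3 : g ^ 3 = 1) (hg1 : g ≠ 1)
    (hgen : Subgroup.closure ({x, y, g} : Set X) = ⊤) :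
    (Subgroup.closure ({x, y} : Set X)).Normal ∧
    (∀ w : X, ∃ n ∈ Subgroup.closure ({x, y} : Set X), ∃ k : ℤ, w = n * g ^ k) ∧
    (∀ k : ℤ, g ^ k ∈ Subgroup.closure ({x, y} : Set X) → g ^ k = 1) ∧ orderOf g = 3 := by
  set N := Subgroup.closure ({x, y} : Set X) with hN
  have hxN : x ∈ N := Subgroup.subset_closure (by simp)
  have hyN : y ∈ N := Subgroup.subset_closure (by simp)
  -- conjugation by `g` maps `N` into `N`
  have hconj : ∀ n ∈ N, g * n * g⁻¹ ∈ N := by
    intro n hn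
    have h1 : N.map (MulAut.conj g).toMonoidHom ≤ N := by
      rw [hN, MonoidHom.map_closure, Subgroup.closure_le]
      rintro _ ⟨w, hw, rfl⟩
      rcases hw with rfl | hw
      · show g * w * g⁻¹ ∈ N
        rw [hgx]; exact hyN
      · rw [Set.mem_singleton_iff] at hw
        subst hw
        show g * w * g⁻¹ ∈ N
        rw [hgy]; exact mul_mem hxN hyN
    exact h1 ⟨n, hn, rfl⟩
  have hginv : g⁻¹ = g * g := by
    have : g * g * g = 1 := by rw [← hg3, pow_succ, pow_two]
    calc g⁻¹ = g⁻¹ * (g * g * g) := by rw [this, mul_one]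
      _ = g * g := by group
  have hconj' : ∀ n ∈ N, g⁻¹ * n * g ∈ N := by
    intro n hn
    have h1 := hconj _ (hconj n hn)
    have : g⁻¹ * n * g = g * (g * n * g⁻¹) * g⁻¹ := by
      have e1 : (g * g)⁻¹ = g := by rw [← hginv, inv_inv]
      calc g⁻¹ * n * g = (g * g) * n * (g * g)⁻¹ := by rw [e1, ← hginv]
        _ = g * (g * n * g⁻¹) * g⁻¹ := by group
    rw [this]
    exact h1
  have hnormal : N.Normal := by
    have h1 : Subgroup.normalizer (N : Set X) = ⊤ := by
      rw [eq_top_iff, ← hgen, Subgroup.closure_le]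
      intro w hw
      rcases hw with rfl | rfl | hw
      · exact Subgroup.le_normalizer hxN
      · exact Subgroup.le_normalizer hyN
      · rw [Set.mem_singleton_iff] at hw
        subst hw
        rw [SetLike.mem_coe, Subgroup.mem_normalizer_iff]
        intro n
        constructor
        · exact hconj n
        · intro h
          have := hconj' _ h
          have e : w⁻¹ * (w * n * w⁻¹) * w = n := by group
          rwa [e] at this
    exact Subgroup.normalizer_eq_top_iff.mp h1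
  refine ⟨hnormal, ?_, ?_, orderOf_eq_prime hg3 hg1⟩
  · intro w
    have h1 : N ⊔ Subgroup.zpowers g = ⊤ := by
      rw [eq_top_iff, ← hgen, Subgroup.closure_le]
      intro v hv
      rcases hv with rfl | rfl | hv
      · exact Subgroup.mem_sup_left hxN
      · exact Subgroup.mem_sup_left hyN
      · rw [Set.mem_singleton_iff] at hv
        subst hv
        exact Subgroup.mem_sup_right (Subgroup.mem_zpowers v)
    have h2 : w ∈ ((N ⊔ Subgroup.zpowers g : Subgroup X) : Set X) := by rw [h1]; trivial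
    rw [Subgroup.normal_mul] at h2
    obtain ⟨n, hn, v, hv, rfl⟩ := h2
    obtain ⟨k, rfl⟩ := Subgroup.mem_zpowers_iff.mp hv
    exact ⟨n, hn, k, rfl⟩
  · intro k hk
    have h4 : (⟨g ^ k, hk⟩ : ↥N) ^ 4 = 1 :=
      pow_four_eq_one_of_quaternion_relations (⟨x, hxN⟩ : ↥N) ⟨y, hyN⟩
        (closure_pair_subtype_eq_top x y) (Subtype.ext hx) (Subtype.ext hy) (Subtype.ext hc) _
    have h4' : (g ^ k) ^ 4 = 1 := congrArg Subtype.val h4
    have h3' : (g ^ k) ^ 3 = 1 := by
      rw [← zpow_natCast, ← zpow_mul, mul_comm, zpow_mul, zpow_natCast, hg3, one_zpow]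
    calc g ^ k = (g ^ k) ^ 4 * ((g ^ k) ^ 3)⁻¹ := by group
      _ = 1 := by rw [h4', h3', inv_one, mul_one]

/-- **Recognition of `SL(2,3)`**. -/
theorem nonempty_mulEquiv_sl23 {X : Type*} [Group X] (x y g : X)
    (hx : x ^ 2 = x * y * x⁻¹ * y⁻¹) (hy : y ^ 2 = x * y * x⁻¹ * y⁻¹)
    (hc : (x * y * x⁻¹ * y⁻¹) ^ 2 = 1) (hc1 : x * y * x⁻¹ * y⁻¹ ≠ 1)
    (hgx : g * x * g⁻¹ = y) (hgy : g * y * g⁻¹ = x * y) (hg3 : g ^ 3 = 1) (hg1 : g ≠ 1)
    (hgen : Subgroup.closure ({x, y, g} : Set X) = ⊤) :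
    Nonempty (X ≃* Matrix.SpecialLinearGroup (Fin 2) (ZMod 3)) := by
  obtain ⟨hn, hgenX, hdisjX, hordX⟩ := sl23_structure x y g hx hy hc hgx hgy hg3 hg1 hgen
  obtain ⟨hn', hgenS, hdisjS, hordS⟩ := sl23_structure slX slY slG slX_sq slY_sq slComm_sq
    slG_conj_X slG_conj_Y slG_cube slG_ne_one closure_slX_slY_slG
  set N := Subgroup.closure ({x, y} : Set X) with hN
  set N' := Subgroup.closure ({slX, slY} : Set SL23) with hN'
  have hxN : x ∈ N := Subgroup.subset_closure (by simp)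
  have hyN : y ∈ N := Subgroup.subset_closure (by simp)
  have hxN' : slX ∈ N' := Subgroup.subset_closure (by simp)
  have hyN' : slY ∈ N' := Subgroup.subset_closure (by simp)
  set xA : ↥N := ⟨x, hxN⟩ with hxA
  set yA : ↥N := ⟨y, hyN⟩ with hyA
  set xA' : ↥N' := ⟨slX, hxN'⟩ with hxA'
  set yA' : ↥N' := ⟨slY, hyN'⟩ with hyA'
  have hcx : Commute (xA * yA * xA⁻¹ * yA⁻¹) xA := by
    have : xA ^ 2 = xA * yA * xA⁻¹ * yA⁻¹ := Subtype.ext hx
    rw [← this]; exact (Commute.refl xA).pow_left 2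
  have hcy : Commute (xA * yA * xA⁻¹ * yA⁻¹) yA := by
    have : yA ^ 2 = xA * yA * xA⁻¹ * yA⁻¹ := Subtype.ext hy
    rw [← this]; exact (Commute.refl yA).pow_left 2
  have hcx' : Commute (xA' * yA' * xA'⁻¹ * yA'⁻¹) xA' := by
    have : xA' ^ 2 = xA' * yA' * xA'⁻¹ * yA'⁻¹ := Subtype.ext slX_sq
    rw [← this]; exact (Commute.refl xA').pow_left 2
  have hcy' : Commute (xA' * yA' * xA'⁻¹ * yA'⁻¹) yA' := by
    have : yA' ^ 2 = xA' * yA' * xA'⁻¹ * yA'⁻¹ := Subtype.ext slY_sq
    rw [← this]; exact (Commute.refl yA').pow_left 2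
  have ho : orderOf (xA * yA * xA⁻¹ * yA⁻¹) = 2 :=
    orderOf_eq_prime (Subtype.ext hc) (fun h => hc1 (congrArg Subtype.val h))
  have ho' : orderOf (xA' * yA' * xA'⁻¹ * yA'⁻¹) = 2 :=
    orderOf_eq_prime (Subtype.ext slComm_sq) (fun h => slComm_ne_one (congrArg Subtype.val h))
  obtain ⟨θ, hθx, hθy⟩ := exists_mulEquiv_of_marked xA yA xA' yA' hcx hcy hcx' hcy'
    (closure_pair_subtype_eq_top x y) (closure_pair_subtype_eq_top slX slY) ho ho' 1 1
    (by rw [zpow_one]; exact Subtype.ext hx) (by rw [zpow_one]; exact Subtype.ext hy)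
    (by rw [zpow_one]; exact Subtype.ext slX_sq) (by rw [zpow_one]; exact Subtype.ext slY_sq)
  -- compatibility with conjugation by `g`
  have hθ : ∀ n : N, ((θ (MulAut.conjNormal g n) : N') : SL23) =
      slG * ((θ n : N') : SL23) * slG⁻¹ := by
    set f₁ : ↥N →* SL23 :=
      N'.subtype.comp (θ.toMonoidHom.comp (MulAut.conjNormal g : MulAut N).toMonoidHom) with hf₁
    set f₂ : ↥N →* SL23 :=
      (MulAut.conj slG).toMonoidHom.comp (N'.subtype.comp θ.toMonoidHom) with hf₂
    have heq : f₁ = f₂ := by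
      apply MonoidHom.eq_of_eqOn_dense (closure_pair_subtype_eq_top x y)
      intro w hw
      rcases hw with rfl | hw
      · show ((θ (MulAut.conjNormal g xA) : N') : SL23) = slG * ((θ xA : N') : SL23) * slG⁻¹
        have e1 : MulAut.conjNormal g xA = yA := Subtype.ext hgx
        rw [e1, hθx, hθy]
        exact slG_conj_X.symm
      · rw [Set.mem_singleton_iff] at hw
        subst hw
        show ((θ (MulAut.conjNormal g yA) : N') : SL23) = slG * ((θ yA : N') : SL23) * slG⁻¹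
        have e1 : MulAut.conjNormal g yA = xA * yA := Subtype.ext hgy
        rw [e1, map_mul, hθx, hθy]
        exact slG_conj_Y.symm
    intro n
    exact DFunLike.congr_fun heq n
  obtain ⟨φ, -, -⟩ := exists_mulEquiv_of_cyclicExtension N N' g slG hgenX hgenS hdisjX hdisjS
    (hordX.trans hordS.symm) θ hθ
  exact ⟨φ⟩

end Cfsg.Agent.Helper2
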