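import Mathlib.GroupTheory.SpecificGroups.Cyclic
import Mathlib.GroupTheory.Sylow
import Mathlib.GroupTheory.Perm.Cycle.Type

set_option autoImplicit false

namespace Cfsg.Agent.Helper2

/-- In a finite cyclic group, an element `y` with `y ^ p = 1` lies in `zpowers x` as soon as
`x` has order `p`. -/
theorem mem_zpowers_of_pow_eq_one_of_isCyclic {C : Type*} [Group C] [Finite C] [IsCyclic C]
    {p : ℕ} (hp : 0 < p) (x y : C) (hx : orderOf x = p) (hy : y ^ p = 1) :
    y ∈ Subgroup.zpowers x := by
  classical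
  have : Fintype C := Fintype.ofFinite C
  have hle := IsCyclic.card_pow_eq_one_le (α := C) hp
  set S : Finset C := Finset.univ.filter (fun a : C => a ^ p = 1) with hS
  set Z : Finset C := Finset.univ.filter (fun a : C => a ∈ Subgroup.zpowers x) with hZ
  have hZS : Z ⊆ S := by
    intro a ha
    rw [hZ, Finset.mem_filter] at ha
    rw [hS, Finset.mem_filter]
    refine ⟨Finset.mem_univ _, ?_⟩
    obtain ⟨k, rfl⟩ := Subgroup.mem_zpowers_iff.mp ha.2
    rw [← zpow_natCast, ← zpow_mul, mul_comm, zpow_mul, zpow_natCast, ← hx, pow_orderOf_eq_one,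
      one_zpow]
  have hZcard : Z.card = p := by
    rw [hZ, ← Fintype.card_subtype, ← Nat.card_eq_fintype_card]
    have := Nat.card_zpowers x
    rw [hx] at this
    exact this
  have hScard : S.card ≤ Z.card := by
    rw [hZcard]
    convert hle using 2
  have hEq : Z = S := Finset.eq_of_subset_of_card_le hZS hScard
  have hyS : y ∈ S := by rw [hS, Finset.mem_filter]; exact ⟨Finset.mem_univ _, hy⟩
  rw [← hEq, hZ, Finset.mem_filter] at hyS
  exact hyS.2

/-- Two subgroups of a finite cyclic group whose orders are both divisible by the prime `p`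
intersect nontrivially. -/
theorem inf_ne_bot_of_dvd_card_of_isCyclic {C : Type*} [Group C] [Finite C] [IsCyclic C]
    {p : ℕ} [Fact p.Prime] (X Y : Subgroup C) (hX : p ∣ Nat.card X) (hY : p ∣ Nat.card Y) :
    X ⊓ Y ≠ ⊥ := by
  have hp : p.Prime := Fact.out
  obtain ⟨x, hx⟩ := exists_prime_orderOf_dvd_card' p hX
  obtain ⟨y, hy⟩ := exists_prime_orderOf_dvd_card' p hY
  have hx' : orderOf (x : C) = p := by rw [Subgroup.orderOf_coe]; exact hx
  have hy' : orderOf (y : C) = p := by rw [Subgroup.orderOf_coe]; exact hy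
  have hyp : (y : C) ^ p = 1 := by rw [← hy']; exact pow_orderOf_eq_one _
  have hmem := mem_zpowers_of_pow_eq_one_of_isCyclic hp.pos (x : C) (y : C) hx' hyp
  have hyX : (y : C) ∈ X := (Subgroup.zpowers_le.mpr x.2) hmem
  intro hbot
  have : (y : C) ∈ X ⊓ Y := ⟨hyX, y.2⟩
  rw [hbot, Subgroup.mem_bot] at this
  rw [this, orderOf_one] at hy'
  exact hp.one_lt.ne hy'

end Cfsg.Agent.Helper2
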