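import Mathlib.GroupTheory.Sylow
import Mathlib.GroupTheory.Transfer
import Mathlib.GroupTheory.Focal
import Mathlib.GroupTheory.Frattini
import Mathlib.GroupTheory.Nilpotent
import Mathlib.GroupTheory.Solvable

set_option autoImplicit false

namespace Cfsg.Agent.Helper2

open scoped commutatorElement

/-- In a finite nilpotent group every maximal subgroup contains the derived subgroup. -/
theorem commutator_le_of_isCoatom {G : Type*} [Group G] [Finite G] [Group.IsNilpotent G]
    (M : Subgroup G) (hM : IsCoatom M) : commutator G ≤ M := by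
  have hn : M.Normal := by
    have h02 := (Group.isNilpotent_of_finite_tfae (G := G)).out 0 2
    exact h02.mp ‹Group.IsNilpotent G› M hM
  have hnt : Nontrivial (G ⧸ M) := by
    rw [← not_subsingleton_iff_nontrivial]
    intro hs
    apply hM.1
    rw [eq_top_iff]
    intro x _
    rw [← QuotientGroup.eq_one_iff]
    exact Subsingleton.elim _ _
  have hlt := Group.IsSolvable.commutator_lt_top_of_nontrivial (G ⧸ M)
  set K := (commutator (G ⧸ M)).comap (QuotientGroup.mk' M) with hK
  have hMK : M ≤ K := by
    intro x hx
    rw [hK, Subgroup.mem_comap, QuotientGroup.mk'_apply, (QuotientGroup.eq_one_iff x).mpr hx]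
    exact one_mem _
  have hKtop : K ≠ ⊤ := by
    intro h
    apply hlt.ne
    rw [eq_top_iff]
    intro y _
    obtain ⟨x, rfl⟩ := QuotientGroup.mk'_surjective M y
    have : x ∈ K := by rw [h]; trivial
    exact this
  have hKM : K = M := (hM.le_iff.mp hMK).resolve_left hKtop
  rw [← hKM, hK, ← Subgroup.map_le_iff_le_comap, commutator_def, Subgroup.map_commutator,
    commutator_def]
  exact Subgroup.commutator_mono le_top le_top

/-- In a finite nilpotent group the derived subgroup lies in the Frattini subgroup. -/
theorem commutator_le_frattini {G : Type*} [Group G] [Finite G] [Group.IsNilpotent G] :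
    commutator G ≤ frattini G := by
  unfold frattini Order.radical
  simp only [le_iInf_iff]
  intro M hM
  exact commutator_le_of_isCoatom M hM

open scoped IsMulCommutative in
/-- Transfer into the abelianization of a Hall subgroup: a central element of `G` lying in `H` and
in the derived subgroup of `G` lies in the derived subgroup of `H`. -/
theorem mem_commutator_of_mem_center_of_mem_commutator {G : Type*} [Group G] [Finite G]
    (H : Subgroup G) (hHall : Nat.Coprime (Nat.card H) H.index) (z : G) (hzH : z ∈ H)
    (hzC : z ∈ commutator G) (hzZ : z ∈ Subgroup.center G) : z ∈ ⁅H, H⁆ := by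
  have key : ∀ (k : ℕ) (g₀ : G), g₀⁻¹ * z ^ k * g₀ ∈ H → g₀⁻¹ * z ^ k * g₀ = z ^ k := by
    intro k g₀ _
    have hk : z ^ k ∈ Subgroup.center G := Subgroup.pow_mem _ hzZ k
    rw [Subgroup.mem_center_iff] at hk
    rw [mul_assoc, ← hk g₀, inv_mul_cancel_left]
  have h1 := MonoidHom.transfer_eq_pow (Abelianization.of (G := H)) z key
  have h2 : MonoidHom.transfer (Abelianization.of (G := H)) z = 1 :=
    Abelianization.commutator_subset_ker (MonoidHom.transfer (Abelianization.of (G := H))) hzC
  rw [h2] at h1
  have h3 : (Abelianization.of (⟨z, hzH⟩ : H)) ^ H.index = 1 := by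
    rw [← map_pow]
    rw [h1]
    rfl
  have h4 : (Abelianization.of (⟨z, hzH⟩ : H)) ^ Nat.card H = 1 := by
    rw [← map_pow, pow_card_eq_one', map_one]
  have h5 : orderOf (Abelianization.of (⟨z, hzH⟩ : H)) ∣ Nat.gcd (Nat.card H) H.index :=
    Nat.dvd_gcd (orderOf_dvd_of_pow_eq_one h4) (orderOf_dvd_of_pow_eq_one h3)
  rw [hHall, Nat.dvd_one, orderOf_eq_one_iff] at h5
  have h6 : (⟨z, hzH⟩ : H) ∈ commutator H := by
    rw [← Abelianization.ker_of, MonoidHom.mem_ker]
    exact h5
  rw [← Subgroup.map_subtype_commutator]
  exact ⟨⟨z, hzH⟩, h6, rfl⟩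

end Cfsg.Agent.Helper2
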