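import Cfsg.Prelude.Def_Transfer
import Mathlib.GroupTheory.Sylow
import Mathlib.GroupTheory.Transfer
import Mathlib.GroupTheory.Focal
import Mathlib.GroupTheory.Frattini
import Mathlib.GroupTheory.Nilpotent
import Mathlib.GroupTheory.Solvable

set_option autoImplicit false

namespace Cfsg.Agent.Helper2

open scoped commutatorElement Pointwise

universe u

variable {G : Type u} [Group G] {p : ℕ}

/-- A normal complement of one Sylow `p`-subgroup is a complement of every Sylow `p`-subgroup. -/
theorem isComplement'_sylow_of_isComplement'_sylow [Finite G] [Fact p.Prime] (P P' : Sylow p G)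
    (N : Subgroup G) (hN : N.IsComplement' (P' : Subgroup G)) :
    N.IsComplement' (P : Subgroup G) := by
  have hcard : Nat.card (P : Subgroup G) = Nat.card (P' : Subgroup G) := by
    rw [Sylow.card_eq_multiplicity, Sylow.card_eq_multiplicity]
  apply Subgroup.isComplement'_of_coprime
  · rw [hcard]; exact hN.card_mul_card
  · rw [hcard, ← hN.index_eq_card]
    exact P'.card_coprime_index.symm

/-- `HasNormalPComplement` can be tested on any given Sylow subgroup. -/
theorem hasNormalPComplement_iff [Finite G] [Fact p.Prime] (P : Sylow p G) :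
    Cfsg.HasNormalPComplement p G ↔ ∃ N : Subgroup G, N.Normal ∧ N.IsComplement' (P : Subgroup G) := by
  constructor
  · rintro ⟨P', N, hNn, hN⟩
    exact ⟨N, hNn, isComplement'_sylow_of_isComplement'_sylow P P' N hN⟩
  · rintro ⟨N, hNn, hN⟩
    exact ⟨P, N, hNn, hN⟩

/-- Burnside's normal `p`-complement theorem in terms of `HasNormalPComplement`. -/
theorem hasNormalPComplement_of_normalizer_le_centralizer [Finite G] [Fact p.Prime] (P : Sylow p G)
    (hP : Subgroup.normalizer ((P : Subgroup G) : Set G) ≤ Subgroup.centralizer (P : Set G)) :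
    Cfsg.HasNormalPComplement p G :=
  ⟨P, (MonoidHom.transferSylow P hP).ker, inferInstance,
    MonoidHom.ker_transferSylow_isComplement' P hP⟩

end Cfsg.Agent.Helper2
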