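import Cfsg.Agent.Helper87.NormModel
import Cfsg.Agent.Helper87.FusionFrobenius
import Cfsg.Agent.S5096
import Cfsg.Agent.S5098
import Cfsg.Agent.S5079
set_option autoImplicit false

/-!
Glauberman-Thompson for fusion systems (S5204), part 1: a transportable witness (`BadAut`) for a normalizer
system that is not the inner system.
-/

namespace Cfsg.Agent.Helper2.FusGT

open Cfsg Cfsg.FusionSystem Cfsg.Agent.Helper87

variable {Ω : Type*} [Group Ω] {S : Subgroup Ω}

/-- `φ` is conjugation by an element of `K`. -/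
def ConjBy (K : Subgroup Ω) {P : Subgroup Ω} (φ : P →* Ω) : Prop :=
  ∃ g ∈ K, ∀ x : P, φ x = g * (x : Ω) * g⁻¹

theorem ConjBy.mono {K K' : Subgroup Ω} (h : K ≤ K') {P : Subgroup Ω} {φ : P →* Ω} (hφ : ConjBy K φ) :
    ConjBy K' φ := by
  obtain ⟨g, hg, hgx⟩ := hφ
  exact ⟨g, h hg, hgx⟩

/-- A witness that the normalizer system of `Q` is not inner: an automorphism of the system, of order not a power of
`p`, of a subgroup `M` with `Q ≤ M ≤ N_S(Q)`, carrying `Q` into itself. -/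
def BadAut (p : ℕ) (F : FusionSystem S) (Q : Subgroup Ω) : Prop :=
  ∃ (M : Subgroup Ω) (β : MulAut M), Q ≤ M ∧ M ≤ normalizerIn S Q ∧ IsIso F (β : M ≃* M) ∧
    (∀ x : M, (x : Ω) ∈ Q → ((β x : M) : Ω) ∈ Q) ∧ ∀ k : ℕ, β ^ (p ^ k) ≠ 1

/-- An injective map carrying the finite subgroup `L ∩ M` into `L` carries it onto `L`. -/
theorem exists_preimage_of_maps_into {M L : Subgroup Ω} [Finite L] (hLM : L ≤ M) (ψ : M →* Ω)
    (hinj : Function.Injective ψ) (h : ∀ x : M, (x : Ω) ∈ L → ψ x ∈ L) :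
    ∀ y ∈ L, ∃ x : M, (x : Ω) ∈ L ∧ ψ x = y := by
  let f : L → L := fun l => ⟨ψ ⟨l, hLM l.2⟩, h _ l.2⟩
  have hf : Function.Injective f := by
    intro a b hab
    have h1 : ψ ⟨a, hLM a.2⟩ = ψ ⟨b, hLM b.2⟩ := congrArg Subtype.val hab
    have h2 := hinj h1
    apply Subtype.ext
    exact congrArg (fun z : M => (z : Ω)) h2
  have hs : Function.Surjective f := Finite.injective_iff_surjective.mp hf
  intro y hy
  obtain ⟨l, hl⟩ := hs ⟨y, hy⟩
  exact ⟨⟨l, hLM l.2⟩, l.2, congrArg Subtype.val hl⟩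

theorem map_subgroupOf_eq_of_maps_into {M L : Subgroup Ω} [Finite L] (hLM : L ≤ M) (ψ : M →* Ω)
    (hinj : Function.Injective ψ) (h : ∀ x : M, (x : Ω) ∈ L → ψ x ∈ L) :
    (L.subgroupOf M).map ψ = L :=
  (Helper85.map_subgroupOf_eq_iff ψ).mpr ⟨h, exists_preimage_of_maps_into hLM ψ hinj h⟩

/-- Powers of an automorphism that is conjugation by `g`. -/
theorem pow_apply_of_conj {M : Subgroup Ω} (β : MulAut M) (g : Ω)
    (h : ∀ x : M, ((β x : M) : Ω) = g * x * g⁻¹) (n : ℕ) (x : M) :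
    (((β ^ n) x : M) : Ω) = g ^ n * x * (g ^ n)⁻¹ := by
  induction n generalizing x with
  | zero => simp
  | succ n ih =>
    rw [pow_succ', MulAut.mul_apply, h, ih, pow_succ']
    simp only [mul_inv_rev, mul_assoc]

/-- The system's automorphism `β` of `M ≥ Q` with `β(Q) ⊆ Q` gives a map of the normalizer system of `Q`. -/
theorem mem_normalizerHom_of_aut [Finite S] (F : FusionSystem S) {Q M : Subgroup Ω} (β : MulAut M) (hQM : Q ≤ M)
    (hMN : M ≤ normalizerIn S Q) (hβ : IsIso F (β : M ≃* M))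
    (hβQ : ∀ x : M, (x : Ω) ∈ Q → ((β x : M) : Ω) ∈ Q) :
    M.subtype.comp (β : M ≃* M).toMonoidHom ∈ F.normalizerHom Q M := by
  have hQS : Q ≤ S := hQM.trans (hMN.trans inf_le_left)
  haveI : Finite Q := finite_of_le hQS
  apply mem_normalizerHom_of_le F hQM hMN hβ
  apply map_subgroupOf_eq_of_maps_into hQM
  · intro a b hab
    apply β.injective
    exact Subtype.ext hab
  · exact hβQ

/-- If every map of the normalizer system of `Q` is conjugation by an element of `S`, there is no bad automorphism. -/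
theorem not_badAut_of_conj [Finite S] {p : ℕ} [Fact p.Prime] (hS : IsPGroup p S) (F : FusionSystem S)
    {Q : Subgroup Ω}
    (h : ∀ (D : Subgroup Ω) (φ : D →* Ω), φ ∈ F.normalizerHom Q D → ConjBy S φ) : ¬ BadAut p F Q := by
  rintro ⟨M, β, hQM, hMN, hβ, hβQ, hbad⟩
  obtain ⟨g, hg, hgx⟩ := h M _ (mem_normalizerHom_of_aut F β hQM hMN hβ hβQ)
  obtain ⟨k, hk⟩ := hS ⟨g, hg⟩
  have hk' : g ^ (p ^ k) = 1 := by
    have := congrArg Subtype.val hk
    simpa using this
  apply hbad k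
  ext x
  have h1 := pow_apply_of_conj β g (fun x => hgx x) (p ^ k) x
  rw [hk'] at h1
  simpa using h1

/-- Powers of an extension of an automorphism. -/
theorem pow_apply_of_extends {P M : Subgroup Ω} (hPM : P ≤ M) (α : MulAut P) (β : MulAut M)
    (h : ∀ x : P, β (Subgroup.inclusion hPM x) = Subgroup.inclusion hPM (α x)) (n : ℕ) (x : P) :
    (β ^ n) (Subgroup.inclusion hPM x) = Subgroup.inclusion hPM ((α ^ n) x) := by
  induction n generalizing x with
  | zero => simp
  | succ n ih => rw [pow_succ', pow_succ', MulAut.mul_apply, MulAut.mul_apply, ih, h]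

/-- If the normalizer system of the fully normalized subgroup `Q` is not inner, there is a bad automorphism. -/
theorem badAut_of_not_conj [Finite S] {p : ℕ} [Fact p.Prime] (hS : IsPGroup p S) (F : FusionSystem S)
    (hF : F.IsSaturated p) {Q : Subgroup Ω} (hQ : F.IsFullyNormalized Q)
    (h : ¬ ∀ (D : Subgroup Ω) (φ : D →* Ω), φ ∈ F.normalizerHom Q D → ConjBy (normalizerIn S Q) φ) :
    BadAut p F Q := by
  by_contra hbad
  apply h
  have hQS : Q ≤ S := hQ.1
  set N := Cfsg.Agent.S5096.normalizerSystem F Q hQS with hN_def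
  have hN : F.IsNormalizerSystem Q N := fun P => rfl
  have hNsat : N.IsSaturated p := Cfsg.Agent.S5098.result p hS F hF Q hQ N hN
  have hT' : IsPGroup p (normalizerIn S Q) := hS.to_le inf_le_left
  haveI : Finite (normalizerIn S Q) := finite_of_le inf_le_left
  have hfinal := frobenius_inner p hT' N hNsat ?_
  · intro D φ hφ
    exact hfinal D φ hφ
  intro P hPN
  intro α
  by_contra hα
  push Not at hα
  apply hbad
  have hα2 : IsIso N ((α : MulAut P) : P ≃* P) := (mem_autGroup_iff N hPN _).mp α.2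
  have hα3 : P.subtype.comp ((α : MulAut P) : P ≃* P).toMonoidHom ∈ F.normalizerHom Q P := hα2
  obtain ⟨hαF, -, -, ψ, hψ, hψext, hψQ⟩ := hα3
  have hPS : P ≤ S := hPN.trans inf_le_left
  have hMS : P ⊔ Q ≤ S := sup_le hPS hQS
  haveI : Finite ↥(P ⊔ Q) := finite_of_le hMS
  obtain ⟨hψin, hψsurj⟩ := (Helper85.map_subgroupOf_eq_iff ψ).mp hψQ
  -- `ψ` maps `P ⊔ Q` into itself
  have hψM : ∀ x : ↥(P ⊔ Q), ψ x ∈ P ⊔ Q := by
    have := Helper85.forall_mem_of_sup ((P ⊔ Q).comap ψ) ?_ ?_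
    · intro x
      exact this x
    · intro x
      show ψ _ ∈ P ⊔ Q
      rw [hψext x]
      exact le_sup_left (a := P) (((α : MulAut P) x).2)
    · intro x
      show ψ _ ∈ P ⊔ Q
      exact le_sup_right (a := P) (hψin _ x.2)
  have hrange : ψ.range = P ⊔ Q := by
    have hle : ψ.range ≤ P ⊔ Q := by
      rintro _ ⟨x, rfl⟩
      exact hψM x
    apply Subgroup.eq_of_le_of_card_ge hle
    exact le_of_eq (Nat.card_congr (MonoidHom.ofInjective (F.injective_of_mem hψ)).toEquiv)
  let β : MulAut ↥(P ⊔ Q) := isoOfRange F hψ hrange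
  have hβ : IsIso F (β : ↥(P ⊔ Q) ≃* ↥(P ⊔ Q)) := isIso_isoOfRange F hψ hrange
  have hβx : ∀ x : ↥(P ⊔ Q), ((β x : ↥(P ⊔ Q)) : Ω) = ψ x := fun x => rfl
  refine ⟨P ⊔ Q, β, le_sup_right, sup_le hPN (le_normalizerIn_self hQS), hβ, ?_, ?_⟩
  · intro x hx
    rw [hβx]
    exact hψin x hx
  · intro k hk
    obtain ⟨x, hx⟩ : ∃ x : P, ((α : MulAut P) ^ (p ^ k)) x ≠ x := by
      by_contra hall
      push Not at hall
      apply hα k
      apply Subtype.ext
      show ((α ^ (p ^ k) : N.autGroup P) : MulAut P) = 1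
      rw [Subgroup.coe_pow]
      ext y
      rw [hall y]
      rfl
    apply hx
    have h1 := pow_apply_of_extends (le_sup_left : P ≤ P ⊔ Q) (α : MulAut P) β ?_ (p ^ k) x
    · rw [hk] at h1
      have h2 := congrArg (fun z : ↥(P ⊔ Q) => (z : Ω)) h1
      exact Subtype.ext h2.symm
    · intro y
      apply Subtype.ext
      rw [hβx, hψext y]
      rfl

/-- Transport of a bad automorphism along a map of the system defined on a subgroup containing `M`. -/
theorem BadAut.transport {p : ℕ} (F : FusionSystem S) {Q Q' X : Subgroup Ω} (hb : BadAut p F Q)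
    (hX : normalizerIn S Q ≤ X) {χ : X →* Ω} (hχ : χ ∈ F.Hom X) (hχN : ∀ x, χ x ∈ normalizerIn S Q')
    (hχQ : (Q.subgroupOf X).map χ = Q') : BadAut p F Q' := by
  obtain ⟨M, β, hQM, hMN, hβ, hβQ, hbad⟩ := hb
  have hMX : M ≤ X := hMN.trans hX
  have hχM : χ.comp (Subgroup.inclusion hMX) ∈ F.Hom M := restrict_mem F hχ hMX
  set M' := (χ.comp (Subgroup.inclusion hMX)).range with hM'
  let e : M ≃* M' := isoOfRange F hχM rfl
  have he : IsIso F e := isIso_isoOfRange F hχM rfl
  have hex : ∀ m : M, ((e m : M') : Ω) = χ (Subgroup.inclusion hMX m) := fun m => rfl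
  have hχinj : Function.Injective χ := F.injective_of_mem hχ
  refine ⟨M', MulAut.congr e β, ?_, ?_, ?_, ?_, ?_⟩
  · rw [← hχQ]
    rintro _ ⟨x, hx, rfl⟩
    exact ⟨⟨x, hQM (Subgroup.mem_subgroupOf.mp hx)⟩, rfl⟩
  · rintro _ ⟨m, rfl⟩
    exact hχN _
  · exact he.symm.trans (hβ.trans he)
  · intro y hy
    rw [← hχQ] at hy
    obtain ⟨x, hx, hxy⟩ := hy
    have hxQ : (x : Ω) ∈ Q := Subgroup.mem_subgroupOf.mp hx
    have h1 : e.symm y = ⟨x, hQM hxQ⟩ := by
      apply e.injective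
      rw [MulEquiv.apply_symm_apply]
      apply Subtype.ext
      rw [hex, ← hxy]
      rfl
    show ((e (β (e.symm y)) : M') : Ω) ∈ Q'
    rw [h1, hex, ← hχQ]
    refine ⟨Subgroup.inclusion hMX (β ⟨x, hQM hxQ⟩), ?_, rfl⟩
    show _ ∈ Q.subgroupOf X
    rw [Subgroup.mem_subgroupOf]
    exact hβQ _ hxQ
  · intro k hk
    apply hbad k
    rw [← map_pow] at hk
    exact (MulEquiv.map_eq_one_iff (MulAut.congr e)).mp hk

/-- A fully automized receptive subgroup is fully normalized. -/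
theorem isFullyNormalized_of_automized_receptive [Finite S] {p : ℕ} [Fact p.Prime] (hS : IsPGroup p S)
    (F : FusionSystem S) {P : Subgroup Ω} (h₁ : F.IsFullyAutomized p P) (h₂ : F.IsReceptive P) :
    F.IsFullyNormalized P := by
  refine ⟨h₁.1, fun Q hQ => ?_⟩
  have hQP : F.IsConj Q P := by
    obtain ⟨e, he⟩ := (isConj_iff F P Q).mp hQ
    exact (isConj_iff F Q P).mpr ⟨e.symm, he.symm⟩
  obtain ⟨φ, hφ, hφN, -⟩ := Cfsg.Agent.S5079.result p hS F P Q h₁ h₂ hQP
  haveI : Finite (normalizerIn S P) := finite_of_le inf_le_left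
  let f : normalizerIn S Q → normalizerIn S P := fun x => ⟨φ x, hφN x⟩
  apply Nat.card_le_card_of_injective f
  intro a b hab
  exact F.injective_of_mem hφ (congrArg Subtype.val hab)

end Cfsg.Agent.Helper2.FusGT
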