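import Mathlib
import Cfsg.Agent.Helper16.DT.Defs

/-!
helper2 for helper16 (DT farm, board #13881): leaf (DEN) `density` of `tools/helper16_dt/Skel.lean.txt`:
the density theorem for pairwise inequivalent irreducible matrix representations over an algebraically
closed field, via Mathlib's `jacobson_density`.
-/

set_option autoImplicit false
set_option linter.unusedSectionVars false
set_option linter.unusedVariables false

namespace Cfsg.Agent.Helper2.DT

open Cfsg Cfsg.Agent.Helper16 Cfsg.Agent.Helper16.DT Polynomial Matrix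

universe u v w

variable {K : Type v} [Field K] {G : Type u} [Group G]

/-! ### Schur's lemma in matrix form -/

/-- Schur's lemma: an intertwiner of an irreducible matrix representation with itself is a scalar. -/
theorem DEN_schur [IsAlgClosed K] {n : ℕ} (ρ : G →* Matrix (Fin n) (Fin n) K) (hρ : IsIrredMat ρ)
    (Z : Matrix (Fin n) (Fin n) K) (hZ : ∀ g, Z * ρ g = ρ g * Z) :
    ∃ c : K, Z = c • (1 : Matrix (Fin n) (Fin n) K) := by
  haveI : Nonempty (Fin n) := hρ.1
  haveI : Nontrivial (Fin n → K) := inferInstance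
  obtain ⟨c, hc⟩ := Module.End.exists_eigenvalue (Matrix.toLin' Z)
  let W : Submodule K (Fin n → K) := Module.End.eigenspace (Matrix.toLin' Z) c
  have hWne : W ≠ ⊥ := hc
  have hinv : ∀ g, ∀ w ∈ W, (ρ g).mulVec w ∈ W := by
    intro g w hw
    rw [Module.End.mem_eigenspace_iff] at hw ⊢
    rw [Matrix.toLin'_apply] at hw ⊢
    rw [Matrix.mulVec_mulVec, hZ g, ← Matrix.mulVec_mulVec, hw, Matrix.mulVec_smul]
  rcases hρ.2 W hinv with h | h
  · exact absurd h hWne
  · refine ⟨c, ?_⟩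
    apply Matrix.mulVec_injective
    funext v
    have hv : v ∈ W := by rw [h]; exact Submodule.mem_top
    rw [Module.End.mem_eigenspace_iff, Matrix.toLin'_apply] at hv
    rw [hv, Matrix.smul_mulVec, Matrix.one_mulVec]

/-- an intertwiner between two irreducible matrix representations is zero or an equivalence. -/
theorem DEN_intertwiner {m n : ℕ} (ρ : G →* Matrix (Fin m) (Fin m) K)
    (σ : G →* Matrix (Fin n) (Fin n) K) (hρ : IsIrredMat ρ) (hσ : IsIrredMat σ)
    (Z : Matrix (Fin m) (Fin n) K) (hZ : ∀ g, Z * σ g = ρ g * Z) :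
    Z = 0 ∨ MatEquiv ρ σ := by
  by_cases hZ0 : Z = 0
  · exact Or.inl hZ0
  right
  have hne : ∃ v, Z.mulVec v ≠ 0 := by
    by_contra hcon
    push Not at hcon
    apply hZ0
    apply Matrix.mulVec_injective
    funext v
    rw [hcon v, Matrix.zero_mulVec]
  obtain ⟨v0, hv0⟩ := hne
  -- the kernel is invariant
  have hker : LinearMap.ker (Matrix.mulVecLin Z) = ⊥ := by
    have hinv : ∀ g, ∀ w ∈ LinearMap.ker (Matrix.mulVecLin Z),
        (σ g).mulVec w ∈ LinearMap.ker (Matrix.mulVecLin Z) := by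
      intro g w hw
      rw [LinearMap.mem_ker, Matrix.mulVecLin_apply] at hw ⊢
      rw [Matrix.mulVec_mulVec, hZ g, ← Matrix.mulVec_mulVec, hw, Matrix.mulVec_zero]
    rcases hσ.2 _ hinv with h | h
    · exact h
    · exfalso
      apply hv0
      have : v0 ∈ LinearMap.ker (Matrix.mulVecLin Z) := by rw [h]; exact Submodule.mem_top
      rwa [LinearMap.mem_ker, Matrix.mulVecLin_apply] at this
  have hrange : LinearMap.range (Matrix.mulVecLin Z) = ⊤ := by
    have hinv : ∀ g, ∀ w ∈ LinearMap.range (Matrix.mulVecLin Z),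
        (ρ g).mulVec w ∈ LinearMap.range (Matrix.mulVecLin Z) := by
      rintro g w ⟨u, rfl⟩
      refine ⟨(σ g).mulVec u, ?_⟩
      rw [Matrix.mulVecLin_apply, Matrix.mulVecLin_apply, Matrix.mulVec_mulVec, hZ g,
        ← Matrix.mulVec_mulVec]
    rcases hρ.2 _ hinv with h | h
    · exfalso
      apply hv0
      have : Z.mulVec v0 ∈ LinearMap.range (Matrix.mulVecLin Z) := ⟨v0, rfl⟩
      rw [h] at this
      exact (Submodule.mem_bot K).1 this
    · exact h
  let e : (Fin n → K) ≃ₗ[K] (Fin m → K) :=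
    LinearEquiv.ofBijective (Matrix.mulVecLin Z)
      ⟨LinearMap.ker_eq_bot.1 hker, LinearMap.range_eq_top.1 hrange⟩
  let Q : Matrix (Fin n) (Fin m) K := LinearMap.toMatrix' e.symm.toLinearMap
  have hQv : ∀ u, Q.mulVec u = e.symm u := by
    intro u
    have := Matrix.toLin'_toMatrix' e.symm.toLinearMap
    have h2 : Matrix.toLin' Q u = e.symm u := by
      show Matrix.toLin' (LinearMap.toMatrix' e.symm.toLinearMap) u = e.symm u
      rw [this]; rfl
    rwa [Matrix.toLin'_apply] at h2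
  have hev : ∀ u, Z.mulVec u = e u := fun u => rfl
  have hZQ : Z * Q = 1 := by
    apply Matrix.mulVec_injective
    funext u
    rw [← Matrix.mulVec_mulVec, hQv, hev, LinearEquiv.apply_symm_apply, Matrix.one_mulVec]
  have hQZ : Q * Z = 1 := by
    apply Matrix.mulVec_injective
    funext u
    rw [← Matrix.mulVec_mulVec, hev, hQv, LinearEquiv.symm_apply_apply, Matrix.one_mulVec]
  refine ⟨Z, Q, hZQ, hQZ, fun g => ?_⟩
  rw [hZ g, Matrix.mul_assoc, hZQ, Matrix.mul_one]

/-! ### the group algebra modules -/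

/-- the space of a matrix representation, as a type synonym carrying the representation -/
def DEN_V {n : ℕ} (ρ : G →* Matrix (Fin n) (Fin n) K) : Type v := Fin n → K

instance DEN_instAddCommGroup {n : ℕ} (ρ : G →* Matrix (Fin n) (Fin n) K) :
    AddCommGroup (DEN_V ρ) := inferInstanceAs (AddCommGroup (Fin n → K))

instance DEN_instModuleK {n : ℕ} (ρ : G →* Matrix (Fin n) (Fin n) K) :
    Module K (DEN_V ρ) := inferInstanceAs (Module K (Fin n → K))

/-- the algebra hom `K[G] → End (Fin n → K)` of a matrix representation -/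
noncomputable def DEN_phi {n : ℕ} (ρ : G →* Matrix (Fin n) (Fin n) K) :
    MonoidAlgebra K G →ₐ[K] Module.End K (Fin n → K) :=
  MonoidAlgebra.lift K (Module.End K (Fin n → K)) G
    (((Matrix.toLinAlgEquiv' : Matrix (Fin n) (Fin n) K ≃ₐ[K] Module.End K (Fin n → K)) :
      Matrix (Fin n) (Fin n) K →* Module.End K (Fin n → K)).comp ρ)

noncomputable instance DEN_instModuleKG {n : ℕ} (ρ : G →* Matrix (Fin n) (Fin n) K) :
    Module (MonoidAlgebra K G) (DEN_V ρ) :=
  Module.compHom (Fin n → K) (DEN_phi ρ).toRingHom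

theorem DEN_smul_def {n : ℕ} (ρ : G →* Matrix (Fin n) (Fin n) K) (x : MonoidAlgebra K G)
    (w : DEN_V ρ) : x • w = DEN_phi ρ x w := rfl

theorem DEN_of_smul {n : ℕ} (ρ : G →* Matrix (Fin n) (Fin n) K) (g : G) (w : DEN_V ρ) :
    (MonoidAlgebra.of K G g) • w = (ρ g).mulVec w := by
  rw [DEN_smul_def]
  unfold DEN_phi
  rw [MonoidAlgebra.lift_of]
  rfl

theorem DEN_algebraMap_smul {n : ℕ} (ρ : G →* Matrix (Fin n) (Fin n) K) (c : K) (w : DEN_V ρ) :
    (algebraMap K (MonoidAlgebra K G) c) • w = c • w := by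
  rw [DEN_smul_def, AlgHom.commutes]
  rfl

/-- the two directions of the type synonym -/
def DEN_toV {n : ℕ} (ρ : G →* Matrix (Fin n) (Fin n) K) (w : Fin n → K) : DEN_V ρ := w

/-- the two directions of the type synonym -/
def DEN_ofV {n : ℕ} (ρ : G →* Matrix (Fin n) (Fin n) K) (w : DEN_V ρ) : Fin n → K := w

theorem DEN_phi_apply [Fintype G] {n : ℕ} (ρ : G →* Matrix (Fin n) (Fin n) K)
    (x : MonoidAlgebra K G) (w : Fin n → K) :
    DEN_phi ρ x w = (gaAct ρ (fun g => x.coeff g)).mulVec w := by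
  unfold DEN_phi
  rw [MonoidAlgebra.lift_apply]
  have h := Finsupp.sum_fintype x.coeff
    (fun a b => b • (((Matrix.toLinAlgEquiv' : Matrix (Fin n) (Fin n) K ≃ₐ[K]
      Module.End K (Fin n → K)) : Matrix (Fin n) (Fin n) K →* Module.End K (Fin n → K)).comp ρ) a)
    (fun a => zero_smul K _)
  rw [h]
  unfold gaAct
  rw [LinearMap.sum_apply, Matrix.sum_mulVec]
  refine Finset.sum_congr rfl fun g _ => ?_
  rw [LinearMap.smul_apply, Matrix.smul_mulVec]
  rfl

theorem DEN_coeff_smul [Fintype G] {n : ℕ} (ρ : G →* Matrix (Fin n) (Fin n) K)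
    (x : MonoidAlgebra K G) (w : DEN_V ρ) :
    x • w = DEN_toV ρ ((gaAct ρ (fun g => x.coeff g)).mulVec (DEN_ofV ρ w)) := by
  rw [DEN_smul_def]
  exact DEN_phi_apply ρ x w

/-- the module of an irreducible matrix representation is simple -/
theorem DEN_isSimpleModule {n : ℕ} (ρ : G →* Matrix (Fin n) (Fin n) K) (hρ : IsIrredMat ρ) :
    IsSimpleModule (MonoidAlgebra K G) (DEN_V ρ) := by
  haveI : Nonempty (Fin n) := hρ.1
  haveI : Nontrivial (DEN_V ρ) := inferInstanceAs (Nontrivial (Fin n → K))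
  rw [isSimpleModule_iff]
  haveI : Nontrivial (Submodule (MonoidAlgebra K G) (DEN_V ρ)) :=
    (Submodule.nontrivial_iff (MonoidAlgebra K G)).2 inferInstance
  refine ⟨fun W => ?_⟩
  let W' : Submodule K (Fin n → K) :=
    { carrier := {w | DEN_toV ρ w ∈ W}
      add_mem' := fun {a b} ha hb => W.add_mem ha hb
      zero_mem' := W.zero_mem
      smul_mem' := fun c w hw => by
        show DEN_toV ρ (c • w) ∈ W
        have h1 : DEN_toV ρ (c • w) =
            (algebraMap K (MonoidAlgebra K G) c) • DEN_toV ρ w :=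
          (DEN_algebraMap_smul ρ c (DEN_toV ρ w)).symm
        rw [h1]
        exact W.smul_mem _ hw }
  have hmem : ∀ w : Fin n → K, w ∈ W' ↔ DEN_toV ρ w ∈ W := fun w => Iff.rfl
  have hinv : ∀ g, ∀ w ∈ W', (ρ g).mulVec w ∈ W' := by
    intro g w hw
    rw [hmem] at hw ⊢
    have h1 : DEN_toV ρ ((ρ g).mulVec w) = (MonoidAlgebra.of K G g) • DEN_toV ρ w :=
      (DEN_of_smul ρ g (DEN_toV ρ w)).symm
    rw [h1]
    exact W.smul_mem _ hw
  rcases hρ.2 W' hinv with h | h
  · left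
    rw [eq_bot_iff]
    intro w hw
    have h2 : DEN_ofV ρ w ∈ W' := (hmem _).2 hw
    rw [h] at h2
    exact (Submodule.mem_bot K).1 h2
  · right
    rw [eq_top_iff]
    intro w _
    have h2 : DEN_ofV ρ w ∈ W' := by rw [h]; exact Submodule.mem_top
    exact (hmem _).1 h2

/-! ### endomorphisms of the product module -/

theorem DEN_smul_pi {r : ℕ} (d : Fin r → ℕ)
    (ρ : ∀ i, G →* Matrix (Fin (d i)) (Fin (d i)) K) (c : K) (v : ∀ i, DEN_V (ρ i)) :
    (algebraMap K (MonoidAlgebra K G) c) • v = c • v := by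
  funext i
  exact DEN_algebraMap_smul (ρ i) c (v i)

theorem DEN_of_smul_single {r : ℕ} (d : Fin r → ℕ)
    (ρ : ∀ i, G →* Matrix (Fin (d i)) (Fin (d i)) K) (g : G) (j : Fin r) (w : Fin (d j) → K) :
    (MonoidAlgebra.of K G g) • (Pi.single j (DEN_toV (ρ j) w) : ∀ i, DEN_V (ρ i)) =
      Pi.single j (DEN_toV (ρ j) ((ρ j g).mulVec w)) := by
  funext k
  rw [Pi.smul_apply]
  rcases eq_or_ne k j with rfl | hk
  · rw [Pi.single_eq_same, Pi.single_eq_same, DEN_of_smul]
    rfl
  · rw [Pi.single_eq_of_ne hk, Pi.single_eq_of_ne hk, smul_zero]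

/-- endomorphisms of the product module are blockwise scalars -/
theorem DEN_end_scalar [IsAlgClosed K] {r : ℕ} (d : Fin r → ℕ)
    (ρ : ∀ i, G →* Matrix (Fin (d i)) (Fin (d i)) K) (hirr : ∀ i, IsIrredMat (ρ i))
    (hne : ∀ i j, i ≠ j → ¬ MatEquiv (ρ i) (ρ j))
    (ψ : Module.End (MonoidAlgebra K G) (∀ i, DEN_V (ρ i))) :
    ∃ c : Fin r → K, ∀ (v : ∀ i, DEN_V (ρ i)) (i : Fin r), ψ v i = c i • v i := by
  classical
  have hK : ∀ (c : K) (v : ∀ i, DEN_V (ρ i)), ψ (c • v) = c • ψ v := by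
    intro c v
    rw [← DEN_smul_pi d ρ c v, ψ.map_smul, DEN_smul_pi]
  -- the blocks
  let L : ∀ i j, (Fin (d j) → K) →ₗ[K] (Fin (d i) → K) := fun i j =>
    { toFun := fun w => DEN_ofV (ρ i) (ψ (Pi.single j (DEN_toV (ρ j) w)) i)
      map_add' := fun a b => by
        have h0 : DEN_toV (ρ j) (a + b) = DEN_toV (ρ j) a + DEN_toV (ρ j) b := rfl
        have h1 : (Pi.single j (DEN_toV (ρ j) (a + b)) : ∀ i, DEN_V (ρ i)) =
            Pi.single j (DEN_toV (ρ j) a) + Pi.single j (DEN_toV (ρ j) b) := by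
          rw [h0]
          exact Pi.single_add (f := fun i => DEN_V (ρ i)) j (DEN_toV (ρ j) a) (DEN_toV (ρ j) b)
        show DEN_ofV (ρ i) (ψ (Pi.single j (DEN_toV (ρ j) (a + b))) i) =
          DEN_ofV (ρ i) (ψ (Pi.single j (DEN_toV (ρ j) a)) i) +
            DEN_ofV (ρ i) (ψ (Pi.single j (DEN_toV (ρ j) b)) i)
        rw [h1, ψ.map_add]
        rfl
      map_smul' := fun c a => by
        have h0 : DEN_toV (ρ j) (c • a) = c • DEN_toV (ρ j) a := rfl
        have h1 : (Pi.single j (DEN_toV (ρ j) (c • a)) : ∀ i, DEN_V (ρ i)) =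
            c • Pi.single j (DEN_toV (ρ j) a) := by
          rw [h0]
          exact Pi.single_smul (f := fun i => DEN_V (ρ i)) j c (DEN_toV (ρ j) a)
        show DEN_ofV (ρ i) (ψ (Pi.single j (DEN_toV (ρ j) (c • a))) i) =
          c • DEN_ofV (ρ i) (ψ (Pi.single j (DEN_toV (ρ j) a)) i)
        rw [h1, hK]
        rfl }
  let Z : ∀ i j, Matrix (Fin (d i)) (Fin (d j)) K := fun i j => LinearMap.toMatrix' (L i j)
  have hZv : ∀ i j (w : Fin (d j) → K), (Z i j).mulVec w = L i j w := by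
    intro i j w
    have h1 := Matrix.toLin'_toMatrix' (L i j)
    have h2 : Matrix.toLin' (Z i j) w = L i j w := by
      show Matrix.toLin' (LinearMap.toMatrix' (L i j)) w = L i j w
      rw [h1]
    rwa [Matrix.toLin'_apply] at h2
  have hLdef : ∀ i j (w : Fin (d j) → K),
      L i j w = DEN_ofV (ρ i) (ψ (Pi.single j (DEN_toV (ρ j) w)) i) := fun i j w => rfl
  have hcomm : ∀ i j g, Z i j * ρ j g = ρ i g * Z i j := by
    intro i j g
    apply Matrix.mulVec_injective
    funext w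
    rw [← Matrix.mulVec_mulVec, ← Matrix.mulVec_mulVec, hZv, hZv, hLdef, hLdef,
      ← DEN_of_smul_single d ρ g j w, ψ.map_smul, Pi.smul_apply, DEN_of_smul]
    rfl
  have hdiag : ∀ i, ∃ c : K, Z i i = c • (1 : Matrix (Fin (d i)) (Fin (d i)) K) :=
    fun i => DEN_schur (ρ i) (hirr i) (Z i i) (hcomm i i)
  choose c hc using hdiag
  have hoff : ∀ i j, i ≠ j → Z i j = 0 := fun i j hij =>
    (DEN_intertwiner (ρ i) (ρ j) (hirr i) (hirr j) (Z i j) (hcomm i j)).resolve_right (hne i j hij)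
  refine ⟨c, fun v i => ?_⟩
  have hterm : ∀ j (u : DEN_V (ρ j)), ψ (Pi.single j u) i =
      DEN_toV (ρ i) ((Z i j).mulVec (DEN_ofV (ρ j) u)) := by
    intro j u
    rw [hZv, hLdef]
    rfl
  have hv : v = ∑ j, (Pi.single j (v j) : ∀ i, DEN_V (ρ i)) := (Finset.univ_sum_single v).symm
  have h1 : ψ v i = ∑ j, ψ (Pi.single j (v j)) i := by
    conv_lhs => rw [hv]
    rw [map_sum, Finset.sum_apply]
  rw [h1, Finset.sum_eq_single i]
  · rw [hterm, hc i, Matrix.smul_mulVec, Matrix.one_mulVec]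
    rfl
  · intro j _ hji
    rw [hterm, hoff i j (Ne.symm hji), Matrix.zero_mulVec]
    rfl
  · intro h
    exact absurd (Finset.mem_univ i) h

/-- (DEN) the density theorem -/
theorem density [IsAlgClosed K] [Fintype G] {r : ℕ} (d : Fin r → ℕ)
    (ρ : ∀ i, G →* Matrix (Fin (d i)) (Fin (d i)) K) (hirr : ∀ i, IsIrredMat (ρ i))
    (hne : ∀ i j, i ≠ j → ¬ MatEquiv (ρ i) (ρ j))
    (A : ∀ i, Matrix (Fin (d i)) (Fin (d i)) K) : ∃ x : G → K, ∀ i, gaAct (ρ i) x = A i := by
  classical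
  haveI hsimple : ∀ i, IsSimpleModule (MonoidAlgebra K G) (DEN_V (ρ i)) :=
    fun i => DEN_isSimpleModule (ρ i) (hirr i)
  haveI hss : IsSemisimpleModule (MonoidAlgebra K G) (∀ i, DEN_V (ρ i)) := inferInstance
  let f : Module.End (Module.End (MonoidAlgebra K G) (∀ i, DEN_V (ρ i))) (∀ i, DEN_V (ρ i)) :=
    { toFun := fun v i => DEN_toV (ρ i) ((A i).mulVec (DEN_ofV (ρ i) (v i)))
      map_add' := fun a b => by
        funext i
        show DEN_toV (ρ i) ((A i).mulVec (DEN_ofV (ρ i) (a i) + DEN_ofV (ρ i) (b i))) = _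
        rw [Matrix.mulVec_add]
        rfl
      map_smul' := fun ψ v => by
        obtain ⟨c, hc⟩ := DEN_end_scalar d ρ hirr hne ψ
        funext i
        show DEN_toV (ρ i) ((A i).mulVec (DEN_ofV (ρ i) (ψ v i))) =
          ψ (fun i => DEN_toV (ρ i) ((A i).mulVec (DEN_ofV (ρ i) (v i)))) i
        rw [hc, hc]
        show DEN_toV (ρ i) ((A i).mulVec (c i • DEN_ofV (ρ i) (v i))) = _
        rw [Matrix.mulVec_smul]
        rfl }
  let s : Finset (∀ i, DEN_V (ρ i)) :=
    Finset.univ.image (fun p : (Σ i, Fin (d i)) =>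
      (Pi.single p.1 (DEN_toV (ρ p.1) (Pi.single p.2 1)) : ∀ i, DEN_V (ρ i)))
  obtain ⟨x, hx⟩ := jacobson_density f s
  refine ⟨fun g => x.coeff g, fun i => ?_⟩
  ext a k
  have hm : (Pi.single i (DEN_toV (ρ i) (Pi.single k 1)) : ∀ i, DEN_V (ρ i)) ∈ s :=
    Finset.mem_image.2 ⟨⟨i, k⟩, Finset.mem_univ _, rfl⟩
  have h1 := congrFun (hx _ hm) i
  have h2 : f (Pi.single i (DEN_toV (ρ i) (Pi.single k 1))) i =
      DEN_toV (ρ i) ((A i).mulVec (Pi.single k 1)) := by
    show DEN_toV (ρ i) ((A i).mulVec (DEN_ofV (ρ i)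
      ((Pi.single i (DEN_toV (ρ i) (Pi.single k 1)) : ∀ i, DEN_V (ρ i)) i))) = _
    rw [Pi.single_eq_same]
    rfl
  have h3 : (x • (Pi.single i (DEN_toV (ρ i) (Pi.single k 1)) : ∀ i, DEN_V (ρ i))) i =
      DEN_toV (ρ i) ((gaAct (ρ i) (fun g => x.coeff g)).mulVec (Pi.single k 1)) := by
    rw [Pi.smul_apply, Pi.single_eq_same, DEN_coeff_smul]
    rfl
  rw [h2, h3] at h1
  have h4 : (A i).mulVec (Pi.single k 1) = (gaAct (ρ i) (fun g => x.coeff g)).mulVec (Pi.single k 1) :=
    h1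
  rw [Matrix.mulVec_single_one, Matrix.mulVec_single_one] at h4
  exact (congrFun h4 a).symm

end Cfsg.Agent.Helper2.DT
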