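import Cfsg.Agent.Lib.Cores
import Cfsg.Prelude.Def_Transfer
import Mathlib.GroupTheory.Sylow
import Mathlib.GroupTheory.Abelianization.Defs

set_option autoImplicit false

namespace Cfsg.Agent.Helper2

open scoped commutatorElement

variable {G : Type*} [Group G] [Finite G] {p : ℕ} [Fact p.Prime]

/-- `O^p(G)` together with a Sylow `p`-subgroup generates `G`. -/
theorem pResidual_sup_sylow_eq_top (P : Sylow p G) :
    Cfsg.pResidual p G ⊔ (P : Subgroup G) = ⊤ := by
  have hp : p.Prime := Fact.out
  rw [← Subgroup.index_eq_one]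
  obtain ⟨n, hn⟩ := Cfsg.Agent.Lib.index_pResidual (G := G) p
  have h1 : (Cfsg.pResidual p G ⊔ (P : Subgroup G)).index ∣ p ^ n :=
    hn ▸ Subgroup.index_dvd_of_le le_sup_left
  have h2 : (Cfsg.pResidual p G ⊔ (P : Subgroup G)).index ∣ (P : Subgroup G).index :=
    Subgroup.index_dvd_of_le le_sup_right
  obtain ⟨j, -, hj⟩ := (Nat.dvd_prime_pow hp).mp h1
  rcases Nat.eq_zero_or_pos j with rfl | hpos
  · rw [hj, pow_zero]
  · exfalso
    apply P.not_dvd_index
    exact (dvd_pow_self p hpos.ne').trans (hj ▸ h2)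

/-- With an abelian Sylow `p`-subgroup, `G' ≤ O^p(G)`. -/
theorem commutator_le_pResidual_of_abelian_sylow (P : Sylow p G) (hP : IsMulCommutative P) :
    commutator G ≤ Cfsg.pResidual p G :=
  Subgroup.Normal.commutator_le_of_self_sup_commutative_eq_top (pResidual_sup_sylow_eq_top P) hP

omit [Finite G] [Fact (Nat.Prime p)] in
/-- The order of the image in the abelianization of an element of `O^p(G)` is prime to `p`. -/
theorem coprime_orderOf_abelianization_of_mem_pResidual (x : G) (hx : x ∈ Cfsg.pResidual p G) :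
    Nat.Coprime (orderOf (Abelianization.of x)) p := by
  unfold Cfsg.pResidual at hx
  induction hx using Subgroup.closure_induction with
  | mem g hg =>
    have h1 : orderOf (Abelianization.of g) ∣ orderOf g := orderOf_map_dvd _ g
    exact Nat.Coprime.coprime_dvd_left h1 hg
  | one => simp
  | mul a b _ _ ha hb =>
    rw [map_mul]
    have h1 := (Commute.all (Abelianization.of a) (Abelianization.of b)).orderOf_mul_dvd_lcm
    exact Nat.Coprime.coprime_dvd_left (h1.trans (Nat.lcm_dvd_mul _ _)) (Nat.Coprime.mul_left ha hb)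
  | inv a _ ha => rw [map_inv, orderOf_inv]; exact ha

omit [Finite G] in
/-- A Sylow `p`-subgroup meets `O^p(G)` inside `G'`. -/
theorem sylow_inf_pResidual_le_commutator (P : Sylow p G) :
    (P : Subgroup G) ⊓ Cfsg.pResidual p G ≤ commutator G := by
  rintro x ⟨hxP, hxR⟩
  have h1 := coprime_orderOf_abelianization_of_mem_pResidual x hxR
  obtain ⟨k, hk⟩ := (IsPGroup.iff_orderOf.mp P.2) ⟨x, hxP⟩
  have hk' : orderOf x = p ^ k := by rw [← hk, Subgroup.orderOf_mk]
  have h2 : orderOf (Abelianization.of x) ∣ p ^ k := hk' ▸ orderOf_map_dvd _ x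
  have h3 : orderOf (Abelianization.of x) = 1 :=
    Nat.Coprime.eq_one_of_dvd (Nat.Coprime.pow_right k h1) h2
  rw [orderOf_eq_one_iff] at h3
  rw [← Abelianization.ker_of, MonoidHom.mem_ker]
  exact h3

/-- With an abelian Sylow `p`-subgroup `P`, `P ∩ O^p(G) = G' ∩ P`. -/
theorem sylow_inf_pResidual_eq (P : Sylow p G) (hP : IsMulCommutative P) :
    (P : Subgroup G) ⊓ Cfsg.pResidual p G = commutator G ⊓ (P : Subgroup G) := by
  apply le_antisymm
  · exact le_inf (sylow_inf_pResidual_le_commutator P) inf_le_left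
  · exact le_inf inf_le_right (inf_le_left.trans (commutator_le_pResidual_of_abelian_sylow P hP))

end Cfsg.Agent.Helper2
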