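import Cfsg.Agent.Helper18.E8Odd.Defs

/-!
helper2 for helper18 (S4281, E8INV-1 farm): piece (DESC) `exists_terminal`:
an involutive word is conjugate to one all of whose descents are negated fundamental roots.
-/

set_option autoImplicit false
set_option maxRecDepth 100000

namespace Cfsg.Agent.Helper2.E8Inv

open Cfsg Cfsg.Lie Cfsg.Agent.Helper18 Cfsg.Agent.Helper18.E8Odd Cfsg.Agent.Helper36.E8Odd Cfsg.Agent.Helper40.SL2Hom

/-- `2ρ`, the sum of the positive roots -/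
def DESC_rho2 : V := ![92, 136, 182, 270, 220, 168, 114, 58]

/-- the height, as a linear form -/
def DESC_htL : V →ₗ[ℤ] ℤ where
  toFun v := ∑ k, v k
  map_add' u v := by simp [Finset.sum_add_distrib]
  map_smul' c v := by simp [Finset.mul_sum]

theorem DESC_htL_apply (v : V) : DESC_htL v = ∑ k, v k := rfl

theorem DESC_htL_e (i : Fin 8) : DESC_htL (e i) = 1 := by
  rw [DESC_htL_apply]
  simp [e]

theorem DESC_B_e_rho2 : ∀ i : Fin 8, ∑ k, Cm i k * DESC_rho2 k = 2 := by decide +kernel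

theorem DESC_rho2_eq : ∀ k : Fin 8, DESC_rho2 k = ∑ x ∈ Finset.Ico 120 240, cf x k := by decide +kernel

theorem DESC_ht_le : ∀ y < 240, cf y 0 + cf y 1 + cf y 2 + cf y 3 + cf y 4 + cf y 5 + cf y 6 + cf y 7 ≤ 29 := by
  decide +kernel

theorem DESC_ht_neg : ∀ y < 120, cf y 0 + cf y 1 + cf y 2 + cf y 3 + cf y 4 + cf y 5 + cf y 6 + cf y 7 ≤ -1 := by
  decide +kernel

theorem DESC_B_ge : ∀ y < 240, ∀ i : Fin 8,
    Cm i 0 * cf y 0 + Cm i 1 * cf y 1 + Cm i 2 * cf y 2 + Cm i 3 * cf y 3 +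
      Cm i 4 * cf y 4 + Cm i 5 * cf y 5 + Cm i 6 * cf y 6 + Cm i 7 * cf y 7 ≤ -2 →
    ∀ k : Fin 8, cf y k = if k = i then -1 else 0 := by
  decide +kernel

theorem DESC_single (i : Fin 8) (x : ℤ) : (Pi.single i x : V) = x • e i := by
  ext k
  simp [e, Pi.single_apply]

theorem DESC_B_rho2 (v : V) : B v DESC_rho2 = 2 * DESC_htL v := by
  have h : B.flip DESC_rho2 = (2 : ℤ) • DESC_htL := by
    apply LinearMap.pi_ext
    intro i x
    have hl : (B.flip DESC_rho2) (Pi.single i x) = x * 2 := by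
      rw [DESC_single, LinearMap.flip_apply, map_smul, LinearMap.smul_apply, B_e_left, DESC_B_e_rho2 i,
        smul_eq_mul]
    have hr : ((2 : ℤ) • DESC_htL) (Pi.single i x) = 2 * x := by
      rw [DESC_single, LinearMap.smul_apply, map_smul, DESC_htL_e, smul_eq_mul, smul_eq_mul, mul_one]
    rw [hl, hr, mul_comm]
  have h2 := LinearMap.congr_fun h v
  rw [LinearMap.flip_apply, LinearMap.smul_apply, smul_eq_mul] at h2
  exact h2

theorem DESC_ext (f : V →ₗ[ℤ] V) (h : ∀ i, f (e i) = e i) (v : V) : f v = v := by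
  have h2 : f = LinearMap.id := by
    apply LinearMap.pi_ext
    intro i x
    rw [DESC_single, map_smul, h i, LinearMap.id_apply]
  rw [h2, LinearMap.id_apply]

theorem DESC_rho2_sum : DESC_rho2 = ∑ x ∈ Finset.Ico 120 240, cf x := by
  funext k
  rw [Finset.sum_apply]
  exact DESC_rho2_eq k

/-- the potential is bounded -/
theorem DESC_P_le (s : List ℕ) (hs : ∀ i ∈ s, i < 8) : DESC_htL (Lw s DESC_rho2) ≤ 3480 := by
  rw [DESC_rho2_sum, map_sum, map_sum]
  have h1 : ∀ x ∈ Finset.Ico 120 240, DESC_htL (Lw s (cf x)) ≤ 29 := by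
    intro x hx
    have hx240 : x < 240 := (Finset.mem_Ico.1 hx).2
    obtain ⟨h2, h3⟩ := cf_aW s hs x hx240
    rw [← h3, DESC_htL_apply, Fin.sum_univ_eight]
    exact DESC_ht_le _ h2
  have h2 := Finset.sum_le_card_nsmul (Finset.Ico 120 240) (fun x => DESC_htL (Lw s (cf x))) 29 h1
  rw [Nat.card_Ico] at h2
  simpa using h2

/-- an involutive word acts involutively on the coefficient vectors -/
theorem DESC_inv_lin (s : List ℕ) (hs : ∀ i ∈ s, i < 8) (hinv : ∀ x < 240, aW s (aW s x) = x) (v : V) :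
    Lw s (Lw s v) = v := by
  have h := DESC_ext ((Lw s).comp (Lw s)) (fun i => by
    obtain ⟨h1, _, h3⟩ := cf_simple i
    obtain ⟨h4, h5⟩ := cf_aW s hs _ h1
    obtain ⟨_, h7⟩ := cf_aW s hs _ h4
    have h8 : aW s (aW s (chevE8.simple i.val)) = chevE8.simple i.val := hinv _ h1
    rw [LinearMap.comp_apply, ← h3, ← h5, ← h7]
    exact congrArg cf h8) v
  exact h

theorem DESC_Lw_conj (i : ℕ) (s : List ℕ) (v : V) :
    Lw (i :: (s ++ [i])) v = reflN i (Lw s (reflN i v)) := by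
  rw [Lw_cons, Lw_append, Lw_cons, Lw_nil]

theorem DESC_reflN_apply (i : ℕ) (hi : i < 8) (v : V) :
    reflN i v = v - B (e ⟨i, hi⟩) v • e ⟨i, hi⟩ := by
  rw [reflN, dif_pos hi, reflL_apply]

/-- the potential of the conjugate -/
theorem DESC_P_conj (s : List ℕ) (hS : ∀ v, Lw s (Lw s v) = v) (i : ℕ) (hi : i < 8) :
    DESC_htL (Lw (i :: (s ++ [i])) DESC_rho2) =
      DESC_htL (Lw s DESC_rho2) - 4 * DESC_htL (Lw s (e ⟨i, hi⟩)) +
        2 * B (e ⟨i, hi⟩) (Lw s (e ⟨i, hi⟩)) := by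
  have h1 : B (e ⟨i, hi⟩) DESC_rho2 = 2 := by rw [DESC_B_rho2, DESC_htL_e]; rfl
  have h2 : B (e ⟨i, hi⟩) (Lw s DESC_rho2) = 2 * DESC_htL (Lw s (e ⟨i, hi⟩)) := by
    rw [← B_Lw s (e ⟨i, hi⟩) (Lw s DESC_rho2), hS, DESC_B_rho2]
  have hr : reflN i DESC_rho2 = DESC_rho2 - (2 : ℤ) • e ⟨i, hi⟩ := by
    rw [DESC_reflN_apply i hi, h1]
  have hu : Lw s (reflN i DESC_rho2) = Lw s DESC_rho2 - (2 : ℤ) • Lw s (e ⟨i, hi⟩) := by
    rw [hr, map_sub, map_smul]
  rw [DESC_Lw_conj, hu, DESC_reflN_apply i hi]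
  simp only [map_sub, map_smul, smul_eq_mul, h2, DESC_htL_e]
  ring

/-- the conjugate of an involutive word is involutive -/
theorem DESC_inv_conj (s : List ℕ) (hs : ∀ i ∈ s, i < 8) (hS : ∀ v, Lw s (Lw s v) = v) (i : ℕ) (hi : i < 8)
    (hs' : ∀ j ∈ i :: (s ++ [i]), j < 8) :
    ∀ x < 240, aW (i :: (s ++ [i])) (aW (i :: (s ++ [i])) x) = x := by
  intro x hx
  obtain ⟨h1, h2⟩ := cf_aW (i :: (s ++ [i])) hs' x hx
  obtain ⟨h3, h4⟩ := cf_aW (i :: (s ++ [i])) hs' _ h1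
  have h2' : cf (aW (i :: (s ++ [i])) x) = Lw (i :: (s ++ [i])) (cf x) := h2
  have h4' : cf (aW (i :: (s ++ [i])) (aW (i :: (s ++ [i])) x)) =
      Lw (i :: (s ++ [i])) (cf (aW (i :: (s ++ [i])) x)) := h4
  apply cf_inj _ h3 _ hx
  rw [h4', h2', DESC_Lw_conj, DESC_Lw_conj, reflN_reflN, hS, reflN_reflN]

/-- the step: a non-terminal involutive word has a conjugate of larger potential -/
theorem DESC_step (s : List ℕ) (hs : ∀ i ∈ s, i < 8) (hinv : ∀ x < 240, aW s (aW s x) = x)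
    (hterm : ¬ ∀ i < 8, aW s (sr i) < 120 → aW s (sr i) = 239 - sr i) :
    ∃ i, i < 8 ∧ (∀ j ∈ i :: (s ++ [i]), j < 8) ∧
      (∀ x < 240, aW (i :: (s ++ [i])) (aW (i :: (s ++ [i])) x) = x) ∧
      DESC_htL (Lw s DESC_rho2) + 2 ≤ DESC_htL (Lw (i :: (s ++ [i])) DESC_rho2) := by
  push_neg at hterm
  obtain ⟨i, hi, hlt, hne⟩ := hterm
  have hS := DESC_inv_lin s hs hinv
  have hs' : ∀ j ∈ i :: (s ++ [i]), j < 8 := by
    intro j hj
    rcases List.mem_cons.1 hj with h | h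
    · rw [h]; exact hi
    · rcases List.mem_append.1 h with h | h
      · exact hs j h
      · rw [List.mem_singleton.1 h]; exact hi
  refine ⟨i, hi, hs', DESC_inv_conj s hs hS i hi hs', ?_⟩
  obtain ⟨h1, _, h3⟩ := cf_simple ⟨i, hi⟩
  have h1' : sr i < 240 := h1
  have h3' : cf (sr i) = e ⟨i, hi⟩ := h3
  obtain ⟨h4, h5⟩ := cf_aW s hs (sr i) h1'
  have h4' : aW s (sr i) < 240 := h4
  have h5' : cf (aW s (sr i)) = Lw s (e ⟨i, hi⟩) := by rw [← h3']; exact h5
  rw [DESC_P_conj s hS i hi, ← h5']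
  have hht : DESC_htL (cf (aW s (sr i))) ≤ -1 := by
    rw [DESC_htL_apply, Fin.sum_univ_eight]
    exact DESC_ht_neg _ hlt
  have hB : -1 ≤ B (e ⟨i, hi⟩) (cf (aW s (sr i))) := by
    by_contra hcon
    push_neg at hcon
    have hcon' : B (e ⟨i, hi⟩) (cf (aW s (sr i))) ≤ -2 := by omega
    rw [B_e_left, Fin.sum_univ_eight] at hcon'
    have h6 := DESC_B_ge _ h4' ⟨i, hi⟩ hcon'
    have h7 : cf (aW s (sr i)) = cf (239 - sr i) := by
      rw [cf_neg _ h1', h3']
      funext k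
      rw [h6 k, Pi.neg_apply, e, Pi.single_apply]
      split_ifs <;> rfl
    exact hne (cf_inj _ h4' _ (by omega) h7)
  linarith

theorem DESC_main : ∀ n : ℕ, ∀ s : List ℕ, (∀ i ∈ s, i < 8) → (∀ x < 240, aW s (aW s x) = x) →
    3480 - DESC_htL (Lw s DESC_rho2) ≤ (n : ℤ) →
    ∃ v : List ℕ, (∀ i ∈ v, i < 8) ∧
      ∀ i < 8, aW (v ++ s ++ v.reverse) (sr i) < 120 → aW (v ++ s ++ v.reverse) (sr i) = 239 - sr i := by
  intro n
  induction n with
  | zero =>
    intro s hs hinv hn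
    by_cases hterm : ∀ i < 8, aW s (sr i) < 120 → aW s (sr i) = 239 - sr i
    · refine ⟨[], by simp, ?_⟩
      simpa using hterm
    · exfalso
      obtain ⟨i, hi, hs', hinv', hP⟩ := DESC_step s hs hinv hterm
      have h1 := DESC_P_le (i :: (s ++ [i])) hs'
      have hn0 : 3480 - DESC_htL (Lw s DESC_rho2) ≤ 0 := by simpa using hn
      linarith
  | succ n ih =>
    intro s hs hinv hn
    by_cases hterm : ∀ i < 8, aW s (sr i) < 120 → aW s (sr i) = 239 - sr i
    · refine ⟨[], by simp, ?_⟩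
      simpa using hterm
    · obtain ⟨i, hi, hs', hinv', hP⟩ := DESC_step s hs hinv hterm
      have hn' : 3480 - DESC_htL (Lw (i :: (s ++ [i])) DESC_rho2) ≤ (n : ℤ) := by
        push_cast at hn
        linarith
      obtain ⟨v, hv, hv2⟩ := ih (i :: (s ++ [i])) hs' hinv' hn'
      refine ⟨v ++ [i], ?_, ?_⟩
      · intro j hj
        rcases List.mem_append.1 hj with h | h
        · exact hv j h
        · rw [List.mem_singleton.1 h]; exact hi
      · have e1 : (v ++ [i]) ++ s ++ (v ++ [i]).reverse = v ++ (i :: (s ++ [i])) ++ v.reverse := by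
          simp
        rw [e1]
        exact hv2

/-- (DESC) an involutive word is conjugate to one all of whose descents are negated fundamental roots. -/
theorem exists_terminal (w : List ℕ) (hw : ∀ i ∈ w, i < 8) (hinv : ∀ x < 240, aW w (aW w x) = x) :
    ∃ v : List ℕ, (∀ i ∈ v, i < 8) ∧
      ∀ i < 8, aW (v ++ w ++ v.reverse) (sr i) < 120 → aW (v ++ w ++ v.reverse) (sr i) = 239 - sr i :=
  DESC_main (3480 - DESC_htL (Lw w DESC_rho2)).toNat w hw hinv (Int.self_le_toNat _)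

end Cfsg.Agent.Helper2.E8Inv
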