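import Mathlib.GroupTheory.Sylow
import Mathlib.GroupTheory.Transfer
import Mathlib.GroupTheory.Focal
import Mathlib.GroupTheory.Frattini
import Mathlib.GroupTheory.Nilpotent
import Mathlib.GroupTheory.Solvable

set_option autoImplicit false

namespace Cfsg.Agent.Helper2

open scoped commutatorElement Pointwise

variable {G : Type*} [Group G] {p : ℕ}

/-- Membership in a conjugate of a Sylow subgroup. -/
theorem mem_smul_sylow_iff {g x : G} {P : Sylow p G} :
    x ∈ ((g • P : Sylow p G) : Subgroup G) ↔ g⁻¹ * x * g ∈ (P : Subgroup G) := by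
  rw [Sylow.coe_subgroup_smul, Subgroup.mem_pointwise_smul_iff_inv_smul_mem]
  simp [MulAut.smul_def]

/-- Sylow conjugacy inside a subgroup `K`: if `P` and `g • P` both lie in `K`, then `g` can be
corrected by an element of `K` to normalise `P`. -/
theorem exists_mul_mem_normalizer [Fact p.Prime] [Finite (Sylow p G)] (P : Sylow p G)
    (K : Subgroup G) (g : G) (h1 : (P : Subgroup G) ≤ K)
    (h2 : ((g • P : Sylow p G) : Subgroup G) ≤ K) :
    ∃ h ∈ K, h * g ∈ Subgroup.normalizer ((P : Subgroup G) : Set G) := by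
  have : Finite (Sylow p K) := by
    exact Sylow.finite_of_injective K.subtype_injective
  obtain ⟨h, hh⟩ := MulAction.exists_smul_eq K ((g • P).subtype h2) (P.subtype h1)
  simp_rw [Sylow.smul_subtype, Subgroup.smul_def, smul_smul] at hh
  exact ⟨h, h.2, Sylow.smul_eq_iff_mem_normalizer.mp (Sylow.subtype_injective hh)⟩

/-- If a subgroup `N ≥ P` controls fusion of elements in a Sylow subgroup `P`, then
`G' ∩ P = N' ∩ P` (a consequence of the focal subgroup theorem). -/
theorem commutator_inf_eq_of_control [Finite G] [Fact p.Prime] (P : Sylow p G) (N : Subgroup G)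
    (hPN : (P : Subgroup G) ≤ N)
    (hctrl : ∀ x ∈ (P : Subgroup G), ∀ u : G, u * x * u⁻¹ ∈ (P : Subgroup G) →
      ∃ n ∈ N, n * x * n⁻¹ = u * x * u⁻¹) :
    commutator G ⊓ (P : Subgroup G) = ⁅N, N⁆ ⊓ (P : Subgroup G) := by
  apply le_antisymm
  · refine le_inf ?_ inf_le_right
    rw [Subgroup.commutator_inf_eq_focalSubgroup P, Subgroup.focalSubgroup_def, Subgroup.closure_le]
    rintro g ⟨hgP, x, hxP, u, rfl⟩
    have hxi : x⁻¹ ∈ (P : Subgroup G) := inv_mem hxP
    have hconj : u * x⁻¹ * u⁻¹ ∈ (P : Subgroup G) := by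
      have : u * x⁻¹ * u⁻¹ = x⁻¹ * ⁅x, u⁆ := by
        rw [commutatorElement_def]; group
      rw [this]
      exact mul_mem hxi hgP
    obtain ⟨n, hnN, hn⟩ := hctrl x⁻¹ hxi u hconj
    have : ⁅x, u⁆ = ⁅x, n⁆ := by
      rw [commutatorElement_def, commutatorElement_def, mul_assoc x u, mul_assoc x (u * x⁻¹),
        mul_assoc x n, mul_assoc x (n * x⁻¹), hn]
    rw [this]
    exact Subgroup.commutator_mem_commutator (hPN hxP) hnN
  · refine le_inf (inf_le_left.trans ?_) inf_le_right
    rw [commutator_def]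
    exact Subgroup.commutator_mono le_top le_top

end Cfsg.Agent.Helper2
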