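import Cfsg.Agent.S0090
import Cfsg.Agent.Helper2.Fusion

set_option autoImplicit false

namespace Cfsg.Agent.Helper2

open scoped commutatorElement

variable {G : Type*} [Group G] [Finite G] {p : ℕ} [Fact p.Prime]

/-- Decomposition of an abelian Sylow subgroup `P` relative to its normalizer `N`:
`[P, N] = N' ∩ P`, and `P = (N' ∩ P) × (P ∩ C(N))`. -/
theorem abelian_sylow_decomp (P : Sylow p G) (hP : IsMulCommutative P) :
    ⁅(P : Subgroup G), Subgroup.normalizer ((P : Subgroup G) : Set G)⁆ =
      ⁅Subgroup.normalizer ((P : Subgroup G) : Set G), Subgroup.normalizer ((P : Subgroup G) : Set G)⁆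
        ⊓ (P : Subgroup G) ∧
    (⁅Subgroup.normalizer ((P : Subgroup G) : Set G), Subgroup.normalizer ((P : Subgroup G) : Set G)⁆
        ⊓ (P : Subgroup G)) ⊓
      ((P : Subgroup G) ⊓ Subgroup.centralizer (Subgroup.normalizer ((P : Subgroup G) : Set G) : Set G)) = ⊥ ∧
    (⁅Subgroup.normalizer ((P : Subgroup G) : Set G), Subgroup.normalizer ((P : Subgroup G) : Set G)⁆
        ⊓ (P : Subgroup G)) ⊔
      ((P : Subgroup G) ⊓ Subgroup.centralizer (Subgroup.normalizer ((P : Subgroup G) : Set G) : Set G))
        = (P : Subgroup G) := by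
  set N := Subgroup.normalizer ((P : Subgroup G) : Set G) with hN
  have hPN : (P : Subgroup G) ≤ N := Subgroup.le_normalizer
  set A : Subgroup N := (P : Subgroup G).subgroupOf N with hA
  have hAn : A.Normal := Subgroup.normal_in_normalizer
  have hAc : IsMulCommutative A := by
    refine ⟨⟨fun a b => ?_⟩⟩
    have := mul_comm' (⟨a.1.1, a.2⟩ : (P : Subgroup G)) ⟨b.1.1, b.2⟩
    apply Subtype.ext
    apply Subtype.ext
    have h' := congrArg Subtype.val this
    simpa using h'
  have hAcard : Nat.card A = Nat.card (P : Subgroup G) :=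
    Nat.card_congr (Subgroup.subgroupOfEquivOfLe hPN).toEquiv
  have hAidx : A.index ∣ (P : Subgroup G).index := Subgroup.relIndex_dvd_index_of_le hPN
  have hHall : Nat.Coprime (Nat.card A) A.index := by
    rw [hAcard]
    exact Nat.Coprime.coprime_dvd_right hAidx P.card_coprime_index
  obtain ⟨h1, h2, h3⟩ := Cfsg.Agent.S0090.core A hAc hHall
  have hinj : Function.Injective N.subtype := N.subtype_injective
  have mapA : A.map N.subtype = (P : Subgroup G) := Subgroup.map_subgroupOf_eq_of_le hPN
  have mapTop : (⊤ : Subgroup N).map N.subtype = N := by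
    rw [← MonoidHom.range_eq_map, Subgroup.range_subtype]
  have mapComm : (commutator N).map N.subtype = ⁅N, N⁆ := Subgroup.map_subtype_commutator N
  have mapCA : (commutator N ⊓ A).map N.subtype = ⁅N, N⁆ ⊓ (P : Subgroup G) := by
    rw [Subgroup.map_inf _ _ _ hinj, mapComm, mapA]
  have mapZA : (Subgroup.center N ⊓ A).map N.subtype =
      (P : Subgroup G) ⊓ Subgroup.centralizer (N : Set G) := by
    ext x
    rw [Subgroup.mem_map, Subgroup.mem_inf]
    constructor
    · rintro ⟨y, hy, rfl⟩
      rw [Subgroup.mem_inf] at hy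
      obtain ⟨hyZ, hyA⟩ := hy
      refine ⟨hyA, ?_⟩
      rw [Subgroup.mem_centralizer_iff]
      intro n hn
      rw [Subgroup.mem_center_iff] at hyZ
      exact congrArg Subtype.val (hyZ ⟨n, hn⟩)
    · rintro ⟨hxP, hxC⟩
      refine ⟨⟨x, hPN hxP⟩, ?_, rfl⟩
      rw [Subgroup.mem_inf]
      refine ⟨?_, hxP⟩
      rw [Subgroup.mem_center_iff]
      intro n
      apply Subtype.ext
      rw [Subgroup.mem_centralizer_iff] at hxC
      exact hxC n n.2
  refine ⟨?_, ?_, ?_⟩
  · have := congrArg (Subgroup.map N.subtype) h1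
    rwa [Subgroup.map_commutator, mapA, mapTop, mapCA] at this
  · have := congrArg (Subgroup.map N.subtype) h2
    rwa [Subgroup.map_inf _ _ _ hinj, mapCA, mapZA, Subgroup.map_bot] at this
  · have := congrArg (Subgroup.map N.subtype) h3
    rwa [Subgroup.map_sup, mapCA, mapZA, mapA] at this

end Cfsg.Agent.Helper2
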