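import Cfsg.Prelude.Def_LocalStructure
import Cfsg.Agent.Helper46.Amalgam
import Cfsg.Agent.Helper46.SylowCenter

set_option autoImplicit false
set_option maxHeartbeats 400000
set_option linter.unusedSectionVars false
set_option linter.unusedVariables false
set_option linter.style.haveILetI false

/-!
Helper2: the subgroups `V_δ^{(n)}` on the coset graph of a rank-two amalgam (equivariance, monotonicity,
generation by the `V_μ^{(n-1)}` over the neighbours), plus a nilpotent-action lemma.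
-/

namespace Cfsg.Agent.Helper2.AmalgamV

open Cfsg Cfsg.Agent.Helper46

section Dist

variable {X : Type*} [Group X] {M₁ M₂ : Subgroup X}

/-- Translation by `g` as a graph homomorphism of the coset graph. -/
def smulHom (M₁ M₂ : Subgroup X) (g : X) : cosetGraph M₁ M₂ →g cosetGraph M₁ M₂ where
  toFun v := g • v
  map_rel' := fun h => cg_adj_smul g h

theorem cg_dist_smul_le (g : X) {a b : CosetVertex M₁ M₂}
    (hr : (cosetGraph M₁ M₂).Reachable a b) :
    (cosetGraph M₁ M₂).dist (g • a) (g • b) ≤ (cosetGraph M₁ M₂).dist a b := by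
  obtain ⟨w, hw⟩ := hr.exists_walk_length_eq_dist
  have := SimpleGraph.dist_le (w.map (smulHom M₁ M₂ g))
  rw [SimpleGraph.Walk.length_map, hw] at this
  exact this

theorem cg_dist_smul (hgen : M₁ ⊔ M₂ = ⊤) (g : X) (a b : CosetVertex M₁ M₂) :
    (cosetGraph M₁ M₂).dist (g • a) (g • b) = (cosetGraph M₁ M₂).dist a b := by
  have hconn := cg_connected hgen
  apply le_antisymm
  · exact cg_dist_smul_le g (hconn.preconnected a b)
  · have := cg_dist_smul_le (M₁ := M₁) (M₂ := M₂) g⁻¹ (hconn.preconnected (g • a) (g • b))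
    simpa using this

end Dist

section Equivariance

variable {X : Type*} [Group X] {p : ℕ} [Fact p.Prime]

theorem IsSylIn.map_equiv {P H : Subgroup X} [Finite H] (φ : X ≃* X) (h : IsSylIn p P H) :
    IsSylIn p (P.map φ.toMonoidHom) (H.map φ.toMonoidHom) := by
  have : Finite (H.map φ.toMonoidHom) := finite_map_of_finite H _
  apply isSylIn_of_card (Subgroup.map_mono h.le)
  rw [Subgroup.card_map_of_injective φ.injective, h.card,
    Subgroup.card_map_of_injective φ.injective]

theorem sylowCenterClosure_map_le {H : Subgroup X} [Finite H] (φ : X ≃* X) :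
    (sylowCenterClosure p H).map φ.toMonoidHom ≤ sylowCenterClosure p (H.map φ.toMonoidHom) := by
  rw [sylowCenterClosure_eq, Subgroup.map_iSup]
  apply iSup_le
  intro S
  have hS : IsSylIn p ((S : Subgroup H).map H.subtype) H := ⟨S, rfl⟩
  have hS' := IsSylIn.map_equiv φ hS
  rw [omegaZ_map_equiv]
  exact omega_center_le_sylowCenterClosure hS'

theorem map_map_symm (φ : X ≃* X) (H : Subgroup X) :
    (H.map φ.toMonoidHom).map φ.symm.toMonoidHom = H := by
  ext x
  constructor
  · rintro ⟨_, ⟨y, hy, rfl⟩, rfl⟩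
    simpa using hy
  · intro hx
    exact ⟨φ x, ⟨x, hx, rfl⟩, by simp⟩

theorem map_symm_map (φ : X ≃* X) (H : Subgroup X) :
    (H.map φ.symm.toMonoidHom).map φ.toMonoidHom = H := by
  have := map_map_symm φ.symm H
  simpa using this

theorem sylowCenterClosure_map_equiv {H : Subgroup X} [Finite H] (φ : X ≃* X) :
    sylowCenterClosure p (H.map φ.toMonoidHom) = (sylowCenterClosure p H).map φ.toMonoidHom := by
  apply le_antisymm
  · have : Finite (H.map φ.toMonoidHom) := finite_map_of_finite H _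
    have h1 := sylowCenterClosure_map_le (p := p) (H := H.map φ.toMonoidHom) φ.symm
    rw [map_map_symm] at h1
    have h2 := Subgroup.map_mono (f := φ.toMonoidHom) h1
    rw [map_symm_map] at h2
    exact h2
  · exact sylowCenterClosure_map_le φ

end Equivariance

section Graph

variable {X : Type*} [Group X] {p : ℕ} [Fact p.Prime] {M₁ M₂ : Subgroup X}

theorem stabilizer_smul (g : X) (δ : CosetVertex M₁ M₂) :
    MulAction.stabilizer X (g • δ) = (MulAction.stabilizer X δ).map (MulAut.conj g).toMonoidHom := by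
  ext x
  rw [cg_mem_map_conj, MulAction.mem_stabilizer_iff, MulAction.mem_stabilizer_iff]
  constructor
  · intro h
    rw [mul_smul, mul_smul, h, inv_smul_smul]
  · intro h
    have := congrArg (fun v => g • v) h
    simpa [mul_smul] using this

theorem vertexZ_smul (h : IsCharPAmalgamPair p M₁ M₂) (g : X) (δ : CosetVertex M₁ M₂) :
    vertexZ p (g • δ) = (vertexZ p δ).map (MulAut.conj g).toMonoidHom := by
  have := cg_finite_stabilizer h δ
  show sylowCenterClosure p (MulAction.stabilizer X (g • δ)) = _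
  rw [stabilizer_smul, sylowCenterClosure_map_equiv]

theorem vertexZ_le_vertexVIter (hgen : M₁ ⊔ M₂ = ⊤) {n : ℕ} {δ ν : CosetVertex M₁ M₂}
    (hd : (cosetGraph M₁ M₂).dist δ ν ≤ n) : vertexZ p ν ≤ vertexVIter p M₁ M₂ n δ := by
  unfold vertexVIter
  exact le_iSup (fun μ : {μ : CosetVertex M₁ M₂ // (cosetGraph M₁ M₂).dist δ μ ≤ n} =>
    vertexZ p (μ : CosetVertex M₁ M₂)) ⟨ν, hd⟩

theorem vertexVIter_le_iff {n : ℕ} {δ : CosetVertex M₁ M₂} {K : Subgroup X} :
    vertexVIter p M₁ M₂ n δ ≤ K ↔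
      ∀ ν : CosetVertex M₁ M₂, (cosetGraph M₁ M₂).dist δ ν ≤ n → vertexZ p ν ≤ K := by
  unfold vertexVIter
  rw [iSup_le_iff]
  constructor
  · intro h ν hν; exact h ⟨ν, hν⟩
  · rintro h ⟨ν, hν⟩; exact h ν hν

theorem self_le_vertexVIter (hgen : M₁ ⊔ M₂ = ⊤) (n : ℕ) (δ : CosetVertex M₁ M₂) :
    vertexZ p δ ≤ vertexVIter p M₁ M₂ n δ := by
  apply vertexZ_le_vertexVIter hgen
  rw [SimpleGraph.dist_self]; exact Nat.zero_le _

/-- Equivariance of `V_δ^{(n)}`. -/
theorem vertexVIter_smul (h : IsCharPAmalgamPair p M₁ M₂) (g : X) (n : ℕ) (δ : CosetVertex M₁ M₂) :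
    (vertexVIter p M₁ M₂ n δ).map (MulAut.conj g).toMonoidHom ≤ vertexVIter p M₁ M₂ n (g • δ) := by
  have hgen := h.1.1
  unfold vertexVIter
  rw [Subgroup.map_iSup]
  apply iSup_le
  rintro ⟨ν, hν⟩
  rw [← vertexZ_smul h]
  apply vertexZ_le_vertexVIter hgen
  rw [cg_dist_smul hgen]
  exact hν

/-- The stabilizer of `δ` normalizes `V_δ^{(n)}`. -/
theorem vertexVIter_normalized (h : IsCharPAmalgamPair p M₁ M₂) (n : ℕ) (δ : CosetVertex M₁ M₂) :
    MulAction.stabilizer X δ ≤ Subgroup.normalizer (vertexVIter p M₁ M₂ n δ : Set X) := by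
  apply le_normalizer_of_conj_mem
  intro g hg x hx
  have h1 := vertexVIter_smul h g n δ
  rw [MulAction.mem_stabilizer_iff.1 hg] at h1
  exact h1 ⟨x, hx, by simp [MulAut.conj_apply]⟩

/-- `V_μ^{(n)} ≤ V_δ^{(n+1)}` for adjacent `δ`, `μ`. -/
theorem vertexVIter_le_succ_of_adj (hgen : M₁ ⊔ M₂ = ⊤) {δ μ : CosetVertex M₁ M₂}
    (hadj : (cosetGraph M₁ M₂).Adj δ μ) (n : ℕ) :
    vertexVIter p M₁ M₂ n μ ≤ vertexVIter p M₁ M₂ (n + 1) δ := by
  have hconn := cg_connected hgen
  rw [vertexVIter_le_iff]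
  intro ν hν
  apply vertexZ_le_vertexVIter hgen
  have h1 : (cosetGraph M₁ M₂).dist δ ν ≤
      (cosetGraph M₁ M₂).dist δ μ + (cosetGraph M₁ M₂).dist μ ν := hconn.dist_triangle
  have h2 : (cosetGraph M₁ M₂).dist δ μ = 1 := SimpleGraph.dist_eq_one_iff_adj.2 hadj
  omega

/-- Every vertex has a neighbour. -/
theorem exists_adj (δ : CosetVertex M₁ M₂) : ∃ μ, (cosetGraph M₁ M₂).Adj δ μ := by
  rcases cg_vertex_cases δ with ⟨x, rfl⟩ | ⟨x, rfl⟩
  · exact ⟨_, cg_adj_inl_inr x⟩
  · exact ⟨_, cg_adj_inr_inl x⟩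

/-- `Z_δ` is generated by pieces lying in the `Z_μ`, `μ` a neighbour of `δ`. -/
theorem vertexZ_le_of_neighbours (h : IsCharPAmalgamPair p M₁ M₂) (δ : CosetVertex M₁ M₂)
    {K : Subgroup X} (hK : ∀ μ, (cosetGraph M₁ M₂).Adj δ μ → vertexZ p μ ≤ K) :
    vertexZ p δ ≤ K := by
  have hfin := cg_finite_stabilizer h δ
  obtain ⟨μ₀, hμ₀⟩ := exists_adj δ
  obtain ⟨T, hT⟩ := cg_exists_sylIn_edge (p := p) δ μ₀
  have hTδ := cg_sylIn_edge_vertex h hμ₀ hT
  have hTμ := cg_sylIn_edge_vertex' h hμ₀ hT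
  show sylowCenterClosure p (MulAction.stabilizer X δ) ≤ K
  rw [sylowCenterClosure_eq]
  apply iSup_le
  intro S
  have hS : IsSylIn p ((S : Subgroup (MulAction.stabilizer X δ)).map (MulAction.stabilizer X δ).subtype)
      (MulAction.stabilizer X δ) := ⟨S, rfl⟩
  obtain ⟨g, hg, hgS⟩ := hTδ.exists_conj hS
  rw [hgS]
  have hfinμ := cg_finite_stabilizer h μ₀
  have h1 := IsSylIn.map_equiv (MulAut.conj g) hTμ
  rw [← stabilizer_smul] at h1
  have h2 : omegaZ p (T.map (MulAut.conj g).toMonoidHom) ≤ vertexZ p (g • μ₀) :=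
    omega_center_le_sylowCenterClosure h1
  refine h2.trans (hK _ ?_)
  have := cg_adj_smul g hμ₀
  rwa [MulAction.mem_stabilizer_iff.1 hg] at this

/-- `V_δ^{(n+1)}` is generated by the `V_μ^{(n)}`, `μ` a neighbour of `δ`. -/
theorem vertexVIter_succ_le (h : IsCharPAmalgamPair p M₁ M₂) (n : ℕ) (δ : CosetVertex M₁ M₂)
    {K : Subgroup X} (hK : ∀ μ, (cosetGraph M₁ M₂).Adj δ μ → vertexVIter p M₁ M₂ n μ ≤ K) :
    vertexVIter p M₁ M₂ (n + 1) δ ≤ K := by
  have hgen := h.1.1
  have hconn := cg_connected hgen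
  rw [vertexVIter_le_iff]
  intro ν hν
  rcases Nat.eq_zero_or_pos ((cosetGraph M₁ M₂).dist δ ν) with h0 | hpos
  · rw [hconn.dist_eq_zero_iff] at h0
    subst h0
    apply vertexZ_le_of_neighbours h δ
    intro μ hμ
    exact (self_le_vertexVIter hgen n μ).trans (hK μ hμ)
  · obtain ⟨k, hk⟩ : ∃ k, (cosetGraph M₁ M₂).dist δ ν = k + 1 :=
      ⟨_, (Nat.succ_pred_eq_of_pos hpos).symm⟩
    obtain ⟨w, hw, hd⟩ := exists_adj_dist_succ hconn hk
    refine le_trans ?_ (hK w hw)
    apply vertexZ_le_vertexVIter hgen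
    omega

/-- `Z_δ ≠ 1`. -/
theorem vertexZ_ne_bot (h : IsCharPAmalgamPair p M₁ M₂) (δ : CosetVertex M₁ M₂) :
    vertexZ p δ ≠ ⊥ := by
  have hfin := cg_finite_stabilizer h δ
  have hp : p.Prime := Fact.out
  -- `p` divides the order of the stabilizer
  have hdvd : p ∣ Nat.card (MulAction.stabilizer X δ) := by
    obtain ⟨_, _, _, h1, h2, _⟩ := h
    rcases cg_vertex_cases δ with ⟨x, rfl⟩ | ⟨x, rfl⟩
    · rw [cg_stabilizer_inl, Subgroup.card_map_of_injective (MulAut.conj x).injective]; exact h1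
    · rw [cg_stabilizer_inr, Subgroup.card_map_of_injective (MulAut.conj x).injective]; exact h2
  obtain ⟨S⟩ : Nonempty (Sylow p (MulAction.stabilizer X δ)) := inferInstance
  set P : Subgroup X := (S : Subgroup (MulAction.stabilizer X δ)).map (MulAction.stabilizer X δ).subtype
    with hPdef
  have hS : IsSylIn p P (MulAction.stabilizer X δ) := ⟨S, rfl⟩
  have hle : omegaZ p P ≤ vertexZ p δ := omega_center_le_sylowCenterClosure hS
  intro hbot
  rw [hbot, le_bot_iff] at hle
  have hY : IsPGroup p (P ⊓ Subgroup.centralizer (P : Set X) : Subgroup X) :=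
    hS.isPGroup.to_le inf_le_left
  have hYbot := eq_bot_of_omegaOne_eq_bot hY hle
  -- the centre of the nontrivial `p`-group `P` is nontrivial
  have hcardS : Nat.card S ≠ 1 := by
    rw [S.card_eq_multiplicity]
    intro h1
    have h2 : (Nat.card (MulAction.stabilizer X δ)).factorization p = 0 := by
      rcases Nat.pow_eq_one.1 h1 with h3 | h3
      · exact absurd h3 hp.one_lt.ne'
      · exact h3
    have h3 : 1 ≤ (Nat.card (MulAction.stabilizer X δ)).factorization p :=
      (hp.dvd_iff_one_le_factorization Nat.card_pos.ne').1 hdvd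
    omega
  have hnt : Nontrivial S := by
    rw [← Finite.one_lt_card_iff_nontrivial]
    have : 0 < Nat.card S := Nat.card_pos
    omega
  have hcen : Nontrivial (Subgroup.center S) := S.isPGroup'.center_nontrivial
  obtain ⟨⟨z, hz⟩, hz1⟩ := exists_ne (1 : Subgroup.center S)
  have hzP : ((z : MulAction.stabilizer X δ) : X) ∈ (P ⊓ Subgroup.centralizer (P : Set X) : Subgroup X) := by
    rw [Subgroup.mem_inf]
    refine ⟨⟨(z : MulAction.stabilizer X δ), z.2, rfl⟩, ?_⟩
    rw [Subgroup.mem_centralizer_iff]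
    rintro _ ⟨y, hy, rfl⟩
    have := Subgroup.mem_center_iff.1 hz ⟨y, hy⟩
    have h2 := congrArg (fun t : S => ((t : MulAction.stabilizer X δ) : X)) this
    simpa using h2
  rw [hYbot, Subgroup.mem_bot] at hzP
  apply hz1
  ext
  simpa using hzP

end Graph

end Cfsg.Agent.Helper2.AmalgamV
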