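import Mathlib.GroupTheory.Sylow
import Mathlib.GroupTheory.Transfer
import Mathlib.GroupTheory.Focal
import Mathlib.GroupTheory.Frattini
import Mathlib.GroupTheory.Nilpotent
import Mathlib.GroupTheory.Solvable

set_option autoImplicit false

namespace Cfsg.Agent.Helper2

universe u

/-- An automorphism `β` of a group of order `p ^ k` with `β ^ q = 1`, `q` prime, where `q` divides
no `p ^ k - p ^ j` (`j < k`), is trivial. -/
theorem mulAut_eq_one_of_pow_prime_eq_one {T : Type u} [Group T] [Finite T] {p k q : ℕ}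
    (hp : p.Prime) (hq : q.Prime) (hT : Nat.card T = p ^ k) (β : MulAut T) (hβ : β ^ q = 1)
    (harith : ∀ j < k, ¬ q ∣ p ^ k - p ^ j) : β = 1 := by
  have : Fact q.Prime := ⟨hq⟩
  let F : Subgroup T :=
    { carrier := {t | β t = t}
      mul_mem' := by
        intro a b ha hb
        simp only [Set.mem_ofPred_eq] at ha hb ⊢
        rw [map_mul, ha, hb]
      one_mem' := by simp
      inv_mem' := by
        intro a ha
        simp only [Set.mem_ofPred_eq] at ha ⊢
        rw [map_inv, ha] }
  have hFmem : ∀ t, t ∈ F ↔ β t = t := fun t => Iff.rfl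
  have hFdvd : Nat.card F ∣ p ^ k := hT ▸ Subgroup.card_subgroup_dvd_card F
  obtain ⟨j, hjk, hj⟩ := (Nat.dvd_prime_pow hp).mp hFdvd
  have hqg : IsPGroup q (Subgroup.zpowers β) := by
    intro g
    refine ⟨1, ?_⟩
    obtain ⟨g, hg⟩ := g
    obtain ⟨i, rfl⟩ := Subgroup.mem_zpowers_iff.mp hg
    apply Subtype.ext
    simp only [pow_one, Subgroup.coe_pow, Subgroup.coe_one]
    rw [← zpow_natCast, ← zpow_mul, mul_comm, zpow_mul, zpow_natCast, hβ, one_zpow]
  have hmod := hqg.card_modEq_card_fixedPoints T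
  have hfix : (MulAction.fixedPoints (Subgroup.zpowers β) T) = (F : Set T) := by
    ext t
    simp only [MulAction.mem_fixedPoints, SetLike.mem_coe, hFmem]
    constructor
    · intro h
      exact h ⟨β, Subgroup.mem_zpowers β⟩
    · intro h g
      have hstab : β ∈ MulAction.stabilizer (MulAut T) t := by
        rw [MulAction.mem_stabilizer_iff]; exact h
      have hle : Subgroup.zpowers β ≤ MulAction.stabilizer (MulAut T) t :=
        (Subgroup.zpowers_le).mpr hstab
      exact MulAction.mem_stabilizer_iff.mp (hle g.2)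
  have hcardfix : Nat.card (MulAction.fixedPoints (Subgroup.zpowers β) T) = Nat.card F := by
    rw [hfix]; rfl
  rw [hcardfix, hT, hj] at hmod
  have hle : p ^ j ≤ p ^ k := Nat.pow_le_pow_right hp.pos hjk
  have hdvd : q ∣ p ^ k - p ^ j := (Nat.modEq_iff_dvd' hle).mp hmod.symm
  have hjk' : j = k := by
    by_contra hne
    exact harith j (lt_of_le_of_ne hjk hne) hdvd
  have hFtop : F = ⊤ := by
    rw [← Subgroup.card_eq_iff_eq_top, hj, hjk', hT]
  ext t
  have : t ∈ F := by rw [hFtop]; trivial
  simpa using (hFmem t).mp this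

open scoped Pointwise

/-- If the arithmetic of `|G|` excludes nontrivial `p'`-automorphisms of an abelian Sylow
`p`-subgroup `T`, then `T` is central in its normalizer. -/
theorem normalizer_le_centralizer_of_arith {G : Type u} [Group G] [Finite G] {p : ℕ}
    [Fact p.Prime] (T : Sylow p G) (hT : IsMulCommutative T) (k : ℕ)
    (hk : Nat.card T = p ^ k)
    (harith : ∀ q : ℕ, q.Prime → q ∣ Nat.card G → q ≠ p → ∀ j < k, ¬ q ∣ p ^ k - p ^ j) :
    Subgroup.normalizer ((T : Subgroup G) : Set G) ≤ Subgroup.centralizer (T : Set G) := by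
  have hp : p.Prime := Fact.out
  intro n hn
  set φ := (T : Subgroup G).normalizerMonoidHom with hφ
  have hTc : (T : Subgroup G) ≤ Subgroup.centralizer (T : Set G) := by
    intro x hx
    rw [Subgroup.mem_centralizer_iff]
    intro y hy
    have := mul_comm' (⟨y, hy⟩ : (T : Subgroup G)) ⟨x, hx⟩
    exact congrArg Subtype.val this
  have hker : ∀ x : Subgroup.normalizer ((T : Subgroup G) : Set G),
      φ x = 1 ↔ (x : G) ∈ Subgroup.centralizer (T : Set G) := by
    intro x
    rw [← MonoidHom.mem_ker, Subgroup.normalizerMonoidHom_ker, Subgroup.mem_subgroupOf]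
    rfl
  set α := φ ⟨n, hn⟩ with hα
  suffices h1 : α = 1 by exact (hker ⟨n, hn⟩).mp h1
  -- decompose the order of n
  obtain ⟨a, s, hps, hos⟩ := Nat.exists_eq_pow_mul_and_not_dvd (orderOf_pos n).ne' p hp.ne_one
  -- n ^ s is a p-element of the normalizer, hence in T
  have hns : n ^ s ∈ (T : Subgroup G) := by
    have hpz : IsPGroup p (Subgroup.zpowers (n ^ s)) := by
      apply IsPGroup.of_card (n := a)
      rw [Nat.card_zpowers, orderOf_pow' n (by rintro rfl; simp at hps), hos,
        Nat.gcd_eq_right (dvd_mul_left s (p ^ a)), Nat.mul_div_cancel _ (Nat.pos_of_ne_zero (by rintro rfl; simp at hps))]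
    have h1 := hpz.inf_normalizer_sylow T
    have h2 : n ^ s ∈ Subgroup.zpowers (n ^ s) ⊓ Subgroup.normalizer ((T : Subgroup G) : Set G) :=
      ⟨Subgroup.mem_zpowers _, Subgroup.pow_mem _ hn s⟩
    have h3 : n ^ s ∈ Subgroup.zpowers (n ^ s) ⊓ (T : Subgroup G) := by
      rw [← h1]; exact h2
    exact h3.2
  have hαs : α ^ s = 1 := by
    rw [hα, ← map_pow]
    rw [hker]
    exact hTc hns
  have hsG : s ∣ Nat.card G := by
    have : s ∣ orderOf n := by rw [hos]; exact dvd_mul_left _ _
    exact this.trans (orderOf_dvd_natCard n)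
  by_contra hne
  have hm1 : orderOf α ≠ 1 := fun h => hne (orderOf_eq_one_iff.mp h)
  obtain ⟨q, hq, hqm⟩ := Nat.exists_prime_and_dvd hm1
  have hms : orderOf α ∣ s := orderOf_dvd_of_pow_eq_one hαs
  have hqs : q ∣ s := hqm.trans hms
  have hqp : q ≠ p := by rintro rfl; exact hps hqs
  have hqG : q ∣ Nat.card G := hqs.trans hsG
  have hspos : 0 < s := Nat.pos_of_ne_zero (by rintro rfl; simp at hps)
  have hαpos : orderOf α ≠ 0 := by
    intro h0
    rw [h0] at hms
    exact hspos.ne' (Nat.eq_zero_of_zero_dvd hms)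
  set β := α ^ (orderOf α / q) with hβ
  have hβo : orderOf β = q := orderOf_pow_orderOf_div hαpos hqm
  have hβq : β ^ q = 1 := by rw [← hβo]; exact pow_orderOf_eq_one β
  have hβ1 : β = 1 :=
    mulAut_eq_one_of_pow_prime_eq_one hp hq hk β hβq (harith q hq hqG hqp)
  rw [hβ1, orderOf_one] at hβo
  exact hq.one_lt.ne hβo

end Cfsg.Agent.Helper2
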