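import Mathlib

/-!
# Class sizes `{1, m, mn}` (S4284): definitions (helper2)

`idx x` is the size of the class of `x` (index of the centralizer), `Cn x` the centralizer of `x`.
`Hyp G m n`: the class sizes of `G` are exactly `1, m, m * n` with `m, n > 1` coprime.
`CaseB G m`: no element of prime power order for a prime dividing `m` has class size `m`.
`Good m r x`: `x` is an `r`-element of class size `m` for a prime `r` not dividing `m`.
-/

set_option autoImplicit false

namespace Cfsg.Agent.Helper2.CS2

/-- centralizer of the element `x` -/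
abbrev Cn {G : Type*} [Group G] (x : G) : Subgroup G := Subgroup.centralizer ({x} : Set G)

/-- class size of `x` -/
noncomputable abbrev idx {G : Type*} [Group G] (x : G) : ℕ :=
  (Subgroup.centralizer ({x} : Set G)).index

/-- `x` has order a power of `p` -/
def IsPElt {G : Type*} [Group G] (p : ℕ) (x : G) : Prop := ∃ k : ℕ, orderOf x = p ^ k

/-- the class sizes of `G` are exactly `1, m, m * n` -/
structure Hyp (G : Type*) [Group G] (m n : ℕ) : Prop where
  one_lt_m : 1 < m
  one_lt_n : 1 < n
  cop : m.Coprime n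
  cases : ∀ x : G, idx x = 1 ∨ idx x = m ∨ idx x = m * n
  ex_m : ∃ x : G, idx x = m
  ex_mn : ∃ x : G, idx x = m * n

/-- no `t`-element (`t` a prime divisor of `m`) has class size `m` -/
def CaseB (G : Type*) [Group G] (m : ℕ) : Prop :=
  ∀ (t : ℕ) (y : G), t.Prime → t ∣ m → IsPElt t y → idx y ≠ m

/-- `x` is an `r`-element of class size `m`, `r` a prime not dividing `m` -/
def Good {G : Type*} [Group G] (m r : ℕ) (x : G) : Prop :=
  r.Prime ∧ ¬ r ∣ m ∧ IsPElt r x ∧ idx x = m

theorem Hyp.of_range {G : Type*} [Group G] {m n : ℕ} (hm : 1 < m) (hn : 1 < n)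
    (hcop : m.Coprime n)
    (h : Set.range (fun x : G => (Subgroup.centralizer ({x} : Set G)).index) =
      ({1, m, m * n} : Set ℕ)) : Hyp G m n := by
  refine ⟨hm, hn, hcop, ?_, ?_, ?_⟩
  · intro x
    have hx : idx x ∈ Set.range (fun x : G => (Subgroup.centralizer ({x} : Set G)).index) :=
      ⟨x, rfl⟩
    rw [h] at hx
    simpa using hx
  · have : m ∈ ({1, m, m * n} : Set ℕ) := by simp
    rw [← h] at this
    obtain ⟨x, hx⟩ := this
    exact ⟨x, hx⟩
  · have : m * n ∈ ({1, m, m * n} : Set ℕ) := by simp
    rw [← h] at this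
    obtain ⟨x, hx⟩ := this
    exact ⟨x, hx⟩

end Cfsg.Agent.Helper2.CS2
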