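import Mathlib
import Cfsg.Agent.Helper2.CS2Defs

/-!
# S4284, piece (Aexp): the norm argument (helper2)
-/

set_option autoImplicit false
set_option linter.unusedVariables false
set_option linter.unusedSectionVars false
set_option linter.style.haveILetI false
set_option maxHeartbeats 400000

namespace Cfsg.Agent.Helper2.CS2
open Subgroup

variable {G : Type*} [Group G] [Finite G]

/-- (Aexp) norm argument -/
theorem caseA_exponent {t : ℕ} [Fact t.Prime] (M : Subgroup G) [M.Normal]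
    (hMab : ∀ u ∈ M, ∀ v ∈ M, u * v = v * u)
    (hsr : ∀ g : G, g ∉ M → ∀ v ∈ M, g * v = v * g → v ∈ center G)
    (hMt : ∃ x ∈ M, IsPElt t x ∧ x ∉ center G) (hidx : ∃ a : ℕ, M.index = t ^ a) (g : G) :
    g ^ t ∈ M := by
  classical
  have ht : t.Prime := Fact.out
  by_contra hgt
  have hgM : g ∉ M := fun hg => hgt (pow_mem hg t)
  letI instM : CommGroup ↥M :=
    { (inferInstance : Group ↥M) with
      mul_comm := fun a b => Subtype.ext (hMab a a.2 b b.2) }
  -- conjugation by g on M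
  let σ : MulAut ↥M := MulAut.conjNormal g
  have hσ : ∀ (i : ℕ) (a : ↥M), (((σ ^ i) a : ↥M) : G) = g ^ i * a * (g ^ i)⁻¹ := by
    intro i a
    have : σ ^ i = MulAut.conjNormal (g ^ i) := by rw [map_pow]
    rw [this, MulAut.conjNormal_apply]
  have hσ1 : ∀ a : ↥M, ((σ a : ↥M) : G) = g * a * g⁻¹ := fun a => MulAut.conjNormal_apply g a
  -- σ has t-power order
  obtain ⟨e, he⟩ := hidx
  have hge : g ^ (t ^ e) ∈ M := by
    have := Subgroup.pow_index_mem M g
    rwa [he] at this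
  have hσe : σ ^ (t ^ e) = 1 := by
    ext a
    rw [hσ]
    have := hMab _ hge a a.2
    simp only [MulAut.one_apply]
    calc g ^ t ^ e * ↑a * (g ^ t ^ e)⁻¹ = (↑a * g ^ t ^ e) * (g ^ t ^ e)⁻¹ := by rw [this]
      _ = a := by group
  -- the t-part A of M and the hom φ
  let N := Nat.card G
  let A : Subgroup ↥M := (powMonoidHom (t ^ N) : ↥M →* ↥M).ker
  have hA : ∀ a : ↥M, a ∈ A ↔ a ^ (t ^ N) = 1 := fun a => MonoidHom.mem_ker
  let φ : ↥M →* ↥M := σ.toMonoidHom / MonoidHom.id ↥M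
  have hφ : ∀ a : ↥M, φ a = σ a / a := fun a => rfl
  have hφσ : ∀ a : ↥M, σ (φ a) = φ (σ a) := by
    intro a
    rw [hφ, hφ, map_div]
  let D : Subgroup ↥M := A.map φ
  -- D is a t-group
  have hDA : D ≤ A := by
    rintro _ ⟨a, ha, rfl⟩
    have ha' := (hA a).1 ha
    rw [hA, ← map_pow, ha', map_one]
  have hDp : IsPGroup t D := by
    rintro ⟨d, hd⟩
    refine ⟨N, Subtype.ext ?_⟩
    exact (hA d).1 (hDA hd)
  -- D is nontrivial
  obtain ⟨x, hxM, ⟨kx, hkx⟩, hxZ⟩ := hMt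
  have hxA : (⟨x, hxM⟩ : ↥M) ∈ A := by
    rw [hA]
    apply Subtype.ext
    show x ^ (t ^ N) = 1
    have h1 : t ^ kx ∣ Nat.card G := by rw [← hkx]; exact orderOf_dvd_natCard x
    have h2 : kx ≤ N := by
      by_contra hlt
      push Not at hlt
      have h3 : N < t ^ kx :=
        lt_of_lt_of_le (Nat.lt_pow_self ht.one_lt) (Nat.pow_le_pow_right ht.pos hlt.le)
      exact absurd (Nat.le_of_dvd Nat.card_pos h1) (not_le.2 h3)
    apply orderOf_dvd_iff_pow_eq_one.1
    rw [hkx]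
    exact pow_dvd_pow t h2
  have hfix_central : ∀ (γ : G), γ ∉ M → ∀ a : ↥M, γ * a * γ⁻¹ = a → (a : G) ∈ center G := by
    intro γ hγ a h1
    apply hsr γ hγ a a.2
    calc γ * a = γ * a * γ⁻¹ * γ := by group
      _ = a * γ := by rw [h1]
  have hφ_eq_one : ∀ a : ↥M, (a : G) ∈ center G → φ a = 1 := by
    intro a ha
    rw [hφ, div_eq_one]
    apply Subtype.ext
    rw [hσ1]
    rw [mem_center_iff] at ha
    calc g * ↑a * g⁻¹ = (↑a * g) * g⁻¹ := by rw [ha g]
      _ = a := by group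
  have hφx : φ ⟨x, hxM⟩ ≠ 1 := by
    intro h1
    rw [hφ, div_eq_one] at h1
    have h2 : g * x * g⁻¹ = x := by
      have := congrArg (fun e : ↥M => (e : G)) h1
      simpa [hσ1] using this
    exact hxZ (hfix_central g hgM ⟨x, hxM⟩ h2)
  have hDne : Nontrivial D := by
    refine ⟨⟨⟨φ ⟨x, hxM⟩, ⟨_, hxA, rfl⟩⟩, 1, ?_⟩⟩
    intro h1
    exact hφx (congrArg Subtype.val h1)
  -- σ acts on D
  have hσD : D.map σ.toMonoidHom ≤ D := by
    rintro _ ⟨_, ⟨a, ha, rfl⟩, rfl⟩
    refine ⟨σ a, ?_, (hφσ a).symm⟩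
    have ha' := (hA a).1 ha
    show σ a ∈ A
    rw [hA, ← map_pow, ha', map_one]
  have hσDeq : D.map σ.toMonoidHom = D :=
    Subgroup.eq_of_le_of_card_ge hσD
      (le_of_eq (Subgroup.card_map_of_injective (f := σ.toMonoidHom) σ.injective).symm)
  let σD : MulAut ↥D := (σ.subgroupMap D).trans (MulEquiv.subgroupCongr hσDeq)
  have hσDv : ∀ d : ↥D, ((σD d : ↥D) : ↥M) = σ d := fun d => rfl
  have hσDpow : ∀ (i : ℕ) (d : ↥D), (((σD ^ i) d : ↥D) : ↥M) = (σ ^ i) d := by
    intro i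
    induction i with
    | zero => intro d; rfl
    | succ i ih =>
      intro d
      rw [pow_succ', pow_succ', MulAut.mul_apply, MulAut.mul_apply, hσDv, ih]
  have hσDe : σD ^ (t ^ e) = 1 := by
    ext d
    rw [hσDpow, hσe]
    rfl
  let C : Subgroup (MulAut ↥D) := zpowers σD
  have hCp : IsPGroup t C := by
    rintro ⟨c, hc⟩
    obtain ⟨j, rfl⟩ := mem_zpowers_iff.1 hc
    refine ⟨e, Subtype.ext ?_⟩
    show (σD ^ j) ^ (t ^ e) = 1
    rw [← zpow_natCast, ← zpow_mul, mul_comm, zpow_mul, zpow_natCast, hσDe, one_zpow]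
  have htD : t ∣ Nat.card D := by
    obtain ⟨k, hk⟩ := IsPGroup.iff_card.1 hDp
    rw [hk]
    have hk0 : k ≠ 0 := by
      rintro rfl
      rw [pow_zero] at hk
      have := (Nat.card_eq_one_iff_unique.1 hk).1
      exact not_subsingleton D this
    exact dvd_pow_self t hk0
  have h1fix : (1 : ↥D) ∈ MulAction.fixedPoints C ↥D := by
    intro c
    exact map_one (c : MulAut ↥D)
  obtain ⟨b, hbfix, hb1⟩ := hCp.exists_fixed_point_of_prime_dvd_card_of_fixed_point ↥D htD h1fix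
  have hσb : σD b = b := hbfix ⟨σD, mem_zpowers σD⟩
  -- an element of order t fixed by σ
  obtain ⟨j, hj⟩ : ∃ j : ℕ, orderOf b = t ^ j := by
    obtain ⟨k, hk⟩ := hDp b
    obtain ⟨i, -, hi⟩ := (Nat.dvd_prime_pow ht).1 (orderOf_dvd_of_pow_eq_one hk)
    exact ⟨i, hi⟩
  have hj0 : j ≠ 0 := by
    rintro rfl
    rw [pow_zero, orderOf_eq_one_iff] at hj
    exact hb1 hj.symm
  obtain ⟨j', rfl⟩ := Nat.exists_eq_succ_of_ne_zero hj0
  set d' : ↥D := b ^ (t ^ j') with hd'
  have hd't : d' ^ t = 1 := by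
    rw [hd', ← pow_mul, ← pow_succ, ← hj, pow_orderOf_eq_one]
  have hd'1 : d' ≠ 1 := by
    intro h1
    have : orderOf b ∣ t ^ j' := orderOf_dvd_of_pow_eq_one h1
    rw [hj] at this
    have := Nat.le_of_dvd (pow_pos ht.pos _) this
    have h2 : t ^ j' < t ^ (j' + 1) := Nat.pow_lt_pow_right ht.one_lt (Nat.lt_succ_self _)
    exact absurd this (not_le.2 h2)
  have hσd' : σD d' = d' := by rw [hd', map_pow, hσb]
  obtain ⟨a, haA, had'⟩ := d'.2
  -- telescoping
  have htel : ∏ i ∈ Finset.range t, (σ ^ (i + 1)) a / (σ ^ i) a = (σ ^ t) a / (σ ^ 0) a :=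
    Finset.prod_range_div (fun i => (σ ^ i) a) t
  have hterm : ∀ i ∈ Finset.range t, (σ ^ (i + 1)) a / (σ ^ i) a = (d' : ↥M) := by
    intro i _
    have h1 : (σ ^ (i + 1)) a / (σ ^ i) a = (σ ^ i) (φ a) := by
      rw [hφ, map_div, pow_succ, MulAut.mul_apply]
    rw [h1, had', ← hσDpow]
    have : ∀ k : ℕ, (σD ^ k) d' = d' := by
      intro k
      induction k with
      | zero => rfl
      | succ k ih => rw [pow_succ, MulAut.mul_apply, hσd', ih]
    rw [this i]
  rw [Finset.prod_congr rfl hterm, Finset.prod_const, Finset.card_range] at htel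
  have hd'M : (d' : ↥M) ^ t = 1 := by
    have := congrArg (fun e : ↥D => (e : ↥M)) hd't
    simpa using this
  rw [hd'M, pow_zero, MulAut.one_apply, eq_comm, div_eq_one] at htel
  -- so g^t commutes with a
  have h2 : g ^ t * a * (g ^ t)⁻¹ = a := by
    have := congrArg (fun e : ↥M => (e : G)) htel
    simpa [hσ] using this
  have haZ : (a : G) ∈ center G := hfix_central (g ^ t) hgt a h2
  apply hd'1
  apply Subtype.ext
  rw [← had']
  exact hφ_eq_one a haZ

end Cfsg.Agent.Helper2.CS2
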