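import Mathlib
import Cfsg.Agent.Helper2.CS2Defs

/-!
# Class sizes `{1, m, mn}` (S4284): basic facts (P0a) (helper2)
-/

set_option autoImplicit false
set_option linter.unusedVariables false
set_option linter.unusedSectionVars false

namespace Cfsg.Agent.Helper2.CS2
open Subgroup

variable {G : Type*} [Group G] [Finite G] {m n : ℕ}

theorem mem_Cn_iff {x g : G} : g ∈ Cn x ↔ g * x = x * g :=
  mem_centralizer_singleton_iff

theorem mem_Cn_iff' {x g : G} : g ∈ Cn x ↔ Commute g x := mem_Cn_iff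

theorem self_mem_Cn (x : G) : x ∈ Cn x := mem_Cn_iff.2 rfl

theorem center_le_Cn (x : G) : center G ≤ Cn x := center_le_centralizer _

theorem idx_eq_one_iff (x : G) : idx x = 1 ↔ x ∈ center G := by
  rw [index_eq_one]
  constructor
  · intro h
    rw [mem_center_iff]
    intro g
    have : g ∈ Cn x := by
      show g ∈ centralizer {x}
      rw [h]; trivial
    exact mem_Cn_iff.1 this
  · intro h
    rw [eq_top_iff]
    intro g _
    exact mem_Cn_iff.2 ((mem_center_iff.1 h g))

theorem idx_pos (x : G) : 0 < idx x := Nat.pos_of_ne_zero index_ne_zero_of_finite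

theorem mem_Cn_conj {γ x g : G} : g ∈ Cn (γ * x * γ⁻¹) ↔ γ⁻¹ * g * γ ∈ Cn x := by
  rw [mem_Cn_iff, mem_Cn_iff]
  constructor
  · intro h
    have : γ⁻¹ * (g * (γ * x * γ⁻¹)) * γ = γ⁻¹ * ((γ * x * γ⁻¹) * g) * γ := by rw [h]
    calc γ⁻¹ * g * γ * x = γ⁻¹ * (g * (γ * x * γ⁻¹)) * γ := by group
      _ = γ⁻¹ * ((γ * x * γ⁻¹) * g) * γ := this
      _ = x * (γ⁻¹ * g * γ) := by group
  · intro h
    calc g * (γ * x * γ⁻¹) = γ * ((γ⁻¹ * g * γ) * x) * γ⁻¹ := by group
      _ = γ * (x * (γ⁻¹ * g * γ)) * γ⁻¹ := by rw [h]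
      _ = γ * x * γ⁻¹ * g := by group

theorem Cn_conj (γ x : G) : Cn (γ * x * γ⁻¹) = (Cn x).map (MulAut.conj γ).toMonoidHom := by
  ext g
  rw [mem_Cn_conj, mem_map]
  constructor
  · intro h
    exact ⟨γ⁻¹ * g * γ, h, by simp [MulAut.conj_apply, mul_assoc]⟩
  · rintro ⟨k, hk, rfl⟩
    have : γ⁻¹ * (MulAut.conj γ).toMonoidHom k * γ = k := by simp [MulAut.conj_apply, mul_assoc]
    rw [this]
    exact hk

theorem idx_conj (γ x : G) : idx (γ * x * γ⁻¹) = idx x := by
  show (Cn (γ * x * γ⁻¹)).index = (Cn x).index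
  rw [Cn_conj]
  exact index_map_equiv (Cn x) (MulAut.conj γ)

theorem idx_dvd_of_Cn_le {a b : G} (h : Cn a ≤ Cn b) : idx b ∣ idx a :=
  index_dvd_of_le h

theorem Cn_eq_of_le_of_idx_le {a b : G} (h : Cn a ≤ Cn b) (h' : idx a ≤ idx b) : Cn a = Cn b := by
  have h1 : idx b ∣ idx a := idx_dvd_of_Cn_le h
  have h2 : idx a = idx b := le_antisymm h' (Nat.le_of_dvd (idx_pos a) h1)
  have h3 : (Cn a).relIndex (Cn b) = 1 := by
    have := relIndex_mul_index h
    have hb : 0 < idx b := idx_pos b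
    have : (Cn a).relIndex (Cn b) * idx b = idx a := this
    rw [h2] at this
    exact Nat.eq_of_mul_eq_mul_right hb (by rw [this, one_mul])
  exact le_antisymm h (relIndex_eq_one.1 h3)

/-- for `N` normal, `|N : N ∩ H|` divides `|G : H|` -/
theorem relIndex_dvd_index_of_normal_right (H N : Subgroup G) [N.Normal] :
    H.relIndex N ∣ H.index := by
  have h1 : (H ⊓ N).relIndex N * N.index = (H ⊓ N).index := relIndex_mul_index inf_le_right
  have h2 : (H ⊓ N).relIndex H * H.index = (H ⊓ N).index := relIndex_mul_index inf_le_left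
  rw [inf_relIndex_right] at h1
  rw [inf_relIndex_left] at h2
  have h3 : N.relIndex (H ⊔ N) = N.relIndex H := relIndex_sup_right H N
  have h4 : N.relIndex (H ⊔ N) * (H ⊔ N).index = N.index := relIndex_mul_index le_sup_right
  have h5 : N.relIndex H ≠ 0 := by
    rw [relIndex]; exact index_ne_zero_of_finite
  refine ⟨(H ⊔ N).index, ?_⟩
  have : N.relIndex H * H.index = N.relIndex H * (H.relIndex N * (H ⊔ N).index) := by
    rw [h2, ← h1, ← h4, h3]; ring
  exact Nat.eq_of_mul_eq_mul_left (Nat.pos_of_ne_zero h5) this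

theorem Cn_le_Cn_pow (x : G) (k : ℕ) : Cn x ≤ Cn (x ^ k) := by
  intro g hg
  rw [mem_Cn_iff'] at hg ⊢
  exact hg.pow_right k

theorem Cn_le_Cn_of_mem_zpowers {x y : G} (hy : y ∈ zpowers x) : Cn x ≤ Cn y := by
  obtain ⟨k, rfl⟩ := mem_zpowers_iff.1 hy
  intro g hg
  rw [mem_Cn_iff'] at hg ⊢
  exact hg.zpow_right k

/-- if `x`, `u` commute and have coprime orders then `x` is a power of `x * u` -/
theorem mem_zpowers_mul_of_coprime {x u : G} (hc : Commute x u)
    (hcop : (orderOf x).Coprime (orderOf u)) : x ∈ zpowers (x * u) := by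
  have h1 : (x * u) ^ (orderOf u) = x ^ (orderOf u) := by
    rw [hc.mul_pow, pow_orderOf_eq_one, mul_one]
  obtain ⟨k, hk⟩ := exists_pow_eq_self_of_coprime (x := x) (n := orderOf u) hcop.symm
  have h2 : ((x * u) ^ (orderOf u)) ^ k ∈ zpowers (x * u) :=
    Subgroup.pow_mem _ (Subgroup.pow_mem _ (mem_zpowers _) _) _
  rwa [h1, hk] at h2

theorem Cn_mul_of_coprime {x u : G} (hc : Commute x u)
    (hcop : (orderOf x).Coprime (orderOf u)) : Cn (x * u) = Cn x ⊓ Cn u := by
  apply le_antisymm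
  · apply le_inf
    · exact Cn_le_Cn_of_mem_zpowers (mem_zpowers_mul_of_coprime hc hcop)
    · have := mem_zpowers_mul_of_coprime hc.symm hcop.symm
      rw [← hc.eq] at this
      exact Cn_le_Cn_of_mem_zpowers this
  · intro g hg
    rw [mem_inf, mem_Cn_iff', mem_Cn_iff'] at hg
    rw [mem_Cn_iff']
    exact hg.1.mul_right hg.2

theorem Hyp.m_pos (h : Hyp G m n) : 0 < m := by have := h.one_lt_m; omega
theorem Hyp.n_pos (h : Hyp G m n) : 0 < n := by have := h.one_lt_n; omega

theorem Hyp.idx_of_not_mem_center (h : Hyp G m n) {x : G} (hx : x ∉ center G) :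
    idx x = m ∨ idx x = m * n := by
  rcases h.cases x with h1 | h1 | h1
  · exact absurd ((idx_eq_one_iff x).1 h1) hx
  · exact Or.inl h1
  · exact Or.inr h1

theorem Hyp.idx_le (h : Hyp G m n) (x : G) : idx x ≤ m * n := by
  have hm := h.m_pos
  have hn := h.n_pos
  rcases h.cases x with h1 | h1 | h1
  · rw [h1]; exact Nat.mul_pos hm hn
  · rw [h1]; exact Nat.le_mul_of_pos_right m hn
  · rw [h1]

/-- (MAX) if i(y) = mn and u commutes with y, coprime orders, then C(y) ≤ C(u) -/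
theorem Hyp.max (h : Hyp G m n) {y u : G} (hy : idx y = m * n) (hc : Commute y u)
    (hcop : (orderOf y).Coprime (orderOf u)) : Cn y ≤ Cn u := by
  have h1 : Cn (y * u) = Cn y ⊓ Cn u := Cn_mul_of_coprime hc hcop
  have h2 : Cn (y * u) ≤ Cn y := by rw [h1]; exact inf_le_left
  have h3 : Cn (y * u) = Cn y := Cn_eq_of_le_of_idx_le h2 (by rw [hy]; exact h.idx_le _)
  rw [h1] at h3
  exact inf_eq_left.1 h3

/-- if i(x) = m and u commutes with x, coprime orders, then |C(x) : C(x) ⊓ C(u)| is 1 or n -/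
theorem Hyp.relIndex_of_m (h : Hyp G m n) {x u : G} (hx : idx x = m) (hc : Commute x u)
    (hcop : (orderOf x).Coprime (orderOf u)) :
    (Cn u).relIndex (Cn x) = 1 ∨ (Cn u).relIndex (Cn x) = n := by
  have h1 : Cn (x * u) = Cn x ⊓ Cn u := Cn_mul_of_coprime hc hcop
  have h2 : Cn (x * u) ≤ Cn x := by rw [h1]; exact inf_le_left
  have h3 : (Cn (x * u)).relIndex (Cn x) * idx x = idx (x * u) := relIndex_mul_index h2
  have h4 : (Cn (x * u)).relIndex (Cn x) = (Cn u).relIndex (Cn x) := by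
    rw [h1, inf_comm, inf_relIndex_right]
  rw [h4, hx] at h3
  have hm := h.m_pos
  rcases h.cases (x * u) with h5 | h5 | h5
  · rw [h5] at h3
    left
    exact Nat.eq_one_of_mul_eq_one_right h3
  · rw [h5] at h3
    left
    exact Nat.eq_of_mul_eq_mul_right hm (by rw [h3, one_mul])
  · rw [h5] at h3
    right
    exact Nat.eq_of_mul_eq_mul_right hm (by rw [h3, mul_comm])

/-- index argument: |N : C_N(x)| divides both |N| and i(x) -/
theorem normal_le_Cn_of_coprime (N : Subgroup G) [N.Normal] (x : G)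
    (hcop : (Nat.card N).Coprime (idx x)) : N ≤ Cn x := by
  have h1 : (Cn x).relIndex N ∣ idx x := relIndex_dvd_index_of_normal_right (Cn x) N
  have h2 : (Cn x).relIndex N ∣ Nat.card N := by
    rw [relIndex]
    exact ((Cn x).subgroupOf N).index_dvd_card
  have h3 : (Cn x).relIndex N = 1 := Nat.eq_one_of_dvd_coprimes hcop h2 h1
  exact relIndex_eq_one.1 h3

end Cfsg.Agent.Helper2.CS2
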