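import Mathlib
import Cfsg.Agent.Helper2.CS2Defs
import Cfsg.Agent.Helper2.CS2Basic
import Cfsg.Agent.Helper76.CS2SR

/-!
# S4284, piece (Api): in Case A, `m` is a power of `t` (helper2)
-/

set_option autoImplicit false
set_option linter.unusedVariables false
set_option linter.unusedSectionVars false
set_option linter.style.haveILetI false
set_option maxHeartbeats 400000

namespace Cfsg.Agent.Helper2.CS2
open Subgroup

section conj
variable {G : Type*} [Group G]

/-- conjugation action of the normalizer of `K` on `K` -/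
def nConj (K : Subgroup G) : ↥(normalizer (K : Set G)) →* MulAut ↥K where
  toFun g :=
    { toFun := fun k => ⟨(g : G) * k * (g : G)⁻¹, (mem_normalizer_iff.1 g.2 k).1 k.2⟩
      invFun := fun k => ⟨(g : G)⁻¹ * k * (g : G), by
        have := (mem_normalizer_iff.1 (inv_mem g.2) k).1 k.2
        simpa using this⟩
      left_inv := fun k => Subtype.ext (by simp [mul_assoc])
      right_inv := fun k => Subtype.ext (by simp [mul_assoc])
      map_mul' := fun k k' => Subtype.ext (by simp [mul_assoc]) }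
  map_one' := by
    ext k
    simp
  map_mul' := fun g g' => by
    ext k
    simp [mul_assoc]

@[simp]
theorem coe_nConj_apply (K : Subgroup G) (g : ↥(normalizer (K : Set G))) (k : ↥K) :
    ((nConj K g k : ↥K) : G) = (g : G) * k * (g : G)⁻¹ := rfl

end conj

variable {G : Type*} [Group G] [Finite G] {m n : ℕ}

/-- center of `C(x)` as a subgroup of `G` -/
def ZM (x : G) : Subgroup G := Cn x ⊓ centralizer (Cn x : Set G)

theorem mem_ZM {x d : G} : d ∈ ZM x ↔ d ∈ Cn x ∧ ∀ b ∈ Cn x, Commute d b := by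
  unfold ZM
  rw [mem_inf, mem_centralizer_iff]
  constructor
  · rintro ⟨h1, h2⟩
    exact ⟨h1, fun b hb => (h2 b hb).symm⟩
  · rintro ⟨h1, h2⟩
    exact ⟨h1, fun b hb => (h2 b hb).symm⟩

theorem normalizer_Cn_le (x : G) : normalizer (Cn x : Set G) ≤ normalizer (ZM x : Set G) := by
  intro g hg
  rw [mem_normalizer_iff] at hg ⊢
  intro d
  have key : ∀ (g : G), (∀ h, h ∈ Cn x ↔ g * h * g⁻¹ ∈ Cn x) → ∀ d, d ∈ ZM x → g * d * g⁻¹ ∈ ZM x := by
    intro g hg d hd
    rw [mem_ZM] at hd ⊢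
    refine ⟨(hg d).1 hd.1, fun b hb => ?_⟩
    have hb' : g⁻¹ * b * g ∈ Cn x := by
      rw [hg]; simpa [mul_assoc] using hb
    have := hd.2 _ hb'
    show g * d * g⁻¹ * b = b * (g * d * g⁻¹)
    calc g * d * g⁻¹ * b = g * (d * (g⁻¹ * b * g)) * g⁻¹ := by group
      _ = g * ((g⁻¹ * b * g) * d) * g⁻¹ := by rw [this.eq]
      _ = b * (g * d * g⁻¹) := by group
  constructor
  · exact key g hg d
  · intro hd
    have hg' : ∀ h, h ∈ Cn x ↔ g⁻¹ * h * g⁻¹⁻¹ ∈ Cn x := by
      intro h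
      rw [hg (g⁻¹ * h * g⁻¹⁻¹)]
      simp [mul_assoc]
    have := key g⁻¹ hg' _ hd
    simpa [mul_assoc] using this

/-- (Api) -/
theorem caseA_prime_power (h : Hyp G m n) {t : ℕ} (ht : t.Prime) (htm : t ∣ m) {x : G}
    (hx : IsPElt t x) (hxm : idx x = m)
    (h34 : ∀ s : ℕ, s.Prime → s ∣ m →
      (∃ d ∈ Cn x, (∀ b ∈ Cn x, Commute d b) ∧ IsPElt s d ∧ d ∉ center G) ∧
      (∃ g ∈ normalizer (Cn x : Set G), IsPElt s g ∧ g ∉ Cn x)) :
    ∃ a : ℕ, m = t ^ a := by
  classical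
  -- the commutative group D = Z(M)
  letI instD : CommGroup ↥(ZM x) :=
    { (inferInstance : Group ↥(ZM x)) with
      mul_comm := fun a b => Subtype.ext ((mem_ZM.1 a.2).2 b (mem_ZM.1 b.2).1).eq }
  let ψ : ↥(normalizer (Cn x : Set G)) →* MulAut ↥(ZM x) :=
    (nConj (ZM x)).comp (inclusion (normalizer_Cn_le x))
  have hψ : ∀ (g : ↥(normalizer (Cn x : Set G))) (d : ↥(ZM x)),
      ((ψ g d : ↥(ZM x)) : G) = (g : G) * d * (g : G)⁻¹ := fun g d => rfl
  let X : Subgroup (MulAut ↥(ZM x)) := ψ.range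
  let D₀ : Subgroup ↥(ZM x) := (center G).subgroupOf (ZM x)
  have hxZ : x ∉ center G := by
    intro hc
    have := (idx_eq_one_iff x).2 hc
    have := h.one_lt_m
    omega
  have hxZM : x ∈ ZM x := mem_ZM.2 ⟨self_mem_Cn x, fun b hb => (mem_Cn_iff'.1 hb).symm⟩
  -- elements of N outside M act nontrivially; elements of M act trivially
  have hker : ∀ g : ↥(normalizer (Cn x : Set G)), ψ g = 1 ↔ (g : G) ∈ Cn x := by
    intro g
    constructor
    · intro hg
      have h1 : ((ψ g ⟨x, hxZM⟩ : ↥(ZM x)) : G) = x := by rw [hg]; rfl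
      rw [hψ] at h1
      rw [mem_Cn_iff]
      calc (g : G) * x = (g : G) * x * (g : G)⁻¹ * g := by group
        _ = x * g := by rw [h1]
    · intro hg
      ext d
      rw [hψ]
      have := (mem_ZM.1 d.2).2 _ hg
      simp only [MulAut.one_apply]
      calc (g : G) * d * (g : G)⁻¹ = (d * g) * (g : G)⁻¹ := by rw [this.eq]
        _ = d := by group
  have hfix : ∀ φ ∈ X, ∀ d ∈ D₀, φ d = d := by
    rintro φ ⟨g, rfl⟩ d hd
    apply Subtype.ext
    rw [hψ]
    have hd' : (d : G) ∈ center G := hd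
    rw [mem_center_iff] at hd'
    calc (g : G) * d * (g : G)⁻¹ = (d * g) * (g : G)⁻¹ := by rw [hd' g]
      _ = d := by group
  have hsr : ∀ φ ∈ X, φ ≠ 1 → ∀ d : ↥(ZM x), φ d = d → d ∈ D₀ := by
    rintro φ ⟨g, rfl⟩ hne d hd
    show (d : G) ∈ center G
    by_contra hdZ
    have hgM : (g : G) ∉ Cn x := fun hg => hne ((hker g).2 hg)
    have hMd : Cn x ≤ Cn (d : G) := fun b hb => mem_Cn_iff'.2 ((mem_ZM.1 d.2).2 b hb).symm
    have hdvd : idx (d : G) ∣ m := by rw [← hxm]; exact index_dvd_of_le hMd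
    have hdm : idx (d : G) = m := by
      rcases h.idx_of_not_mem_center hdZ with h' | h'
      · exact h'
      · exfalso
        rw [h'] at hdvd
        have := Nat.le_of_dvd h.m_pos hdvd
        have hn := h.one_lt_n
        have hm := h.m_pos
        nlinarith
    have heq : Cn x = Cn (d : G) := Cn_eq_of_le_of_idx_le hMd (by rw [hxm, hdm])
    apply hgM
    have hgoal : (g : G) ∈ Cn (d : G) := by
      rw [mem_Cn_iff]
      have h1 : (g : G) * d * (g : G)⁻¹ = d := by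
        have := congrArg (fun e : ↥(ZM x) => (e : G)) hd
        simpa [hψ] using this
      calc (g : G) * d = (g : G) * d * (g : G)⁻¹ * g := by group
        _ = d * g := by rw [h1]
    have hle : Cn (d : G) ≤ Cn x := heq.symm.le
    exact hle hgoal
  -- |X| divides m
  have hXm : Nat.card X ∣ m := by
    have h1 : Nat.card X = ψ.ker.index := by
      rw [← Subgroup.index_ker]
    have h2 : (Cn x).subgroupOf (normalizer (Cn x : Set G)) ≤ ψ.ker := by
      intro g hg
      rw [MonoidHom.mem_ker]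
      exact (hker g).2 hg
    have h3 : ψ.ker.index ∣ ((Cn x).subgroupOf (normalizer (Cn x : Set G))).index :=
      index_dvd_of_le h2
    have h4 : ((Cn x).subgroupOf (normalizer (Cn x : Set G))).index ∣ (Cn x).index :=
      relIndex_dvd_index_of_le le_normalizer
    rw [h1, ← hxm]
    exact h3.trans h4
  have hs : ∀ s : ℕ, s.Prime → s ∣ Nat.card X →
      ∃ d : ↥(ZM x), (∃ k : ℕ, orderOf d = s ^ k) ∧ d ∉ D₀ := by
    intro s hs hsX
    obtain ⟨⟨d, hdM, hdc, ⟨k, hk⟩, hdZ⟩, -⟩ := h34 s hs (hsX.trans hXm)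
    refine ⟨⟨d, mem_ZM.2 ⟨hdM, hdc⟩⟩, ⟨k, ?_⟩, hdZ⟩
    rw [Subgroup.orderOf_mk, hk]
  obtain ⟨p, k, hp, hXp⟩ := Cfsg.Agent.Helper76.CS2.semiregular_prime_power D₀ X hfix hsr hs
  -- every prime of m equals p
  have hall : ∀ {s : ℕ}, s.Prime → s ∣ m → s = p := by
    intro s hs hsm
    obtain ⟨-, g, hgN, ⟨j, hj⟩, hgM⟩ := h34 s hs hsm
    have hne : ψ ⟨g, hgN⟩ ≠ 1 := fun h1 => hgM ((hker ⟨g, hgN⟩).1 h1)
    have hord : orderOf (ψ ⟨g, hgN⟩) ∣ s ^ j := by
      have : orderOf (ψ ⟨g, hgN⟩) ∣ orderOf (⟨g, hgN⟩ : ↥(normalizer (Cn x : Set G))) :=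
        orderOf_map_dvd ψ _
      rwa [Subgroup.orderOf_mk, hj] at this
    obtain ⟨i, -, hi⟩ := (Nat.dvd_prime_pow hs).1 hord
    have hi0 : i ≠ 0 := by
      rintro rfl
      rw [pow_zero, orderOf_eq_one_iff] at hi
      exact hne hi
    have hsX : s ∣ Nat.card X := by
      have hmem : ψ ⟨g, hgN⟩ ∈ X := ⟨⟨g, hgN⟩, rfl⟩
      have h1 : orderOf (⟨ψ ⟨g, hgN⟩, hmem⟩ : X) ∣ Nat.card X := orderOf_dvd_natCard _
      rw [Subgroup.orderOf_mk, hi] at h1
      exact (dvd_pow_self s hi0).trans h1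
    rw [hXp] at hsX
    exact (Nat.prime_dvd_prime_iff_eq hs hp).1 (hs.dvd_of_dvd_pow hsX)
  have hpt : t = p := hall ht htm
  subst hpt
  exact ⟨_, Nat.eq_prime_pow_of_unique_prime_dvd h.m_pos.ne' hall⟩

end Cfsg.Agent.Helper2.CS2
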