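import Mathlib
import Cfsg.Agent.Helper2.CS2Defs

/-!
# Class sizes `{1, m, mn}` (S4284): the structures `StructB`, `ConfigB` of Case B (helper2)
-/

set_option autoImplicit false

namespace Cfsg.Agent.Helper2.CS2

open Subgroup

/-- the three structural facts of Case B, for all good elements -/
structure StructB (G : Type*) [Group G] (m : ℕ) : Prop where
  a : ∀ {r : ℕ} {x : G}, Good m r x → ∀ γ δ : G, Commute (γ * x * γ⁻¹) (δ * x * δ⁻¹)
  c : ∀ {r : ℕ} {x : G}, Good m r x → ∀ {t : ℕ}, t.Prime → t ∣ m → ∀ {τ : G}, IsPElt t τ →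
    Commute τ x → ∀ γ : G, Commute τ (γ * x * γ⁻¹)
  d : ∀ {t : ℕ} [Fact t.Prime], t ∣ m → ∀ T : Sylow t G,
    Nat.card T = t ^ 2 * Nat.card ((T : Subgroup G) ⊓ center G : Subgroup G)

/-- the configuration reached in Case B -/
structure ConfigB (G : Type*) [Group G] (m r t : ℕ) [Fact t.Prime] (x b a₀ g : G)
    (T : Sylow t G) : Prop where
  htm : t ∣ m
  hx : Good m r x
  hb : Good m r b
  ha₀T : a₀ ∈ (T : Subgroup G)
  hgT : g ∈ (T : Subgroup G)
  ha₀Z : a₀ ∉ center G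
  ha₀x : ∀ γ : G, Commute a₀ (γ * x * γ⁻¹)
  hgb : ∀ γ : G, Commute g (γ * b * γ⁻¹)
  hgx : ¬ Commute g x
  hxb : ∀ γ δ : G, Commute (γ * x * γ⁻¹) (δ * b * δ⁻¹)

end Cfsg.Agent.Helper2.CS2
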