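import Mathlib
import Cfsg.Agent.Helper2.CS2Defs
import Cfsg.Agent.Helper2.CS2Defs2
import Cfsg.Agent.Helper2.CS2Basic
import Cfsg.Agent.Helper48.CS2ST2
import Cfsg.Agent.Helper51.CS2P0b
import Cfsg.Agent.S4153

/-!
# S4284, piece (ST3): in Case B, `|T : T ∩ Z| = t^2` for every Sylow `t`-subgroup, `t ∣ m` (helper2)
-/

set_option autoImplicit false
set_option linter.unusedVariables false
set_option linter.unusedSectionVars false
set_option maxHeartbeats 400000

namespace Cfsg.Agent.Helper2.CS2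
open Subgroup Cfsg.Agent.Helper48.CS2

variable {G : Type*} [Group G] [Finite G] {m n : ℕ}

theorem card_mul_relIndex_of_le' {H K : Subgroup G} (h : H ≤ K) :
    Nat.card H * H.relIndex K = Nat.card K := by
  rw [← Subgroup.relIndex_bot_left, ← Subgroup.relIndex_bot_left,
    Subgroup.relIndex_mul_relIndex _ _ _ bot_le h]

/-- (ST3) |T : T ∩ Z| = t^2 for every Sylow t-subgroup, t ∣ m. -/
theorem struct_d (h : Hyp G m n) (hB : CaseB G m)
    (hsq : ∀ t : ℕ, t.Prime → t ∣ m → m.factorization t = 1) {r : ℕ} {x : G} (hx : Good m r x)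
    (hW : ∃ (t₀ : ℕ) (y : G), t₀.Prime ∧ t₀ ∣ m ∧ IsPElt t₀ y ∧ y ∉ center G ∧
      ∀ γ : G, Cn y ≤ Cn (γ * x * γ⁻¹))
    {t : ℕ} [Fact t.Prime] (htm : t ∣ m) (T : Sylow t G) :
    Nat.card T = t ^ 2 * Nat.card ((T : Subgroup G) ⊓ center G : Subgroup G) := by
  classical
  obtain ⟨t₀, y, ht₀, ht₀m, hyt, hyZ, hWle⟩ := hW
  have ht : t.Prime := Fact.out
  have hidy : idx y = m * n :=
    (h.idx_of_not_mem_center hyZ).resolve_left (hB t₀ y ht₀ ht₀m hyt)
  have hidx : idx x = m := hx.2.2.2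
  obtain ⟨hr, hrm, ⟨jx, hjx⟩, -⟩ := hx
  have hrt : r ≠ t := fun e => hrm (e ▸ htm)
  have hnt : n.Coprime t := (Nat.Coprime.coprime_dvd_left htm h.cop).symm
  have hnfac : n.factorization t = 0 :=
    Nat.factorization_eq_zero_of_not_dvd ((Nat.Prime.coprime_iff_not_dvd ht).1 hnt.symm)
  have hmnfac : (m * n).factorization t = 1 := by
    rw [Nat.factorization_mul h.m_pos.ne' h.n_pos.ne']
    simp [hsq t ht htm, hnfac]
  set K : Subgroup G := Kx x with hK
  have hyK : Cn y ≤ K := fun g hg => mem_Kx.2 fun γ => hWle γ hg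
  have hKx : K ≤ Cn x := Kx_le x
  have hZK : center G ≤ K := fun z hz => mem_Kx.2 fun γ => center_le_Cn _ hz
  -- the index of K
  have hKidx : K.index.factorization t = 1 := by
    have h1 : K.index ∣ idx y := index_dvd_of_le hyK
    have h2 : idx x ∣ K.index := index_dvd_of_le hKx
    rw [hidy] at h1
    rw [hidx] at h2
    have hK0 : K.index ≠ 0 := index_ne_zero_of_finite
    have h3 : K.index.factorization t ≤ (m * n).factorization t :=
      (Nat.factorization_le_iff_dvd hK0 (Nat.mul_pos h.m_pos h.n_pos).ne').2 h1 t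
    have h4 : m.factorization t ≤ K.index.factorization t :=
      (Nat.factorization_le_iff_dvd h.m_pos.ne' hK0).2 h2 t
    rw [hsq t ht htm] at h4
    omega
  -- |T| = t * |T ⊓ K|
  have hTK : Nat.card T = t * Nat.card ((T : Subgroup G) ⊓ K : Subgroup G) := by
    rw [Cfsg.Agent.S4153.card_sylow_inf_normal K T, Sylow.card_eq_multiplicity,
      Cfsg.Agent.Helper51.CS2.factorization_card_eq K t, hKidx, pow_succ, mul_comm]
  -- an element g of T outside K
  have hex : ∃ g ∈ (T : Subgroup G), g ∉ K := by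
    by_contra hcon
    push Not at hcon
    have hle : (T : Subgroup G) ≤ K := hcon
    have : (T : Subgroup G) ⊓ K = T := inf_eq_left.2 hle
    rw [this] at hTK
    have hpos : 0 < Nat.card T := Nat.card_pos
    have : 1 < t := ht.one_lt
    nlinarith
  obtain ⟨g, hgT, hgK⟩ := hex
  have hgt : IsPElt t g := by
    obtain ⟨k, hk⟩ := (T.isPGroup'.to_le le_rfl) ⟨g, hgT⟩
    have : g ^ t ^ k = 1 := by
      have := congrArg Subtype.val hk
      simpa using this
    obtain ⟨i, -, hi⟩ := (Nat.dvd_prime_pow ht).1 (orderOf_dvd_of_pow_eq_one this)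
    exact ⟨i, hi⟩
  have hgZ : g ∉ center G := fun hz => hgK (hZK hz)
  have hidg : idx g = m * n :=
    (h.idx_of_not_mem_center hgZ).resolve_left (hB t g ht htm hgt)
  -- Q a Sylow t-subgroup of C(g)
  obtain ⟨Q⟩ : Nonempty (Sylow t (Cn g)) := inferInstance
  have hQcard : Nat.card Q * t = Nat.card T := by
    have := Cfsg.Agent.Helper51.CS2.card_sylow_Cn g Q T
    rwa [hidg, hmnfac, pow_one] at this
  set Q' : Subgroup G := (Q : Subgroup (Cn g)).map (Cn g).subtype with hQ'
  have hQ'card : Nat.card Q' = Nat.card Q :=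
    card_map_of_injective (Cn g).subtype_injective
  have hQ'p : IsPGroup t Q' := Q.isPGroup'.map _
  have hQ'g : Q' ≤ Cn g := by
    rintro _ ⟨q, -, rfl⟩
    exact q.2
  -- Q' ⊓ K is central
  have hcen : Q' ⊓ K ≤ center G := by
    intro v hv
    by_contra hvZ
    have hvQ : v ∈ Q' := hv.1
    have hvK : v ∈ K := hv.2
    have hvt : IsPElt t v := by
      obtain ⟨k, hk⟩ := hQ'p ⟨v, hvQ⟩
      have : v ^ t ^ k = 1 := by
        have := congrArg Subtype.val hk
        simpa using this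
      obtain ⟨i, -, hi⟩ := (Nat.dvd_prime_pow ht).1 (orderOf_dvd_of_pow_eq_one this)
      exact ⟨i, hi⟩
    have hidv : idx v = m * n :=
      (h.idx_of_not_mem_center hvZ).resolve_left (hB t v ht htm hvt)
    apply hgK
    rw [hK, mem_Kx]
    intro γ
    have hc : Commute v (γ * x * γ⁻¹) := mem_Cn_iff'.1 (mem_Kx.1 hvK γ)
    have hord : orderOf (γ * x * γ⁻¹) = orderOf x := by
      have := (MulAut.conj γ).orderOf_eq x
      simpa [MulAut.conj_apply] using this
    have hcop : (orderOf v).Coprime (orderOf (γ * x * γ⁻¹)) := by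
      obtain ⟨i, hi⟩ := hvt
      rw [hord, hi, hjx]
      exact Nat.Coprime.pow _ _ ((Nat.coprime_primes ht hr).2 (Ne.symm hrt))
    have hle := h.max hidv hc hcop
    apply hle
    have hvg : v ∈ Cn g := hQ'g hvQ
    exact mem_Cn_iff'.2 (mem_Cn_iff'.1 hvg).symm
  -- |Q' ⊓ K| ≤ |T ⊓ Z|
  have hZt : Nat.card (Q' ⊓ K : Subgroup G) ≤
      Nat.card ((T : Subgroup G) ⊓ center G : Subgroup G) := by
    obtain ⟨T', hT'⟩ := hQ'p.exists_le_sylow
    have h1 : Q' ⊓ K ≤ (T' : Subgroup G) ⊓ center G := le_inf (inf_le_left.trans hT') hcen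
    have h2 : Nat.card ((T' : Subgroup G) ⊓ center G : Subgroup G) =
        Nat.card ((T : Subgroup G) ⊓ center G : Subgroup G) := by
      rw [Cfsg.Agent.S4153.card_sylow_inf_normal (center G) T',
        Cfsg.Agent.S4153.card_sylow_inf_normal (center G) T]
    rw [← h2]
    exact Nat.le_of_dvd Nat.card_pos (card_dvd_of_le h1)
  -- |Q' : Q' ⊓ K| ≤ t
  have hrel : K.relIndex Q' ≤ t := by
    have h1 : K.relIndex Q' ∣ K.index := relIndex_dvd_index_of_normal K Q'
    have h2 : K.relIndex Q' ∣ Nat.card Q' := relIndex_dvd_card K Q'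
    obtain ⟨k, hk⟩ := IsPGroup.iff_card.1 hQ'p
    rw [hk] at h2
    obtain ⟨i, -, hi⟩ := (Nat.dvd_prime_pow ht).1 h2
    have hK0 : K.index ≠ 0 := index_ne_zero_of_finite
    have h3 : i ≤ K.index.factorization t := by
      rw [hi] at h1
      exact (ht.pow_dvd_iff_le_factorization hK0).1 h1
    rw [hKidx] at h3
    rw [hi]
    calc t ^ i ≤ t ^ 1 := Nat.pow_le_pow_right ht.pos h3
      _ = t := pow_one t
  have hQ'eq : Nat.card (Q' ⊓ K : Subgroup G) * K.relIndex Q' = Nat.card Q' := by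
    have := card_mul_relIndex_of_le' (inf_le_left : Q' ⊓ K ≤ Q')
    rwa [inf_relIndex_left] at this
  -- conclusion
  have hle : Nat.card T ≤ t ^ 2 * Nat.card ((T : Subgroup G) ⊓ center G : Subgroup G) := by
    rw [← hQcard, ← hQ'card, ← hQ'eq]
    calc Nat.card (Q' ⊓ K : Subgroup G) * K.relIndex Q' * t
        ≤ Nat.card ((T : Subgroup G) ⊓ center G : Subgroup G) * t * t :=
          Nat.mul_le_mul_right t (Nat.mul_le_mul hZt hrel)
      _ = t ^ 2 * Nat.card ((T : Subgroup G) ⊓ center G : Subgroup G) := by ring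
  have hdvd := Cfsg.Agent.Helper51.CS2.Hyp.sq_mul_card_dvd h htm T
  exact le_antisymm hle (Nat.le_of_dvd Nat.card_pos hdvd)

end Cfsg.Agent.Helper2.CS2
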