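import Cfsg.Agent.Helper2.HeisZ
import Cfsg.Agent.Helper63.Class2

set_option autoImplicit false

namespace Cfsg.Agent.Helper2

/-- **Gluing along a central product.** -/
theorem exists_mulEquiv_of_centralProduct {E E' : Type*} [Group E] [Group E']
    (A C : Subgroup E) (A' C' : Subgroup E')
    (hcomm : ∀ a ∈ A, ∀ c ∈ C, a * c = c * a) (hcomm' : ∀ a ∈ A', ∀ c ∈ C', a * c = c * a)
    (hsup : ∀ g : E, ∃ a ∈ A, ∃ c ∈ C, g = a * c) (hsup' : ∀ g : E', ∃ a ∈ A', ∃ c ∈ C', g = a * c)
    (α : A ≃* A') (γ : C ≃* C')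
    (h1 : ∀ (a : A) (c : C), (a : E) = (c : E) → ((α a : A') : E') = ((γ c : C') : E'))
    (h2 : ∀ (a : A) (c : C), ((α a : A') : E') = ((γ c : C') : E') → (a : E) = (c : E)) :
    ∃ φ : E ≃* E', (∀ a : A, φ (a : E) = ((α a : A') : E')) ∧
      ∀ c : C, φ (c : E) = ((γ c : C') : E') := by
  set f : A × C →* E := A.subtype.noncommCoprod C.subtype
    (fun a c => hcomm a a.2 c c.2) with hf
  set f' : A × C →* E' := (A'.subtype.comp α.toMonoidHom).noncommCoprod
    (C'.subtype.comp γ.toMonoidHom) (fun a c => hcomm' _ (α a).2 _ (γ c).2) with hf'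
  have hfa : ∀ u : A × C, f u = (u.1 : E) * (u.2 : E) := fun u => rfl
  have hfa' : ∀ u : A × C, f' u = ((α u.1 : A') : E') * ((γ u.2 : C') : E') := fun u => rfl
  have hsurj : Function.Surjective f := by
    intro g
    obtain ⟨a, ha, c, hc, rfl⟩ := hsup g
    exact ⟨(⟨a, ha⟩, ⟨c, hc⟩), rfl⟩
  have hsurj' : Function.Surjective f' := by
    intro g
    obtain ⟨a, ha, c, hc, rfl⟩ := hsup' g
    refine ⟨(α.symm ⟨a, ha⟩, γ.symm ⟨c, hc⟩), ?_⟩
    rw [hfa']
    simp
  have hker : f.ker = f'.ker := by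
    ext u
    rw [MonoidHom.mem_ker, MonoidHom.mem_ker, hfa, hfa']
    constructor
    · intro h
      have h3 : (u.1 : E) = ((u.2⁻¹ : C) : E) := by
        rw [Subgroup.coe_inv]; exact eq_inv_of_mul_eq_one_left h
      have h4 := h1 u.1 u.2⁻¹ h3
      rw [h4, map_inv, Subgroup.coe_inv, inv_mul_cancel]
    · intro h
      have h3 : ((α u.1 : A') : E') = ((γ u.2⁻¹ : C') : E') := by
        rw [map_inv, Subgroup.coe_inv]; exact eq_inv_of_mul_eq_one_left h
      have h4 := h2 u.1 u.2⁻¹ h3
      rw [h4, Subgroup.coe_inv, inv_mul_cancel]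
  set e := QuotientGroup.quotientKerEquivOfSurjective f hsurj with he
  set e' := QuotientGroup.quotientKerEquivOfSurjective f' hsurj' with he'
  set φ : E ≃* E' := e.symm.trans ((QuotientGroup.quotientMulEquivOfEq hker).trans e') with hφ
  have key : ∀ u : A × C, φ (f u) = f' u := by
    intro u
    have h3 : e.symm (f u) = (u : (A × C) ⧸ f.ker) := by
      rw [MulEquiv.symm_apply_eq]
      rfl
    rw [hφ, MulEquiv.trans_apply, h3, MulEquiv.trans_apply]
    rfl
  refine ⟨φ, ?_, ?_⟩
  · intro a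
    have := key (a, 1)
    rw [hfa, hfa'] at this
    simpa using this
  · intro c
    have := key (1, c)
    rw [hfa, hfa'] at this
    simpa using this

/-- Groups whose centre has prime order `p` and contains all commutators
(the extraspecial `p`-groups and the cyclic group of order `p`). -/
structure IsCK (p : ℕ) (E : Type*) [Group E] : Prop where
  comm : ∀ a b : E, a * b * a⁻¹ * b⁻¹ ∈ Subgroup.center E
  card : Nat.card (Subgroup.center E) = p

section Decomp

variable {E : Type*} [Group E] {p : ℕ}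

/-- the centralizer of a pair -/
def pairCentralizer (x y : E) : Subgroup E := Subgroup.centralizer ({x, y} : Set E)

theorem mem_pairCentralizer {x y g : E} :
    g ∈ pairCentralizer x y ↔ g * x = x * g ∧ g * y = y * g := by
  unfold pairCentralizer
  rw [Subgroup.mem_centralizer_iff]
  constructor
  · intro h
    exact ⟨(h x (by simp)).symm, (h y (by simp)).symm⟩
  · rintro ⟨h1, h2⟩ w hw
    rcases hw with rfl | hw
    · exact h1.symm
    · rw [Set.mem_singleton_iff] at hw; subst hw; exact h2.symm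

theorem center_le_pairCentralizer (x y : E) : Subgroup.center E ≤ pairCentralizer x y :=
  Subgroup.center_le_centralizer _

theorem commute_of_mem_closure_of_mem_pairCentralizer {x y a c : E}
    (ha : a ∈ Subgroup.closure ({x, y} : Set E)) (hc : c ∈ pairCentralizer x y) :
    a * c = c * a := by
  have h1 : Subgroup.closure ({x, y} : Set E) ≤ Subgroup.centralizer ({c} : Set E) := by
    rw [Subgroup.closure_le]
    obtain ⟨hx, hy⟩ := mem_pairCentralizer.mp hc
    intro w hw
    rw [SetLike.mem_coe, Subgroup.mem_centralizer_iff]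
    intro d hd
    rw [Set.mem_singleton_iff] at hd
    subst hd
    rcases hw with rfl | hw
    · exact hx
    · rw [Set.mem_singleton_iff] at hw; subst hw; exact hy
  have := h1 ha
  rw [Subgroup.mem_centralizer_iff] at this
  exact (this c rfl).symm

theorem IsCK.center_eq_zpowers (hE : IsCK p E) (hp : p.Prime) {z : E} (hz : z ∈ Subgroup.center E)
    (hz1 : z ≠ 1) : Subgroup.center E = Subgroup.zpowers z := by
  have : Fact p.Prime := ⟨hp⟩
  apply le_antisymm
  · intro w hw
    have h1 : (⟨z, hz⟩ : Subgroup.center E) ≠ 1 := fun h => hz1 (congrArg Subtype.val h)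
    have h2 : (⟨w, hw⟩ : Subgroup.center E) ∈ Subgroup.zpowers (⟨z, hz⟩ : Subgroup.center E) :=
      mem_zpowers_of_prime_card hE.card h1
    obtain ⟨k, hk⟩ := h2
    exact ⟨k, by simpa using congrArg Subtype.val hk⟩
  · rw [Subgroup.zpowers_le]; exact hz

variable [Finite E]

theorem IsCK.orderOf_eq (hE : IsCK p E) (hp : p.Prime) {z : E} (hz : z ∈ Subgroup.center E)
    (hz1 : z ≠ 1) : orderOf z = p := by
  rw [← Nat.card_zpowers, ← hE.center_eq_zpowers hp hz hz1, hE.card]

/-- every element is a product of an element of `⟨x, y⟩` and an element of `C(x, y)` -/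
theorem IsCK.exists_mul (hE : IsCK p E) (hp : p.Prime) {x y : E} (hxy : x * y ≠ y * x) (g : E) :
    ∃ a ∈ Subgroup.closure ({x, y} : Set E), ∃ c ∈ pairCentralizer x y, g = a * c := by
  have hyx : y * x ≠ x * y := fun h => hxy h.symm
  obtain ⟨j, hj⟩ := Cfsg.Agent.Helper63.exists_pow_commute hp hE.comm hE.card x y hyx g
  obtain ⟨i, hi⟩ := Cfsg.Agent.Helper63.exists_pow_commute hp hE.comm hE.card y x hxy (g * y ^ j)
  set c := g * y ^ j * x ^ i with hc
  have hcx : c * x = x * c := by
    have c1 : Commute (g * y ^ j) x := hj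
    have c2 : Commute (x ^ i) x := (Commute.refl x).pow_left i
    exact c1.mul_left c2
  have hcC : c ∈ pairCentralizer x y := mem_pairCentralizer.mpr ⟨hcx, hi⟩
  have hxA : x ∈ Subgroup.closure ({x, y} : Set E) := Subgroup.subset_closure (by simp)
  have hyA : y ∈ Subgroup.closure ({x, y} : Set E) := Subgroup.subset_closure (by simp)
  set a := (y ^ j * x ^ i)⁻¹ with ha
  have haA : a ∈ Subgroup.closure ({x, y} : Set E) :=
    inv_mem (mul_mem (pow_mem hyA j) (pow_mem hxA i))
  refine ⟨a, haA, c, hcC, ?_⟩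
  rw [commute_of_mem_closure_of_mem_pairCentralizer haA hcC, hc, ha]
  group

theorem IsCK.closure_inf_pairCentralizer (hE : IsCK p E) (hp : p.Prime) {x y : E}
    (hxy : x * y ≠ y * x) :
    Subgroup.closure ({x, y} : Set E) ⊓ pairCentralizer x y = Subgroup.center E := by
  apply le_antisymm
  · rintro g ⟨hgA, hgC⟩
    rw [Subgroup.mem_center_iff]
    intro h
    obtain ⟨a, ha, c, hc, rfl⟩ := hE.exists_mul hp hxy h
    have h1 : a * g = g * a := commute_of_mem_closure_of_mem_pairCentralizer ha hgC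
    have h2 : g * c = c * g := commute_of_mem_closure_of_mem_pairCentralizer hgA hc
    rw [mul_assoc, ← h2, ← mul_assoc, h1, mul_assoc]
  · apply le_inf _ (center_le_pairCentralizer x y)
    have hz : x * y * x⁻¹ * y⁻¹ ∈ Subgroup.center E := hE.comm x y
    have hz1 : x * y * x⁻¹ * y⁻¹ ≠ 1 := by
      intro h
      apply hxy
      calc x * y = (x * y * x⁻¹ * y⁻¹) * (y * x) := by group
        _ = y * x := by rw [h, one_mul]
    rw [hE.center_eq_zpowers hp hz hz1, Subgroup.zpowers_le]
    have hxA : x ∈ Subgroup.closure ({x, y} : Set E) := Subgroup.subset_closure (by simp)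
    have hyA : y ∈ Subgroup.closure ({x, y} : Set E) := Subgroup.subset_closure (by simp)
    exact mul_mem (mul_mem (mul_mem hxA hyA) (inv_mem hxA)) (inv_mem hyA)

theorem IsCK.card_pairCentralizer (hE : IsCK p E) (hp : p.Prime) {x y : E} (hxy : x * y ≠ y * x) :
    Nat.card E = Nat.card (pairCentralizer x y) * p * p := by
  have hyx : y * x ≠ x * y := fun h => hxy h.symm
  have h1 := Cfsg.Agent.Helper63.card_eq_card_centralizer_mul hp hE.comm hE.card ⊤ x
    ⟨y, Subgroup.mem_top _, hyx⟩
  have hxWx : x ∈ (⊤ : Subgroup E) ⊓ Subgroup.centralizer {x} := by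
    refine Subgroup.mem_inf.mpr ⟨Subgroup.mem_top _, ?_⟩
    rw [Subgroup.mem_centralizer_iff]
    intro w hw
    rw [Set.mem_singleton_iff] at hw
    rw [hw]
  have h2 := Cfsg.Agent.Helper63.card_eq_card_centralizer_mul hp hE.comm hE.card
    ((⊤ : Subgroup E) ⊓ Subgroup.centralizer {x}) y ⟨x, hxWx, hxy⟩
  have h3 : ((⊤ : Subgroup E) ⊓ Subgroup.centralizer {x}) ⊓ Subgroup.centralizer {y} =
      pairCentralizer x y := by
    ext g
    rw [mem_pairCentralizer, Subgroup.mem_inf, Subgroup.mem_inf, Subgroup.mem_centralizer_iff,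
      Subgroup.mem_centralizer_iff]
    constructor
    · rintro ⟨⟨-, h4⟩, h5⟩
      exact ⟨(h4 x rfl).symm, (h5 y rfl).symm⟩
    · rintro ⟨h4, h5⟩
      refine ⟨⟨Subgroup.mem_top _, ?_⟩, ?_⟩
      · intro w hw; rw [Set.mem_singleton_iff] at hw; rw [hw]; exact h4.symm
      · intro w hw; rw [Set.mem_singleton_iff] at hw; rw [hw]; exact h5.symm
  rw [Subgroup.card_top] at h1
  rw [h1, h2, h3]

/-- the centralizer of a non-commuting pair is again of the same kind -/
theorem IsCK.isCK_pairCentralizer (hE : IsCK p E) (hp : p.Prime) {x y : E} (hxy : x * y ≠ y * x) :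
    IsCK p ↥(pairCentralizer x y) ∧
      ∀ g : ↥(pairCentralizer x y), g ∈ Subgroup.center ↥(pairCentralizer x y) ↔
        (g : E) ∈ Subgroup.center E := by
  have hcen : ∀ g : ↥(pairCentralizer x y), g ∈ Subgroup.center ↥(pairCentralizer x y) ↔
      (g : E) ∈ Subgroup.center E := by
    intro g
    constructor
    · intro hg
      rw [Subgroup.mem_center_iff] at hg ⊢
      intro h
      obtain ⟨a, ha, c, hc, rfl⟩ := hE.exists_mul hp hxy h
      have h1 : a * (g : E) = (g : E) * a := commute_of_mem_closure_of_mem_pairCentralizer ha g.2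
      have h2 : c * (g : E) = (g : E) * c := congrArg Subtype.val (hg ⟨c, hc⟩)
      rw [mul_assoc, h2, ← mul_assoc, h1, mul_assoc]
    · intro hg
      rw [Subgroup.mem_center_iff] at hg ⊢
      intro h
      exact Subtype.ext (hg h)
  refine ⟨⟨?_, ?_⟩, hcen⟩
  · intro a b
    rw [hcen]
    exact hE.comm a b
  · rw [← hE.card]
    apply Nat.card_congr
    exact
      { toFun := fun g => ⟨(g : ↥(pairCentralizer x y)), (hcen _).mp g.2⟩
        invFun := fun z => ⟨⟨z, center_le_pairCentralizer x y z.2⟩, (hcen _).mpr z.2⟩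
        left_inv := fun g => rfl
        right_inv := fun z => rfl }

end Decomp

universe u v

theorem closure_pair_subtype_eq_top {E : Type*} [Group E] (x y : E) :
    Subgroup.closure ({⟨x, Subgroup.subset_closure (by simp)⟩,
      ⟨y, Subgroup.subset_closure (by simp)⟩} : Set ↥(Subgroup.closure ({x, y} : Set E))) = ⊤ := by
  have h := Subgroup.closure_closure_coe_preimage (k := ({x, y} : Set E))
  convert h using 2
  ext w
  simp only [Set.mem_insert_iff, Set.mem_singleton_iff, Set.mem_preimage]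
  constructor
  · rintro (rfl | rfl)
    · left; rfl
    · right; rfl
  · rintro (h | h)
    · left; exact Subtype.ext h
    · right; exact Subtype.ext h

theorem comm_ne_one_iff {E : Type*} [Group E] (x y : E) :
    x * y * x⁻¹ * y⁻¹ ≠ 1 ↔ x * y ≠ y * x := by
  rw [not_iff_not]
  constructor
  · intro h
    calc x * y = (x * y * x⁻¹ * y⁻¹) * (y * x) := by group
      _ = y * x := by rw [h, one_mul]
  · intro h
    rw [h]; group

/-- **Inductive step**: an isomorphism of the centralizers of two matching non-commuting pairs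
extends to an isomorphism of the groups. -/
theorem IsCK.step {E : Type u} {E' : Type v} [Group E] [Group E'] [Finite E] [Finite E'] {p : ℕ}
    (hp : p.Prime) (hE : IsCK p E) (hE' : IsCK p E') (x y : E) (x' y' : E')
    (hz1 : x * y * x⁻¹ * y⁻¹ ≠ 1) (hz1' : x' * y' * x'⁻¹ * y'⁻¹ ≠ 1) (r s : ℤ)
    (hr : x ^ p = (x * y * x⁻¹ * y⁻¹) ^ r) (hs : y ^ p = (x * y * x⁻¹ * y⁻¹) ^ s)
    (hr' : x' ^ p = (x' * y' * x'⁻¹ * y'⁻¹) ^ r) (hs' : y' ^ p = (x' * y' * x'⁻¹ * y'⁻¹) ^ s)
    (γ : ↥(pairCentralizer x y) ≃* ↥(pairCentralizer x' y'))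
    (hγ : ∀ c : ↥(pairCentralizer x y), (c : E) = x * y * x⁻¹ * y⁻¹ →
      ((γ c : ↥(pairCentralizer x' y')) : E') = x' * y' * x'⁻¹ * y'⁻¹) :
    ∃ φ : E ≃* E', φ x = x' ∧ φ y = y' ∧
      ∀ c : ↥(pairCentralizer x y), φ (c : E) = ((γ c : ↥(pairCentralizer x' y')) : E') := by
  have hxy : x * y ≠ y * x := (comm_ne_one_iff x y).mp hz1
  have hxy' : x' * y' ≠ y' * x' := (comm_ne_one_iff x' y').mp hz1'
  set z := x * y * x⁻¹ * y⁻¹ with hz
  set z' := x' * y' * x'⁻¹ * y'⁻¹ with hz'
  have hzc : z ∈ Subgroup.center E := hE.comm x y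
  have hzc' : z' ∈ Subgroup.center E' := hE'.comm x' y'
  set A := Subgroup.closure ({x, y} : Set E) with hA
  set A' := Subgroup.closure ({x', y'} : Set E') with hA'
  have hxA : x ∈ A := Subgroup.subset_closure (by simp)
  have hyA : y ∈ A := Subgroup.subset_closure (by simp)
  have hxA' : x' ∈ A' := Subgroup.subset_closure (by simp)
  have hyA' : y' ∈ A' := Subgroup.subset_closure (by simp)
  set xA : ↥A := ⟨x, hxA⟩ with hxAdef
  set yA : ↥A := ⟨y, hyA⟩ with hyAdef
  set xA' : ↥A' := ⟨x', hxA'⟩ with hxAdef'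
  set yA' : ↥A' := ⟨y', hyA'⟩ with hyAdef'
  have hcA : ((xA * yA * xA⁻¹ * yA⁻¹ : ↥A) : E) = z := rfl
  have hcA' : ((xA' * yA' * xA'⁻¹ * yA'⁻¹ : ↥A') : E') = z' := rfl
  have hcomA : ∀ w : ↥A, Commute (xA * yA * xA⁻¹ * yA⁻¹) w := by
    intro w
    apply Subtype.ext
    show z * (w : E) = (w : E) * z
    exact (Subgroup.mem_center_iff.mp hzc (w : E)).symm
  have hcomA' : ∀ w : ↥A', Commute (xA' * yA' * xA'⁻¹ * yA'⁻¹) w := by
    intro w
    apply Subtype.ext
    show z' * (w : E') = (w : E') * z'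
    exact (Subgroup.mem_center_iff.mp hzc' (w : E')).symm
  have hoA : orderOf (xA * yA * xA⁻¹ * yA⁻¹) = p := by
    rw [← Subgroup.orderOf_coe, hcA]
    exact hE.orderOf_eq hp hzc hz1
  have hoA' : orderOf (xA' * yA' * xA'⁻¹ * yA'⁻¹) = p := by
    rw [← Subgroup.orderOf_coe, hcA']
    exact hE'.orderOf_eq hp hzc' hz1'
  obtain ⟨α, hαx, hαy⟩ := exists_mulEquiv_of_marked xA yA xA' yA' (hcomA _) (hcomA _) (hcomA' _)
    (hcomA' _) (closure_pair_subtype_eq_top x y) (closure_pair_subtype_eq_top x' y') hoA hoA' r s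
    (by apply Subtype.ext; rw [Subgroup.coe_pow, Subgroup.coe_zpow, hcA]; exact hr)
    (by apply Subtype.ext; rw [Subgroup.coe_pow, Subgroup.coe_zpow, hcA]; exact hs)
    (by apply Subtype.ext; rw [Subgroup.coe_pow, Subgroup.coe_zpow, hcA']; exact hr')
    (by apply Subtype.ext; rw [Subgroup.coe_pow, Subgroup.coe_zpow, hcA']; exact hs')
  have hαc : α (xA * yA * xA⁻¹ * yA⁻¹) = xA' * yA' * xA'⁻¹ * yA'⁻¹ := by
    rw [map_mul, map_mul, map_mul, map_inv, map_inv, hαx, hαy]
  -- the central element inside the centralizers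
  have hzC : z ∈ pairCentralizer x y := center_le_pairCentralizer x y hzc
  have hzC' : z' ∈ pairCentralizer x' y' := center_le_pairCentralizer x' y' hzc'
  have hγz : γ ⟨z, hzC⟩ = ⟨z', hzC'⟩ := Subtype.ext (hγ ⟨z, hzC⟩ rfl)
  have hint := hE.closure_inf_pairCentralizer hp hxy
  have hint' := hE'.closure_inf_pairCentralizer hp hxy'
  rw [← hA] at hint
  rw [← hA'] at hint'
  have hcz := hE.center_eq_zpowers hp hzc hz1
  have hcz' := hE'.center_eq_zpowers hp hzc' hz1'
  obtain ⟨φ, hφA, hφC⟩ := exists_mulEquiv_of_centralProduct A (pairCentralizer x y) A'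
    (pairCentralizer x' y')
    (fun a ha c hc => commute_of_mem_closure_of_mem_pairCentralizer ha hc)
    (fun a ha c hc => commute_of_mem_closure_of_mem_pairCentralizer ha hc)
    (hE.exists_mul hp hxy) (hE'.exists_mul hp hxy') α γ
    (by
      intro a c hac
      have hw : (a : E) ∈ A ⊓ pairCentralizer x y := ⟨a.2, hac ▸ c.2⟩
      rw [hint, hcz] at hw
      obtain ⟨k, hk⟩ := hw
      have ha : a = (xA * yA * xA⁻¹ * yA⁻¹) ^ k := by
        apply Subtype.ext
        rw [Subgroup.coe_zpow, hcA]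
        exact hk.symm
      have hc : c = (⟨z, hzC⟩ : ↥(pairCentralizer x y)) ^ k := by
        apply Subtype.ext
        rw [Subgroup.coe_zpow, ← hac]
        exact hk.symm
      rw [ha, hc, map_zpow, map_zpow, hαc, hγz, Subgroup.coe_zpow, Subgroup.coe_zpow, hcA'])
    (by
      intro a c hac
      have hw : ((α a : ↥A') : E') ∈ A' ⊓ pairCentralizer x' y' := ⟨(α a).2, hac ▸ (γ c).2⟩
      rw [hint', hcz'] at hw
      obtain ⟨k, hk⟩ := hw
      have ha : α a = α ((xA * yA * xA⁻¹ * yA⁻¹) ^ k) := by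
        rw [map_zpow, hαc]
        apply Subtype.ext
        rw [Subgroup.coe_zpow, hcA']
        exact hk.symm
      have hc : γ c = γ ((⟨z, hzC⟩ : ↥(pairCentralizer x y)) ^ k) := by
        rw [map_zpow, hγz]
        apply Subtype.ext
        rw [Subgroup.coe_zpow, ← hac]
        exact hk.symm
      rw [α.injective ha, γ.injective hc, Subgroup.coe_zpow, Subgroup.coe_zpow, hcA])
  refine ⟨φ, ?_, ?_, hφC⟩
  · have := hφA xA
    rw [hαx] at this
    exact this
  · have := hφA yA
    rw [hαy] at this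
    exact this

end Cfsg.Agent.Helper2
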