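import Mathlib.GroupTheory.Sylow
import Mathlib.GroupTheory.Nilpotent
import Mathlib.GroupTheory.Frattini
import Mathlib.GroupTheory.SpecificGroups.Cyclic
import Mathlib.Data.Nat.Choose.Dvd

set_option autoImplicit false

namespace Cfsg.Agent.Helper2

open scoped commutatorElement

variable {G : Type*} [Group G]

/-- If `y * x = c * x * y` with `c` central then `y ^ n * x = c ^ n * x * y ^ n`. -/
theorem pow_mul_of_central {x y c : G} (hc : ∀ z : G, c * z = z * c) (hyx : y * x = c * x * y)
    (n : ℕ) : y ^ n * x = c ^ n * x * y ^ n := by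
  induction n with
  | zero => simp
  | succ n ih =>
    have hcn : ∀ z : G, c ^ n * z = z * c ^ n := by
      intro z
      exact ((Commute.pow_left (show Commute c z from hc z) n)).eq
    calc y ^ (n + 1) * x = y ^ n * (y * x) := by rw [pow_succ, mul_assoc]
      _ = y ^ n * (c * x * y) := by rw [hyx]
      _ = c * (y ^ n * x) * y := by
          rw [mul_assoc c x y, ← mul_assoc (y ^ n) c, ← hc (y ^ n)]; group
      _ = c * (c ^ n * x * y ^ n) * y := by rw [ih]
      _ = c ^ (n + 1) * x * y ^ (n + 1) := by rw [pow_succ' c, pow_succ y]; group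

/-- The class-two power formula: if `y * x = c * x * y` with `c` central then
`(x * y) ^ n = x ^ n * y ^ n * c ^ (n.choose 2)`. -/
theorem mul_pow_of_central {x y c : G} (hc : ∀ z : G, c * z = z * c) (hyx : y * x = c * x * y)
    (n : ℕ) : (x * y) ^ n = x ^ n * y ^ n * c ^ (n.choose 2) := by
  induction n with
  | zero => simp
  | succ n ih =>
    have hcn : ∀ (k : ℕ) (z : G), c ^ k * z = z * c ^ k := by
      intro k z
      exact ((Commute.pow_left (show Commute c z from hc z) k)).eq
    have hch : (n + 1).choose 2 = n + n.choose 2 := by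
      rw [Nat.choose_succ_succ' n 1, Nat.choose_one_right]
    calc (x * y) ^ (n + 1) = (x * y) ^ n * (x * y) := pow_succ _ _
      _ = x ^ n * y ^ n * c ^ (n.choose 2) * (x * y) := by rw [ih]
      _ = x ^ n * (y ^ n * x) * y * c ^ (n.choose 2) := by
          rw [mul_assoc (x ^ n * y ^ n), hcn (n.choose 2) (x * y)]; group
      _ = x ^ n * (c ^ n * x * y ^ n) * y * c ^ (n.choose 2) := by
          rw [pow_mul_of_central hc hyx n]
      _ = x ^ n * x * (y ^ n * y) * (c ^ n * c ^ (n.choose 2)) := by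
          rw [mul_assoc (c ^ n) x, hcn n (x * y ^ n)]
          rw [mul_assoc (x ^ n * (x * y ^ n * c ^ n)), ← hcn (n.choose 2) y]
          rw [mul_assoc (x ^ n) (x * y ^ n * c ^ n), mul_assoc (x * y ^ n) (c ^ n)]
          rw [hcn (n.choose 2) y, ← mul_assoc (c ^ n) y, hcn n y]
          simp only [mul_assoc]
      _ = x ^ (n + 1) * y ^ (n + 1) * c ^ ((n + 1).choose 2) := by
          rw [← pow_succ, ← pow_succ, ← pow_add, hch]

/-- In the situation of `pow_mul_of_central`, `⁅y ^ n, x⁆ = c ^ n` where `c = ⁅y, x⁆`. -/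
theorem commutatorElement_pow_left_of_central {x y : G} (hc : ∀ z : G, ⁅y, x⁆ * z = z * ⁅y, x⁆)
    (n : ℕ) : ⁅y ^ n, x⁆ = ⁅y, x⁆ ^ n := by
  have hyx : y * x = ⁅y, x⁆ * x * y := by rw [commutatorElement_def]; group
  have h := pow_mul_of_central hc hyx n
  rw [commutatorElement_def (y ^ n) x, h]
  group

/-- In a group of class at most two, commutators are central. -/
theorem commutatorElement_central_of_class_two (h2 : ⁅commutator G, (⊤ : Subgroup G)⁆ = ⊥)
    (x y z : G) : ⁅y, x⁆ * z = z * ⁅y, x⁆ := by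
  have h1 : ⁅y, x⁆ ∈ commutator G := by
    rw [commutator_def]
    exact Subgroup.commutator_mem_commutator (Subgroup.mem_top y) (Subgroup.mem_top x)
  have h3 : ⁅⁅y, x⁆, z⁆ ∈ ⁅commutator G, (⊤ : Subgroup G)⁆ :=
    Subgroup.commutator_mem_commutator h1 (Subgroup.mem_top z)
  rw [h2, Subgroup.mem_bot] at h3
  exact commutatorElement_eq_one_iff_mul_comm.mp h3

/-- In a group of class at most two and for an odd prime `p`, `(x * y) ^ p = x ^ p * y ^ p`
as soon as `⁅y, x⁆ ^ p = 1`. -/
theorem mul_pow_prime_of_class_two {p : ℕ} (hp : p.Prime) (hp2 : p ≠ 2)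
    (h2 : ⁅commutator G, (⊤ : Subgroup G)⁆ = ⊥) (x y : G) (hcp : ⁅y, x⁆ ^ p = 1) :
    (x * y) ^ p = x ^ p * y ^ p := by
  have hc := commutatorElement_central_of_class_two h2 x y
  have hyx : y * x = ⁅y, x⁆ * x * y := by rw [commutatorElement_def]; group
  rw [mul_pow_of_central hc hyx p]
  have h2lt : 2 < p := lt_of_le_of_ne hp.two_le (Ne.symm hp2)
  obtain ⟨k, hk⟩ := Nat.Prime.dvd_choose_self hp (by norm_num : (2 : ℕ) ≠ 0) h2lt
  rw [hk, pow_mul, hcp, one_pow, mul_one]

/-- In a group of class at most two, `⁅y, x⁆ ^ n = ⁅y ^ n, x⁆`. -/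
theorem commutatorElement_pow_of_class_two (h2 : ⁅commutator G, (⊤ : Subgroup G)⁆ = ⊥)
    (x y : G) (n : ℕ) : ⁅y ^ n, x⁆ = ⁅y, x⁆ ^ n :=
  commutatorElement_pow_left_of_central (commutatorElement_central_of_class_two h2 x y) n

end Cfsg.Agent.Helper2
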