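import Mathlib

set_option autoImplicit false

namespace Cfsg.Agent.Helper2

section Split

variable {E : Type*} [Group E] {V : Type*} [AddCommGroup V] [DistribMulAction E V]

/-- the elements of `U` fixed by `a` -/
def fixedIn (U : AddSubgroup V) (a : E) : AddSubgroup V where
  carrier := {u | u ∈ U ∧ a • u = u}
  zero_mem' := ⟨U.zero_mem, smul_zero a⟩
  add_mem' := fun h1 h2 => ⟨U.add_mem h1.1 h2.1, by rw [smul_add, h1.2, h2.2]⟩
  neg_mem' := fun h => ⟨U.neg_mem h.1, by rw [smul_neg, h.2]⟩

theorem mem_fixedIn {U : AddSubgroup V} {a : E} {u : V} :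
    u ∈ fixedIn U a ↔ u ∈ U ∧ a • u = u := Iff.rfl

theorem fixedIn_le (U : AddSubgroup V) (a : E) : fixedIn U a ≤ U := fun _ h => h.1

/-- the norm operator of the cyclic group generated by `a` (when `a ^ p = 1`) -/
def cycNormHom (a : E) (p : ℕ) : V →+ V where
  toFun u := ∑ k ∈ Finset.range p, a ^ k • u
  map_zero' := by simp
  map_add' := by intro u v; simp [Finset.sum_add_distrib]

theorem cycNormHom_apply (a : E) (p : ℕ) (u : V) :
    cycNormHom a p u = ∑ k ∈ Finset.range p, a ^ k • u := rfl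

theorem smul_cycNormHom {a : E} {p : ℕ} (ha : a ^ p = 1) (u : V) :
    a • cycNormHom a p u = cycNormHom a p u := by
  rw [cycNormHom_apply, Finset.smul_sum]
  have h1 : ∀ k ∈ Finset.range p, a • a ^ k • u = a ^ (k + 1) • u := by
    intro k _
    rw [← mul_smul, ← pow_succ']
  rw [Finset.sum_congr rfl h1]
  have h2 := Finset.sum_range_succ' (fun k => a ^ k • u) p
  have h3 := Finset.sum_range_succ (fun k => a ^ k • u) p
  rw [h3] at h2
  simp only [ha, pow_zero] at h2
  exact (add_right_cancel h2).symm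

theorem cycNormHom_mem {U : AddSubgroup V} (hU : ∀ e : E, ∀ u ∈ U, e • u ∈ U) (a : E) (p : ℕ)
    {u : V} (hu : u ∈ U) : cycNormHom a p u ∈ U := by
  rw [cycNormHom_apply]
  exact U.sum_mem fun k _ => hU _ _ hu

theorem cycNormHom_mem_fixedIn {U : AddSubgroup V} (hU : ∀ e : E, ∀ u ∈ U, e • u ∈ U) {a : E}
    {p : ℕ} (ha : a ^ p = 1) {u : V} (hu : u ∈ U) : cycNormHom a p u ∈ fixedIn U a :=
  ⟨cycNormHom_mem hU a p hu, smul_cycNormHom ha u⟩

/-- a fixed-point-free element has vanishing norm -/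
theorem cycNormHom_eq_zero {U : AddSubgroup V} (hU : ∀ e : E, ∀ u ∈ U, e • u ∈ U) {c : E}
    {p : ℕ} (hc : c ^ p = 1) (hfpf : ∀ u ∈ U, c • u = u → u = 0) {u : V} (hu : u ∈ U) :
    cycNormHom c p u = 0 :=
  hfpf _ (cycNormHom_mem hU c p hu) (smul_cycNormHom hc u)

theorem pow_smul_of_fixed {a : E} {u : V} (h : a • u = u) (k : ℕ) : a ^ k • u = u := by
  induction k with
  | zero => simp
  | succ k ih => rw [pow_succ, mul_smul, h, ih]

theorem cycNormHom_of_fixed {a : E} {u : V} (h : a • u = u) (p : ℕ) : cycNormHom a p u = p • u := by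
  rw [cycNormHom_apply]
  rw [Finset.sum_congr rfl (fun k _ => pow_smul_of_fixed h k)]
  simp

/-- if `a = c * b` with `c` commuting with `b`, and `u` is fixed by `b`, then the norm of `a`
at `u` is the norm of `c` at `u` -/
theorem cycNormHom_of_mul {a b c : E} (hab : a = c * b) (hcb : Commute c b) {u : V}
    (h : b • u = u) (p : ℕ) : cycNormHom a p u = cycNormHom c p u := by
  rw [cycNormHom_apply, cycNormHom_apply]
  refine Finset.sum_congr rfl fun k _ => ?_
  rw [hab, hcb.mul_pow, mul_smul, pow_smul_of_fixed h]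

theorem card_fixedIn_eq_of_conj {U : AddSubgroup V} (hU : ∀ e : E, ∀ u ∈ U, e • u ∈ U)
    {g a b : E} (h : g * a = b * g) : Nat.card (fixedIn U a) = Nat.card (fixedIn U b) := by
  have h' : g⁻¹ * b = a * g⁻¹ := by
    calc g⁻¹ * b = g⁻¹ * (b * g) * g⁻¹ := by group
      _ = g⁻¹ * (g * a) * g⁻¹ := by rw [h]
      _ = a * g⁻¹ := by group
  refine Nat.card_congr
    { toFun := fun u => ⟨g • (u : V), hU _ _ u.2.1, ?_⟩
      invFun := fun u => ⟨g⁻¹ • (u : V), hU _ _ u.2.1, ?_⟩
      left_inv := fun u => by simp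
      right_inv := fun u => by simp }
  · rw [← mul_smul, ← h, mul_smul, u.2.2]
  · rw [← mul_smul, ← h', mul_smul, u.2.2]

theorem pow_mul_eq_of_rel {x y z : E} (hzy : Commute z y) (hyx : y * x = x * z * y) (i : ℕ) :
    y ^ i * x = x * z ^ i * y ^ i := by
  induction i with
  | zero => simp
  | succ i ih =>
    have h1 : Commute z (y ^ i) := hzy.pow_right i
    calc y ^ (i + 1) * x = y * (y ^ i * x) := by rw [pow_succ', mul_assoc]
      _ = y * (x * z ^ i * y ^ i) := by rw [ih]
      _ = (y * x) * z ^ i * y ^ i := by simp only [mul_assoc]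
      _ = x * z * y * z ^ i * y ^ i := by rw [hyx]
      _ = x * z * (y * z ^ i) * y ^ i := by simp only [mul_assoc]
      _ = x * z * (z ^ i * y) * y ^ i := by rw [(hzy.pow_left i).eq]
      _ = x * (z * z ^ i) * (y * y ^ i) := by simp only [mul_assoc]
      _ = x * z ^ (i + 1) * y ^ (i + 1) := by rw [← pow_succ', ← pow_succ']

theorem card_eq_card_fixedIn_pow [Finite V] {U : AddSubgroup V}
    (hU : ∀ e : E, ∀ u ∈ U, e • u ∈ U)
    {p : ℕ} (hp : p.Prime) (hpU : ∀ u ∈ U, p • u = 0 → u = 0)
    {x y z : E} (hzx : Commute z x) (hzy : Commute z y) (hyx : y * x = x * z * y)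
    (hxp : x ^ p = 1) (hzp : z ^ p = 1) (hz1 : z ≠ 1)
    (hfpf : ∀ c ∈ Subgroup.zpowers z, c ≠ 1 → ∀ u ∈ U, c • u = u → u = 0) :
    Nat.card U = Nat.card (fixedIn U x) ^ p := by
  have : Fact p.Prime := ⟨hp⟩
  have hord : orderOf z = p := orderOf_eq_prime hzp hz1
  set a : ℕ → E := fun i => x * z ^ i with ha
  have hxz : ∀ i, Commute x (z ^ i) := fun i => (hzx.symm).pow_right i
  have hap : ∀ i, a i ^ p = 1 := by
    intro i
    rw [ha]
    simp only
    rw [(hxz i).mul_pow, hxp, ← pow_mul, mul_comm, pow_mul, hzp, one_pow, one_mul]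
  have hcard : ∀ i, Nat.card (fixedIn U (a i)) = Nat.card (fixedIn U x) := by
    intro i
    exact (card_fixedIn_eq_of_conj hU (pow_mul_eq_of_rel hzy hyx i)).symm
  -- (d)
  have hd : ∀ i ∈ Finset.range p, ∀ j ∈ Finset.range p, i ≠ j → ∀ u ∈ fixedIn U (a j),
      cycNormHom (a i) p u = 0 := by
    intro i hi j hj hij u hu
    set c : E := z ^ i * (z ^ j)⁻¹ with hc
    have hczj : Commute (z ^ i) (z ^ j) := (Commute.refl z).pow_pow i j
    have hcx : Commute c x := by
      rw [hc]
      exact ((hxz i).symm).mul_left ((hxz j).symm.inv_left)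
    have hcz : Commute c (z ^ j) := by
      rw [hc]
      exact hczj.mul_left ((Commute.refl (z ^ j)).inv_left)
    have hcb : Commute c (a j) := by
      rw [ha]; exact hcx.mul_right hcz
    have hab : a i = c * a j := by
      rw [ha, hc]
      simp only
      calc x * z ^ i = z ^ i * x := (hxz i).eq
        _ = z ^ i * ((z ^ j)⁻¹ * z ^ j) * x := by rw [inv_mul_cancel, mul_one]
        _ = z ^ i * (z ^ j)⁻¹ * (z ^ j * x) := by simp only [mul_assoc]
        _ = z ^ i * (z ^ j)⁻¹ * (x * z ^ j) := by rw [(hxz j).eq]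
    rw [cycNormHom_of_mul hab hcb hu.2 p]
    have hcmem : c ∈ Subgroup.zpowers z := by
      rw [hc]
      exact Subgroup.mul_mem _ (Subgroup.pow_mem _ (Subgroup.mem_zpowers z) i)
        (Subgroup.inv_mem _ (Subgroup.pow_mem _ (Subgroup.mem_zpowers z) j))
    have hc1 : c ≠ 1 := by
      intro h
      rw [hc, mul_inv_eq_one] at h
      have hi' : i ∈ Set.Iio (orderOf z) := by rw [hord]; exact Finset.mem_range.mp hi
      have hj' : j ∈ Set.Iio (orderOf z) := by rw [hord]; exact Finset.mem_range.mp hj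
      exact hij (pow_injOn_Iio_orderOf hi' hj' h)
    have hcp : c ^ p = 1 := by
      rw [hc, (hczj.inv_right).mul_pow, inv_pow, ← pow_mul, ← pow_mul, mul_comm i, mul_comm j,
        pow_mul, pow_mul, hzp, one_pow, one_pow, inv_one, mul_one]
    exact cycNormHom_eq_zero hU hcp (hfpf c hcmem hc1) hu.1
  -- (a)
  have hsum : ∀ u ∈ U, ∑ i ∈ Finset.range p, cycNormHom (a i) p u = p • u := by
    intro u hu
    simp only [cycNormHom_apply]
    rw [Finset.sum_comm]
    have h1 : ∀ k ∈ Finset.range p, ∑ i ∈ Finset.range p, a i ^ k • u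
        = x ^ k • cycNormHom (z ^ k) p u := by
      intro k _
      rw [cycNormHom_apply, Finset.smul_sum]
      refine Finset.sum_congr rfl fun i _ => ?_
      rw [ha]
      simp only
      rw [(hxz i).mul_pow, mul_smul, ← pow_mul, ← pow_mul, mul_comm i k]
    rw [Finset.sum_congr rfl h1]
    have hp0 : 0 ∈ Finset.range p := Finset.mem_range.mpr hp.pos
    rw [Finset.sum_eq_single_of_mem 0 hp0]
    · simp [cycNormHom_apply]
    · intro k hk hk0
      have hzk1 : z ^ k ≠ 1 := by
        intro h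
        have hk' : k ∈ Set.Iio (orderOf z) := by rw [hord]; exact Finset.mem_range.mp hk
        have h0' : 0 ∈ Set.Iio (orderOf z) := by rw [hord]; exact hp.pos
        exact hk0 (pow_injOn_Iio_orderOf hk' h0' (by simpa using h))
      have hzkp : (z ^ k) ^ p = 1 := by rw [← pow_mul, mul_comm, pow_mul, hzp, one_pow]
      rw [cycNormHom_eq_zero hU hzkp
        (hfpf _ (Subgroup.pow_mem _ (Subgroup.mem_zpowers z) k) hzk1) hu, smul_zero]
  -- multiplication by `p` is onto
  have hsurj : ∀ u ∈ U, ∃ u' ∈ U, p • u' = u := by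
    have hinj : Function.Injective (fun u : U => p • u) := by
      intro u v huv
      have h1 : p • ((u : V) - v) = 0 := by
        rw [smul_sub, sub_eq_zero]
        exact congrArg Subtype.val huv
      have h2 := hpU _ (U.sub_mem u.2 v.2) h1
      exact Subtype.ext (sub_eq_zero.mp h2)
    intro u hu
    obtain ⟨u', hu'⟩ := (Finite.injective_iff_surjective.mp hinj) ⟨u, hu⟩
    exact ⟨u', u'.2, congrArg Subtype.val hu'⟩
  -- the sum map
  let Φ : (∀ i : Fin p, fixedIn U (a i)) → U := fun f =>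
    ⟨∑ i : Fin p, (f i : V), U.sum_mem fun i _ => (f i).2.1⟩
  have hΦ : Function.Bijective Φ := by
    constructor
    · intro f g hfg
      have hfg' : ∑ i : Fin p, (f i : V) = ∑ i : Fin p, (g i : V) := congrArg Subtype.val hfg
      funext j
      have key : ∀ h : (∀ i : Fin p, fixedIn U (a i)),
          cycNormHom (a j) p (∑ i : Fin p, (h i : V)) = p • (h j : V) := by
        intro h
        rw [map_sum, Finset.sum_eq_single_of_mem j (Finset.mem_univ j)]
        · exact cycNormHom_of_fixed (h j).2.2 p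
        · intro i _ hij
          exact hd j (Finset.mem_range.mpr j.2) i (Finset.mem_range.mpr i.2)
            (fun h' => hij (Fin.ext h'.symm)) _ (h i).2
      have h1 := key f
      rw [hfg', key g] at h1
      have h2 : p • ((f j : V) - g j) = 0 := by rw [smul_sub, sub_eq_zero]; exact h1.symm
      have h3 := hpU _ (U.sub_mem (f j).2.1 (g j).2.1) h2
      exact Subtype.ext (sub_eq_zero.mp h3)
    · rintro ⟨u, hu⟩
      obtain ⟨u', hu', hpu'⟩ := hsurj u hu
      refine ⟨fun i => ⟨cycNormHom (a i) p u', cycNormHom_mem_fixedIn hU (hap i) hu'⟩, ?_⟩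
      apply Subtype.ext
      show ∑ i : Fin p, cycNormHom (a (i : ℕ)) p u' = u
      rw [Fin.sum_univ_eq_sum_range (fun i => cycNormHom (a i) p u') p, hsum u' hu', hpu']
  rw [Nat.card_congr (Equiv.ofBijective Φ hΦ).symm, Nat.card_pi]
  simp only [hcard, Finset.prod_const, Finset.card_univ, Fintype.card_fin]

end Split

end Cfsg.Agent.Helper2
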