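/-
helper2: exponent bound from the centre: if `Z_c(G) = G` and `Z(G)` has exponent dividing `e`
then `G` has exponent dividing `e^c`.
-/
import Mathlib

set_option autoImplicit false

namespace Cfsg.Agent.Helper2.ExpClass

universe u

/-- if all commutators `⁅x, y⁆` (`y ∈ G`) are central then `⁅x^m, y⁆ = ⁅x, y⁆^m`. -/
theorem commutator_pow_of_central {G : Type*} [Group G] (x y : G)
    (h : x * y * x⁻¹ * y⁻¹ ∈ Subgroup.center G) (m : ℕ) :
    x ^ m * y * (x ^ m)⁻¹ * y⁻¹ = (x * y * x⁻¹ * y⁻¹) ^ m := by
  induction m with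
  | zero => simp
  | succ m ih =>
    have hc := Subgroup.mem_center_iff.mp (Subgroup.pow_mem _ h m) x
    have e1 : x ^ (m + 1) * y * (x ^ (m + 1))⁻¹ * y⁻¹
        = x * (x ^ m * y * (x ^ m)⁻¹ * y⁻¹) * x⁻¹ * (x * y * x⁻¹ * y⁻¹) := by
      rw [pow_succ']
      group
    rw [e1, ih, hc, pow_succ]
    group

/-- **Exponent bound.** -/
theorem pow_eq_one_of_upperCentralSeries (e : ℕ) :
    ∀ (c : ℕ) (G : Type u) [Group G], Subgroup.upperCentralSeries G c = ⊤ →
      (∀ z ∈ Subgroup.center G, z ^ e = 1) → ∀ x : G, x ^ e ^ c = 1 := by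
  intro c
  induction c with
  | zero =>
    intro G _ htop _ x
    have : x ∈ Subgroup.upperCentralSeries G 0 := by rw [htop]; exact Subgroup.mem_top x
    rw [Subgroup.upperCentralSeries_zero, Subgroup.mem_bot] at this
    rw [this, one_pow]
  | succ c ih =>
    intro G _ htop hZ x
    have hQtop : Subgroup.upperCentralSeries (G ⧸ Subgroup.center G) c = ⊤ := by
      have h1 := Subgroup.comap_upperCentralSeries_quotient_center (G := G) c
      rw [Nat.succ_eq_add_one, htop] at h1
      rw [eq_top_iff]
      intro q _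
      obtain ⟨g, rfl⟩ := QuotientGroup.mk'_surjective (Subgroup.center G) q
      have : g ∈ Subgroup.comap (QuotientGroup.mk' (Subgroup.center G))
          (Subgroup.upperCentralSeries (G ⧸ Subgroup.center G) c) := by
        rw [h1]; exact Subgroup.mem_top g
      exact this
    have hQZ : ∀ z ∈ Subgroup.center (G ⧸ Subgroup.center G), z ^ e = 1 := by
      intro q hq
      obtain ⟨g, rfl⟩ := QuotientGroup.mk'_surjective (Subgroup.center G) q
      have hcomm : ∀ y : G, g * y * g⁻¹ * y⁻¹ ∈ Subgroup.center G := by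
        intro y
        have h2 := Subgroup.mem_center_iff.mp hq (QuotientGroup.mk' (Subgroup.center G) y)
        rw [← QuotientGroup.eq_one_iff]
        have h3 : ((g * y * g⁻¹ * y⁻¹ : G) : G ⧸ Subgroup.center G)
            = (QuotientGroup.mk' (Subgroup.center G) g) * (QuotientGroup.mk' (Subgroup.center G) y)
              * (QuotientGroup.mk' (Subgroup.center G) g)⁻¹ * (QuotientGroup.mk' (Subgroup.center G) y)⁻¹ := rfl
        rw [h3, ← h2]
        group
      have hge : g ^ e ∈ Subgroup.center G := by
        rw [Subgroup.mem_center_iff]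
        intro y
        have h4 := commutator_pow_of_central g y (hcomm y) e
        rw [hZ _ (hcomm y)] at h4
        have h5 : g ^ e * y = y * g ^ e := by
          calc g ^ e * y = (g ^ e * y * (g ^ e)⁻¹ * y⁻¹) * y * g ^ e := by group
            _ = y * g ^ e := by rw [h4, one_mul]
        exact h5.symm
      rw [← map_pow]
      exact (QuotientGroup.eq_one_iff _).mpr hge
    have h6 := ih (G ⧸ Subgroup.center G) hQtop hQZ (QuotientGroup.mk' (Subgroup.center G) x)
    rw [← map_pow] at h6
    have h7 : x ^ e ^ c ∈ Subgroup.center G := (QuotientGroup.eq_one_iff _).mp h6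
    rw [pow_succ, pow_mul]
    exact hZ _ h7

end Cfsg.Agent.Helper2.ExpClass
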