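import Cfsg.Agent.Helper2.ExtraspecialOdd

set_option autoImplicit false

namespace Cfsg.Agent.Helper2

universe u v

/-- counting along a transversal -/
theorem card_subtype_eq_sum_of_bijective {E ι : Type*} [Group E] [Finite E] [Fintype ι]
    (C : Subgroup E) (t : ι → E)
    (hbij : Function.Bijective (fun u : ι × C => t u.1 * (u.2 : E))) (P : E → Prop) :
    Nat.card {g : E // P g} = ∑ i, Nat.card {c : C // P (t i * (c : E))} := by
  set Φ : ι × C ≃ E := Equiv.ofBijective _ hbij with hΦ
  have e1 : {g : E // P g} ≃ {u : ι × C // P (t u.1 * (u.2 : E))} :=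
    (Equiv.subtypeEquiv Φ (fun u => Iff.rfl)).symm
  have e2 : {u : ι × C // P (t u.1 * (u.2 : E))} ≃ Σ i, {c : C // P (t i * (c : E))} :=
    Equiv.subtypeProdEquivSigmaSubtype (fun i (c : C) => P (t i * (c : E)))
  rw [Nat.card_congr (e1.trans e2), Nat.card_sigma]

section Two

variable {E : Type*} [Group E]

theorem IsCK.pow_two_eq_one_of_mem_center [Finite E] (hE : IsCK 2 E) {w : E}
    (hw : w ∈ Subgroup.center E) : w ^ 2 = 1 := by
  have h1 : (⟨w, hw⟩ : Subgroup.center E) ^ Nat.card (Subgroup.center E) = 1 := pow_card_eq_one'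
  rw [hE.card] at h1
  exact congrArg Subtype.val h1

theorem IsCK.sq_mem_center [Finite E] (hE : IsCK 2 E) (g : E) : g ^ 2 ∈ Subgroup.center E := by
  rw [Subgroup.mem_center_iff]
  intro h
  have h1 : Cfsg.Agent.Helper63.commHom hE.comm h (g ^ 2) = 1 := by
    rw [map_pow]
    apply Subtype.ext
    rw [Subgroup.coe_pow]
    exact hE.pow_two_eq_one_of_mem_center (Subtype.mem _)
  exact ((Cfsg.Agent.Helper63.commHom_eq_one_iff hE.comm h (g ^ 2)).mp h1).symm

theorem IsCK.eq_one_or_eq [Finite E] (hE : IsCK 2 E) {z w : E} (hz : z ∈ Subgroup.center E)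
    (hz1 : z ≠ 1) (hw : w ∈ Subgroup.center E) : w = 1 ∨ w = z := by
  by_cases hw1 : w = 1
  · exact Or.inl hw1
  · right
    obtain ⟨a, b, hab, huniv⟩ := Nat.card_eq_two_iff.mp hE.card
    have h1 : ∀ u : Subgroup.center E, u = a ∨ u = b := by
      intro u
      have : u ∈ ({a, b} : Set (Subgroup.center E)) := huniv ▸ Set.mem_univ u
      simpa using this
    have key : ∀ u v : Subgroup.center E, u ≠ 1 → v ≠ 1 → u = v := by
      intro u v hu hv
      rcases h1 1 with h | h <;> rcases h1 u with h' | h' <;> rcases h1 v with h'' | h'' <;>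
        simp_all
    have := key ⟨w, hw⟩ ⟨z, hz⟩ (fun h => hw1 (congrArg Subtype.val h))
      (fun h => hz1 (congrArg Subtype.val h))
    exact congrArg Subtype.val this

/-- the number of solutions of `g ^ 2 = 1` -/
noncomputable def sqCount (E : Type*) [Group E] : ℕ := Nat.card {g : E // g ^ 2 = 1}

/-- the four coset representatives `1, y, x, x y` -/
def pairRep (x y : E) (b : Bool × Bool) : E := (if b.1 then x else 1) * (if b.2 then y else 1)

theorem commute_mul_right_iff {T c w : E} (hc : c * w = w * c) :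
    (T * c) * w = w * (T * c) ↔ T * w = w * T := by
  rw [mul_assoc, hc, ← mul_assoc, ← mul_assoc, mul_left_inj]

theorem commute_mul_left_iff {X T w : E} (hX : X * w = w * X) :
    (X * T) * w = w * (X * T) ↔ T * w = w * T := by
  rw [mul_assoc, ← mul_assoc w, ← hX, mul_assoc, mul_right_inj]

theorem pairRep_mul_commute_y {x y : E} (hxy : x * y ≠ y * x) (b : Bool × Bool) {c : E}
    (hcy : c * y = y * c) : (pairRep x y b * c) * y = y * (pairRep x y b * c) ↔ b.1 = false := by
  rw [commute_mul_right_iff hcy]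
  unfold pairRep
  have h2 : (if b.2 then y else 1) * y = y * (if b.2 then y else 1) := by
    split_ifs <;> simp
  rw [commute_mul_right_iff h2]
  cases b.1
  · simp
  · simp [hxy]

theorem pairRep_mul_commute_x {x y : E} (hxy : x * y ≠ y * x) (b : Bool × Bool) {c : E}
    (hcx : c * x = x * c) : (pairRep x y b * c) * x = x * (pairRep x y b * c) ↔ b.2 = false := by
  rw [commute_mul_right_iff hcx]
  unfold pairRep
  have h1 : (if b.1 then x else 1) * x = x * (if b.1 then x else 1) := by
    split_ifs <;> simp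
  rw [commute_mul_left_iff h1]
  cases b.2
  · simp
  · simp only [if_true]
    constructor
    · intro h; exact absurd h.symm hxy
    · intro h; exact absurd h (by simp)

theorem pairRep_bijective [Finite E] (hE : IsCK 2 E) {x y : E} (hxy : x * y ≠ y * x) :
    Function.Bijective
      (fun u : (Bool × Bool) × ↥(pairCentralizer x y) => pairRep x y u.1 * (u.2 : E)) := by
  apply Function.Injective.bijective_of_nat_card_le
  · rintro ⟨b, c⟩ ⟨b', c'⟩ h
    simp only at h
    obtain ⟨hcx, hcy⟩ := mem_pairCentralizer.mp c.2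
    obtain ⟨hcx', hcy'⟩ := mem_pairCentralizer.mp c'.2
    have h1 : b.1 = b'.1 := by
      have e1 := pairRep_mul_commute_y hxy b hcy
      have e2 := pairRep_mul_commute_y hxy b' hcy'
      rw [h] at e1
      have : b.1 = false ↔ b'.1 = false := e1.symm.trans e2
      cases hb : b.1 <;> cases hb' : b'.1 <;> simp_all
    have h2 : b.2 = b'.2 := by
      have e1 := pairRep_mul_commute_x hxy b hcx
      have e2 := pairRep_mul_commute_x hxy b' hcx'
      rw [h] at e1
      have : b.2 = false ↔ b'.2 = false := e1.symm.trans e2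
      cases hb : b.2 <;> cases hb' : b'.2 <;> simp_all
    have hb : b = b' := Prod.ext h1 h2
    subst hb
    have : (c : E) = (c' : E) := mul_left_cancel h
    rw [Subtype.ext this]
  · rw [hE.card_pairCentralizer Nat.prime_two hxy, Nat.card_prod, Nat.card_prod]
    have h2 : Nat.card Bool = 2 := by simp
    rw [h2]
    apply le_of_eq
    ring

/-- number of `c ∈ C` with `w * c ^ 2 = 1` -/
noncomputable def sqCountTw (C : Subgroup E) (w : E) : ℕ :=
  Nat.card {c : C // w * (c : E) ^ 2 = 1}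

theorem sqCount_eq_sum [Finite E] (hE : IsCK 2 E) {x y : E} (hxy : x * y ≠ y * x) :
    sqCount E = sqCountTw (pairCentralizer x y) 1 + sqCountTw (pairCentralizer x y) (y ^ 2) +
      sqCountTw (pairCentralizer x y) (x ^ 2) + sqCountTw (pairCentralizer x y) ((x * y) ^ 2) := by
  have h := card_subtype_eq_sum_of_bijective (pairCentralizer x y) (pairRep x y)
    (pairRep_bijective hE hxy) (fun g => g ^ 2 = 1)
  have hx : x ∈ Subgroup.closure ({x, y} : Set E) := Subgroup.subset_closure (by simp)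
  have hy : y ∈ Subgroup.closure ({x, y} : Set E) := Subgroup.subset_closure (by simp)
  have hterm : ∀ T ∈ Subgroup.closure ({x, y} : Set E),
      Nat.card {c : ↥(pairCentralizer x y) // (T * (c : E)) ^ 2 = 1} =
        sqCountTw (pairCentralizer x y) (T ^ 2) := by
    intro T hT
    unfold sqCountTw
    apply Nat.card_congr
    apply Equiv.subtypeEquivRight
    intro c
    have hc : Commute T (c : E) := commute_of_mem_closure_of_mem_pairCentralizer hT c.2
    rw [hc.mul_pow]
  unfold sqCount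
  rw [h, Fintype.sum_prod_type, Fintype.sum_bool, Fintype.sum_bool, Fintype.sum_bool]
  have e1 : pairRep x y (true, true) = x * y := by simp [pairRep]
  have e2 : pairRep x y (true, false) = x := by simp [pairRep]
  have e3 : pairRep x y (false, true) = y := by simp [pairRep]
  have e4 : pairRep x y (false, false) = 1 := by simp [pairRep]
  rw [e1, e2, e3, e4, hterm _ (mul_mem hx hy), hterm _ hx, hterm _ hy, hterm _ (one_mem _), one_pow]
  ring

theorem sqCountTw_one (C : Subgroup E) : sqCountTw C 1 = sqCount ↥C := by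
  unfold sqCountTw sqCount
  apply Nat.card_congr
  apply Equiv.subtypeEquivRight
  intro c
  rw [one_mul, ← Subgroup.coe_pow, OneMemClass.coe_eq_one]

theorem sqCountTw_z [Finite E] (hE : IsCK 2 E) (C : Subgroup E) {z : E}
    (hz : z ∈ Subgroup.center E) (hz1 : z ≠ 1) :
    sqCountTw C z + sqCount ↥C = Nat.card C := by
  classical
  rw [← sqCountTw_one]
  unfold sqCountTw
  have hz2 : z * z = 1 := by
    have := hE.pow_two_eq_one_of_mem_center hz
    rwa [pow_two] at this
  have key : ∀ c : C, z * (c : E) ^ 2 = 1 ↔ ¬ (1 * (c : E) ^ 2 = 1) := by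
    intro c
    rw [one_mul]
    rcases hE.eq_one_or_eq hz hz1 (hE.sq_mem_center (c : E)) with h | h
    · rw [h, mul_one]
      simp [hz1]
    · rw [h, hz2]
      simp [hz1]
  rw [Nat.card_congr (Equiv.subtypeEquivRight key), add_comm]
  rw [← Nat.card_sum]
  exact Nat.card_congr (Equiv.sumCompl _)

theorem IsCK.mul_sq_eq [Finite E] (hE : IsCK 2 E) (x y : E) :
    (x * y) ^ 2 = (x * y * x⁻¹ * y⁻¹) * x ^ 2 * y ^ 2 := by
  set z := x * y * x⁻¹ * y⁻¹ with hz
  have hzc : z ∈ Subgroup.center E := hE.comm x y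
  have hz2 : z * z = 1 := by
    have := hE.pow_two_eq_one_of_mem_center hzc
    rwa [pow_two] at this
  have hcomm : ∀ g : E, g * z = z * g := Subgroup.mem_center_iff.mp hzc
  have h0 : z * (y * x) = x * y := by rw [hz]; group
  have h1 : y * x = z * (x * y) := by
    calc y * x = z * z * (y * x) := by rw [hz2, one_mul]
      _ = z * (z * (y * x)) := by rw [mul_assoc]
      _ = z * (x * y) := by rw [h0]
  calc (x * y) ^ 2 = x * (y * x) * y := by rw [pow_two]; group
    _ = x * (z * (x * y)) * y := by rw [h1]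
    _ = (x * z) * (x * y) * y := by group
    _ = (z * x) * (x * y) * y := by rw [hcomm x]
    _ = z * x ^ 2 * y ^ 2 := by rw [pow_two, pow_two]; group

/-- dihedral-type pair -/
theorem IsCK.sqCount_of_D [Finite E] (hE : IsCK 2 E) {x y : E}
    (hne : x * y * x⁻¹ * y⁻¹ ≠ 1) (hx : x ^ 2 = 1) (hy : y ^ 2 = 1) :
    sqCount E = 2 * sqCount ↥(pairCentralizer x y) + Nat.card ↥(pairCentralizer x y) := by
  have hxy := (comm_ne_one_iff x y).mp hne
  have hzc : x * y * x⁻¹ * y⁻¹ ∈ Subgroup.center E := hE.comm x y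
  have h1 := sqCount_eq_sum hE hxy
  rw [hE.mul_sq_eq x y, hx, hy, mul_one, mul_one, sqCountTw_one] at h1
  have h2 := sqCountTw_z hE (pairCentralizer x y) hzc hne
  omega

/-- quaternion-type pair -/
theorem IsCK.sqCount_of_Q [Finite E] (hE : IsCK 2 E) {x y : E}
    (hne : x * y * x⁻¹ * y⁻¹ ≠ 1) (hx : x ^ 2 = x * y * x⁻¹ * y⁻¹)
    (hy : y ^ 2 = x * y * x⁻¹ * y⁻¹) :
    sqCount E + 2 * sqCount ↥(pairCentralizer x y) = 3 * Nat.card ↥(pairCentralizer x y) := by
  have hxy := (comm_ne_one_iff x y).mp hne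
  have hzc : x * y * x⁻¹ * y⁻¹ ∈ Subgroup.center E := hE.comm x y
  have hz2 : (x * y * x⁻¹ * y⁻¹) * (x * y * x⁻¹ * y⁻¹) = 1 := by
    have := hE.pow_two_eq_one_of_mem_center hzc
    rwa [pow_two] at this
  have h1 := sqCount_eq_sum hE hxy
  rw [hE.mul_sq_eq x y, hx, hy, hz2, one_mul, sqCountTw_one] at h1
  have h2 := sqCountTw_z hE (pairCentralizer x y) hzc hne
  omega

theorem sqCount_eq_card_of_card_two [Finite E] (h : Nat.card E = 2) : sqCount E = 2 := by
  unfold sqCount
  have hsq : ∀ g : E, g ^ 2 = 1 := by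
    intro g
    have : g ^ Nat.card E = 1 := pow_card_eq_one'
    rwa [h] at this
  refine Eq.trans ?_ h
  apply Nat.card_congr
  exact
    { toFun := fun g => g.1
      invFun := fun g => ⟨g, hsq g⟩
      left_inv := fun g => rfl
      right_inv := fun g => rfl }

theorem mul_comm_of_forall_sq_eq_one' {G : Type*} [Group G] (h : ∀ x : G, x ^ 2 = 1) (x y : G) :
    x * y = y * x := by
  have h' : ∀ x : G, x * x = 1 := fun x => by rw [← pow_two]; exact h x
  have hx : x⁻¹ = x := inv_eq_of_mul_eq_one_right (h' x)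
  have hy : y⁻¹ = y := inv_eq_of_mul_eq_one_right (h' y)
  have hxy : (x * y)⁻¹ = x * y := inv_eq_of_mul_eq_one_right (h' (x * y))
  calc x * y = (x * y)⁻¹ := hxy.symm
    _ = y⁻¹ * x⁻¹ := mul_inv_rev x y
    _ = y * x := by rw [hx, hy]

/-- a non-commutative group of our kind has a dihedral-type pair, or is a quaternion group -/
theorem IsCK.exists_pair [Finite E] (hE : IsCK 2 E) (hab : ¬ ∀ x y : E, x * y = y * x) :
    (∃ x y : E, x * y * x⁻¹ * y⁻¹ ≠ 1 ∧ x ^ 2 = 1 ∧ y ^ 2 = 1) ∨
    (∃ x y : E, x * y * x⁻¹ * y⁻¹ ≠ 1 ∧ x ^ 2 = x * y * x⁻¹ * y⁻¹ ∧ y ^ 2 = x * y * x⁻¹ * y⁻¹ ∧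
      Nat.card ↥(pairCentralizer x y) = 2) := by
  push Not at hab
  obtain ⟨x, y, hxy⟩ := hab
  set z := x * y * x⁻¹ * y⁻¹ with hz
  have hne : z ≠ 1 := (comm_ne_one_iff x y).mpr hxy
  have hzc : z ∈ Subgroup.center E := hE.comm x y
  have hz2 : z * z = 1 := by
    have := hE.pow_two_eq_one_of_mem_center hzc
    rwa [pow_two] at this
  have hcomm : ∀ g : E, g * z = z * g := Subgroup.mem_center_iff.mp hzc
  rcases hE.eq_one_or_eq hzc hne (hE.sq_mem_center x) with hx | hx <;>
    rcases hE.eq_one_or_eq hzc hne (hE.sq_mem_center y) with hy | hy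
  · exact Or.inl ⟨x, y, hne, hx, hy⟩
  · -- `(x, x y)`
    left
    refine ⟨x, x * y, ?_, hx, ?_⟩
    · have : x * (x * y) * x⁻¹ * (x * y)⁻¹ = x * z * x⁻¹ := by rw [hz]; group
      rw [this, hcomm x, mul_inv_cancel_right]
      exact hne
    · rw [hE.mul_sq_eq x y, ← hz, hx, hy, mul_one, hz2]
  · -- `(x y, y)`
    left
    refine ⟨x * y, y, ?_, ?_, hy⟩
    · have : x * y * y * (x * y)⁻¹ * y⁻¹ = z := by rw [hz]; group
      rw [this]
      exact hne
    · rw [hE.mul_sq_eq x y, ← hz, hx, hy, mul_one, hz2]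
  · by_cases hC : Nat.card ↥(pairCentralizer x y) = 2
    · exact Or.inr ⟨x, y, hne, hx, hy, hC⟩
    · -- the centralizer is not commutative, so has an element of order four
      left
      obtain ⟨hCK, hCcen⟩ := hE.isCK_pairCentralizer Nat.prime_two hxy
      have hnab : ¬ ∀ a b : ↥(pairCentralizer x y), a * b = b * a := by
        intro h
        exact hC (hCK.card_eq_of_comm h)
      have hex : ∃ u : ↥(pairCentralizer x y), u ^ 2 ≠ 1 := by
        by_contra hcon
        push Not at hcon
        exact hnab (mul_comm_of_forall_sq_eq_one' hcon)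
      obtain ⟨u, hu⟩ := hex
      have hu2 : (u : E) ^ 2 = z := by
        rcases hE.eq_one_or_eq hzc hne (hE.sq_mem_center (u : E)) with h | h
        · exfalso
          apply hu
          apply Subtype.ext
          rw [Subgroup.coe_pow, h]; rfl
        · exact h
      obtain ⟨hux, huy⟩ := mem_pairCentralizer.mp u.2
      have cux : Commute (u : E) x := hux
      have cuy : Commute (u : E) y := huy
      refine ⟨x * u, y * u, ?_, ?_, ?_⟩
      · have : x * ↑u * (y * ↑u) * (x * ↑u)⁻¹ * (y * ↑u)⁻¹ = z := by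
          have e1 : x * ↑u * (y * ↑u) = x * y * (↑u * ↑u) := by
            rw [mul_assoc x, ← mul_assoc (u : E) y, cuy.eq, mul_assoc y, ← mul_assoc x]
          have e2 : (x * ↑u)⁻¹ = x⁻¹ * (↑u)⁻¹ := by
            rw [mul_inv_rev, (cux.inv_left.inv_right).eq]
          have e3 : (y * ↑u)⁻¹ = y⁻¹ * (↑u)⁻¹ := by
            rw [mul_inv_rev, (cuy.inv_left.inv_right).eq]
          rw [e1, e2, e3, hz]
          have c1 : Commute (↑u * ↑u : E) x⁻¹ := (cux.mul_left cux).inv_right
          have c2 : Commute ((↑u : E)⁻¹) y⁻¹ := cuy.inv_left.inv_right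
          calc x * y * (↑u * ↑u) * (x⁻¹ * (↑u : E)⁻¹) * (y⁻¹ * (↑u : E)⁻¹)
              = x * y * ((↑u * ↑u) * x⁻¹) * ((↑u : E)⁻¹ * y⁻¹) * (↑u : E)⁻¹ := by group
            _ = x * y * (x⁻¹ * (↑u * ↑u)) * (y⁻¹ * (↑u : E)⁻¹) * (↑u : E)⁻¹ := by
                rw [c1.eq, c2.eq]
            _ = x * y * x⁻¹ * ((↑u * ↑u) * y⁻¹) * (↑u : E)⁻¹ * (↑u : E)⁻¹ := by group
            _ = x * y * x⁻¹ * (y⁻¹ * (↑u * ↑u)) * (↑u : E)⁻¹ * (↑u : E)⁻¹ := by
                rw [((cuy.mul_left cuy).inv_right).eq]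
            _ = x * y * x⁻¹ * y⁻¹ := by group
        rw [this]
        exact hne
      · rw [cux.symm.mul_pow, hx, hu2, hz2]
      · rw [cuy.symm.mul_pow, hy, hu2, hz2]

end Two

end Cfsg.Agent.Helper2
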