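import Cfsg.Agent.Helper2.Extraspecial2

set_option autoImplicit false

namespace Cfsg.Agent.Helper2

universe u v

/-- an isomorphism matches the nontrivial central elements -/
theorem IsCK.mulEquiv_apply_center {G : Type u} {G' : Type v} [Group G] [Group G'] [Finite G]
    [Finite G'] (_hG : IsCK 2 G) (hG' : IsCK 2 G') (γ : G ≃* G') {z : G} {z' : G'}
    (hz : z ∈ Subgroup.center G) (hz1 : z ≠ 1) (hz' : z' ∈ Subgroup.center G') (hz1' : z' ≠ 1) :
    γ z = z' := by
  have h1 : γ z ∈ Subgroup.center G' := by
    rw [Subgroup.mem_center_iff] at hz ⊢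
    intro g
    obtain ⟨g₀, rfl⟩ := γ.surjective g
    rw [← map_mul, ← map_mul, hz g₀]
  rcases hG'.eq_one_or_eq hz' hz1' h1 with h | h
  · exfalso
    apply hz1
    apply γ.injective
    rw [h, map_one]
  · exact h

/-- **Classification of the groups of our kind for `p = 2`** by the order and the number of
solutions of `g ^ 2 = 1`. -/
theorem exists_mulEquiv_of_sqCount :
    ∀ (n : ℕ) (E : Type u) (E' : Type v) [Group E] [Group E'] [Finite E] [Finite E'],
      IsCK 2 E → IsCK 2 E' → Nat.card E = n → Nat.card E' = n → sqCount E = sqCount E' →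
      Nonempty (E ≃* E') := by
  intro n
  induction n using Nat.strong_induction_on with
  | _ n ih =>
    intro E E' _ _ _ _ hE hE' hn hn' hsq
    have hp2 := Nat.prime_two
    obtain ⟨z, hz, hz1⟩ : ∃ z ∈ Subgroup.center E, z ≠ 1 := by
      have h1 : Subgroup.center E ≠ ⊥ := by
        intro hbot
        have := hE.card
        rw [hbot, Subgroup.card_bot] at this
        omega
      rw [Subgroup.ne_bot_iff_exists_ne_one] at h1
      obtain ⟨⟨z, hz⟩, hz1⟩ := h1
      exact ⟨z, hz, fun h => hz1 (Subtype.ext h)⟩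
    obtain ⟨z', hz', hz1'⟩ : ∃ z ∈ Subgroup.center E', z ≠ 1 := by
      have h1 : Subgroup.center E' ≠ ⊥ := by
        intro hbot
        have := hE'.card
        rw [hbot, Subgroup.card_bot] at this
        omega
      rw [Subgroup.ne_bot_iff_exists_ne_one] at h1
      obtain ⟨⟨z, hz⟩, hz1⟩ := h1
      exact ⟨z, hz, fun h => hz1 (Subtype.ext h)⟩
    by_cases hab : ∀ x y : E, x * y = y * x
    · have hcard : Nat.card E = 2 := hE.card_eq_of_comm hab
      have hcard' : Nat.card E' = 2 := by rw [hn', ← hn, hcard]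
      have ho : orderOf z = orderOf z' := by
        rw [hE.orderOf_eq hp2 hz hz1, hE'.orderOf_eq hp2 hz' hz1']
      exact ⟨mulEquivOfOrderOfEq (hE.forall_mem_zpowers hp2 hcard hz1)
        (hE'.forall_mem_zpowers hp2 hcard' hz1') ho⟩
    · have hab' : ¬ ∀ x y : E', x * y = y * x := by
        intro h
        have h1 := hE'.card_eq_of_comm h
        have h2 : Nat.card E = 2 := by rw [hn, ← hn', h1]
        exact hab (hE.comm_of_card_eq h2)
      -- common final step
      have final : ∀ (x y : E) (x' y' : E') (r : ℤ), x * y * x⁻¹ * y⁻¹ ≠ 1 →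
          x' * y' * x'⁻¹ * y'⁻¹ ≠ 1 → x ^ 2 = (x * y * x⁻¹ * y⁻¹) ^ r →
          y ^ 2 = (x * y * x⁻¹ * y⁻¹) ^ r → x' ^ 2 = (x' * y' * x'⁻¹ * y'⁻¹) ^ r →
          y' ^ 2 = (x' * y' * x'⁻¹ * y'⁻¹) ^ r →
          sqCount ↥(pairCentralizer x y) = sqCount ↥(pairCentralizer x' y') →
          Nonempty (E ≃* E') := by
        intro x y x' y' r hne hne' hx hy hx' hy' hsqC
        have hxyn : x * y ≠ y * x := (comm_ne_one_iff x y).mp hne
        have hxyn' : x' * y' ≠ y' * x' := (comm_ne_one_iff x' y').mp hne'
        obtain ⟨hC, hCcen⟩ := hE.isCK_pairCentralizer hp2 hxyn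
        obtain ⟨hC', hCcen'⟩ := hE'.isCK_pairCentralizer hp2 hxyn'
        have hcardC := hE.card_pairCentralizer hp2 hxyn
        have hcardC' := hE'.card_pairCentralizer hp2 hxyn'
        have hcardeq : Nat.card ↥(pairCentralizer x y) = Nat.card ↥(pairCentralizer x' y') := by
          omega
        have hlt : Nat.card ↥(pairCentralizer x y) < n := by
          have hpos : 0 < Nat.card ↥(pairCentralizer x y) := Nat.card_pos
          omega
        obtain ⟨γ⟩ := ih _ hlt ↥(pairCentralizer x y) ↥(pairCentralizer x' y') hC hC' rfl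
          hcardeq.symm hsqC
        have hzc : x * y * x⁻¹ * y⁻¹ ∈ Subgroup.center E := hE.comm x y
        have hzc' : x' * y' * x'⁻¹ * y'⁻¹ ∈ Subgroup.center E' := hE'.comm x' y'
        have hzC : x * y * x⁻¹ * y⁻¹ ∈ pairCentralizer x y := center_le_pairCentralizer x y hzc
        have hzC' : x' * y' * x'⁻¹ * y'⁻¹ ∈ pairCentralizer x' y' :=
          center_le_pairCentralizer x' y' hzc'
        have hγ := hC.mulEquiv_apply_center hC' γ
          (z := ⟨x * y * x⁻¹ * y⁻¹, hzC⟩) (z' := ⟨x' * y' * x'⁻¹ * y'⁻¹, hzC'⟩)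
          ((hCcen _).mpr hzc) (fun h => hne (congrArg Subtype.val h))
          ((hCcen' _).mpr hzc') (fun h => hne' (congrArg Subtype.val h))
        obtain ⟨φ, -⟩ := hE.step hp2 hE' x y x' y' hne hne' r r hx hy hx' hy' γ
          (by
            intro c hc
            have : c = ⟨x * y * x⁻¹ * y⁻¹, hzC⟩ := Subtype.ext hc
            rw [this, hγ])
        exact ⟨φ⟩
      rcases hE.exists_pair hab with ⟨x, y, hne, hx, hy⟩ | ⟨x, y, hne, hx, hy, hC2⟩ <;>
        rcases hE'.exists_pair hab' with ⟨x', y', hne', hx', hy'⟩ | ⟨x', y', hne', hx', hy', hC2'⟩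
      · -- both dihedral type
        have h1 := hE.sqCount_of_D hne hx hy
        have h2 := hE'.sqCount_of_D hne' hx' hy'
        have hcardC := hE.card_pairCentralizer hp2 ((comm_ne_one_iff x y).mp hne)
        have hcardC' := hE'.card_pairCentralizer hp2 ((comm_ne_one_iff x' y').mp hne')
        exact final x y x' y' 0 hne hne' (by rw [hx, zpow_zero]) (by rw [hy, zpow_zero])
          (by rw [hx', zpow_zero]) (by rw [hy', zpow_zero]) (by omega)
      · -- impossible: 6 ≠ 2
        exfalso
        have h1 := hE.sqCount_of_D hne hx hy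
        have h2 := hE'.sqCount_of_Q hne' hx' hy'
        have hcardC := hE.card_pairCentralizer hp2 ((comm_ne_one_iff x y).mp hne)
        have hcardC' := hE'.card_pairCentralizer hp2 ((comm_ne_one_iff x' y').mp hne')
        have h3 := sqCount_eq_card_of_card_two hC2'
        have h4 : Nat.card ↥(pairCentralizer x y) = 2 := by omega
        have h5 := sqCount_eq_card_of_card_two h4
        omega
      · exfalso
        have h1 := hE.sqCount_of_Q hne hx hy
        have h2 := hE'.sqCount_of_D hne' hx' hy'
        have hcardC := hE.card_pairCentralizer hp2 ((comm_ne_one_iff x y).mp hne)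
        have hcardC' := hE'.card_pairCentralizer hp2 ((comm_ne_one_iff x' y').mp hne')
        have h3 := sqCount_eq_card_of_card_two hC2
        have h4 : Nat.card ↥(pairCentralizer x' y') = 2 := by omega
        have h5 := sqCount_eq_card_of_card_two h4
        omega
      · -- both quaternion
        have h3 := sqCount_eq_card_of_card_two hC2
        have h3' := sqCount_eq_card_of_card_two hC2'
        exact final x y x' y' 1 hne hne' (by rw [zpow_one]; exact hx) (by rw [zpow_one]; exact hy)
          (by rw [zpow_one]; exact hx') (by rw [zpow_one]; exact hy') (by omega)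

theorem two_pow_le_two_pow_two_mul (m : ℕ) : 2 ^ m ≤ 2 ^ (2 * m) :=
  Nat.pow_le_pow_right (by norm_num) (by omega)

/-- order and number of involutions (plus one) of the groups of our kind -/
theorem IsCK.card_and_sqCount :
    ∀ (n : ℕ) (E : Type u) [Group E] [Finite E], IsCK 2 E → Nat.card E = n →
      ∃ m : ℕ, n = 2 ^ (2 * m + 1) ∧
        (sqCount E = 2 ^ (2 * m) + 2 ^ m ∨ sqCount E = 2 ^ (2 * m) - 2 ^ m) := by
  intro n
  induction n using Nat.strong_induction_on with
  | _ n ih =>
    intro E _ _ hE hn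
    have hp2 := Nat.prime_two
    by_cases hab : ∀ x y : E, x * y = y * x
    · have hcard : Nat.card E = 2 := hE.card_eq_of_comm hab
      refine ⟨0, by rw [← hn, hcard]; norm_num, Or.inl ?_⟩
      rw [sqCount_eq_card_of_card_two hcard]
      norm_num
    · rcases hE.exists_pair hab with ⟨x, y, hne, hx, hy⟩ | ⟨x, y, hne, hx, hy, hC2⟩
      · have hxyn : x * y ≠ y * x := (comm_ne_one_iff x y).mp hne
        obtain ⟨hC, -⟩ := hE.isCK_pairCentralizer hp2 hxyn
        have hcardC := hE.card_pairCentralizer hp2 hxyn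
        have hlt : Nat.card ↥(pairCentralizer x y) < n := by
          have hpos : 0 < Nat.card ↥(pairCentralizer x y) := Nat.card_pos
          omega
        obtain ⟨m, hm, hsq⟩ := ih _ hlt ↥(pairCentralizer x y) hC rfl
        have h1 := hE.sqCount_of_D hne hx hy
        have hle := two_pow_le_two_pow_two_mul m
        have e1 : 2 ^ (2 * (m + 1) + 1) = 2 ^ (2 * m + 1) * 2 * 2 := by ring
        have e2 : 2 ^ (2 * (m + 1)) = 2 ^ (2 * m) * 4 := by ring
        have e3 : 2 ^ (m + 1) = 2 ^ m * 2 := by ring
        have e4 : 2 ^ (2 * m + 1) = 2 ^ (2 * m) * 2 := by ring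
        refine ⟨m + 1, by rw [e1, ← hm, ← hn, hcardC], ?_⟩
        rw [e2, e3]
        rcases hsq with hsq | hsq
        · left
          rw [h1, hsq, hm, e4]; ring
        · right
          rw [h1, hsq, hm, e4]
          omega
      · have hxyn : x * y ≠ y * x := (comm_ne_one_iff x y).mp hne
        have hcardC := hE.card_pairCentralizer hp2 hxyn
        have h1 := hE.sqCount_of_Q hne hx hy
        have h3 := sqCount_eq_card_of_card_two hC2
        refine ⟨1, by rw [← hn, hcardC, hC2]; norm_num, Or.inr ?_⟩
        norm_num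
        omega

end Cfsg.Agent.Helper2
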