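import Cfsg.Agent.Helper2.Extraspecial2Iso
import Cfsg.Agent.Helper25.ProdSup
import Cfsg.Prelude.Def_CaseTheorems

set_option autoImplicit false

namespace Cfsg.Agent.Helper2

universe u v

section Rank

variable {E : Type*} [Group E]

/-- transfer of the rank bound from a subgroup (as a type) to subgroups of the ambient group -/
theorem card_le_of_pRankLE_subgroup {C : Subgroup E} {k : ℕ} (hC : Cfsg.PRankLE 2 k ↥C)
    (A : Subgroup E) (hAC : A ≤ C) (hcomm : ∀ a ∈ A, ∀ b ∈ A, a * b = b * a)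
    (hexp : ∀ a ∈ A, a ^ 2 = 1) : Nat.card A ≤ 2 ^ k := by
  have h1 := hC (A.subgroupOf C)
    ⟨⟨fun a b => Subtype.ext (Subtype.ext (hcomm _ a.2 _ b.2))⟩⟩
    (fun a ha => Subtype.ext (by rw [Subgroup.coe_pow]; exact hexp _ ha))
  rwa [Nat.card_congr (Subgroup.subgroupOfEquivOfLe hAC).toEquiv] at h1

/-- adjoining a commuting involution doubles an elementary abelian subgroup -/
theorem exists_elemAb_sup_zpowers (A : Subgroup E) (c : E) (hcomm : ∀ a ∈ A, ∀ b ∈ A, a * b = b * a)
    (hexp : ∀ a ∈ A, a ^ 2 = 1) (hc2 : c ^ 2 = 1) (hcA : c ∉ A) (hcc : ∀ a ∈ A, c * a = a * c) :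
    (∀ a ∈ A ⊔ Subgroup.zpowers c, ∀ b ∈ A ⊔ Subgroup.zpowers c, a * b = b * a) ∧
    (∀ a ∈ A ⊔ Subgroup.zpowers c, a ^ 2 = 1) ∧
    Nat.card ↥(A ⊔ Subgroup.zpowers c) = Nat.card A * 2 := by
  have hc1 : c ≠ 1 := fun h => hcA (h ▸ A.one_mem)
  have hzp : ∀ w ∈ Subgroup.zpowers c, w = 1 ∨ w = c := by
    intro w hw
    obtain ⟨k, rfl⟩ := Subgroup.mem_zpowers_iff.mp hw
    rcases Int.emod_two_eq_zero_or_one k with h | h
    · left
      have : k = 2 * (k / 2) := by omega
      rw [this, zpow_mul, zpow_ofNat, hc2, one_zpow]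
    · right
      have : k = 2 * (k / 2) + 1 := by omega
      rw [this, zpow_add, zpow_mul, zpow_ofNat, hc2, one_zpow, one_mul, zpow_one]
  have hdisj : A ⊓ Subgroup.zpowers c = ⊥ := by
    rw [eq_bot_iff]
    rintro w ⟨hwA, hwc⟩
    rcases hzp w hwc with h | h
    · exact h
    · exact absurd (h ▸ hwA) hcA
  have hcomm2 : ∀ a ∈ A, ∀ b ∈ Subgroup.zpowers c, a * b = b * a := by
    intro a ha b hb
    rcases hzp b hb with h | h
    · rw [h, mul_one, one_mul]
    · rw [h]; exact (hcc a ha).symm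
  have hmem : ∀ w ∈ A ⊔ Subgroup.zpowers c, ∃ a ∈ A, w = a ∨ w = a * c := by
    intro w hw
    obtain ⟨a, b, hab⟩ := Cfsg.Agent.Helper25.exists_mul_of_mem_sup hdisj hcomm2 ⟨w, hw⟩
    refine ⟨a, a.2, ?_⟩
    rcases hzp b b.2 with h | h
    · left; rw [show w = (a : E) * (b : E) from hab, h, mul_one]
    · right; rw [show w = (a : E) * (b : E) from hab, h]
  refine ⟨?_, ?_, ?_⟩
  · intro u hu v hv
    obtain ⟨a, ha, hu'⟩ := hmem u hu
    obtain ⟨b, hb, hv'⟩ := hmem v hv
    have cab : Commute a b := hcomm a ha b hb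
    have cca : Commute c a := hcc a ha
    have ccb : Commute c b := hcc b hb
    rcases hu' with hu' | hu' <;> rcases hv' with hv' | hv' <;> rw [hu', hv']
    · exact cab
    · exact (cab.mul_right cca.symm)
    · exact (cab.mul_left ccb)
    · exact ((cab.mul_left ccb).mul_right (cca.symm.mul_left (Commute.refl c)))
  · intro u hu
    obtain ⟨a, ha, hu'⟩ := hmem u hu
    rcases hu' with hu' | hu' <;> rw [hu']
    · exact hexp a ha
    · have cca : Commute a c := (hcc a ha).symm
      rw [cca.mul_pow, hexp a ha, hc2, one_mul]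
  · rw [Cfsg.Agent.Helper25.card_sup_eq_mul hdisj hcomm2, Nat.card_zpowers]
    have : orderOf c = 2 := orderOf_eq_prime hc2 hc1
    rw [this]

/-- the rank grows by at most one along a dihedral-type pair -/
theorem IsCK.pRankLE_succ [Finite E] (hE : IsCK 2 E) {x y : E} (hne : x * y * x⁻¹ * y⁻¹ ≠ 1)
    (hx : x ^ 2 = 1) {k : ℕ} (hC : Cfsg.PRankLE 2 k ↥(pairCentralizer x y)) :
    Cfsg.PRankLE 2 (k + 1) E := by
  intro B hBc hBe
  have hxy : x * y ≠ y * x := (comm_ne_one_iff x y).mp hne
  have hBcomm : ∀ a ∈ B, ∀ b ∈ B, a * b = b * a := by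
    intro a ha b hb
    exact congrArg Subtype.val (hBc.is_comm.comm ⟨a, ha⟩ ⟨b, hb⟩)
  set f : E →* Subgroup.center E × Subgroup.center E :=
    (Cfsg.Agent.Helper63.commHom hE.comm y).prod (Cfsg.Agent.Helper63.commHom hE.comm x) with hf
  have hfker : ∀ g : E, f g = 1 ↔ g ∈ pairCentralizer x y := by
    intro g
    rw [hf, MonoidHom.prod_apply, Prod.mk_eq_one, Cfsg.Agent.Helper63.commHom_eq_one_iff,
      Cfsg.Agent.Helper63.commHom_eq_one_iff, mem_pairCentralizer, and_comm]
  set fB : ↥B →* Subgroup.center E × Subgroup.center E := f.comp B.subtype with hfB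
  set K : Subgroup E := fB.ker.map B.subtype with hK
  have hKcard : Nat.card K = Nat.card fB.ker :=
    Subgroup.card_map_of_injective B.subtype_injective
  have hKB : K ≤ B := by
    rintro _ ⟨b, -, rfl⟩
    exact b.2
  have hKC : K ≤ pairCentralizer x y := by
    rintro _ ⟨b, hb, rfl⟩
    rw [← hfker]
    exact hb
  have hKle : Nat.card K ≤ 2 ^ k :=
    card_le_of_pRankLE_subgroup hC K hKC (fun a ha b hb => hBcomm a (hKB ha) b (hKB hb))
      (fun a ha => hBe a (hKB ha))
  have hcardB : Nat.card B = Nat.card fB.ker * Nat.card fB.range := by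
    rw [← Subgroup.index_ker, Subgroup.card_mul_index]
  have hZZ : Nat.card (Subgroup.center E × Subgroup.center E) = 4 := by
    rw [Nat.card_prod, hE.card]
  have hdvd : Nat.card fB.range ∣ 4 := hZZ ▸ Subgroup.card_subgroup_dvd_card fB.range
  have hle4 : Nat.card fB.range ≤ 4 := Nat.le_of_dvd (by norm_num) hdvd
  by_cases h4 : Nat.card fB.range = 4
  · -- all four cosets are met
    have htop : fB.range = ⊤ := by
      rw [← Subgroup.card_eq_iff_eq_top, h4, hZZ]
    obtain ⟨b₁, hb₁⟩ : f x ∈ fB.range := htop ▸ Subgroup.mem_top _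
    obtain ⟨b₂, hb₂⟩ : f y ∈ fB.range := htop ▸ Subgroup.mem_top _
    have hb₁' : f (b₁ : E) = f x := hb₁
    have hb₂' : f (b₂ : E) = f y := hb₂
    set c₁ : E := x⁻¹ * (b₁ : E) with hc₁
    set c₂ : E := y⁻¹ * (b₂ : E) with hc₂
    have hc₁C : c₁ ∈ pairCentralizer x y := by
      rw [← hfker, hc₁, map_mul, map_inv, hb₁', inv_mul_cancel]
    have hc₂C : c₂ ∈ pairCentralizer x y := by
      rw [← hfker, hc₂, map_mul, map_inv, hb₂', inv_mul_cancel]
    obtain ⟨hc₁x, hc₁y⟩ := mem_pairCentralizer.mp hc₁C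
    obtain ⟨hc₂x, hc₂y⟩ := mem_pairCentralizer.mp hc₂C
    have hb₁e : (b₁ : E) = x * c₁ := by rw [hc₁]; group
    have hb₂e : (b₂ : E) = y * c₂ := by rw [hc₂]; group
    have hc₁sq : c₁ ^ 2 = 1 := by
      have h1 := hBe _ b₁.2
      have cx : Commute x c₁ := hc₁x.symm
      rw [hb₁e, cx.mul_pow, hx, one_mul] at h1
      exact h1
    -- `c₁` and `c₂` do not commute
    have hc12 : c₁ * c₂ ≠ c₂ * c₁ := by
      intro h
      apply hxy
      have h1 := hBcomm _ b₁.2 _ b₂.2
      rw [hb₁e, hb₂e] at h1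
      have e1 : x * c₁ * (y * c₂) = x * y * (c₁ * c₂) := by
        rw [mul_assoc x, ← mul_assoc c₁ y, hc₁y, mul_assoc y, ← mul_assoc x]
      have e2 : y * c₂ * (x * c₁) = y * x * (c₂ * c₁) := by
        rw [mul_assoc y, ← mul_assoc c₂ x, hc₂x, mul_assoc x, ← mul_assoc y]
      rw [e1, e2, h] at h1
      exact mul_right_cancel h1
    -- `K` commutes with `c₁`
    have hKc₁ : ∀ a ∈ K, c₁ * a = a * c₁ := by
      intro a ha
      have h1 : (b₁ : E) * a = a * (b₁ : E) := hBcomm _ b₁.2 _ (hKB ha)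
      obtain ⟨hax, -⟩ := mem_pairCentralizer.mp (hKC ha)
      rw [hc₁]
      calc x⁻¹ * ↑b₁ * a = x⁻¹ * (↑b₁ * a) := by group
        _ = x⁻¹ * (a * ↑b₁) := by rw [h1]
        _ = x⁻¹ * (a * x) * (x⁻¹ * ↑b₁) := by group
        _ = x⁻¹ * (x * a) * (x⁻¹ * ↑b₁) := by rw [hax]
        _ = a * (x⁻¹ * ↑b₁) := by group
    have hc₁K : c₁ ∉ K := by
      intro hmem
      apply hc12
      -- `c₁ ∈ B` commutes with `b₂ = y c₂` and with `y`
      have h1 : c₁ * (b₂ : E) = (b₂ : E) * c₁ := hBcomm _ (hKB hmem) _ b₂.2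
      rw [hb₂e] at h1
      have h2 : c₁ * (y * c₂) = y * (c₁ * c₂) := by rw [← mul_assoc, hc₁y, mul_assoc]
      rw [h2, mul_assoc y c₂ c₁] at h1
      exact mul_left_cancel h1
    obtain ⟨h5, h6, h7⟩ := exists_elemAb_sup_zpowers K c₁
      (fun a ha b hb => hBcomm a (hKB ha) b (hKB hb)) (fun a ha => hBe a (hKB ha)) hc₁sq hc₁K hKc₁
    have h8 : K ⊔ Subgroup.zpowers c₁ ≤ pairCentralizer x y :=
      sup_le hKC (by rw [Subgroup.zpowers_le]; exact hc₁C)
    have h9 := card_le_of_pRankLE_subgroup hC _ h8 h5 h6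
    rw [h7] at h9
    rw [hcardB, h4, ← hKcard, pow_succ]
    calc Nat.card K * 4 = Nat.card K * 2 * 2 := by ring
      _ ≤ 2 ^ k * 2 := Nat.mul_le_mul h9 le_rfl
  · have h2 : Nat.card fB.range ≤ 2 := by
      by_contra hcon
      have h3 : Nat.card fB.range = 3 := by omega
      rw [h3] at hdvd
      norm_num at hdvd
    rw [hcardB, ← hKcard, pow_succ]
    calc Nat.card K * Nat.card fB.range ≤ 2 ^ k * 2 := Nat.mul_le_mul hKle h2

/-- `E` has `2`-rank exactly `k` -/
def HasRank2 (E : Type*) [Group E] (k : ℕ) : Prop :=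
  Cfsg.PRankLE 2 k E ∧ ∃ A : Subgroup E, (∀ a ∈ A, ∀ b ∈ A, a * b = b * a) ∧
    (∀ a ∈ A, a ^ 2 = 1) ∧ Nat.card A = 2 ^ k

theorem HasRank2.not_pRankLE {k : ℕ} (h : HasRank2 E (k + 1)) : ¬ Cfsg.PRankLE 2 k E := by
  intro hk
  obtain ⟨-, A, hc, he, hcard⟩ := h
  have := hk A ⟨⟨fun a b => Subtype.ext (hc _ a.2 _ b.2)⟩⟩ he
  rw [hcard, pow_succ] at this
  have : 0 < 2 ^ k := by positivity
  omega

/-- the rank grows by one along a dihedral-type pair -/
theorem IsCK.hasRank2_succ [Finite E] (hE : IsCK 2 E) {x y : E} (hne : x * y * x⁻¹ * y⁻¹ ≠ 1)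
    (hx : x ^ 2 = 1) {k : ℕ} (hC : HasRank2 ↥(pairCentralizer x y) k) : HasRank2 E (k + 1) := by
  refine ⟨hE.pRankLE_succ hne hx hC.1, ?_⟩
  obtain ⟨-, A₀, hc, he, hcard⟩ := hC
  have hxy : x * y ≠ y * x := (comm_ne_one_iff x y).mp hne
  set A : Subgroup E := A₀.map (pairCentralizer x y).subtype with hA
  have hAC : A ≤ pairCentralizer x y := by
    rintro _ ⟨a, -, rfl⟩
    exact a.2
  have hAc : ∀ a ∈ A, ∀ b ∈ A, a * b = b * a := by
    rintro _ ⟨a, ha, rfl⟩ _ ⟨b, hb, rfl⟩
    exact congrArg Subtype.val (hc a ha b hb)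
  have hAe : ∀ a ∈ A, a ^ 2 = 1 := by
    rintro _ ⟨a, ha, rfl⟩
    have := congrArg Subtype.val (he a ha)
    simpa using this
  have hAcard : Nat.card A = 2 ^ k := by
    rw [hA, Subgroup.card_map_of_injective (Subgroup.subtype_injective _), hcard]
  have hxA : x ∉ A := by
    intro h
    exact hxy ((mem_pairCentralizer.mp (hAC h)).2)
  have hxc : ∀ a ∈ A, x * a = a * x := fun a ha => ((mem_pairCentralizer.mp (hAC ha)).1).symm
  obtain ⟨h1, h2, h3⟩ := exists_elemAb_sup_zpowers A x hAc hAe hx hxA hxc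
  exact ⟨A ⊔ Subgroup.zpowers x, h1, h2, by rw [h3, hAcard, pow_succ]⟩

theorem card_le_sqCount [Finite E] (A : Subgroup E) (he : ∀ a ∈ A, a ^ 2 = 1) :
    Nat.card A ≤ sqCount E := by
  unfold sqCount
  apply Nat.card_le_card_of_injective (fun a : A => (⟨a.1, he _ a.2⟩ : {g : E // g ^ 2 = 1}))
  intro a b h
  have h' : (a : E) = (b : E) := congrArg (fun u : {g : E // g ^ 2 = 1} => (u : E)) h
  exact Subtype.ext h'

theorem one_le_sqCount [Finite E] : 1 ≤ sqCount E := by
  have := card_le_sqCount (⊥ : Subgroup E) (fun a ha => by rw [Subgroup.mem_bot.mp ha, one_pow])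
  rwa [Subgroup.card_bot] at this

end Rank

/-- the `2`-rank of the groups of our kind -/
theorem IsCK.hasRank2 :
    ∀ (n : ℕ) (E : Type u) [Group E] [Finite E], IsCK 2 E → Nat.card E = n →
      ∀ m : ℕ, n = 2 ^ (2 * m + 1) →
        (sqCount E = 2 ^ (2 * m) + 2 ^ m → HasRank2 E (m + 1)) ∧
        (1 ≤ m → sqCount E = 2 ^ (2 * m) - 2 ^ m → HasRank2 E m) := by
  intro n
  induction n using Nat.strong_induction_on with
  | _ n ih =>
    intro E _ _ hE hn m hm
    have hp2 := Nat.prime_two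
    by_cases hab : ∀ x y : E, x * y = y * x
    · have hcard : Nat.card E = 2 := hE.card_eq_of_comm hab
      have hm0 : m = 0 := by
        have : 2 ^ (2 * m + 1) = 2 ^ 1 := by rw [← hm, ← hn, hcard]; norm_num
        have := Nat.pow_right_injective (le_refl 2) this
        omega
      subst hm0
      refine ⟨fun _ => ⟨?_, ⊤, fun a _ b _ => hab a b, ?_, ?_⟩, fun h => absurd h (by norm_num)⟩
      · intro A _ _
        calc Nat.card A ≤ Nat.card E := Subgroup.card_le_card_group A
          _ = 2 ^ (0 + 1) := by rw [hcard]; norm_num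
      · intro a _
        have : a ^ Nat.card E = 1 := pow_card_eq_one'
        rwa [hcard] at this
      · rw [Subgroup.card_top, hcard]; norm_num
    · rcases hE.exists_pair hab with ⟨x, y, hne, hx, hy⟩ | ⟨x, y, hne, hx, hy, hC2⟩
      · have hxyn : x * y ≠ y * x := (comm_ne_one_iff x y).mp hne
        obtain ⟨hC, -⟩ := hE.isCK_pairCentralizer hp2 hxyn
        have hcardC := hE.card_pairCentralizer hp2 hxyn
        have hlt : Nat.card ↥(pairCentralizer x y) < n := by
          have hpos : 0 < Nat.card ↥(pairCentralizer x y) := Nat.card_pos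
          omega
        obtain ⟨m', hm', -⟩ := IsCK.card_and_sqCount _ ↥(pairCentralizer x y) hC rfl
        have hmm : m = m' + 1 := by
          have : 2 ^ (2 * m + 1) = 2 ^ (2 * (m' + 1) + 1) := by
            rw [← hm, ← hn, hcardC, hm']; ring
          have := Nat.pow_right_injective (le_refl 2) this
          omega
        subst hmm
        have hIH := ih _ hlt ↥(pairCentralizer x y) hC rfl m' hm'
        have h1 := hE.sqCount_of_D hne hx hy
        have hle := two_pow_le_two_pow_two_mul m'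
        have e2 : 2 ^ (2 * (m' + 1)) = 2 ^ (2 * m') * 4 := by ring
        have e3 : 2 ^ (m' + 1) = 2 ^ m' * 2 := by ring
        have e4 : 2 ^ (2 * m' + 1) = 2 ^ (2 * m') * 2 := by ring
        have hpos' := one_le_sqCount (E := ↥(pairCentralizer x y))
        constructor
        · intro hs
          apply hE.hasRank2_succ hne hx
          apply hIH.1
          rw [e2, e3] at hs
          rw [hm', e4] at h1
          omega
        · intro _ hs
          rw [e2, e3] at hs
          rw [hm', e4] at h1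
          have hsC : sqCount ↥(pairCentralizer x y) = 2 ^ (2 * m') - 2 ^ m' := by omega
          have hm1 : 1 ≤ m' := by
            by_contra hcon
            have : m' = 0 := by omega
            subst this
            simp at hsC
            omega
          apply hE.hasRank2_succ hne hx
          have := hIH.2 hm1 hsC
          obtain ⟨j, rfl⟩ : ∃ j, m' = j + 1 := ⟨m' - 1, by omega⟩
          exact this
      · have hxyn : x * y ≠ y * x := (comm_ne_one_iff x y).mp hne
        have hcardC := hE.card_pairCentralizer hp2 hxyn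
        have h1 := hE.sqCount_of_Q hne hx hy
        have h3 := sqCount_eq_card_of_card_two hC2
        have hm1 : m = 1 := by
          have : 2 ^ (2 * m + 1) = 2 ^ 3 := by rw [← hm, ← hn, hcardC, hC2]; norm_num
          have := Nat.pow_right_injective (le_refl 2) this
          omega
        subst hm1
        have hsE : sqCount E = 2 := by omega
        constructor
        · intro hs
          rw [hsE] at hs
          norm_num at hs
        · intro _ _
          refine ⟨?_, Subgroup.center E, ?_, ?_, ?_⟩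
          · intro A _ hAe
            have := card_le_sqCount A hAe
            rw [hsE] at this
            simpa using this
          · intro a ha b _
            exact (Subgroup.mem_center_iff.mp ha b).symm
          · intro a ha
            exact hE.pow_two_eq_one_of_mem_center ha
          · rw [hE.card]; norm_num

end Cfsg.Agent.Helper2
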