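import Cfsg.Agent.Helper2.CoprimeSplit
import Cfsg.Agent.Helper2.Extraspecial2
import Cfsg.Agent.Helper2.ClassTwo

set_option autoImplicit false

namespace Cfsg.Agent.Helper2

universe u v

section

variable {E : Type*} [Group E] {V : Type*} [AddCommGroup V] [DistribMulAction E V]

theorem zpow_smul_of_fixed {a : E} {u : V} (h : a • u = u) (k : ℤ) : a ^ k • u = u := by
  cases k with
  | ofNat n => rw [Int.ofNat_eq_natCast, zpow_natCast]; exact pow_smul_of_fixed h n
  | negSucc n =>
    rw [zpow_negSucc, inv_smul_eq_iff]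
    exact (pow_smul_of_fixed h (n + 1)).symm

/-- prime-order module: everything commutes -/
theorem smul_comm_of_card_prime {U : AddSubgroup V} (hU : ∀ e : E, ∀ u ∈ U, e • u ∈ U)
    {r : ℕ} (hr : r.Prime) (hcard : Nat.card U = r) (e f : E) {u : V} (hu : u ∈ U) :
    (e * f) • u = (f * e) • u := by
  have : Fact r.Prime := ⟨hr⟩
  have hcyc : IsAddCyclic U := isAddCyclic_of_prime_card hcard
  obtain ⟨g, hg⟩ := hcyc.exists_generator
  have hmul : ∀ w ∈ U, ∃ k : ℤ, w = k • (g : V) := by
    intro w hw
    obtain ⟨k, hk⟩ := AddSubgroup.mem_zmultiples_iff.mp (hg ⟨w, hw⟩)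
    exact ⟨k, by simpa using (congrArg Subtype.val hk).symm⟩
  obtain ⟨ke, hke⟩ := hmul _ (hU e _ g.2)
  obtain ⟨kf, hkf⟩ := hmul _ (hU f _ g.2)
  obtain ⟨k, hk⟩ := hmul u hu
  rw [hk, smul_comm, smul_comm (f * e), mul_smul, mul_smul, hkf, hke, smul_comm e kf, hke,
    smul_comm f ke, hkf, smul_comm ke kf]

end

section

variable {E : Type*} [Group E] {p : ℕ}

theorem IsCK.pow_eq_one_of_mem_center [Finite E] (hE : IsCK p E) {c : E}
    (hc : c ∈ Subgroup.center E) : c ^ p = 1 := by
  have h1 : (⟨c, hc⟩ : Subgroup.center E) ^ Nat.card (Subgroup.center E) = 1 := pow_card_eq_one'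
  rw [hE.card] at h1
  exact congrArg Subtype.val h1

/-- `p`-th powers are central -/
theorem IsCK.pow_mem_center [Finite E] (hE : IsCK p E) (g : E) : g ^ p ∈ Subgroup.center E := by
  rw [Subgroup.mem_center_iff]
  intro h
  set c := g * h * g⁻¹ * h⁻¹ with hc
  have hcc : c ∈ Subgroup.center E := hE.comm g h
  have hc' : ∀ w : E, c * w = w * c := fun w => (Subgroup.mem_center_iff.mp hcc w).symm
  have hgh : g * h = c * h * g := by rw [hc]; group
  have := pow_mul_of_central hc' hgh p
  rw [hE.pow_eq_one_of_mem_center hcc, one_mul] at this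
  exact this.symm

/-- for odd `p` the `p`-th power map is multiplicative -/
theorem IsCK.mul_pow_prime [Finite E] (hE : IsCK p E) (hp : p.Prime) (hp2 : p ≠ 2) (x y : E) :
    (x * y) ^ p = x ^ p * y ^ p := by
  set c := y * x * y⁻¹ * x⁻¹ with hc
  have hcc : c ∈ Subgroup.center E := hE.comm y x
  have hc' : ∀ w : E, c * w = w * c := fun w => (Subgroup.mem_center_iff.mp hcc w).symm
  have hyx : y * x = c * x * y := by rw [hc]; group
  rw [mul_pow_of_central hc' hyx p]
  have h2lt : 2 < p := lt_of_le_of_ne hp.two_le (Ne.symm hp2)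
  obtain ⟨k, hk⟩ := Nat.Prime.dvd_choose_self hp (by norm_num : (2 : ℕ) ≠ 0) h2lt
  rw [hk, pow_mul, hE.pow_eq_one_of_mem_center hcc, one_pow, mul_one]

/-- a non-commutative group of our kind for an odd prime has a non-central element of order `p`,
as soon as its order exceeds `p ^ 2` -/
theorem IsCK.exists_not_mem_center_pow_eq_one [Finite E] (hE : IsCK p E) (hp : p.Prime)
    (hp2 : p ≠ 2) (hcard : p ^ 2 < Nat.card E) :
    ∃ x : E, x ∉ Subgroup.center E ∧ x ^ p = 1 := by
  let φ : E →* Subgroup.center E :=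
    { toFun := fun g => ⟨g ^ p, hE.pow_mem_center g⟩
      map_one' := by apply Subtype.ext; simp
      map_mul' := fun a b => by apply Subtype.ext; simpa using hE.mul_pow_prime hp hp2 a b }
  by_contra hcon
  push Not at hcon
  have hker : φ.ker ≤ Subgroup.center E := by
    intro x hx
    by_contra hxc
    apply hcon x hxc
    have := congrArg Subtype.val (MonoidHom.mem_ker.mp hx)
    simpa [φ] using this
  have h1 : Nat.card φ.ker ≤ p := by
    rw [← hE.card]
    exact Subgroup.card_le_of_le hker
  have h2 : φ.ker.index ≤ p := by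
    rw [Subgroup.index_ker, ← hE.card]
    have : Nat.card ↥φ.range = Nat.card ↥(φ.range.map (Subgroup.center E).subtype) :=
      (Subgroup.card_map_of_injective (Subgroup.subtype_injective _)).symm
    rw [this]
    exact Subgroup.card_le_of_le (by
      rintro _ ⟨w, _, rfl⟩
      exact w.2)
  have h3 := Subgroup.card_mul_index φ.ker
  have : Nat.card E ≤ p * p := by
    rw [← h3]
    exact Nat.mul_le_mul h1 h2
  rw [pow_two] at hcard
  omega

end


/-- the main induction -/
theorem isCK_module_card_bound {p r n : ℕ} (hp : p.Prime) (hr : r.Prime) (hpr : p ≠ r)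
    (hn : 1 ≤ n) (hmin : ∀ k : ℕ, 1 ≤ k → p ∣ r ^ k - 1 → n ≤ k)
    {V : Type v} [AddCommGroup V] [Finite V] (hV : ∃ m, Nat.card V = r ^ m) :
    ∀ (w : ℕ) (E : Type u) [Group E] [Finite E] [DistribMulAction E V], IsCK p E →
      Nat.card E = p ^ (2 * w + 1) → ∀ U : AddSubgroup V, (∀ e : E, ∀ u ∈ U, e • u ∈ U) →
      U ≠ ⊥ → (∀ c ∈ Subgroup.center E, c ≠ 1 → ∀ u ∈ U, c • u = u → u = 0) →
      r ^ (n * p ^ w) ≤ Nat.card U := by
  have hFp : Fact p.Prime := ⟨hp⟩
  obtain ⟨m, hm⟩ := hV
  have hcardU : ∀ U : AddSubgroup V, ∃ d, Nat.card U = r ^ d := by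
    intro U
    have := U.card_addSubgroup_dvd_card
    rw [hm] at this
    obtain ⟨d, _, hd⟩ := (Nat.dvd_prime_pow hr).mp this
    exact ⟨d, hd⟩
  have hpV : ∀ u : V, p • u = 0 → u = 0 := by
    intro u hu
    have h1 : addOrderOf u ∣ p := addOrderOf_dvd_of_nsmul_eq_zero hu
    have h2 : addOrderOf u ∣ r ^ m := hm ▸ addOrderOf_dvd_natCard u
    have h3 : Nat.Coprime p (r ^ m) :=
      Nat.Coprime.pow_right m ((Nat.coprime_primes hp hr).mpr hpr)
    have h4 : addOrderOf u = 1 := Nat.eq_one_of_dvd_coprimes h3 h1 h2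
    exact AddMonoid.addOrderOf_eq_one_iff.mp h4
  intro w
  induction w with
  | zero =>
    intro E _ _ _ hE hcard U hU hU0 hfpf
    simp only [Nat.mul_zero, Nat.zero_add, pow_one] at hcard
    simp only [pow_zero, mul_one]
    obtain ⟨d, hd⟩ := hcardU U
    have hPG : IsPGroup p E := IsPGroup.of_card (n := 1) (by rw [hcard, pow_one])
    let _ : MulAction E U :=
      { smul := fun e u => ⟨e • (u : V), hU e u u.2⟩
        one_smul := fun u => Subtype.ext (one_smul E (u : V))
        mul_smul := fun e f u => Subtype.ext (mul_smul e f (u : V)) }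
    have hmod := hPG.card_modEq_card_fixedPoints U
    have hcen : Subgroup.center E = ⊤ := by
      rw [← Subgroup.card_eq_iff_eq_top, hE.card, hcard]
    have hfix : Nat.card (MulAction.fixedPoints E U) = 1 := by
      have hz : ∃ z : E, z ≠ 1 := by
        have : Nontrivial E := by
          rw [← Finite.one_lt_card_iff_nontrivial, hcard]; exact hp.one_lt
        exact exists_ne 1
      obtain ⟨z, hz⟩ := hz
      rw [Nat.card_eq_one_iff_unique]
      refine ⟨⟨?_⟩, ⟨⟨0, fun e => Subtype.ext (smul_zero e)⟩⟩⟩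
      rintro ⟨a, ha⟩ ⟨b, hb⟩
      have ha0 : (a : V) = 0 :=
        hfpf z (hcen ▸ Subgroup.mem_top z) hz _ a.2 (congrArg Subtype.val (ha z))
      have hb0 : (b : V) = 0 :=
        hfpf z (hcen ▸ Subgroup.mem_top z) hz _ b.2 (congrArg Subtype.val (hb z))
      apply Subtype.ext
      apply Subtype.ext
      rw [ha0, hb0]
    rw [hfix, hd] at hmod
    have hd1 : 1 ≤ d := by
      rcases Nat.eq_zero_or_pos d with h | h
      · exfalso
        rw [h, pow_zero] at hd
        exact hU0 (AddSubgroup.card_eq_one.mp hd)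
      · exact h
    have hdvd : p ∣ r ^ d - 1 :=
      (Nat.modEq_iff_dvd' (Nat.one_le_pow _ _ hr.pos)).mp hmod.symm
    rw [hd]
    exact Nat.pow_le_pow_right hr.pos (hmin d hd1 hdvd)
  | succ w ih =>
    intro E _ _ _ hE hcard U hU hU0 hfpf
    have hpU : ∀ u ∈ U, p • u = 0 → u = 0 := fun u _ => hpV u
    have hnc : ¬ ∀ x y : E, x * y = y * x := by
      intro h
      have h1 := hE.card_eq_of_comm h
      rw [hcard] at h1
      have h2 : p ^ (2 * (w + 1) + 1) = p ^ 1 := by rw [pow_one]; exact h1
      have := Nat.pow_right_injective hp.two_le h2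
      omega
    by_cases hx : ∃ x : E, x ∉ Subgroup.center E ∧ x ^ p = 1
    · obtain ⟨x, hxc, hxp⟩ := hx
      have hy : ∃ y : E, x * y ≠ y * x := by
        by_contra hcon
        push Not at hcon
        exact hxc (Subgroup.mem_center_iff.mpr fun g => (hcon g).symm)
      obtain ⟨y, hxy⟩ := hy
      set z := y * x * y⁻¹ * x⁻¹ with hz
      have hzc : z ∈ Subgroup.center E := hE.comm y x
      have hz1 : z ≠ 1 := (comm_ne_one_iff y x).mpr (fun h => hxy h.symm)
      have hzcomm : ∀ g : E, Commute z g := fun g => (Subgroup.mem_center_iff.mp hzc g).symm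
      have hyx : y * x = x * z * y := by
        rw [← (hzcomm x).eq, hz]; group
      have hzp : z ^ p = 1 := hE.pow_eq_one_of_mem_center hzc
      have hzpow : Subgroup.center E = Subgroup.zpowers z := hE.center_eq_zpowers hp hzc hz1
      have hsplit := card_eq_card_fixedIn_pow hU hp hpU (hzcomm x) (hzcomm y) hyx hxp hzp hz1
        (fun c hc hc1 => hfpf c (hzpow ▸ hc) hc1)
      obtain ⟨hCK, hCcen⟩ := hE.isCK_pairCentralizer hp hxy
      have hc1 := hE.card_pairCentralizer hp hxy
      have hcard1 : Nat.card ↥(pairCentralizer x y) = p ^ (2 * w + 1) := by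
        rw [hcard] at hc1
        have h2 : p ^ (2 * (w + 1) + 1) = p ^ (2 * w + 1) * p * p := by ring
        rw [h2, mul_assoc, mul_assoc] at hc1
        exact (Nat.eq_of_mul_eq_mul_right (Nat.mul_pos hp.pos hp.pos) hc1).symm
      have hU' : ∀ e : ↥(pairCentralizer x y), ∀ u ∈ fixedIn U x, e • u ∈ fixedIn U x := by
        intro e u hu
        refine ⟨hU _ _ hu.1, ?_⟩
        have he := (mem_pairCentralizer.mp e.2).1
        rw [Subgroup.smul_def, ← mul_smul, ← he, mul_smul, hu.2]
      have hU0' : fixedIn U x ≠ ⊥ := by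
        intro h
        rw [h] at hsplit
        have : Nat.card (⊥ : AddSubgroup V) = 1 := AddSubgroup.card_eq_one.mpr rfl
        rw [this, one_pow] at hsplit
        exact hU0 (AddSubgroup.card_eq_one.mp hsplit)
      have hfpf' : ∀ c ∈ Subgroup.center ↥(pairCentralizer x y), c ≠ 1 →
          ∀ u ∈ fixedIn U x, c • u = u → u = 0 := by
        intro c hc hc1 u hu hcu
        exact hfpf (c : E) ((hCcen c).mp hc) (fun h => hc1 (Subtype.ext h)) u hu.1 hcu
      have hIH := ih ↥(pairCentralizer x y) hCK hcard1 (fixedIn U x) hU' hU0' hfpf'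
      rw [hsplit]
      calc r ^ (n * p ^ (w + 1)) = (r ^ (n * p ^ w)) ^ p := by rw [← pow_mul]; ring_nf
        _ ≤ _ := Nat.pow_le_pow_left hIH p
    · push Not at hx
      -- then `p = 2` and `w = 0`
      have hp2 : p = 2 := by
        by_contra hp2
        have hlt : p ^ 2 < Nat.card E := by
          rw [hcard]
          exact Nat.pow_lt_pow_right hp.one_lt (by omega)
        obtain ⟨x, hx1, hx2⟩ := hE.exists_not_mem_center_pow_eq_one hp hp2 hlt
        exact hx x hx1 hx2
      subst hp2
      have hw0 : w = 0 := by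
        rcases hE.exists_pair hnc with ⟨x, y, hne, hx2, _⟩ | ⟨x, y, hne, _, _, hC⟩
        · exfalso
          refine hx x (fun hxc => ?_) hx2
          apply hne
          have := Subgroup.mem_center_iff.mp hxc y
          rw [← this]; group
        · have hc1 := hE.card_pairCentralizer Nat.prime_two ((comm_ne_one_iff x y).mp hne)
          rw [hC, hcard] at hc1
          have h2 : (2 : ℕ) ^ (2 * (w + 1) + 1) = 2 ^ 3 := by rw [hc1]; norm_num
          have := Nat.pow_right_injective (le_refl 2) h2
          omega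
      subst hw0
      have hn1 : n = 1 := by
        have hrodd : 2 ∣ r ^ 1 - 1 := by
          rw [pow_one]
          have : r % 2 = 1 := by
            rcases hr.eq_two_or_odd with h | h
            · exact absurd h.symm hpr
            · exact h
          omega
        have := hmin 1 le_rfl hrodd
        omega
      subst hn1
      obtain ⟨d, hd⟩ := hcardU U
      rw [hd]
      simp only [Nat.zero_add, pow_one, one_mul]
      apply Nat.pow_le_pow_right hr.pos
      by_contra hd2
      have hd1 : d = 1 := by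
        rcases Nat.eq_zero_or_pos d with h | h
        · exfalso
          rw [h, pow_zero] at hd
          exact hU0 (AddSubgroup.card_eq_one.mp hd)
        · omega
      rw [hd1, pow_one] at hd
      push Not at hnc
      obtain ⟨x, y, hxy⟩ := hnc
      set z := y * x * y⁻¹ * x⁻¹ with hz
      have hzc : z ∈ Subgroup.center E := hE.comm y x
      have hz1 : z ≠ 1 := (comm_ne_one_iff y x).mpr (fun h => hxy h.symm)
      have hUne : ∃ u ∈ U, u ≠ 0 := by
        by_contra hcon
        push Not at hcon
        exact hU0 ((AddSubgroup.eq_bot_iff_forall U).mpr hcon)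
      obtain ⟨u, hu, hu0⟩ := hUne
      apply hu0
      apply hfpf z hzc hz1 u hu
      have h1 : z = (y * x) * (x * y)⁻¹ := by rw [hz]; group
      rw [h1, mul_smul]
      rw [smul_comm_of_card_prime hU hr hd y x (hU _ _ hu), ← mul_smul, mul_inv_cancel, one_smul]

end Cfsg.Agent.Helper2
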