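import Cfsg.Agent.Helper2.CentralProd

set_option autoImplicit false

namespace Cfsg.Agent.Helper2

universe u v

section

variable {E : Type*} [Group E] {p : ℕ}

/-- In a non-commutative group of our kind every nontrivial central element is a commutator
`x y x⁻¹ y⁻¹`, with `y` any prescribed non-central element. -/
theorem IsCK.exists_comm_eq (hE : IsCK p E) (hp : p.Prime) {x₀ y : E} (hxy : x₀ * y ≠ y * x₀)
    {z : E} (hz : z ∈ Subgroup.center E) :
    ∃ k : ℤ, (x₀ ^ k) * y * (x₀ ^ k)⁻¹ * y⁻¹ = z := by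
  have hc0 : x₀ * y * x₀⁻¹ * y⁻¹ ∈ Subgroup.center E := hE.comm x₀ y
  have hc1 : x₀ * y * x₀⁻¹ * y⁻¹ ≠ 1 := (comm_ne_one_iff x₀ y).mpr hxy
  have h1 := hE.center_eq_zpowers hp hc0 hc1
  rw [h1] at hz
  obtain ⟨k, hk⟩ := hz
  refine ⟨k, ?_⟩
  have h2 := map_zpow (Cfsg.Agent.Helper63.commHom hE.comm y) x₀ k
  have h3 := congrArg Subtype.val h2
  rw [Cfsg.Agent.Helper63.commHom_apply_coe, Subgroup.coe_zpow,
    Cfsg.Agent.Helper63.commHom_apply_coe] at h3
  rw [h3]
  exact hk

theorem IsCK.card_eq_of_comm [Finite E] (hE : IsCK p E) (h : ∀ x y : E, x * y = y * x) :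
    Nat.card E = p := by
  have : Subgroup.center E = ⊤ := by
    rw [eq_top_iff]
    intro g _
    rw [Subgroup.mem_center_iff]
    intro w
    exact h w g
  rw [← hE.card, this, Subgroup.card_top]

theorem IsCK.comm_of_card_eq [Finite E] (hE : IsCK p E) (h : Nat.card E = p) (x y : E) :
    x * y = y * x := by
  have h1 : Subgroup.center E = ⊤ := by
    rw [← Subgroup.card_eq_iff_eq_top, hE.card, h]
  have : y ∈ Subgroup.center E := h1 ▸ Subgroup.mem_top y
  exact Subgroup.mem_center_iff.mp this x

theorem IsCK.forall_mem_zpowers [Finite E] (_hE : IsCK p E) (hp : p.Prime) (h : Nat.card E = p)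
    {z : E} (hz1 : z ≠ 1) (g : E) : g ∈ Subgroup.zpowers z := by
  have : Fact p.Prime := ⟨hp⟩
  exact mem_zpowers_of_prime_card h hz1

end

/-- **Uniqueness of the extraspecial group of exponent `p` and given order** (in the marked form:
the isomorphism can be chosen to match prescribed nontrivial central elements). -/
theorem exists_mulEquiv_of_exponent {p : ℕ} (hp : p.Prime) :
    ∀ (n : ℕ) (E : Type u) (E' : Type v) [Group E] [Group E'] [Finite E] [Finite E'],
      IsCK p E → IsCK p E' → (∀ g : E, g ^ p = 1) → (∀ g : E', g ^ p = 1) →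
      Nat.card E = n → Nat.card E' = n →
      ∀ z ∈ Subgroup.center E, z ≠ 1 → ∀ z' ∈ Subgroup.center E', z' ≠ 1 →
      ∃ φ : E ≃* E', φ z = z' := by
  intro n
  induction n using Nat.strong_induction_on with
  | _ n ih =>
    intro E E' _ _ _ _ hE hE' hexp hexp' hn hn' z hz hz1 z' hz' hz1'
    by_cases hab : ∀ x y : E, x * y = y * x
    · -- cyclic of order `p`
      have hcard : Nat.card E = p := hE.card_eq_of_comm hab
      have hcard' : Nat.card E' = p := by rw [hn', ← hn, hcard]
      have ho : orderOf z = orderOf z' := by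
        rw [hE.orderOf_eq hp hz hz1, hE'.orderOf_eq hp hz' hz1']
      exact ⟨mulEquivOfOrderOfEq (hE.forall_mem_zpowers hp hcard hz1)
        (hE'.forall_mem_zpowers hp hcard' hz1') ho, mulEquivOfOrderOfEq_apply_gen _ _ _⟩
    · push Not at hab
      obtain ⟨x₀, y, hxy⟩ := hab
      have hab' : ¬ ∀ x y : E', x * y = y * x := by
        intro h
        have h1 := hE'.card_eq_of_comm h
        have h2 : Nat.card E = p := by rw [hn, ← hn', h1]
        exact hxy (hE.comm_of_card_eq h2 x₀ y)
      push Not at hab'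
      obtain ⟨x₀', y', hxy'⟩ := hab'
      obtain ⟨k, hk⟩ := hE.exists_comm_eq hp hxy hz
      obtain ⟨k', hk'⟩ := hE'.exists_comm_eq hp hxy' hz'
      set x := x₀ ^ k with hx
      set x' := x₀' ^ k' with hx'
      have hne : x * y * x⁻¹ * y⁻¹ ≠ 1 := by rw [hk]; exact hz1
      have hne' : x' * y' * x'⁻¹ * y'⁻¹ ≠ 1 := by rw [hk']; exact hz1'
      have hxyn : x * y ≠ y * x := (comm_ne_one_iff x y).mp hne
      have hxyn' : x' * y' ≠ y' * x' := (comm_ne_one_iff x' y').mp hne'
      -- the centralizers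
      obtain ⟨hC, hCcen⟩ := hE.isCK_pairCentralizer hp hxyn
      obtain ⟨hC', hCcen'⟩ := hE'.isCK_pairCentralizer hp hxyn'
      have hcardC := hE.card_pairCentralizer hp hxyn
      have hcardC' := hE'.card_pairCentralizer hp hxyn'
      have hcardeq : Nat.card ↥(pairCentralizer x y) = Nat.card ↥(pairCentralizer x' y') := by
        have h1 : Nat.card ↥(pairCentralizer x y) * p * p =
            Nat.card ↥(pairCentralizer x' y') * p * p := by
          rw [← hcardC, ← hcardC', hn, hn']
        exact Nat.eq_of_mul_eq_mul_right hp.pos (Nat.eq_of_mul_eq_mul_right hp.pos h1)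
      have hlt : Nat.card ↥(pairCentralizer x y) < n := by
        rw [← hn, hcardC]
        have hpos : 0 < Nat.card ↥(pairCentralizer x y) := Nat.card_pos
        have h2 := hp.two_le
        have h3 : Nat.card ↥(pairCentralizer x y) * 2 * 2 ≤
            Nat.card ↥(pairCentralizer x y) * p * p :=
          Nat.mul_le_mul (Nat.mul_le_mul le_rfl h2) h2
        omega
      have hzC : z ∈ pairCentralizer x y := center_le_pairCentralizer x y hz
      have hzC' : z' ∈ pairCentralizer x' y' := center_le_pairCentralizer x' y' hz'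
      obtain ⟨γ, hγ⟩ := ih _ hlt ↥(pairCentralizer x y) ↥(pairCentralizer x' y') hC hC'
        (fun g => Subtype.ext (by rw [Subgroup.coe_pow, hexp]; rfl))
        (fun g => Subtype.ext (by rw [Subgroup.coe_pow, hexp']; rfl)) rfl hcardeq.symm
        ⟨z, hzC⟩ ((hCcen _).mpr hz) (fun h => hz1 (congrArg Subtype.val h))
        ⟨z', hzC'⟩ ((hCcen' _).mpr hz') (fun h => hz1' (congrArg Subtype.val h))
      obtain ⟨φ, hφx, hφy, -⟩ := hE.step hp hE' x y x' y' hne hne' 0 0
        (by rw [hexp, zpow_zero]) (by rw [hexp, zpow_zero])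
        (by rw [hexp', zpow_zero]) (by rw [hexp', zpow_zero]) γ
        (by
          intro c hc
          have : c = ⟨z, hzC⟩ := Subtype.ext (by rw [hc, hk])
          rw [this, hγ, hk'])
      refine ⟨φ, ?_⟩
      rw [← hk, ← hk', map_mul, map_mul, map_mul, map_inv, map_inv, hφx, hφy]

end Cfsg.Agent.Helper2
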