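import Cfsg.Agent.Helper10.ZJFunctor
import Cfsg.Agent.Helper85.Morphism
set_option autoImplicit false

/-!
`Z(J(T))` for a finite subgroup `T` of a possibly infinite ambient group: nontrivial, normalized by `N(T)`, and carried
to `Z(J(ι T))` by an injective homomorphism.
-/

namespace Cfsg.Agent.Helper2.FusGT

open Cfsg Cfsg.Agent.Helper10.ZJF

universe u

variable {Ω : Type u} [Group Ω]

theorem zj_eq_map (T : Subgroup Ω) : centerThompsonAOf T = (zjA ↥T).map T.subtype :=
  (inducedFunctor_zjA T).symm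

theorem zj_le (T : Subgroup Ω) : centerThompsonAOf T ≤ T := by
  rw [zj_eq_map]
  exact Subgroup.map_subtype_le _

theorem zj_subgroupOf (T : Subgroup Ω) : (centerThompsonAOf T).subgroupOf T = zjA ↥T := by
  rw [zj_eq_map]
  exact Subgroup.comap_map_eq_self_of_injective T.subtype_injective _

theorem zj_ne_bot {p : ℕ} [Fact p.Prime] {T : Subgroup Ω} [Finite T] (hT : IsPGroup p T) (hT1 : T ≠ ⊥) :
    centerThompsonAOf T ≠ ⊥ := by
  haveI : Nontrivial T := (Subgroup.nontrivial_iff_ne_bot T).2 hT1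
  have h := zjA_ne_bot (p := p) ↥T hT
  rw [zj_eq_map]
  intro h2
  exact h ((Subgroup.map_eq_bot_iff_of_injective _ T.subtype_injective).mp h2)

theorem zj_normalizer {T : Subgroup Ω} [Finite T] :
    Subgroup.normalizer (T : Set Ω) ≤ Subgroup.normalizer (centerThompsonAOf T : Set Ω) := by
  intro g hg
  haveI : Finite ↥(centerThompsonAOf T) :=
    Finite.of_injective (Subgroup.inclusion (zj_le T)) (Subgroup.inclusion_injective (zj_le T))
  apply Helper85.mem_normalizer_of_finite
  intro y hy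
  rw [zj_eq_map] at hy ⊢
  obtain ⟨z, hz, rfl⟩ := hy
  let φ : ↥T ≃* ↥T := T.normalizerMonoidHom ⟨g, hg⟩
  have h1 := zjA_map_equiv φ
  have h2 : φ z ∈ zjA ↥T := by
    have h3 : φ z ∈ (zjA ↥T).map φ.toMonoidHom := ⟨z, hz, rfl⟩
    unfold zjA at h3 ⊢
    rw [h1] at h3
    exact h3
  exact ⟨φ z, h2, rfl⟩

/-- `Z(J(·))` of the image of `T` under an injective homomorphism. -/
theorem zj_range {G : Type u} [Group G] {T : Subgroup Ω} (ι : ↥T →* G) (hinj : Function.Injective ι)
    (R : Subgroup G) (hR : R = ι.range) :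
    centerThompsonAOf R = ((centerThompsonAOf T).subgroupOf T).map ι := by
  subst hR
  rw [zj_subgroupOf, zj_eq_map]
  let e : ↥T ≃* ↥ι.range := MonoidHom.ofInjective hinj
  have h1 := zjA_map_equiv e
  have h2 : zjA ↥ι.range = (zjA ↥T).map e.toMonoidHom := by
    unfold zjA
    exact h1.symm
  rw [h2, Subgroup.map_map]
  rfl

end Cfsg.Agent.Helper2.FusGT
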