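import Cfsg.Agent.Helper2.FusGT1
import Cfsg.Agent.Helper2.FusGTZJ
import Cfsg.Agent.Helper78.Frobenius
import Cfsg.Agent.S0659
set_option autoImplicit false

/-!
Glauberman-Thompson for fusion systems (S5204), part 2: a system with a model whose normalizer system of `Z(J(T))`
is inner is itself inner (via the group-theoretic Glauberman-Thompson theorem and Frobenius' criterion).
-/

namespace Cfsg.Agent.Helper2.FusGT

open Cfsg Cfsg.FusionSystem Cfsg.Agent.Helper87

universe u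

/-- If `g` acts on `Q` as the `p`-element `τ` does and `g` has order prime to `p`, then `g` centralizes `Q`. -/
theorem conj_eq_self_of_coprime {G : Type*} [Group G] {p : ℕ} [hpp : Fact p.Prime] (Q : Subgroup G) (g τ : G) (k : ℕ)
    (hτ : τ ^ (p ^ k) = 1) (hg : (orderOf g).Coprime p) (hgQ : ∀ y ∈ Q, g * y * g⁻¹ ∈ Q)
    (h : ∀ y ∈ Q, g * y * g⁻¹ = τ * y * τ⁻¹) : ∀ y ∈ Q, g * y * g⁻¹ = y := by
  have hpow : ∀ n : ℕ, ∀ y ∈ Q, g ^ n * y * (g ^ n)⁻¹ = τ ^ n * y * (τ ^ n)⁻¹ ∧ g ^ n * y * (g ^ n)⁻¹ ∈ Q := by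
    intro n
    induction n with
    | zero =>
      intro y hy
      simpa using hy
    | succ n ih =>
      intro y hy
      obtain ⟨h1, h2⟩ := ih y hy
      have e1 : g ^ (n + 1) * y * (g ^ (n + 1))⁻¹ = g * (g ^ n * y * (g ^ n)⁻¹) * g⁻¹ := by
        rw [pow_succ']
        simp only [mul_inv_rev, mul_assoc]
      have e2 : τ ^ (n + 1) * y * (τ ^ (n + 1))⁻¹ = τ * (τ ^ n * y * (τ ^ n)⁻¹) * τ⁻¹ := by
        rw [pow_succ']
        simp only [mul_inv_rev, mul_assoc]
      refine ⟨?_, ?_⟩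
      · rw [e1, e2, h _ h2, h1]
      · rw [e1]
        exact hgQ _ h2
  intro y hy
  by_cases hn1 : orderOf g = 1
  · have : g = 1 := orderOf_eq_one_iff.mp hn1
    rw [this]
    simp
  have hcop : Nat.Coprime (p ^ k) (orderOf g) := (Nat.Coprime.pow_right k hg).symm
  have hn0 : orderOf g ≠ 0 := by
    intro h0
    rw [h0] at hg
    have : p = 1 := by simpa using hg
    exact hpp.out.ne_one this
  have hn : 1 < orderOf g := by omega
  obtain ⟨m, -, hm⟩ := Nat.exists_mul_mod_eq_one_of_coprime hcop hn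
  have h1 := (hpow (p ^ k * m) y hy).1
  have h2 : g ^ (p ^ k * m) = g := by
    rw [← pow_mod_orderOf, hm, pow_one]
  have h3 : τ ^ (p ^ k * m) = 1 := by
    rw [pow_mul, hτ, one_pow]
  rw [h2, h3] at h1
  simpa using h1

variable {Ω : Type u} [Group Ω] {T : Subgroup Ω}

/-- A system with a model in which the normalizer system of `Z(J(T))` is inner is the inner system (`p` odd). -/
theorem conjBy_of_model [Finite T] {p : ℕ} [Fact p.Prime] (hp : p ≠ 2) (hT : IsPGroup p T)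
    (E : FusionSystem T) {G : Type u} [Group G] (ι : T →* G) (hmodel : E.IsModel p G ι)
    (hW : ∀ (D : Subgroup Ω) (φ : D →* Ω), φ ∈ E.normalizerHom (centerThompsonAOf T) D → ConjBy T φ) :
    ∀ (D : Subgroup Ω) (φ : D →* Ω), φ ∈ E.Hom D → ConjBy T φ := by
  obtain ⟨hfin, ⟨hinj, hreal⟩, ⟨Sy, hSy⟩, -⟩ := hmodel
  set W := centerThompsonAOf T with hW_def
  have hWT : W ≤ T := zj_le T
  have hWG : centerThompsonAOf (Sy : Subgroup G) = (W.subgroupOf T).map ι := zj_range ι hinj _ hSy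
  have hTW : T ≤ Subgroup.normalizer (W : Set Ω) := Subgroup.le_normalizer.trans zj_normalizer
  haveI : Finite G := hfin
  have hSyH : (Sy : Subgroup G) ≤ Subgroup.normalizer (centerThompsonAOf (Sy : Subgroup G) : Set G) :=
    Subgroup.le_normalizer.trans zj_normalizer
  -- the normalizer of `Z(J)` has a normal `p`-complement
  have hnpcH : HasNormalPComplement p
      ↥(Subgroup.normalizer (centerThompsonAOf (Sy : Subgroup G) : Set G)) := by
    set H := Subgroup.normalizer (centerThompsonAOf (Sy : Subgroup G) : Set G) with hH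
    refine ⟨Sy.subtype hSyH, ?_⟩
    apply (Cfsg.Agent.Helper78.frobenius_normal_pComplement_iff (Sy.subtype hSyH)).mpr
    intro Q hQ g hg hcop
    rw [Sylow.coe_subtype] at hQ
    -- the subgroup `Q` inside `G`
    have hQSy : ∀ q ∈ Q, ((q : H) : G) ∈ ι.range := by
      intro q hq
      rw [← hSy]
      exact Subgroup.mem_subgroupOf.mp (hQ hq)
    set MG : Subgroup G := Q.map H.subtype ⊔ centerThompsonAOf (Sy : Subgroup G) with hMG
    have hMGSy : MG ≤ ι.range := by
      apply sup_le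
      · rintro _ ⟨q, hq, rfl⟩
        exact hQSy q hq
      · rw [← hSy]
        exact zj_le _
    -- `g` normalizes `MG`
    have hgQ : ∀ y ∈ Q.map H.subtype, (g : G) * y * (g : G)⁻¹ ∈ Q.map H.subtype := by
      rintro _ ⟨q, hq, rfl⟩
      exact ⟨g * q * g⁻¹, (Subgroup.mem_normalizer_iff.mp hg q).mp hq, rfl⟩
    have hgW : ∀ y ∈ centerThompsonAOf (Sy : Subgroup G),
        (g : G) * y * (g : G)⁻¹ ∈ centerThompsonAOf (Sy : Subgroup G) := by
      intro y hy
      exact (Subgroup.mem_normalizer_iff.mp g.2 y).mp hy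
    have hgM : ∀ y ∈ MG, (g : G) * y * (g : G)⁻¹ ∈ MG := by
      have hle : MG ≤ MG.comap (MulAut.conj (g : G)).toMonoidHom := by
        apply sup_le
        · intro y hy
          exact le_sup_left (a := Q.map H.subtype) (hgQ y hy)
        · intro y hy
          exact le_sup_right (a := Q.map H.subtype) (hgW y hy)
      intro y hy
      exact hle hy
    set M : Subgroup Ω := preimageAlong ι MG with hM
    have hMT : M ≤ T := Helper85.preimageAlong_le ι MG
    have hmem : ∀ y : M, (g : G) * ι ⟨y, hMT y.2⟩ * (g : G)⁻¹ ∈ ι.range := by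
      intro y
      apply hMGSy
      apply hgM
      exact ((Helper85.mem_preimageAlong ι MG _).mp y.2).2
    obtain ⟨ψ, hψT, hψ⟩ := exists_hom_of_conj ι hinj hMT (g : G) hmem
    have hψE : ψ ∈ E.Hom M := (hreal M hMT ψ hψT).mpr ⟨g, hψ⟩
    have hWM : W ≤ M := by
      intro w hw
      rw [hM, Helper85.mem_preimageAlong]
      refine ⟨hWT hw, ?_⟩
      apply le_sup_right (a := Q.map H.subtype)
      rw [hWG]
      exact ⟨⟨w, hWT hw⟩, Subgroup.mem_subgroupOf.mpr hw, rfl⟩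
    haveI : Finite W := finite_of_le hWT
    have hψW : (W.subgroupOf M).map ψ = W := by
      apply map_subgroupOf_eq_of_maps_into hWM ψ (E.injective_of_mem hψE)
      intro x hx
      have h1 : ι ⟨x, hMT x.2⟩ ∈ centerThompsonAOf (Sy : Subgroup G) := by
        rw [hWG]
        exact ⟨⟨x, hMT x.2⟩, Subgroup.mem_subgroupOf.mpr hx, rfl⟩
      have h2 := hgW _ h1
      rw [← hψ x, hWG] at h2
      obtain ⟨w, hw, hwx⟩ := h2
      have h3 := hinj hwx
      have h4 : (w : Ω) = ψ x := congrArg Subtype.val h3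
      rw [← h4]
      exact Subgroup.mem_subgroupOf.mp hw
    have hMN : M ≤ normalizerIn T W := le_inf hMT (hMT.trans hTW)
    obtain ⟨t, ht, htx⟩ := hW M ψ (mem_normalizerHom_of_le E hWM hMN hψE hψW)
    obtain ⟨k, hk⟩ := hT ⟨t, ht⟩
    have hτ : (ι ⟨t, ht⟩) ^ (p ^ k) = 1 := by rw [← map_pow, hk, map_one]
    have hcopG : (orderOf (g : G)).Coprime p := by
      rw [Subgroup.orderOf_coe]
      exact hcop
    have hact : ∀ y ∈ Q.map H.subtype, (g : G) * y * (g : G)⁻¹ = ι ⟨t, ht⟩ * y * (ι ⟨t, ht⟩)⁻¹ := by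
      rintro _ ⟨q, hq, rfl⟩
      obtain ⟨x, hx⟩ := hQSy q hq
      have hxM : (x : Ω) ∈ M := by
        rw [hM, Helper85.mem_preimageAlong]
        refine ⟨x.2, ?_⟩
        apply le_sup_left (b := centerThompsonAOf (Sy : Subgroup G))
        exact ⟨q, hq, hx.symm⟩
      have h1 := hψ ⟨x, hxM⟩
      have h2 : (⟨ψ ⟨x, hxM⟩, hψT _⟩ : T) = ⟨t, ht⟩ * x * ⟨t, ht⟩⁻¹ := by
        apply Subtype.ext
        exact htx ⟨x, hxM⟩
      rw [h2, map_mul, map_mul, map_inv] at h1
      have h3 : ι ⟨((⟨x, hxM⟩ : M) : Ω), hMT hxM⟩ = ι x := rfl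
      rw [h3, hx] at h1
      exact h1.symm
    have hcent := conj_eq_self_of_coprime (Q.map H.subtype) (g : G) (ι ⟨t, ht⟩) k hτ hcopG hgQ hact
    rw [Subgroup.mem_centralizer_iff]
    intro q hq
    apply Subtype.ext
    have h1 : (g : G) * (q : G) * (g : G)⁻¹ = (q : G) := hcent _ ⟨q, hq, rfl⟩
    show (q : G) * (g : G) = (g : G) * (q : G)
    calc (q : G) * (g : G) = ((g : G) * q * (g : G)⁻¹) * g := by rw [h1]
      _ = (g : G) * (q : G) := by group
  -- hence so does `G`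
  have hnpcG : HasNormalPComplement p G := Cfsg.Agent.S0659.result hp Sy hnpcH
  obtain ⟨P', K', hK'n, hK'c⟩ := hnpcG
  haveI := hK'n
  have hfrob := Cfsg.Agent.Helper78.frobHyp_of_isComplement' P' K' hK'c
  obtain ⟨K, hKn, hKc⟩ := hfrob.exists_normal_isComplement' Sy
  intro D φ hφ
  have hDT : D ≤ T := (E.le_of_mem hφ).1
  have hφT : ∀ x : D, φ x ∈ T := (E.le_of_mem hφ).2
  obtain ⟨g, hg⟩ := (hreal D hDT φ hφT).mp hφ
  obtain ⟨⟨⟨k, hk⟩, ⟨s, hs⟩⟩, hks, -⟩ := (Subgroup.isComplement'_def.mp hKc).existsUnique g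
  simp only at hks
  rw [hSy] at hs
  obtain ⟨t, rfl⟩ := hs
  refine ⟨t, t.2, fun x => ?_⟩
  have h1 := hg x
  set y := ι ⟨x, hDT x.2⟩ with hy
  set z := ι t * y * (ι t)⁻¹ with hz
  have hzSy : z ∈ (Sy : Subgroup G) := by
    rw [hSy, hz, hy, ← map_mul, ← map_inv, ← map_mul]
    exact ⟨_, rfl⟩
  have h2 : g * y * g⁻¹ = k * z * k⁻¹ := by
    rw [← hks, hz]
    group
  have h3 : k * z * k⁻¹ ∈ (Sy : Subgroup G) := by
    rw [← h2, ← h1, hSy]
    exact ⟨_, rfl⟩
  have h4 : k * z * k⁻¹ * z⁻¹ ∈ K := by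
    have : k * z * k⁻¹ * z⁻¹ = k * (z * k⁻¹ * z⁻¹) := by group
    rw [this]
    exact K.mul_mem hk (hKn.conj_mem _ (K.inv_mem hk) z)
  have h5 : k * z * k⁻¹ * z⁻¹ ∈ (Sy : Subgroup G) := (Sy : Subgroup G).mul_mem h3 ((Sy : Subgroup G).inv_mem hzSy)
  have h6 : k * z * k⁻¹ * z⁻¹ = 1 := by
    have hdisj := hKc.disjoint
    have := (Subgroup.disjoint_def.mp hdisj) h4 h5
    exact this
  have h7 : k * z * k⁻¹ = z := by
    have := congrArg (· * z) h6
    simpa using this
  rw [h2, h7, hz, hy, ← map_mul, ← map_inv, ← map_mul] at h1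
  have h8 := hinj h1
  exact congrArg Subtype.val h8

end Cfsg.Agent.Helper2.FusGT
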