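import Cfsg.Agent.Helper2.FusGT2
import Cfsg.Agent.Helper85.SolvNormal
import Cfsg.Agent.S5085
import Cfsg.Agent.S5090
import Cfsg.Agent.S5158
set_option autoImplicit false

/-!
Glauberman-Thompson for fusion systems (S5204), part 3: the key step. A saturated system `E` over `T` with a nontrivial
normal subgroup `P`, whose normalizer systems of the normal subgroups `L > P` of `T` and of `Z(J(T))` are inner, is inner
(given the theorem for smaller groups): the factor system `E/P` is inner, so `E` is solvable, hence constrained, and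
the theorem for its model applies.
-/

namespace Cfsg.Agent.Helper2.FusGT

open Cfsg Cfsg.FusionSystem Cfsg.Agent.Helper87
open scoped commutatorElement

universe u

/-- Above a proper normal subgroup of a finite `p`-group there is a larger normal subgroup with central quotient. -/
theorem exists_normal_gt_of_pGroup {X : Type*} [Group X] [Finite X] {p : ℕ} [Fact p.Prime] (hX : IsPGroup p X)
    (N : Subgroup X) [N.Normal] (hN : N ≠ ⊤) :
    ∃ N₁ : Subgroup X, N₁.Normal ∧ N < N₁ ∧ ⁅N₁, N₁⁆ ≤ N := by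
  haveI : Nontrivial (X ⧸ N) := by
    rw [← not_subsingleton_iff_nontrivial]
    intro hsub
    apply hN
    rw [eq_top_iff]
    intro x _
    have : (QuotientGroup.mk' N) x = 1 := Subsingleton.elim _ _
    exact (QuotientGroup.eq_one_iff x).mp this
  have hq : IsPGroup p (X ⧸ N) := hX.to_quotient N
  haveI := hq.center_nontrivial
  obtain ⟨⟨z, hz⟩, hz1⟩ := exists_ne (1 : Subgroup.center (X ⧸ N))
  have hz1' : z ≠ 1 := fun h => hz1 (Subtype.ext h)
  obtain ⟨x, rfl⟩ := QuotientGroup.mk'_surjective N z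
  refine ⟨(Subgroup.center (X ⧸ N)).comap (QuotientGroup.mk' N), inferInstance, ?_, ?_⟩
  · refine lt_of_le_of_ne ?_ ?_
    · intro y hy
      rw [Subgroup.mem_comap]
      have : QuotientGroup.mk' N y = 1 := (QuotientGroup.eq_one_iff y).mpr hy
      rw [this]
      exact Subgroup.one_mem _
    · intro hEq
      apply hz1'
      have hx : x ∈ (Subgroup.center (X ⧸ N)).comap (QuotientGroup.mk' N) := hz
      rw [← hEq] at hx
      exact (QuotientGroup.eq_one_iff x).mpr hx
  · rw [Subgroup.commutator_le]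
    intro a ha b hb
    rw [← QuotientGroup.eq_one_iff, ← QuotientGroup.mk'_apply, map_commutatorElement,
      commutatorElement_eq_one_iff_mul_comm]
    exact ((Subgroup.mem_center_iff.mp ha) _).symm

variable {Ω : Type u} [Group Ω] {T : Subgroup Ω}

/-- The main statement, as used for the induction: if the normalizer system of `Z(J(S))` consists of conjugations by
elements of `S`, so does the whole system. -/
def GTStatement (p : ℕ) (Ω' : Type u) [Group Ω'] (S' : Subgroup Ω') : Prop :=
  ∀ F' : FusionSystem S', F'.IsSaturated p →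
    (∀ (D : Subgroup Ω') (φ : D →* Ω'), φ ∈ F'.normalizerHom (centerThompsonAOf S') D → ConjBy S' φ) →
    ∀ (D : Subgroup Ω') (φ : D →* Ω'), φ ∈ F'.Hom D → ConjBy S' φ

theorem conjBy_of_normal [Finite T] {p : ℕ} [Fact p.Prime] (hp : p ≠ 2) (hT : IsPGroup p T) (E : FusionSystem T)
    (hE : E.IsSaturated p) {P : Subgroup Ω} (hP : E.IsNormal P) (hP1 : P ≠ ⊥)
    (hi : ∀ L : Subgroup Ω, P < L → L ≤ T → T ≤ Subgroup.normalizer (L : Set Ω) →
      ∀ (D : Subgroup Ω) (φ : D →* Ω), φ ∈ E.normalizerHom L D → ConjBy T φ)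
    (hii : ∀ (D : Subgroup Ω) (φ : D →* Ω), φ ∈ E.normalizerHom (centerThompsonAOf T) D → ConjBy T φ)
    (ih : ∀ (Ω' : Type u) [Group Ω'] (S' : Subgroup Ω') [Finite S'], Nat.card S' < Nat.card T → IsPGroup p S' →
      GTStatement p Ω' S') :
    ∀ (D : Subgroup Ω) (φ : D →* Ω), φ ∈ E.Hom D → ConjBy T φ := by
  have hPsc : E.StronglyClosed P := stronglyClosed_of_isNormal E hP
  have hPT : P ≤ T := hPsc.1
  haveI hPn : (P.subgroupOf T).Normal := normal_subgroupOf_of_stronglyClosed E hPsc
  obtain ⟨Eb, hfac⟩ := Cfsg.Agent.S5132.result p hT E P hPsc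
  have hker : ∀ s : T, (QuotientGroup.mk' (P.subgroupOf T)) s = 1 ↔ (s : Ω) ∈ P := hfac.2.1
  have hrange : (QuotientGroup.mk' (P.subgroupOf T)).range = ⊤ := hfac.2.2.1
  have hsurj := Cfsg.Agent.S5134.result p hT E hE P hPsc (QuotientGroup.mk' (P.subgroupOf T)) Eb hfac
  have hEbsat : Eb.IsSaturated p :=
    Cfsg.Agent.S5133.result p hT E hE Eb (QuotientGroup.mk' (P.subgroupOf T)) hsurj
  have hθsurj : Function.Surjective (QuotientGroup.mk' (P.subgroupOf T)) := QuotientGroup.mk'_surjective _
  have hTbp : IsPGroup p ↥(⊤ : Subgroup (T ⧸ P.subgroupOf T)) := (hT.to_quotient _).to_subgroup ⊤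
  have hcard : Nat.card ↥(⊤ : Subgroup (T ⧸ P.subgroupOf T)) < Nat.card T := by
    rw [Subgroup.card_top]
    have h1 := Subgroup.card_eq_card_quotient_mul_card_subgroup (P.subgroupOf T)
    have h2 : Nat.card (P.subgroupOf T) = Nat.card P :=
      Nat.card_congr (Subgroup.subgroupOfEquivOfLe hPT).toEquiv
    haveI : Finite P := finite_of_le hPT
    have h3 : 1 < Nat.card P := (Subgroup.one_lt_card_iff_ne_bot P).mpr hP1
    have h4 : 0 < Nat.card (T ⧸ P.subgroupOf T) := Nat.card_pos
    rw [h2] at h1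
    rw [h1]
    nlinarith
  -- the factor system is inner
  have hEb_inner : ∀ (D' : Subgroup (T ⧸ P.subgroupOf T)) (φ' : D' →* (T ⧸ P.subgroupOf T)),
      φ' ∈ Eb.Hom D' → ConjBy ⊤ φ' := by
    apply ih (T ⧸ P.subgroupOf T) ⊤ hcard hTbp Eb hEbsat
    intro D' φ' hφ'
    by_cases hsub : Subsingleton (T ⧸ P.subgroupOf T)
    · exact ⟨1, Subgroup.mem_top _, fun x => Subsingleton.elim _ _⟩
    rw [not_subsingleton_iff_nontrivial] at hsub
    have hWb1 : centerThompsonAOf (⊤ : Subgroup (T ⧸ P.subgroupOf T)) ≠ ⊥ := zj_ne_bot hTbp top_ne_bot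
    have hWbn : ∀ g : T ⧸ P.subgroupOf T,
        g ∈ Subgroup.normalizer (centerThompsonAOf (⊤ : Subgroup (T ⧸ P.subgroupOf T)) : Set (T ⧸ P.subgroupOf T)) := by
      intro g
      apply zj_normalizer
      rw [Subgroup.normalizer_eq_top]
      exact Subgroup.mem_top g
    obtain ⟨hφ'E, hD'N, hφ'N, ψ', hψ', hψ'ext, hψ'W⟩ := hφ'
    obtain ⟨-, ψ, hψ, hMT, hψT, hM', hind⟩ := (hfac.2.2.2 _ ψ').mp hψ'
    obtain ⟨hψ'in, -⟩ := (Helper85.map_subgroupOf_eq_iff ψ').mp hψ'W
    have hLM : preimageAlong (QuotientGroup.mk' (P.subgroupOf T))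
          (centerThompsonAOf (⊤ : Subgroup (T ⧸ P.subgroupOf T))) ≤
        preimageAlong (QuotientGroup.mk' (P.subgroupOf T))
          (D' ⊔ centerThompsonAOf (⊤ : Subgroup (T ⧸ P.subgroupOf T))) :=
      Helper85.preimageAlong_mono _ le_sup_right
    have hLT : preimageAlong (QuotientGroup.mk' (P.subgroupOf T))
          (centerThompsonAOf (⊤ : Subgroup (T ⧸ P.subgroupOf T))) ≤ T := Helper85.preimageAlong_le _ _
    have hPL : P < preimageAlong (QuotientGroup.mk' (P.subgroupOf T))
          (centerThompsonAOf (⊤ : Subgroup (T ⧸ P.subgroupOf T))) := by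
      refine lt_of_le_of_ne ?_ ?_
      · intro x hx
        rw [Helper85.mem_preimageAlong]
        refine ⟨hPT hx, ?_⟩
        rw [(hker ⟨x, hPT hx⟩).mpr hx]
        exact Subgroup.one_mem _
      · intro hEq
        apply hWb1
        rw [eq_bot_iff]
        intro w hw
        obtain ⟨s, rfl⟩ := hθsurj w
        have hs : (s : Ω) ∈ preimageAlong (QuotientGroup.mk' (P.subgroupOf T))
            (centerThompsonAOf (⊤ : Subgroup (T ⧸ P.subgroupOf T))) :=
          (Helper85.mem_preimageAlong _ _ _).mpr ⟨s.2, hw⟩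
        rw [← hEq] at hs
        rw [Subgroup.mem_bot]
        exact (hker s).mpr hs
    have hTL : T ≤ Subgroup.normalizer ((preimageAlong (QuotientGroup.mk' (P.subgroupOf T))
          (centerThompsonAOf (⊤ : Subgroup (T ⧸ P.subgroupOf T))) : Subgroup Ω) : Set Ω) := by
      apply le_normalizer_of_forall_conj_mem
      intro s hs y hy
      obtain ⟨hyT, hyW⟩ := (Helper85.mem_preimageAlong _ _ _).mp hy
      rw [Helper85.mem_preimageAlong]
      refine ⟨T.mul_mem (T.mul_mem hs hyT) (T.inv_mem hs), ?_⟩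
      have e : (⟨s * y * s⁻¹, T.mul_mem (T.mul_mem hs hyT) (T.inv_mem hs)⟩ : T) =
          ⟨s, hs⟩ * ⟨y, hyT⟩ * ⟨s, hs⟩⁻¹ := Subtype.ext rfl
      rw [e, map_mul, map_mul, map_inv]
      exact (Subgroup.mem_normalizer_iff.mp (hWbn _) _).mp hyW
    haveI : Finite ↥(preimageAlong (QuotientGroup.mk' (P.subgroupOf T))
          (centerThompsonAOf (⊤ : Subgroup (T ⧸ P.subgroupOf T)))) := finite_of_le hLT
    have hψL : ((preimageAlong (QuotientGroup.mk' (P.subgroupOf T))
          (centerThompsonAOf (⊤ : Subgroup (T ⧸ P.subgroupOf T)))).subgroupOf _).map ψ =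
        preimageAlong (QuotientGroup.mk' (P.subgroupOf T))
          (centerThompsonAOf (⊤ : Subgroup (T ⧸ P.subgroupOf T))) := by
      apply map_subgroupOf_eq_of_maps_into hLM ψ (E.injective_of_mem hψ)
      intro x hx
      rw [Helper85.mem_preimageAlong]
      refine ⟨hψT x, ?_⟩
      rw [← hind x]
      apply hψ'in
      exact ((Helper85.mem_preimageAlong _ _ _).mp hx).2
    have hMN : preimageAlong (QuotientGroup.mk' (P.subgroupOf T))
          (D' ⊔ centerThompsonAOf (⊤ : Subgroup (T ⧸ P.subgroupOf T))) ≤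
        normalizerIn T (preimageAlong (QuotientGroup.mk' (P.subgroupOf T))
          (centerThompsonAOf (⊤ : Subgroup (T ⧸ P.subgroupOf T)))) :=
      le_inf hMT (hMT.trans hTL)
    obtain ⟨g, hg, hgx⟩ := hi _ hPL hLT hTL _ ψ (mem_normalizerHom_of_le E hLM hMN hψ hψL)
    refine ⟨QuotientGroup.mk' (P.subgroupOf T) ⟨g, hg⟩, Subgroup.mem_top _, fun x' => ?_⟩
    rw [← hψ'ext x']
    obtain ⟨s, hs⟩ := hθsurj (x' : T ⧸ P.subgroupOf T)
    have hsM : (s : Ω) ∈ preimageAlong (QuotientGroup.mk' (P.subgroupOf T))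
        (D' ⊔ centerThompsonAOf (⊤ : Subgroup (T ⧸ P.subgroupOf T))) := by
      rw [Helper85.mem_preimageAlong]
      refine ⟨s.2, ?_⟩
      rw [hs]
      exact le_sup_left (a := D') x'.2
    have h1 := hind ⟨s, hsM⟩
    have e1 : (⟨(QuotientGroup.mk' (P.subgroupOf T)) ⟨((⟨s, hsM⟩ : ↥(preimageAlong
        (QuotientGroup.mk' (P.subgroupOf T))
        (D' ⊔ centerThompsonAOf (⊤ : Subgroup (T ⧸ P.subgroupOf T))))) : Ω), hMT hsM⟩, hM' ⟨s, hsM⟩⟩ :
        ↥(D' ⊔ centerThompsonAOf (⊤ : Subgroup (T ⧸ P.subgroupOf T)))) =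
        Subgroup.inclusion le_sup_left x' := Subtype.ext hs
    rw [e1] at h1
    rw [h1]
    have e2 : (⟨ψ ⟨s, hsM⟩, hψT _⟩ : T) = ⟨g, hg⟩ * s * ⟨g, hg⟩⁻¹ := by
      apply Subtype.ext
      exact hgx ⟨s, hsM⟩
    rw [e2, map_mul, map_mul, map_inv, hs]
  -- hence `E` has the step property
  have hstep : Helper85.StepProp E := by
    intro A hA hAT
    by_cases hPA : P ≤ A
    · -- pass to the quotient
      have hA' : Eb.StronglyClosed (imageAlong (QuotientGroup.mk' (P.subgroupOf T)) A) :=
        stronglyClosed_imageAlong_of_le E _ Eb hfac hA hPA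
      have hkerA : Helper85.kerAlong (QuotientGroup.mk' (P.subgroupOf T)) ≤ A := by
        intro x hx
        have hxS := Helper85.kerAlong_le _ hx
        have h1 := (Helper85.mem_kerAlong (QuotientGroup.mk' (P.subgroupOf T)) ⟨x, hxS⟩).mpr hx
        exact hPA ((hker ⟨x, hxS⟩).mp h1)
      have hpre : preimageAlong (QuotientGroup.mk' (P.subgroupOf T))
          (imageAlong (QuotientGroup.mk' (P.subgroupOf T)) A) = A :=
        Helper85.preimageAlong_imageAlong _ hA.1 hkerA
      have hA'top : imageAlong (QuotientGroup.mk' (P.subgroupOf T)) A ≠ ⊤ := by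
        intro hEq
        apply hAT
        apply le_antisymm hA.1
        intro s hs
        rw [← hpre, Helper85.mem_preimageAlong]
        refine ⟨hs, ?_⟩
        rw [hEq]
        exact Subgroup.mem_top _
      haveI hA'n : (imageAlong (QuotientGroup.mk' (P.subgroupOf T)) A).Normal := by
        rw [← Subgroup.normalizer_eq_top_iff, eq_top_iff]
        exact le_normalizer_of_stronglyClosed Eb hA'
      obtain ⟨A₁', hA₁'n, hlt, hcomm⟩ := exists_normal_gt_of_pGroup (hT.to_quotient _) _ hA'top
      have hA₁' : Eb.StronglyClosed A₁' := by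
        refine ⟨le_top, fun R hR φ' hφ' x => ?_⟩
        obtain ⟨g, -, hgx⟩ := hEb_inner R φ' hφ'
        rw [hgx x]
        exact hA₁'n.conj_mem _ (hR x.2) g
      have hA₁'le : A₁' ≤ (QuotientGroup.mk' (P.subgroupOf T)).range := by rw [hrange]; exact le_top
      have hle : A ≤ preimageAlong (QuotientGroup.mk' (P.subgroupOf T)) A₁' := by
        calc A = preimageAlong (QuotientGroup.mk' (P.subgroupOf T))
              (imageAlong (QuotientGroup.mk' (P.subgroupOf T)) A) := hpre.symm
          _ ≤ preimageAlong (QuotientGroup.mk' (P.subgroupOf T)) A₁' := Helper85.preimageAlong_mono _ hlt.le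
      have hne : A ≠ preimageAlong (QuotientGroup.mk' (P.subgroupOf T)) A₁' := by
        intro hEq
        apply hlt.ne
        calc imageAlong (QuotientGroup.mk' (P.subgroupOf T)) A
            = imageAlong (QuotientGroup.mk' (P.subgroupOf T))
                (preimageAlong (QuotientGroup.mk' (P.subgroupOf T)) A₁') := by rw [← hEq]
          _ = A₁' := Helper85.imageAlong_preimageAlong _ hA₁'le
      refine ⟨preimageAlong (QuotientGroup.mk' (P.subgroupOf T)) A₁',
        stronglyClosed_preimageAlong hT E hE hPsc _ Eb hfac hA₁', lt_of_le_of_ne hle hne, ?_⟩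
      rw [Subgroup.commutator_le]
      intro a ha b hb
      obtain ⟨haS, haA⟩ := (Helper85.mem_preimageAlong _ A₁' a).mp ha
      obtain ⟨hbS, hbA⟩ := (Helper85.mem_preimageAlong _ A₁' b).mp hb
      rw [← hpre, Helper85.mem_preimageAlong]
      have habS : ⁅a, b⁆ ∈ T := by
        rw [commutatorElement_def]
        exact T.mul_mem (T.mul_mem (T.mul_mem haS hbS) (T.inv_mem haS)) (T.inv_mem hbS)
      refine ⟨habS, ?_⟩
      have h5 : (⟨⁅a, b⁆, habS⟩ : T) = ⁅(⟨a, haS⟩ : T), ⟨b, hbS⟩⁆ := Subtype.ext rfl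
      rw [h5, map_commutatorElement]
      exact hcomm (Subgroup.commutator_mem_commutator haA hbA)
    · -- use the lower central series of `P`
      haveI hfinP : Finite P := finite_of_le hPT
      have hPp : IsPGroup p P := hT.to_le hPT
      haveI : Group.IsNilpotent P := hPp.isNilpotent
      obtain ⟨n, hn⟩ := (Subgroup.isNilpotent_iff_lowerCentralSeries P).mp inferInstance
      have hex : ∃ i, P.lowerCentralSeries i ≤ A := ⟨n, by rw [hn]; exact bot_le⟩
      classical
      have hi0 : Nat.find hex ≠ 0 := by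
        intro h0
        apply hPA
        have h1 := Nat.find_spec hex
        rw [h0] at h1
        simpa using h1
      obtain ⟨j, hj⟩ := Nat.exists_eq_succ_of_ne_zero hi0
      have hjA : ¬ P.lowerCentralSeries j ≤ A := Nat.find_min hex (by omega)
      have hchar : ∀ U : Subgroup Ω, U ≤ P → (U.subgroupOf P).Characteristic → E.IsNormal U :=
        fun U hUP hU => Cfsg.Agent.S5085.result E P U hP hUP hU
      have hXsc : E.StronglyClosed (P.lowerCentralSeries j) :=
        stronglyClosed_of_isNormal E (isNormal_lowerCentralSeries E hP hchar j)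
      have hXX : ⁅P.lowerCentralSeries j, P.lowerCentralSeries j⁆ ≤ A := by
        have h1 : ⁅P.lowerCentralSeries j, P.lowerCentralSeries j⁆ ≤ P.lowerCentralSeries (j + 1) := by
          rw [Subgroup.lowerCentralSeries_succ]
          exact Subgroup.commutator_mono le_rfl (Subgroup.lowerCentralSeries_le_self P j)
        refine h1.trans ?_
        have h2 := Nat.find_spec hex
        rw [hj] at h2
        exact h2
      refine ⟨A ⊔ P.lowerCentralSeries j,
        Cfsg.Agent.S5128.result p hT E hE A (P.lowerCentralSeries j) hA hXsc, ?_, ?_⟩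
      · exact lt_of_le_of_ne le_sup_left (fun h => hjA (by rw [h]; exact le_sup_right))
      · exact Helper85.commutator_sup_self_le (le_normalizer_of_stronglyClosed E hA) hA.1 hXsc.1 hXX
  -- so `E` is solvable, hence constrained, hence has a model
  have hsolv : E.IsSolvableSystem := (Helper85.isSolvableSystem_iff_stepProp hT E hE).mpr hstep
  have hcon : E.IsConstrained p := Cfsg.Agent.S5158.result p hT E hE hsolv
  obtain ⟨G, _, ι, hmodel⟩ := Cfsg.Agent.S5090.result p hT E hcon
  exact conjBy_of_model hp hT E ι hmodel hii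

end Cfsg.Agent.Helper2.FusGT
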