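import Cfsg.Agent.Helper2.FusGT3
set_option autoImplicit false

/-!
Glauberman-Thompson for fusion systems (S5204), part 4: the induction on the order of `S`.
-/

namespace Cfsg.Agent.Helper2.FusGT

open Cfsg Cfsg.FusionSystem Cfsg.Agent.Helper87

universe u

/-- A bounded natural-number valued function attains a maximum on a nonempty set. -/
theorem exists_max_of_bdd {α : Type*} (s : Set α) (f : α → ℕ) (B : ℕ) (hB : ∀ a ∈ s, f a ≤ B)
    (hs : s.Nonempty) : ∃ a ∈ s, ∀ b ∈ s, f b ≤ f a := by
  have hfin : (f '' s).Finite := (Set.finite_le_nat B).subset (by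
    rintro _ ⟨a, ha, rfl⟩
    exact hB a ha)
  obtain ⟨m, ⟨a, ha, rfl⟩, hmax⟩ := Set.exists_max_image (f '' s) id hfin (hs.image f)
  exact ⟨a, ha, fun b hb => hmax _ ⟨b, hb, rfl⟩⟩

/-- Maps of the normalizer system of `L` in the normalizer system of `P` are maps of the normalizer system of `L`. -/
theorem normalizerHom_subset_of_normalizerSystem {Ω : Type*} [Group Ω] {S : Subgroup Ω} (F : FusionSystem S)
    {P : Subgroup Ω} (N : FusionSystem (normalizerIn S P)) (hN : F.IsNormalizerSystem P N) (L D : Subgroup Ω)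
    {φ : D →* Ω} (hφ : φ ∈ N.normalizerHom L D) : φ ∈ F.normalizerHom L D := by
  obtain ⟨h1, h2, h3, ψ, hψ, h4, h5⟩ := hφ
  rw [hN D] at h1
  rw [hN (D ⊔ L)] at hψ
  have hle : normalizerIn (normalizerIn S P) L ≤ normalizerIn S L := by
    unfold normalizerIn
    exact inf_le_inf_right _ inf_le_left
  exact ⟨h1.1, h2.trans hle, fun x => hle (h3 x), ψ, hψ.1, h4, h5⟩

theorem ne_bot_of_map_eq {Ω : Type*} [Group Ω] {Q Q' X : Subgroup Ω} (hQX : Q ≤ X) (χ : X →* Ω)
    (hinj : Function.Injective χ) (h : (Q.subgroupOf X).map χ = Q') (hQ : Q ≠ ⊥) : Q' ≠ ⊥ := by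
  intro hQ'
  apply hQ
  rw [hQ', Subgroup.map_eq_bot_iff_of_injective _ hinj, Subgroup.subgroupOf_eq_bot] at h
  exact h.eq_bot_of_le hQX

/-- Glauberman-Thompson for fusion systems, in the form used for the induction. -/
theorem gt_main (p : ℕ) [Fact p.Prime] (hp : p ≠ 2) :
    ∀ (n : ℕ) (Ω : Type u) [Group Ω] (S : Subgroup Ω) [Finite S], Nat.card S = n → IsPGroup p S →
      GTStatement p Ω S := by
  intro n
  induction n using Nat.strong_induction_on with
  | _ n ih =>
  intro Ω _ S _ hn hS F hF hW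
  by_contra hnot
  -- some automorphism group is not a `p`-group
  have hex : ∃ P₀ : Subgroup Ω, P₀ ≤ S ∧ ¬ IsPGroup p (F.autGroup P₀) := by
    by_contra hall
    push Not at hall
    apply hnot
    intro D φ hφ
    exact frobenius_inner p hS F hF hall D φ hφ
  obtain ⟨P₀, hP₀S, hP₀⟩ := hex
  have hP₀1 : P₀ ≠ ⊥ := by
    rintro rfl
    apply hP₀
    intro α
    refine ⟨0, ?_⟩
    apply Subtype.ext
    apply DFunLike.ext
    intro x
    exact Subsingleton.elim _ _
  have hbad₀ : BadAut p F P₀ := by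
    unfold IsPGroup at hP₀
    push Not at hP₀
    obtain ⟨α, hα⟩ := hP₀
    have hαiso := (mem_autGroup_iff F hP₀S _).mp α.2
    refine ⟨P₀, (α : MulAut P₀), le_rfl, le_normalizerIn_self hP₀S, hαiso,
      fun x _ => ((α : MulAut P₀) x).2, fun k hk => hα k ?_⟩
    apply Subtype.ext
    rw [Subgroup.coe_pow]
    exact hk
  obtain ⟨P₁, hconj₁, hP₁a, hP₁r⟩ := hF P₀ hP₀S
  obtain ⟨φ₁, hφ₁, hφ₁N, hφ₁P⟩ := Cfsg.Agent.S5079.result p hS F P₁ P₀ hP₁a hP₁r hconj₁
  have hbad₁ : BadAut p F P₁ := hbad₀.transport F le_rfl hφ₁ hφ₁N hφ₁P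
  have hP₁n : F.IsFullyNormalized P₁ := isFullyNormalized_of_automized_receptive hS F hP₁a hP₁r
  have hP₁1 : P₁ ≠ ⊥ :=
    ne_bot_of_map_eq (le_normalizerIn_self hP₀S) φ₁ (F.injective_of_mem hφ₁) hφ₁P hP₀1
  -- choose a bad fully normalized subgroup with `|N_S(P)|`, then `|P|`, maximal
  obtain ⟨P, ⟨hP1, hPn, hPbad⟩, hmax⟩ := exists_max_of_bdd
    {P : Subgroup Ω | P ≠ ⊥ ∧ F.IsFullyNormalized P ∧ BadAut p F P}
    (fun P => Nat.card (normalizerIn S P) * (Nat.card S + 1) + Nat.card P)
    (Nat.card S * (Nat.card S + 1) + Nat.card S)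
    (by
      rintro Q ⟨-, hQn, -⟩
      have h1 : Nat.card (normalizerIn S Q) ≤ Nat.card S := Subgroup.card_le_of_le inf_le_left
      have h2 : Nat.card Q ≤ Nat.card S := Subgroup.card_le_of_le hQn.1
      exact Nat.add_le_add (Nat.mul_le_mul_right _ h1) h2)
    ⟨P₁, hP₁1, hP₁n, hbad₁⟩
  have hPS : P ≤ S := hPn.1
  set T := normalizerIn S P with hT_def
  have hTS : T ≤ S := inf_le_left
  haveI : Finite T := finite_of_le hTS
  have hTp : IsPGroup p T := hS.to_le hTS
  have hPT : P ≤ T := le_normalizerIn_self hPS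
  have hT1 : T ≠ ⊥ := fun h => hP1 (le_bot_iff.mp (h ▸ hPT))
  have hEN : F.IsNormalizerSystem P (Cfsg.Agent.S5096.normalizerSystem F P hPS) := fun _ => rfl
  have hEsat : (Cfsg.Agent.S5096.normalizerSystem F P hPS).IsSaturated p :=
    Cfsg.Agent.S5098.result p hS F hF P hPn _ hEN
  have hEnot : ¬ ∀ (D : Subgroup Ω) (φ : D →* Ω),
      φ ∈ (Cfsg.Agent.S5096.normalizerSystem F P hPS).Hom D → ConjBy T φ := by
    intro hall
    apply not_badAut_of_conj hS F (Q := P) ?_ hPbad
    intro D φ hφ
    exact (hall D φ hφ).mono hTS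
  have hPcard : Nat.card P ≤ Nat.card S := Subgroup.card_le_of_le hPS
  by_cases hTeq : T = S
  · -- `P` is normal in `S`
    apply hEnot
    apply conjBy_of_normal hp hTp _ hEsat (isNormal_normalizerSystem F hPS _ hEN) hP1 ?_ ?_ ?_
    · intro L hPL hLT hTL D φ hφ
      have hφF := normalizerHom_subset_of_normalizerSystem F _ hEN L D hφ
      have hLS : L ≤ S := hLT.trans hTS
      have hSL : S ≤ Subgroup.normalizer (L : Set Ω) := by
        rw [← hTeq]
        exact hTL
      have hNL : normalizerIn S L = S := inf_eq_left.mpr hSL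
      have hLn : F.IsFullyNormalized L := by
        refine ⟨hLS, fun Q' _ => ?_⟩
        rw [hNL]
        exact Subgroup.card_le_of_le inf_le_left
      have hL1 : L ≠ ⊥ := by
        rintro rfl
        exact not_lt_bot hPL
      haveI : Finite L := finite_of_le hLS
      have hLbad : ¬ BadAut p F L := by
        intro hb
        have h1 : Nat.card (normalizerIn S L) * (Nat.card S + 1) + Nat.card L ≤
            Nat.card T * (Nat.card S + 1) + Nat.card P := hmax L ⟨hL1, hLn, hb⟩
        rw [hNL, hTeq] at h1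
        have h2 : Nat.card P < Nat.card L := card_lt_card_of_lt hPL
        omega
      by_contra hcon
      apply hLbad
      apply badAut_of_not_conj hS F hF hLn
      intro hall
      apply hcon
      apply (hall D φ hφF).mono
      rw [hNL, hTeq]
    · intro D φ hφ
      have hφF := normalizerHom_subset_of_normalizerSystem F _ hEN _ D hφ
      rw [hTeq] at hφF
      apply (hW D φ hφF).mono
      rw [hTeq]
    · intro Ω' _ S' _ hcard hS'p
      refine ih (Nat.card S') ?_ Ω' S' rfl hS'p
      rw [← hn]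
      exact lt_of_lt_of_le hcard (Subgroup.card_le_of_le hTS)
  · -- `N_S(P) < S`: pass to `Z(J(N_S(P)))`
    exfalso
    have hTlt : T < S := lt_of_le_of_ne hTS hTeq
    have hcardT : Nat.card T < n := by
      rw [← hn]
      exact card_lt_card_of_lt hTlt
    have hGT := ih (Nat.card T) hcardT Ω T rfl hTp _ hEsat
    have hW₁T : centerThompsonAOf T ≤ T := zj_le T
    have hTW₁ : T ≤ Subgroup.normalizer (centerThompsonAOf T : Set Ω) :=
      Subgroup.le_normalizer.trans zj_normalizer
    have hNW₁ : normalizerIn T (centerThompsonAOf T) = T := inf_eq_left.mpr hTW₁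
    have hW₁n : (Cfsg.Agent.S5096.normalizerSystem F P hPS).IsFullyNormalized (centerThompsonAOf T) := by
      refine ⟨hW₁T, fun Q' _ => ?_⟩
      rw [hNW₁]
      exact Subgroup.card_le_of_le inf_le_left
    have hbadE : BadAut p (Cfsg.Agent.S5096.normalizerSystem F P hPS) (centerThompsonAOf T) := by
      apply badAut_of_not_conj hTp _ hEsat hW₁n
      intro hall
      apply hEnot
      apply hGT
      intro D φ hφ
      exact (hall D φ hφ).mono inf_le_left
    have hbadF : BadAut p F (centerThompsonAOf T) := by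
      obtain ⟨M, β, hQM, hMN, hβ, hβQ, hbad⟩ := hbadE
      have hle : normalizerIn T (centerThompsonAOf T) ≤ normalizerIn S (centerThompsonAOf T) := by
        unfold normalizerIn
        exact inf_le_inf_right _ hTS
      exact ⟨M, β, hQM, hMN.trans hle, hβ.1, hβQ, hbad⟩
    have hW₁S : centerThompsonAOf T ≤ S := hW₁T.trans hTS
    have hW₁1 : centerThompsonAOf T ≠ ⊥ := zj_ne_bot hTp hT1
    obtain ⟨W', hconj, hW'a, hW'r⟩ := hF _ hW₁S
    obtain ⟨χ, hχ, hχN, hχW⟩ := Cfsg.Agent.S5079.result p hS F W' _ hW'a hW'r hconj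
    have hbad' : BadAut p F W' := hbadF.transport F le_rfl hχ hχN hχW
    have hW'n := isFullyNormalized_of_automized_receptive hS F hW'a hW'r
    have hW'1 : W' ≠ ⊥ :=
      ne_bot_of_map_eq (le_normalizerIn_self hW₁S) χ (F.injective_of_mem hχ) hχW hW₁1
    have hle : Nat.card (normalizerIn S W') * (Nat.card S + 1) + Nat.card W' ≤
        Nat.card T * (Nat.card S + 1) + Nat.card P := hmax W' ⟨hW'1, hW'n, hbad'⟩
    haveI : Finite (normalizerIn S W') := finite_of_le inf_le_left
    haveI : Finite (normalizerIn S (centerThompsonAOf T)) := finite_of_le inf_le_left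
    haveI : Finite (normalizerIn S T) := finite_of_le inf_le_left
    have h1 : Nat.card (normalizerIn S (centerThompsonAOf T)) ≤ Nat.card (normalizerIn S W') := by
      apply Nat.card_le_card_of_injective (fun x => (⟨χ x, hχN x⟩ : normalizerIn S W'))
      intro a b hab
      exact F.injective_of_mem hχ (congrArg Subtype.val hab)
    have h2 : normalizerIn S T ≤ normalizerIn S (centerThompsonAOf T) := by
      unfold normalizerIn
      exact inf_le_inf_left _ zj_normalizer
    have h3 : T < normalizerIn S T := lt_normalizerIn hS hTlt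
    have h4 : Nat.card T < Nat.card (normalizerIn S T) := card_lt_card_of_lt h3
    have h5 : Nat.card (normalizerIn S T) ≤ Nat.card (normalizerIn S (centerThompsonAOf T)) :=
      Subgroup.card_le_of_le h2
    have h6 : (Nat.card T + 1) * (Nat.card S + 1) ≤ Nat.card (normalizerIn S W') * (Nat.card S + 1) :=
      Nat.mul_le_mul_right _ (by omega)
    nlinarith

end Cfsg.Agent.Helper2.FusGT
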