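import Cfsg.Agent.Helper2.FusGT4
set_option autoImplicit false

/-!
Glauberman-Thompson for fusion systems relative to a strongly closed subgroup `D` (S5275), part 1: `Z(J(D))` for a
subgroup `D` of `T`, and subgroups normal in a system.
-/

namespace Cfsg.Agent.Helper2.FusGT

open Cfsg Cfsg.FusionSystem Cfsg.Agent.Helper87 Cfsg.Agent.Helper10.ZJF

universe u

variable {Ω : Type u} [Group Ω]

/-- `Z(J(D))` is a characteristic subgroup of `D`. -/
theorem zj_characteristic (D : Subgroup Ω) : ((centerThompsonAOf D).subgroupOf D).Characteristic := by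
  rw [zj_subgroupOf, Subgroup.characteristic_iff_map_eq]
  intro φ
  have h := zjA_map_equiv φ
  unfold zjA
  exact h

/-- `Z(J(·))` of the image of `D ≤ T` under an injective homomorphism defined on `T`. -/
theorem zj_range_sub {G : Type u} [Group G] {T : Subgroup Ω} (ι : ↥T →* G) (hinj : Function.Injective ι)
    (D : Subgroup Ω) (hDT : D ≤ T) :
    centerThompsonAOf ((D.subgroupOf T).map ι) = ((centerThompsonAOf D).subgroupOf T).map ι := by
  have hfinj : Function.Injective (ι.comp (Subgroup.inclusion hDT)) :=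
    hinj.comp (Subgroup.inclusion_injective hDT)
  have hrange : (D.subgroupOf T).map ι = (ι.comp (Subgroup.inclusion hDT)).range := by
    rw [MonoidHom.range_comp, Subgroup.inclusion_range]
  rw [zj_range (ι.comp (Subgroup.inclusion hDT)) hfinj _ hrange, ← Subgroup.map_map]
  congr 1
  ext x
  constructor
  · rintro ⟨d, hd, rfl⟩
    exact Subgroup.mem_subgroupOf.mpr (Subgroup.mem_subgroupOf.mp hd)
  · intro hx
    have hx' : (x : Ω) ∈ centerThompsonAOf D := Subgroup.mem_subgroupOf.mp hx
    exact ⟨⟨x, zj_le D hx'⟩, Subgroup.mem_subgroupOf.mpr hx', Subtype.ext rfl⟩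

variable {T : Subgroup Ω}

/-- A strongly closed subgroup contained in a subgroup normal in the system is normal in the system. -/
theorem isNormal_of_stronglyClosed_le_normal [Finite T] (E : FusionSystem T) {P D : Subgroup Ω} (hP : E.IsNormal P)
    (hD : E.StronglyClosed D) (hDP : D ≤ P) : E.IsNormal D := by
  refine ⟨hD.1, fun R φ hφ => ?_⟩
  obtain ⟨ψ, hψ, hψext, -⟩ := hP.2 R φ hφ
  have hle : R ⊔ D ≤ R ⊔ P := sup_le_sup_left hDP R
  have hψ' : ψ.comp (Subgroup.inclusion hle) ∈ E.Hom (R ⊔ D) := restrict_mem E hψ hle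
  haveI : Finite D := finite_of_le hD.1
  refine ⟨ψ.comp (Subgroup.inclusion hle), hψ', fun x => ?_, ?_⟩
  · rw [← hψext x]
    rfl
  · apply map_subgroupOf_eq_of_maps_into le_sup_right _ (E.injective_of_mem hψ')
    intro x hx
    have h1 := hD.2 D le_rfl _ (restrict_mem E hψ' (le_sup_right : D ≤ R ⊔ D)) ⟨x, hx⟩
    exact h1

/-- Every map of the system is a map of the normalizer system of a subgroup normal in the system. -/
theorem mem_normalizerHom_of_isNormal (E : FusionSystem T) {W : Subgroup Ω} (hW : E.IsNormal W)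
    (hTW : T ≤ Subgroup.normalizer (W : Set Ω)) {R : Subgroup Ω} {φ : R →* Ω} (hφ : φ ∈ E.Hom R) :
    φ ∈ E.normalizerHom W R := by
  obtain ⟨ψ, hψ, hψext, hψW⟩ := hW.2 R φ hφ
  have hle : T ≤ normalizerIn T W := le_inf le_rfl hTW
  exact ⟨hφ, (E.le_of_mem hφ).1.trans hle, fun x => hle ((E.le_of_mem hφ).2 x), ψ, hψ, hψext, hψW⟩

end Cfsg.Agent.Helper2.FusGT
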