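import Cfsg.Agent.Helper2.FusGTD1
import Cfsg.Agent.S3082
set_option autoImplicit false

/-!
Glauberman-Thompson for fusion systems relative to a strongly closed subgroup `D` (S5275), part 2: the model step in
general form. For a system `E` over `T` realized by `ι : T →* G` with `ι(T)` a Sylow subgroup:
* if the normalizer system of `W ≤ T` is inner then `N_G(ι W)` has a normal `p`-complement;
* if `G` has a normal `p`-complement then `E` is inner.
-/

namespace Cfsg.Agent.Helper2.FusGT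

open Cfsg Cfsg.FusionSystem Cfsg.Agent.Helper87

universe u

variable {Ω : Type u} [Group Ω] {T : Subgroup Ω}

/-- If the normalizer system of `W` is inner, the normalizer of the image of `W` has a normal `p`-complement. -/
theorem npc_normalizer_of_conj [Finite T] {p : ℕ} [Fact p.Prime] (hT : IsPGroup p T)
    (E : FusionSystem T) {G : Type u} [Group G] [Finite G] (ι : T →* G) (hreal : E.IsRealizedBy ι)
    (Sy : Sylow p G) (hSy : (Sy : Subgroup G) = ι.range) {W : Subgroup Ω} (hWT : W ≤ T)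
    (hTW : T ≤ Subgroup.normalizer (W : Set Ω))
    (hSyH : (Sy : Subgroup G) ≤ Subgroup.normalizer (((W.subgroupOf T).map ι : Subgroup G) : Set G))
    (hW : ∀ (D : Subgroup Ω) (φ : D →* Ω), φ ∈ E.normalizerHom W D → ConjBy T φ) :
    HasNormalPComplement p ↥(Subgroup.normalizer (((W.subgroupOf T).map ι : Subgroup G) : Set G)) := by
  obtain ⟨hinj, hreal⟩ := hreal
  set WG : Subgroup G := (W.subgroupOf T).map ι with hWG
  set H := Subgroup.normalizer (WG : Set G) with hH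
  refine ⟨Sy.subtype hSyH, ?_⟩
  apply (Cfsg.Agent.Helper78.frobenius_normal_pComplement_iff (Sy.subtype hSyH)).mpr
  intro Q hQ g hg hcop
  rw [Sylow.coe_subtype] at hQ
  have hQSy : ∀ q ∈ Q, ((q : H) : G) ∈ ι.range := by
    intro q hq
    rw [← hSy]
    exact Subgroup.mem_subgroupOf.mp (hQ hq)
  have hWGSy : WG ≤ ι.range := by
    rintro _ ⟨w, -, rfl⟩
    exact ⟨w, rfl⟩
  set MG : Subgroup G := Q.map H.subtype ⊔ WG with hMG
  have hMGSy : MG ≤ ι.range := by
    apply sup_le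
    · rintro _ ⟨q, hq, rfl⟩
      exact hQSy q hq
    · exact hWGSy
  have hgQ : ∀ y ∈ Q.map H.subtype, (g : G) * y * (g : G)⁻¹ ∈ Q.map H.subtype := by
    rintro _ ⟨q, hq, rfl⟩
    exact ⟨g * q * g⁻¹, (Subgroup.mem_normalizer_iff.mp hg q).mp hq, rfl⟩
  have hgW : ∀ y ∈ WG, (g : G) * y * (g : G)⁻¹ ∈ WG := by
    intro y hy
    exact (Subgroup.mem_normalizer_iff.mp g.2 y).mp hy
  have hgM : ∀ y ∈ MG, (g : G) * y * (g : G)⁻¹ ∈ MG := by
    have hle : MG ≤ MG.comap (MulAut.conj (g : G)).toMonoidHom := by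
      apply sup_le
      · intro y hy
        exact le_sup_left (a := Q.map H.subtype) (hgQ y hy)
      · intro y hy
        exact le_sup_right (a := Q.map H.subtype) (hgW y hy)
    intro y hy
    exact hle hy
  set M : Subgroup Ω := preimageAlong ι MG with hM
  have hMT : M ≤ T := Helper85.preimageAlong_le ι MG
  have hmem : ∀ y : M, (g : G) * ι ⟨y, hMT y.2⟩ * (g : G)⁻¹ ∈ ι.range := by
    intro y
    apply hMGSy
    apply hgM
    exact ((Helper85.mem_preimageAlong ι MG _).mp y.2).2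
  obtain ⟨ψ, hψT, hψ⟩ := exists_hom_of_conj ι hinj hMT (g : G) hmem
  have hψE : ψ ∈ E.Hom M := (hreal M hMT ψ hψT).mpr ⟨g, hψ⟩
  have hWM : W ≤ M := by
    intro w hw
    rw [hM, Helper85.mem_preimageAlong]
    refine ⟨hWT hw, ?_⟩
    apply le_sup_right (a := Q.map H.subtype)
    exact ⟨⟨w, hWT hw⟩, Subgroup.mem_subgroupOf.mpr hw, rfl⟩
  haveI : Finite W := finite_of_le hWT
  have hψW : (W.subgroupOf M).map ψ = W := by
    apply map_subgroupOf_eq_of_maps_into hWM ψ (E.injective_of_mem hψE)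
    intro x hx
    have h1 : ι ⟨x, hMT x.2⟩ ∈ WG := ⟨⟨x, hMT x.2⟩, Subgroup.mem_subgroupOf.mpr hx, rfl⟩
    have h2 := hgW _ h1
    rw [← hψ x] at h2
    obtain ⟨w, hw, hwx⟩ := h2
    have h3 := hinj hwx
    have h4 : (w : Ω) = ψ x := congrArg Subtype.val h3
    rw [← h4]
    exact Subgroup.mem_subgroupOf.mp hw
  have hMN : M ≤ normalizerIn T W := le_inf hMT (hMT.trans hTW)
  obtain ⟨t, ht, htx⟩ := hW M ψ (mem_normalizerHom_of_le E hWM hMN hψE hψW)
  obtain ⟨k, hk⟩ := hT ⟨t, ht⟩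
  have hτ : (ι ⟨t, ht⟩) ^ (p ^ k) = 1 := by rw [← map_pow, hk, map_one]
  have hcopG : (orderOf (g : G)).Coprime p := by
    rw [Subgroup.orderOf_coe]
    exact hcop
  have hact : ∀ y ∈ Q.map H.subtype, (g : G) * y * (g : G)⁻¹ = ι ⟨t, ht⟩ * y * (ι ⟨t, ht⟩)⁻¹ := by
    rintro _ ⟨q, hq, rfl⟩
    obtain ⟨x, hx⟩ := hQSy q hq
    have hxM : (x : Ω) ∈ M := by
      rw [hM, Helper85.mem_preimageAlong]
      refine ⟨x.2, ?_⟩
      apply le_sup_left (b := WG)
      exact ⟨q, hq, hx.symm⟩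
    have h1 := hψ ⟨x, hxM⟩
    have h2 : (⟨ψ ⟨x, hxM⟩, hψT _⟩ : T) = ⟨t, ht⟩ * x * ⟨t, ht⟩⁻¹ := by
      apply Subtype.ext
      exact htx ⟨x, hxM⟩
    rw [h2, map_mul, map_mul, map_inv] at h1
    have h3 : ι ⟨((⟨x, hxM⟩ : M) : Ω), hMT hxM⟩ = ι x := rfl
    rw [h3, hx] at h1
    exact h1.symm
  have hcent := conj_eq_self_of_coprime (Q.map H.subtype) (g : G) (ι ⟨t, ht⟩) k hτ hcopG hgQ hact
  rw [Subgroup.mem_centralizer_iff]
  intro q hq
  apply Subtype.ext
  have h1 : (g : G) * (q : G) * (g : G)⁻¹ = (q : G) := hcent _ ⟨q, hq, rfl⟩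
  show (q : G) * (g : G) = (g : G) * (q : G)
  calc (q : G) * (g : G) = ((g : G) * q * (g : G)⁻¹) * g := by rw [h1]
    _ = (g : G) * (q : G) := by group

/-- A system realized by a group with a normal `p`-complement is inner. -/
theorem conjBy_of_npc {p : ℕ} [Fact p.Prime] (E : FusionSystem T) {G : Type u} [Group G] [Finite G]
    (ι : T →* G) (hreal : E.IsRealizedBy ι) (Sy : Sylow p G) (hSy : (Sy : Subgroup G) = ι.range)
    (hnpcG : HasNormalPComplement p G) :
    ∀ (D : Subgroup Ω) (φ : D →* Ω), φ ∈ E.Hom D → ConjBy T φ := by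
  obtain ⟨hinj, hreal⟩ := hreal
  obtain ⟨P', K', hK'n, hK'c⟩ := hnpcG
  haveI := hK'n
  have hfrob := Cfsg.Agent.Helper78.frobHyp_of_isComplement' P' K' hK'c
  obtain ⟨K, hKn, hKc⟩ := hfrob.exists_normal_isComplement' Sy
  intro D φ hφ
  have hDT : D ≤ T := (E.le_of_mem hφ).1
  have hφT : ∀ x : D, φ x ∈ T := (E.le_of_mem hφ).2
  obtain ⟨g, hg⟩ := (hreal D hDT φ hφT).mp hφ
  obtain ⟨⟨⟨k, hk⟩, ⟨s, hs⟩⟩, hks, -⟩ := (Subgroup.isComplement'_def.mp hKc).existsUnique g
  simp only at hks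
  rw [hSy] at hs
  obtain ⟨t, rfl⟩ := hs
  refine ⟨t, t.2, fun x => ?_⟩
  have h1 := hg x
  set y := ι ⟨x, hDT x.2⟩ with hy
  set z := ι t * y * (ι t)⁻¹ with hz
  have hzSy : z ∈ (Sy : Subgroup G) := by
    rw [hSy, hz, hy, ← map_mul, ← map_inv, ← map_mul]
    exact ⟨_, rfl⟩
  have h2 : g * y * g⁻¹ = k * z * k⁻¹ := by
    rw [← hks, hz]
    group
  have h3 : k * z * k⁻¹ ∈ (Sy : Subgroup G) := by
    rw [← h2, ← h1, hSy]
    exact ⟨_, rfl⟩
  have h4 : k * z * k⁻¹ * z⁻¹ ∈ K := by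
    have : k * z * k⁻¹ * z⁻¹ = k * (z * k⁻¹ * z⁻¹) := by group
    rw [this]
    exact K.mul_mem hk (hKn.conj_mem _ (K.inv_mem hk) z)
  have h5 : k * z * k⁻¹ * z⁻¹ ∈ (Sy : Subgroup G) :=
    (Sy : Subgroup G).mul_mem h3 ((Sy : Subgroup G).inv_mem hzSy)
  have h6 : k * z * k⁻¹ * z⁻¹ = 1 := by
    have hdisj := hKc.disjoint
    exact (Subgroup.disjoint_def.mp hdisj) h4 h5
  have h7 : k * z * k⁻¹ = z := by
    have := congrArg (· * z) h6
    simpa using this
  rw [h2, h7, hz, hy, ← map_mul, ← map_inv, ← map_mul] at h1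
  have h8 := hinj h1
  exact congrArg Subtype.val h8

/-- The image under a realizing map of a subgroup strongly closed in the system is strongly closed in the group. -/
theorem isStronglyClosed_map_of_realized {p : ℕ} (E : FusionSystem T) {G : Type u} [Group G]
    (ι : T →* G) (hreal : E.IsRealizedBy ι) (Sy : Sylow p G) (hSy : (Sy : Subgroup G) = ι.range)
    {D : Subgroup Ω} (hD : E.StronglyClosed D) :
    IsStronglyClosed ((D.subgroupOf T).map ι) (Sy : Subgroup G) := by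
  obtain ⟨hinj, hreal⟩ := hreal
  refine ⟨?_, ?_⟩
  · rw [hSy]
    rintro _ ⟨d, -, rfl⟩
    exact ⟨d, rfl⟩
  · rintro _ ⟨d, hd, rfl⟩ g hg
    have hdD : (d : Ω) ∈ D := Subgroup.mem_subgroupOf.mp hd
    -- the cyclic subgroup generated by `d`
    have hRT : Subgroup.zpowers (d : Ω) ≤ T := by
      rw [Subgroup.zpowers_le]
      exact d.2
    have hRD : Subgroup.zpowers (d : Ω) ≤ D := by
      rw [Subgroup.zpowers_le]
      exact hdD
    have hmem : ∀ y : Subgroup.zpowers (d : Ω), g * ι ⟨y, hRT y.2⟩ * g⁻¹ ∈ ι.range := by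
      rintro ⟨y, hy⟩
      obtain ⟨n, rfl⟩ := Subgroup.mem_zpowers_iff.mp hy
      have e : (⟨(d : Ω) ^ n, hRT hy⟩ : T) = d ^ n := Subtype.ext (by simp)
      rw [e, map_zpow]
      have : g * ι d ^ n * g⁻¹ = (g * ι d * g⁻¹) ^ n := by
        rw [conj_zpow]
      rw [this, ← hSy]
      exact (Sy : Subgroup G).zpow_mem hg n
    obtain ⟨ψ, hψT, hψ⟩ := exists_hom_of_conj ι hinj hRT g hmem
    have hψE : ψ ∈ E.Hom (Subgroup.zpowers (d : Ω)) := (hreal _ hRT ψ hψT).mpr ⟨g, hψ⟩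
    have h1 := hD.2 _ hRD ψ hψE ⟨d, Subgroup.mem_zpowers _⟩
    have h2 := hψ ⟨d, Subgroup.mem_zpowers _⟩
    have e2 : (⟨((⟨(d : Ω), Subgroup.mem_zpowers _⟩ : Subgroup.zpowers (d : Ω)) : Ω),
        hRT (Subgroup.mem_zpowers _)⟩ : T) = d := Subtype.ext rfl
    rw [e2] at h2
    rw [← h2]
    exact ⟨_, Subgroup.mem_subgroupOf.mpr h1, rfl⟩

/-- A system with a model in which the normalizer system of `Z(J(D))`, `D` strongly closed, is inner is the inner system
(`p` odd). -/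
theorem conjBy_of_model_sc [Finite T] {p : ℕ} [Fact p.Prime] (hp : p ≠ 2) (hT : IsPGroup p T)
    (E : FusionSystem T) {G : Type u} [Group G] (ι : T →* G) (hmodel : E.IsModel p G ι)
    {D : Subgroup Ω} (hD : E.StronglyClosed D)
    (hW : ∀ (Dm : Subgroup Ω) (φ : Dm →* Ω), φ ∈ E.normalizerHom (centerThompsonAOf D) Dm → ConjBy T φ) :
    ∀ (Dm : Subgroup Ω) (φ : Dm →* Ω), φ ∈ E.Hom Dm → ConjBy T φ := by
  obtain ⟨hfin, hreal, ⟨Sy, hSy⟩, -⟩ := hmodel
  haveI : Finite G := hfin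
  have hDT : D ≤ T := hD.1
  haveI : Finite D := finite_of_le hDT
  have hWT : centerThompsonAOf D ≤ T := (zj_le D).trans hDT
  have hTD : T ≤ Subgroup.normalizer (D : Set Ω) := le_normalizer_of_stronglyClosed E hD
  have hTW : T ≤ Subgroup.normalizer (centerThompsonAOf D : Set Ω) := hTD.trans zj_normalizer
  have hDG := isStronglyClosed_map_of_realized E ι hreal Sy hSy hD
  have hWG : centerThompsonAOf ((D.subgroupOf T).map ι) = ((centerThompsonAOf D).subgroupOf T).map ι :=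
    zj_range_sub ι hreal.1 D hDT
  -- `Sy` normalizes the image of `D`, hence `Z(J)` of it
  have hSyD : (Sy : Subgroup G) ≤ Subgroup.normalizer (((D.subgroupOf T).map ι : Subgroup G) : Set G) := by
    intro s hs
    haveI : Finite ↥((D.subgroupOf T).map ι) := Finite.of_injective (fun x => (x : G)) Subtype.val_injective
    apply Helper85.mem_normalizer_of_finite
    intro y hy
    apply hDG.2 y hy s
    exact (Sy : Subgroup G).mul_mem ((Sy : Subgroup G).mul_mem hs (hDG.1 hy)) ((Sy : Subgroup G).inv_mem hs)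
  haveI : Finite ↥((D.subgroupOf T).map ι) := Finite.of_injective (fun x => (x : G)) Subtype.val_injective
  have hSyH : (Sy : Subgroup G) ≤
      Subgroup.normalizer ((((centerThompsonAOf D).subgroupOf T).map ι : Subgroup G) : Set G) := by
    rw [← hWG]
    exact hSyD.trans zj_normalizer
  have hnpcH := npc_normalizer_of_conj hT E ι hreal Sy hSy hWT hTW hSyH hW
  rw [← hWG] at hnpcH
  have hnpcG : HasNormalPComplement p G := Cfsg.Agent.S3082.result hp Sy _ hDG (Or.inl hnpcH)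
  exact conjBy_of_npc E ι hreal Sy hSy hnpcG

end Cfsg.Agent.Helper2.FusGT
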