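import Cfsg.Agent.Helper2.FusGTD3
import Cfsg.Agent.Lib.Nilpotent
set_option autoImplicit false

/-!
Glauberman-Thompson for fusion systems relative to a strongly closed subgroup `D` (S5275), part 4: the induction.
-/

namespace Cfsg.Agent.Helper2.FusGT

open Cfsg Cfsg.FusionSystem Cfsg.Agent.Helper87

universe u

/-- Glauberman-Thompson for fusion systems relative to a strongly closed subgroup, in the form used for the
induction. -/
theorem gtd_main (p : ℕ) [Fact p.Prime] (hp : p ≠ 2) :
    ∀ (n : ℕ) (Ω : Type u) [Group Ω] (S : Subgroup Ω) [Finite S], Nat.card S = n → IsPGroup p S →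
      GTStatementD p Ω S := by
  intro n
  induction n using Nat.strong_induction_on with
  | _ n ih =>
  intro Ω _ S _ hn hS F hF D hD hW
  by_cases hD1 : D = ⊥
  · -- then the hypothesis is about the whole system
    subst hD1
    have hbot : centerThompsonAOf (⊥ : Subgroup Ω) = ⊥ := le_bot_iff.mp (zj_le ⊥)
    intro Dm φ hφ
    apply hW Dm φ
    rw [hbot]
    apply mem_normalizerHom_of_le F bot_le ?_ hφ ?_
    · refine le_inf (F.le_of_mem hφ).1 ?_
      rw [Subgroup.coe_bot, ← Subgroup.coe_bot, Subgroup.normalizer_eq_top]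
      exact le_top
    · rw [Subgroup.bot_subgroupOf, Subgroup.map_bot]
  have hDS : D ≤ S := hD.1
  have hSD : S ≤ Subgroup.normalizer (D : Set Ω) := le_normalizer_of_stronglyClosed F hD
  by_contra hnot
  -- some automorphism group is not a `p`-group
  have hex : ∃ P₀ : Subgroup Ω, P₀ ≤ S ∧ ¬ IsPGroup p (F.autGroup P₀) := by
    by_contra hall
    push Not at hall
    apply hnot
    intro D φ hφ
    exact frobenius_inner p hS F hF hall D φ hφ
  obtain ⟨P₀, hP₀S, hP₀⟩ := hex
  have hP₀1 : P₀ ≠ ⊥ := by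
    rintro rfl
    apply hP₀
    intro α
    refine ⟨0, ?_⟩
    apply Subtype.ext
    apply DFunLike.ext
    intro x
    exact Subsingleton.elim _ _
  have hbad₀ : BadAut p F P₀ := by
    unfold IsPGroup at hP₀
    push Not at hP₀
    obtain ⟨α, hα⟩ := hP₀
    have hαiso := (mem_autGroup_iff F hP₀S _).mp α.2
    refine ⟨P₀, (α : MulAut P₀), le_rfl, le_normalizerIn_self hP₀S, hαiso,
      fun x _ => ((α : MulAut P₀) x).2, fun k hk => hα k ?_⟩
    apply Subtype.ext
    rw [Subgroup.coe_pow]
    exact hk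
  obtain ⟨P₁, hconj₁, hP₁a, hP₁r⟩ := hF P₀ hP₀S
  obtain ⟨φ₁, hφ₁, hφ₁N, hφ₁P⟩ := Cfsg.Agent.S5079.result p hS F P₁ P₀ hP₁a hP₁r hconj₁
  have hbad₁ : BadAut p F P₁ := hbad₀.transport F le_rfl hφ₁ hφ₁N hφ₁P
  have hP₁n : F.IsFullyNormalized P₁ := isFullyNormalized_of_automized_receptive hS F hP₁a hP₁r
  have hP₁1 : P₁ ≠ ⊥ :=
    ne_bot_of_map_eq (le_normalizerIn_self hP₀S) φ₁ (F.injective_of_mem hφ₁) hφ₁P hP₀1
  -- choose a bad fully normalized subgroup with `|N_S(P)|`, then `|P|`, maximal
  obtain ⟨P, ⟨hP1, hPn, hPbad⟩, hmax⟩ := exists_max_of_bdd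
    {P : Subgroup Ω | P ≠ ⊥ ∧ F.IsFullyNormalized P ∧ BadAut p F P}
    (fun P => Nat.card (normalizerIn S P) * (Nat.card S + 1) + Nat.card P)
    (Nat.card S * (Nat.card S + 1) + Nat.card S)
    (by
      rintro Q ⟨-, hQn, -⟩
      have h1 : Nat.card (normalizerIn S Q) ≤ Nat.card S := Subgroup.card_le_of_le inf_le_left
      have h2 : Nat.card Q ≤ Nat.card S := Subgroup.card_le_of_le hQn.1
      exact Nat.add_le_add (Nat.mul_le_mul_right _ h1) h2)
    ⟨P₁, hP₁1, hP₁n, hbad₁⟩
  have hPS : P ≤ S := hPn.1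
  set T := normalizerIn S P with hT_def
  have hTS : T ≤ S := inf_le_left
  haveI : Finite T := finite_of_le hTS
  have hTp : IsPGroup p T := hS.to_le hTS
  have hPT : P ≤ T := le_normalizerIn_self hPS
  have hT1 : T ≠ ⊥ := fun h => hP1 (le_bot_iff.mp (h ▸ hPT))
  have hEN : F.IsNormalizerSystem P (Cfsg.Agent.S5096.normalizerSystem F P hPS) := fun _ => rfl
  have hEsat : (Cfsg.Agent.S5096.normalizerSystem F P hPS).IsSaturated p :=
    Cfsg.Agent.S5098.result p hS F hF P hPn _ hEN
  have hEnot : ¬ ∀ (D : Subgroup Ω) (φ : D →* Ω),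
      φ ∈ (Cfsg.Agent.S5096.normalizerSystem F P hPS).Hom D → ConjBy T φ := by
    intro hall
    apply not_badAut_of_conj hS F (Q := P) ?_ hPbad
    intro D φ hφ
    exact (hall D φ hφ).mono hTS
  have hPcard : Nat.card P ≤ Nat.card S := Subgroup.card_le_of_le hPS
  by_cases hTeq : T = S
  · -- `P` is normal in `S`
    apply hEnot
    have hDE : (Cfsg.Agent.S5096.normalizerSystem F P hPS).StronglyClosed D := by
      refine ⟨by show D ≤ T; rw [hTeq]; exact hDS, fun R hR φ hφ x => ?_⟩
      exact hD.2 R hR φ hφ.1 x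
    apply conjBy_of_normal_sc hp hTp _ hEsat (isNormal_normalizerSystem F hPS _ hEN) hP1 hDE ?_ ?_ ?_
    · intro L hPL hLT hTL D φ hφ
      have hφF := normalizerHom_subset_of_normalizerSystem F _ hEN L D hφ
      have hLS : L ≤ S := hLT.trans hTS
      have hSL : S ≤ Subgroup.normalizer (L : Set Ω) := by
        rw [← hTeq]
        exact hTL
      have hNL : normalizerIn S L = S := inf_eq_left.mpr hSL
      have hLn : F.IsFullyNormalized L := by
        refine ⟨hLS, fun Q' _ => ?_⟩
        rw [hNL]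
        exact Subgroup.card_le_of_le inf_le_left
      have hL1 : L ≠ ⊥ := by
        rintro rfl
        exact not_lt_bot hPL
      haveI : Finite L := finite_of_le hLS
      have hLbad : ¬ BadAut p F L := by
        intro hb
        have h1 : Nat.card (normalizerIn S L) * (Nat.card S + 1) + Nat.card L ≤
            Nat.card T * (Nat.card S + 1) + Nat.card P := hmax L ⟨hL1, hLn, hb⟩
        rw [hNL, hTeq] at h1
        have h2 : Nat.card P < Nat.card L := card_lt_card_of_lt hPL
        omega
      by_contra hcon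
      apply hLbad
      apply badAut_of_not_conj hS F hF hLn
      intro hall
      apply hcon
      apply (hall D φ hφF).mono
      rw [hNL, hTeq]
    · intro Dm φ hφ
      have hφF := normalizerHom_subset_of_normalizerSystem F _ hEN _ Dm hφ
      apply (hW Dm φ hφF).mono
      rw [hTeq]
    · intro Ω' _ S' _ hcard hS'p
      refine ih (Nat.card S') ?_ Ω' S' rfl hS'p
      rw [← hn]
      exact lt_of_lt_of_le hcard (Subgroup.card_le_of_le hTS)
  · -- `N_S(P) < S`: pass to `Z(J(N_S(P)))`
    exfalso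
    have hTlt : T < S := lt_of_le_of_ne hTS hTeq
    have hcardT : Nat.card T < n := by
      rw [← hn]
      exact card_lt_card_of_lt hTlt
    have hDE : (Cfsg.Agent.S5096.normalizerSystem F P hPS).StronglyClosed (D ⊓ T) := by
      refine ⟨inf_le_right, fun R hR φ hφ x => ?_⟩
      exact ⟨hD.2 R (hR.trans inf_le_left) φ hφ.1 x, hφ.2.2.1 x⟩
    have hGT := ih (Nat.card T) hcardT Ω T rfl hTp _ hEsat (D ⊓ T) hDE
    have hW₁T : centerThompsonAOf (D ⊓ T) ≤ T := (zj_le _).trans inf_le_right
    haveI : Finite ↥(D ⊓ T) := finite_of_le (inf_le_right.trans hTS)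
    have hTW₁ : T ≤ Subgroup.normalizer (centerThompsonAOf (D ⊓ T) : Set Ω) := by
      refine le_trans ?_ zj_normalizer
      refine le_trans ?_ Subgroup.inf_normalizer_le_normalizer_inf
      exact le_inf (hTS.trans hSD) Subgroup.le_normalizer
    -- `D ∩ N_S(P)` is not trivial: it contains `D ∩ Z(S)`
    have hDT1 : D ⊓ T ≠ ⊥ := by
      haveI : Group.IsNilpotent S := hS.isNilpotent
      haveI : (D.subgroupOf S).Normal := normal_subgroupOf_of_stronglyClosed F hD
      have hne : D.subgroupOf S ≠ ⊥ := by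
        intro h
        rw [Subgroup.subgroupOf_eq_bot] at h
        exact hD1 (h.eq_bot_of_le hDS)
      have h1 := Cfsg.Agent.Lib.normal_inf_center_ne_bot (D.subgroupOf S) hne
      obtain ⟨z, hz1⟩ := (Subgroup.ne_bot_iff_exists_ne_one).mp h1
      obtain ⟨hzD, hzZ⟩ := Subgroup.mem_inf.mp z.2
      intro hbot
      have hzT : ((z : S) : Ω) ∈ D ⊓ T := by
        refine ⟨Subgroup.mem_subgroupOf.mp hzD, (z : S).2, ?_⟩
        haveI : Finite P := finite_of_le hPS
        apply Helper85.mem_normalizer_of_finite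
        intro y hy
        have h2 := (Subgroup.mem_center_iff.mp hzZ) ⟨y, hPS hy⟩
        have h3 : y * ((z : S) : Ω) = ((z : S) : Ω) * y := congrArg Subtype.val h2
        rw [← h3, mul_inv_cancel_right]
        exact hy
      rw [hbot, Subgroup.mem_bot] at hzT
      apply hz1
      apply Subtype.ext
      apply Subtype.ext
      exact hzT
    have hNW₁ : normalizerIn T (centerThompsonAOf (D ⊓ T)) = T := inf_eq_left.mpr hTW₁
    have hW₁n : (Cfsg.Agent.S5096.normalizerSystem F P hPS).IsFullyNormalized (centerThompsonAOf (D ⊓ T)) := by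
      refine ⟨hW₁T, fun Q' _ => ?_⟩
      rw [hNW₁]
      exact Subgroup.card_le_of_le inf_le_left
    have hbadE : BadAut p (Cfsg.Agent.S5096.normalizerSystem F P hPS) (centerThompsonAOf (D ⊓ T)) := by
      apply badAut_of_not_conj hTp _ hEsat hW₁n
      intro hall
      apply hEnot
      apply hGT
      intro D φ hφ
      exact (hall D φ hφ).mono inf_le_left
    have hbadF : BadAut p F (centerThompsonAOf (D ⊓ T)) := by
      obtain ⟨M, β, hQM, hMN, hβ, hβQ, hbad⟩ := hbadE
      have hle : normalizerIn T (centerThompsonAOf (D ⊓ T)) ≤ normalizerIn S (centerThompsonAOf (D ⊓ T)) := by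
        unfold normalizerIn
        exact inf_le_inf_right _ hTS
      exact ⟨M, β, hQM, hMN.trans hle, hβ.1, hβQ, hbad⟩
    have hW₁S : centerThompsonAOf (D ⊓ T) ≤ S := hW₁T.trans hTS
    have hW₁1 : centerThompsonAOf (D ⊓ T) ≠ ⊥ := zj_ne_bot (hTp.to_le inf_le_right) hDT1
    obtain ⟨W', hconj, hW'a, hW'r⟩ := hF _ hW₁S
    obtain ⟨χ, hχ, hχN, hχW⟩ := Cfsg.Agent.S5079.result p hS F W' _ hW'a hW'r hconj
    have hbad' : BadAut p F W' := hbadF.transport F le_rfl hχ hχN hχW
    have hW'n := isFullyNormalized_of_automized_receptive hS F hW'a hW'r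
    have hW'1 : W' ≠ ⊥ :=
      ne_bot_of_map_eq (le_normalizerIn_self hW₁S) χ (F.injective_of_mem hχ) hχW hW₁1
    have hle : Nat.card (normalizerIn S W') * (Nat.card S + 1) + Nat.card W' ≤
        Nat.card T * (Nat.card S + 1) + Nat.card P := hmax W' ⟨hW'1, hW'n, hbad'⟩
    haveI : Finite (normalizerIn S W') := finite_of_le inf_le_left
    haveI : Finite (normalizerIn S (centerThompsonAOf (D ⊓ T))) := finite_of_le inf_le_left
    haveI : Finite (normalizerIn S T) := finite_of_le inf_le_left
    have h1 : Nat.card (normalizerIn S (centerThompsonAOf (D ⊓ T))) ≤ Nat.card (normalizerIn S W') := by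
      apply Nat.card_le_card_of_injective (fun x => (⟨χ x, hχN x⟩ : normalizerIn S W'))
      intro a b hab
      exact F.injective_of_mem hχ (congrArg Subtype.val hab)
    have h2 : normalizerIn S T ≤ normalizerIn S (centerThompsonAOf (D ⊓ T)) := by
      unfold normalizerIn
      refine le_inf inf_le_left ?_
      refine le_trans ?_ zj_normalizer
      refine le_trans ?_ Subgroup.inf_normalizer_le_normalizer_inf
      exact le_inf (inf_le_left.trans hSD) inf_le_right
    have h3 : T < normalizerIn S T := lt_normalizerIn hS hTlt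
    have h4 : Nat.card T < Nat.card (normalizerIn S T) := card_lt_card_of_lt h3
    have h5 : Nat.card (normalizerIn S T) ≤ Nat.card (normalizerIn S (centerThompsonAOf (D ⊓ T))) :=
      Subgroup.card_le_of_le h2
    have h6 : (Nat.card T + 1) * (Nat.card S + 1) ≤ Nat.card (normalizerIn S W') * (Nat.card S + 1) :=
      Nat.mul_le_mul_right _ (by omega)
    nlinarith


end Cfsg.Agent.Helper2.FusGT
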