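/-
helper2: the polynomial identity behind Glauberman's theorem on `℧ⁿ(Z(S))` for `p`-groups of class
at most `n(p-1)+1`.
* `pow_mul_eq_zero_of_nilp`: in a ring, if `d ^ (n(p-1)+1) = 0` and `(1+d)^p = 1` then `p^n d = 0`.
* `fix_pow_of_nilp`: an endomorphism `σ` of a commutative group with `σ^p = 1` and
  `(σ - 1)^(n(p-1)+1) = 0` fixes all `p^n`-th powers.
-/
import Mathlib

set_option autoImplicit false

namespace Cfsg.Agent.Helper2.PowNil

open Finset

/-- the shape of the binomial expansion of `(d+1)^p` -/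
theorem exists_add_one_pow_prime {R : Type*} [CommRing R] (p : ℕ) (hp : p.Prime) (d : R) :
    ∃ g : R, (d + 1) ^ p = d ^ p + 1 + (p : R) * d * (1 + d * g) := by
  have h := add_pow_prime_eq hp d (1 : R)
  have h2 : Ioo 0 p = insert 1 (Ioo 1 p) := by
    ext k
    simp only [mem_Ioo, mem_insert]
    have := hp.two_le
    omega
  have h1 : (1 : ℕ) ∉ Ioo 1 p := by simp
  rw [h2, sum_insert h1] at h
  refine ⟨∑ k ∈ Ioo 1 p, d ^ (k - 2) * ((p.choose k / p : ℕ) : R), ?_⟩
  rw [h]
  have h3 : ∑ k ∈ Ioo 1 p, d ^ (k - 1) * (1 : R) ^ (p - k - 1) * ((p.choose k / p : ℕ) : R)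
      = d * ∑ k ∈ Ioo 1 p, d ^ (k - 2) * ((p.choose k / p : ℕ) : R) := by
    rw [mul_sum]
    apply sum_congr rfl
    intro k hk
    rw [mem_Ioo] at hk
    have : k - 1 = (k - 2) + 1 := by omega
    rw [this, pow_succ, one_pow]
    ring
  rw [h3]
  have h4 : p.choose 1 / p = 1 := by
    rw [Nat.choose_one_right]
    exact Nat.div_self hp.pos
  simp only [h4, one_pow, Nat.sub_self, pow_zero, Nat.cast_one, mul_one]

/-- commutative ring version -/
theorem pow_mul_pow_eq_zero {R : Type*} [CommRing R] (p : ℕ) (hp : p.Prime) (c : ℕ) (d : R)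
    (hd : d ^ c = 0) (h1 : (1 + d) ^ p = 1) :
    ∀ j k : ℕ, 1 ≤ k → c ≤ k + j * (p - 1) → (p : R) ^ j * d ^ k = 0 := by
  obtain ⟨g, hg⟩ := exists_add_one_pow_prime p hp d
  rw [add_comm d 1, h1] at hg
  have hpd : (p : R) * d = - d ^ p - (p : R) * d ^ 2 * g := by
    have : d ^ p + (p : R) * d * (1 + d * g) = 0 := by
      have := hg
      linear_combination -this
    linear_combination this
  have hbig : ∀ k, c ≤ k → d ^ k = 0 := by
    intro k hk
    obtain ⟨m, rfl⟩ := Nat.exists_eq_add_of_le hk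
    rw [pow_add, hd, zero_mul]
  have hp2 := hp.two_le
  intro j
  induction j with
  | zero =>
    intro k _ hk
    rw [hbig k (by omega), mul_zero]
  | succ j ih =>
    have aux : ∀ m k : ℕ, 1 ≤ k → c - k ≤ m → c ≤ k + (j + 1) * (p - 1) →
        (p : R) ^ (j + 1) * d ^ k = 0 := by
      intro m
      induction m with
      | zero =>
        intro k _ hm _
        rw [hbig k (by omega), mul_zero]
      | succ m ihm =>
        intro k hk1 hm hk
        by_cases hck : c ≤ k
        · rw [hbig k hck, mul_zero]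
        · obtain ⟨k', rfl⟩ : ∃ k', k = k' + 1 := ⟨k - 1, by omega⟩
          have e1 : (p : R) ^ (j + 1) * d ^ (k' + 1)
              = - ((p : R) ^ j * d ^ (k' + 1 + (p - 1))) - (p : R) ^ (j + 1) * d ^ (k' + 1 + 1) * g := by
            have e2 : k' + 1 + (p - 1) = k' + p := by omega
            rw [e2]
            calc (p : R) ^ (j + 1) * d ^ (k' + 1) = (p : R) ^ j * d ^ k' * ((p : R) * d) := by ring
              _ = (p : R) ^ j * d ^ k' * (- d ^ p - (p : R) * d ^ 2 * g) := by rw [hpd]
              _ = - ((p : R) ^ j * d ^ (k' + p)) - (p : R) ^ (j + 1) * d ^ (k' + 1 + 1) * g := by ring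
          rw [e1, ih (k' + 1 + (p - 1)) (by omega) (by
            have : (j + 1) * (p - 1) = j * (p - 1) + (p - 1) := by ring
            omega), ihm (k' + 1 + 1) (by omega) (by omega) (by omega)]
          simp
    intro k hk1 hk
    exact aux c k hk1 (by omega) hk

/-- ring version: if `d ^ (n(p-1)+1) = 0` and `(1+d)^p = 1` then `p^n d = 0`. -/
theorem pow_mul_eq_zero_of_nilp {R : Type*} [Ring R] (p : ℕ) (hp : p.Prime) (n : ℕ) (d : R)
    (hd : d ^ (n * (p - 1) + 1) = 0) (h1 : (1 + d) ^ p = 1) : (p : R) ^ n * d = 0 := by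
  let A : Subalgebra ℤ R := Algebra.adjoin ℤ ({d} : Set R)
  letI : CommRing A := Algebra.adjoinCommRingOfComm ℤ (by
    intro a ha b hb
    rw [Set.mem_singleton_iff] at ha hb
    rw [ha, hb])
  let d' : A := ⟨d, Algebra.subset_adjoin rfl⟩
  have hd' : d' ^ (n * (p - 1) + 1) = 0 := by
    apply Subtype.ext
    simpa using hd
  have h1' : (1 + d') ^ p = 1 := by
    apply Subtype.ext
    simpa using h1
  have := pow_mul_pow_eq_zero p hp (n * (p - 1) + 1) d' hd' h1' n 1 le_rfl (by omega)
  have h2 := congrArg (fun x : A => (x : R)) this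
  simpa using h2

open scoped IsMulCommutative

/-- an automorphism `α` of a group `P` whose `p`-th iterate fixes `Z(P)` elementwise and with
`(α - 1)^(n(p-1)+1) = 0` on `Z(P)` fixes the `p^n`-th powers of the elements of `Z(P)`. -/
theorem fix_pow_center {P : Type*} [Group P] (p : ℕ) (hp : p.Prime) (n : ℕ) (α : MulAut P)
    (hαp : ∀ z ∈ Subgroup.center P, (⇑α)^[p] z = z)
    (hnil : ∀ z ∈ Subgroup.center P, (fun y => α y * y⁻¹)^[n * (p - 1) + 1] z = 1) :
    ∀ z ∈ Subgroup.center P, α (z ^ p ^ n) = z ^ p ^ n := by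
  have hchar : ∀ z ∈ Subgroup.center P, α z ∈ Subgroup.center P := by
    intro z hz
    have h := (Subgroup.centerCharacteristic (G := P)).fixed α
    have : z ∈ (Subgroup.center P).comap (α : P ≃* P).toMonoidHom := by rw [h]; exact hz
    exact this
  let σ : Subgroup.center P →* Subgroup.center P :=
    (α.toMonoidHom.comp (Subgroup.center P).subtype).codRestrict (Subgroup.center P) (fun z => hchar z z.2)
  let σ' : AddMonoid.End (Additive (Subgroup.center P)) := MonoidHom.toAdditive σ
  let d : AddMonoid.End (Additive (Subgroup.center P)) := σ' - 1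
  let ι : Additive (Subgroup.center P) → P := fun m => ((Additive.toMul m : Subgroup.center P) : P)
  have hιc : ∀ m, ι m ∈ Subgroup.center P := fun m => (Additive.toMul m : Subgroup.center P).2
  have hd1 : ∀ m, ι (d m) = α (ι m) * (ι m)⁻¹ := by
    intro m
    have e1 : d m = σ' m - m := rfl
    rw [e1]
    show ((Additive.toMul (σ' m - m) : Subgroup.center P) : P) = _
    rw [toMul_sub, Subgroup.coe_div, div_eq_mul_inv]
    rfl
  have hs1 : ∀ m, ι (σ' m) = α (ι m) := by
    intro m
    rfl
  have hdk : ∀ k m, ι ((d ^ k) m) = (fun y => α y * y⁻¹)^[k] (ι m) := by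
    intro k
    induction k with
    | zero => intro m; rfl
    | succ k ih =>
      intro m
      rw [pow_succ, Function.iterate_succ_apply, ← hd1, ← ih]
      rfl
  have hsk : ∀ k m, ι ((σ' ^ k) m) = (⇑α)^[k] (ι m) := by
    intro k
    induction k with
    | zero => intro m; rfl
    | succ k ih =>
      intro m
      rw [pow_succ, Function.iterate_succ_apply, ← hs1, ← ih]
      rfl
  have hιinj : Function.Injective ι := by
    intro a b hab
    have : (Additive.toMul a : Subgroup.center P) = Additive.toMul b := Subtype.ext hab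
    exact Additive.toMul.injective this
  have hι0 : ι 0 = 1 := rfl
  have hdc : d ^ (n * (p - 1) + 1) = 0 := by
    refine DFunLike.ext _ _ (fun m => ?_)
    apply hιinj
    rw [hdk, hnil _ (hιc m)]
    rfl
  have hsp : (1 + d) ^ p = 1 := by
    have : (1 : AddMonoid.End (Additive (Subgroup.center P))) + d = σ' := by
      show 1 + (σ' - 1) = σ'
      abel
    rw [this]
    refine DFunLike.ext _ _ (fun m => ?_)
    apply hιinj
    rw [hsk, hαp _ (hιc m)]
    rfl
  have key := pow_mul_eq_zero_of_nilp p hp n d hdc hsp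
  intro z hz
  have h2 := congrArg (fun f : AddMonoid.End (Additive (Subgroup.center P)) => ι (f (Additive.ofMul ⟨z, hz⟩))) key
  have h3 : ι ((((p : AddMonoid.End (Additive (Subgroup.center P))) ^ n) * d) (Additive.ofMul ⟨z, hz⟩))
      = (α z * z⁻¹) ^ p ^ n := by
    rw [← Nat.cast_pow]
    show ι (((p ^ n : ℕ) : AddMonoid.End (Additive (Subgroup.center P))) (d (Additive.ofMul ⟨z, hz⟩))) = _
    rw [AddMonoid.End.natCast_apply]
    show ((Additive.toMul (p ^ n • d (Additive.ofMul ⟨z, hz⟩)) : Subgroup.center P) : P) = _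
    rw [toMul_nsmul, Subgroup.coe_pow]
    have := hd1 (Additive.ofMul ⟨z, hz⟩)
    show (ι (d (Additive.ofMul ⟨z, hz⟩))) ^ p ^ n = _
    rw [this]
    rfl
  have h4 : (α z * z⁻¹) ^ p ^ n = 1 := by
    rw [← h3]
    exact h2
  have hc : Commute (α z) z⁻¹ := by
    have := Subgroup.mem_center_iff.mp hz (α z)
    exact (Commute.inv_right this)
  rw [hc.mul_pow, inv_pow, mul_inv_eq_one] at h4
  rw [map_pow]
  exact h4

end Cfsg.Agent.Helper2.PowNil
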