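import Mathlib
import Cfsg.Agent.Helper2.PowNil
import Cfsg.Agent.Helper87.FusionBasic

set_option autoImplicit false

namespace Cfsg.Agent.Helper2.FusGlau

open Cfsg Cfsg.Agent.Helper87 Cfsg.Agent.Helper2.PowNil

/-- **Key lemma.** If `S` has class at most `n(p-1)+1`, `P ≤ S`, and `s ∈ N_S(P)` has `s^p ∈ P`,
then `s` centralizes the `p^n`-th powers of the elements of `Z(P)`. -/
theorem conj_fix_pow {Ω : Type*} [Group Ω] {S P : Subgroup Ω} (p : ℕ) (hp : p.Prime) (n : ℕ)
    (hcl : Subgroup.lowerCentralSeries S (n * (p - 1) + 1) = ⊥) (hPS : P ≤ S)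
    (s : Ω) (hsS : s ∈ S) (hsN : s ∈ Subgroup.normalizer (P : Set Ω)) (hsp : s ^ p ∈ P)
    (z : P) (hz : z ∈ Subgroup.center P) :
    s * (z : Ω) ^ p ^ n * s⁻¹ = (z : Ω) ^ p ^ n := by
  set α : MulAut P := conjAut P s hsN with hα
  have hαx : ∀ x : P, ((α x : P) : Ω) = s * x * s⁻¹ := fun x => rfl
  have hiter : ∀ (k : ℕ) (x : P), (((⇑α)^[k] x : P) : Ω) = s ^ k * x * (s ^ k)⁻¹ := by
    intro k
    induction k with
    | zero => intro x; simp
    | succ k ih =>
      intro x
      rw [Function.iterate_succ_apply, ih, hαx, pow_succ]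
      group
  have h1 : ∀ y ∈ Subgroup.center P, (⇑α)^[p] y = y := by
    intro y hy
    apply Subtype.ext
    rw [hiter]
    have := Subgroup.mem_center_iff.mp hy ⟨s ^ p, hsp⟩
    have h2 := congrArg (fun t : P => (t : Ω)) this
    simp only [Subgroup.coe_mul] at h2
    rw [h2]
    group
  have hδ : ∀ (k : ℕ) (x : P), (((fun y : P => α y * y⁻¹)^[k] x : P) : Ω) ∈ Subgroup.lowerCentralSeries S k := by
    intro k
    induction k with
    | zero => intro x; exact hPS x.2
    | succ k ih =>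
      intro x
      rw [Function.iterate_succ_apply', Subgroup.lowerCentralSeries_succ]
      set y := (fun y : P => α y * y⁻¹)^[k] x with hy
      have hyk := ih x
      have e : (((α y * y⁻¹ : P)) : Ω) = (commutatorElement.bracket (y : Ω) s)⁻¹ := by
        rw [Subgroup.coe_mul, hαx]
        show _ = ((y : Ω) * s * (y : Ω)⁻¹ * s⁻¹)⁻¹
        simp [mul_assoc]
      show (((α y * y⁻¹ : P)) : Ω) ∈ _
      rw [e]
      exact Subgroup.inv_mem _ (Subgroup.commutator_mem_commutator hyk hsS)
  have h2 : ∀ y ∈ Subgroup.center P, (fun y : P => α y * y⁻¹)^[n * (p - 1) + 1] y = 1 := by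
    intro y _
    have := hδ (n * (p - 1) + 1) y
    rw [hcl, Subgroup.mem_bot] at this
    exact Subtype.ext this
  have h3 := fix_pow_center p hp n α h1 h2 z hz
  have h4 := congrArg (fun t : P => (t : Ω)) h3
  simp only [hαx, Subgroup.coe_pow] at h4
  exact h4

end Cfsg.Agent.Helper2.FusGlau
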