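/-
helper2: Glauberman's theorem for fusion systems: if `S` has class at most `n(p-1)+1` then
`℧ⁿ(Z(S))` is normal in every saturated fusion system over `S`.

Proof: downward induction over `S` and the essential subgroups `P` (Alperin with a threshold).
`W = ℧ⁿ(Z(S)) ≤ Z(P)`.  In `A = Aut_F(P)` let `A₁` be the (normal) subgroup fixing all `p^n`-th powers
of elements of `Z(P)`; it contains `c_s` for every `s ∈ N_S(P)` with `s^p ∈ P` (`conj_fix_pow`).
With `T = Aut_S(P)`, `D = T ∩ A₁` is a Sylow `p`-subgroup of `A₁`, so `A = N_A(D) A₁` (Frattini).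
An element of `N_A(D)` extends to a subgroup containing such an `s ∉ P`, hence normalizes `W` by
induction; `A₁` fixes `W` elementwise.
-/
import Mathlib
import Cfsg.Prelude.Def_FusionSystem
import Cfsg.Prelude.Def_PLocal
import Cfsg.Agent.Helper2.FusGlau1
import Cfsg.Agent.Helper87.FusionNormal
import Cfsg.Agent.Helper51.FusChain
import Cfsg.Agent.Helper31.LocalCore
import Cfsg.Agent.S5326

set_option autoImplicit false

namespace Cfsg.Agent.Helper2.FusGlau

open Cfsg Cfsg.FusionSystem Cfsg.Agent.Helper87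

variable {Ω : Type*} [Group Ω] {S : Subgroup Ω}

/-- the elements of `℧ⁿ(H)` for an abelian `H` are `p^n`-th powers. -/
theorem exists_pow_of_mem_powerClosure (p n : ℕ) {H : Subgroup Ω}
    (hH : ∀ a ∈ H, ∀ b ∈ H, a * b = b * a) {w : Ω} (hw : w ∈ Cfsg.powerClosure p n H) :
    ∃ z ∈ H, z ^ p ^ n = w := by
  unfold Cfsg.powerClosure at hw
  induction hw using Subgroup.closure_induction with
  | mem w hw =>
    obtain ⟨z, hz, rfl⟩ := hw
    exact ⟨z, hz, rfl⟩
  | one => exact ⟨1, H.one_mem, one_pow _⟩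
  | mul a b _ _ ha hb =>
    obtain ⟨z₁, hz₁, rfl⟩ := ha
    obtain ⟨z₂, hz₂, rfl⟩ := hb
    refine ⟨z₁ * z₂, H.mul_mem hz₁ hz₂, ?_⟩
    have hc : Commute z₁ z₂ := hH z₁ hz₁ z₂ hz₂
    exact hc.mul_pow _
  | inv a _ ha =>
    obtain ⟨z, hz, rfl⟩ := ha
    exact ⟨z⁻¹, H.inv_mem hz, inv_pow z _⟩

theorem pow_mem_powerClosure (p n : ℕ) {H : Subgroup Ω} {z : Ω} (hz : z ∈ H) :
    z ^ p ^ n ∈ Cfsg.powerClosure p n H :=
  Subgroup.subset_closure ⟨z, hz, rfl⟩

theorem powerClosure_le (p n : ℕ) (H : Subgroup Ω) : Cfsg.powerClosure p n H ≤ H := by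
  unfold Cfsg.powerClosure
  rw [Subgroup.closure_le]
  rintro _ ⟨x, hx, rfl⟩
  exact H.pow_mem hx _

/-- `Z(S)`, as a subgroup of the ambient group, is abelian. -/
theorem zS_comm (S : Subgroup Ω) : ∀ a ∈ S ⊓ Subgroup.centralizer (S : Set Ω),
    ∀ b ∈ S ⊓ Subgroup.centralizer (S : Set Ω), a * b = b * a := by
  intro a ha b hb
  exact (Subgroup.mem_centralizer_iff.mp hb.2 a ha.1)

/-- an element of `N ∖ P` (`N` a `p`-group) has a power `s ∉ P` with `s^p ∈ P`. -/
theorem exists_pow_not_mem {p : ℕ} (hS : IsPGroup p S) {P : Subgroup Ω} {g : Ω} (hgS : g ∈ S)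
    (hgP : g ∉ P) : ∃ k : ℕ, g ^ k ∉ P ∧ (g ^ k) ^ p ∈ P := by
  classical
  obtain ⟨m, hm⟩ := hS ⟨g, hgS⟩
  have hm' : g ^ p ^ m = 1 := by
    have := congrArg (fun t : S => (t : Ω)) hm
    simpa using this
  have hex : ∃ j, g ^ p ^ j ∈ P := ⟨m, by rw [hm']; exact P.one_mem⟩
  set j := Nat.find hex with hj
  have hj1 : g ^ p ^ j ∈ P := Nat.find_spec hex
  have hj0 : j ≠ 0 := by
    intro h0
    rw [h0, pow_zero, pow_one] at hj1
    exact hgP hj1
  obtain ⟨i, hi⟩ : ∃ i, j = i + 1 := ⟨j - 1, by omega⟩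
  refine ⟨p ^ i, ?_, ?_⟩
  · exact Nat.find_min hex (by omega : i < j)
  · rw [← pow_mul, ← pow_succ, ← hi]
    exact hj1

/-- `Z(S) ≤ Z(P)` for a subgroup `P ≤ S` containing its centralizer in `S`. -/
theorem mem_center_of_mem_zS {P : Subgroup Ω} (hPS : P ≤ S) (hcen : centralizerIn S P ≤ P) {z : Ω}
    (hz : z ∈ S ⊓ Subgroup.centralizer (S : Set Ω)) :
    ∃ hzP : z ∈ P, (⟨z, hzP⟩ : P) ∈ Subgroup.center P := by
  have h1 : z ∈ centralizerIn S P := by
    refine ⟨hz.1, ?_⟩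
    show z ∈ Subgroup.centralizer (P : Set Ω)
    rw [Subgroup.mem_centralizer_iff]
    intro y hy
    exact Subgroup.mem_centralizer_iff.mp hz.2 y (hPS hy)
  refine ⟨hcen h1, ?_⟩
  rw [Subgroup.mem_center_iff]
  intro y
  apply Subtype.ext
  exact Subgroup.mem_centralizer_iff.mp hz.2 y (hPS y.2)

/-- automorphisms preserve the centre -/
theorem aut_mem_center {P : Type*} [Group P] (α : MulAut P) {z : P} (hz : z ∈ Subgroup.center P) :
    α z ∈ Subgroup.center P := by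
  have h := (Subgroup.centerCharacteristic (G := P)).fixed α
  have : z ∈ (Subgroup.center P).comap (α : P ≃* P).toMonoidHom := by rw [h]; exact hz
  exact this

/-- the subgroup of `Aut_F(P)` fixing the `p^n`-th powers of the elements of `Z(P)` -/
def fixPow (F : FusionSystem S) (p n : ℕ) (P : Subgroup Ω) : Subgroup (F.autGroup P) where
  carrier := {a | ∀ z : P, z ∈ Subgroup.center P → (a : MulAut P) (z ^ p ^ n) = z ^ p ^ n}
  one_mem' := fun z _ => rfl
  mul_mem' := by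
    intro a b ha hb z hz
    show (a : MulAut P) ((b : MulAut P) (z ^ p ^ n)) = z ^ p ^ n
    rw [hb z hz, ha z hz]
  inv_mem' := by
    intro a ha z hz
    show ((a : MulAut P)⁻¹) (z ^ p ^ n) = z ^ p ^ n
    have := ha z hz
    rw [MulAut.inv_apply, MulEquiv.symm_apply_eq]
    exact this.symm

instance fixPow_normal (F : FusionSystem S) (p n : ℕ) (P : Subgroup Ω) : (fixPow F p n P).Normal := by
  constructor
  intro a ha g z hz
  show (g : MulAut P) ((a : MulAut P) (((g : MulAut P)⁻¹) (z ^ p ^ n))) = z ^ p ^ n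
  have h1 : ((g : MulAut P)⁻¹) (z ^ p ^ n) = (((g : MulAut P)⁻¹) z) ^ p ^ n := map_pow _ _ _
  rw [h1, ha _ (aut_mem_center _ hz), ← h1, MulAut.apply_inv_self]

theorem mem_fixPow_iff (F : FusionSystem S) (p n : ℕ) (P : Subgroup Ω) (a : F.autGroup P) :
    a ∈ fixPow F p n P ↔ ∀ z : P, z ∈ Subgroup.center P → (a : MulAut P) (z ^ p ^ n) = z ^ p ^ n :=
  Iff.rfl

/-- **The local step.** -/
theorem step [Finite S] {p : ℕ} [Fact p.Prime] (hS : IsPGroup p S) (F : FusionSystem S)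
    (hF : F.IsSaturated p) (n : ℕ)
    (hcl : Subgroup.lowerCentralSeries S (n * (p - 1) + 1) = ⊥)
    (P : Subgroup Ω) (hP : F.IsEssential p P)
    (hbig : ∀ (Q : Subgroup Ω) (φ : Q →* Ω), φ ∈ F.Hom Q → Nat.card P < Nat.card Q →
      ∀ x : Q, (x : Ω) ∈ Cfsg.powerClosure p n (S ⊓ Subgroup.centralizer (S : Set Ω)) →
        φ x ∈ Cfsg.powerClosure p n (S ⊓ Subgroup.centralizer (S : Set Ω)))
    (α : MulAut P) (hα : IsIso F (α : P ≃* P)) (x : P)
    (hx : (x : Ω) ∈ Cfsg.powerClosure p n (S ⊓ Subgroup.centralizer (S : Set Ω))) :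
    ((α x : P) : Ω) ∈ Cfsg.powerClosure p n (S ⊓ Subgroup.centralizer (S : Set Ω)) := by
  have hpp : p.Prime := Fact.out
  have hPlt : P < S := Cfsg.Agent.S5326.lt_of_isEssential hS F hF hP
  have hPS : P ≤ S := hPlt.le
  have hcen : centralizerIn S P ≤ P := hP.1.2 P (isConj_refl F hPS)
  obtain ⟨hPc, hPa⟩ := fullyAutomized_fullyCentralized_of_fullyNormalized hS F hF hP.2.1
  have hPr := receptive_of_fullyCentralized hS F hF hPc
  obtain ⟨-, R, hR⟩ := hPa
  have hfinA : Finite (MulAut P) := finite_mulAut_of_le hPS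
  set T : Subgroup (F.autGroup P) := (autInducedBy S P).subgroupOf (F.autGroup P) with hT
  have hTp : IsPGroup p T := by rw [← hR]; exact R.2
  have hTsyl : ¬ p ∣ T.index := by rw [← hR]; exact R.not_dvd_index
  set A₁ := fixPow F p n P with hA₁
  have hDsyl := Cfsg.Agent.Helper31.not_dvd_relIndex_inf_normal T hTp hTsyl A₁
  have frat := Cfsg.Agent.Helper31.frattini_rel A₁ (T ⊓ A₁) inf_le_right (hTp.to_le inf_le_left) hDsyl
  -- decompose `α`
  have hαA : α ∈ F.autGroup P := (mem_autGroup_iff F hPS α).mpr hα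
  have hmem : (⟨α, hαA⟩ : F.autGroup P) ∈ Subgroup.normalizer ((T ⊓ A₁ : Subgroup (F.autGroup P)) : Set (F.autGroup P)) ⊔ A₁ := by
    rw [frat]; exact Subgroup.mem_top _
  obtain ⟨ν, hν, a₁, ha₁, hνa⟩ := Subgroup.mem_sup_of_normal_right.mp hmem
  -- `x` is a `p^n`-th power
  obtain ⟨z, hz, hzx⟩ := exists_pow_of_mem_powerClosure p n (zS_comm S) hx
  obtain ⟨hzP, hzc⟩ := mem_center_of_mem_zS hPS hcen hz
  have hxz : x = (⟨z, hzP⟩ : P) ^ p ^ n := Subtype.ext (by rw [Subgroup.coe_pow]; exact hzx.symm)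
  have e1 : α x = (ν : MulAut P) x := by
    have h1 : (ν : MulAut P) * (a₁ : MulAut P) = α := by
      have := congrArg (fun t : F.autGroup P => (t : MulAut P)) hνa
      exact this
    have h2 := (mem_fixPow_iff F p n P a₁).mp ha₁ _ hzc
    rw [← h1, MulAut.mul_apply, hxz, h2]
  rw [e1]
  -- the special element `s`
  obtain ⟨g, hgN, hgP⟩ := SetLike.exists_of_lt (lt_normalizerIn hS hPlt)
  obtain ⟨k, hk1, hk2⟩ := exists_pow_not_mem hS (P := P) hgN.1 hgP
  set s := g ^ k with hs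
  have hsS : s ∈ S := S.pow_mem hgN.1 k
  have hsN : s ∈ Subgroup.normalizer (P : Set Ω) := Subgroup.pow_mem _ hgN.2 k
  have hcsA : conjAut P s hsN ∈ F.autGroup P := (mem_autGroup_iff F hPS _).mpr (isIso_conjAut F hPS hsS hsN)
  have hcsD : (⟨conjAut P s hsN, hcsA⟩ : F.autGroup P) ∈ T ⊓ A₁ := by
    refine Subgroup.mem_inf.mpr ⟨?_, ?_⟩
    · rw [hT, Subgroup.mem_subgroupOf, mem_autInducedBy_iff]
      exact ⟨s, hsS, fun y => rfl⟩
    · rw [hA₁, mem_fixPow_iff]
      intro y hy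
      apply Subtype.ext
      have := conj_fix_pow p hpp n hcl hPS s hsS hsN hk2 y hy
      rw [Subgroup.coe_pow]
      exact this
  -- `ν c_s ν⁻¹ ∈ T`
  have hconj : ν * ⟨conjAut P s hsN, hcsA⟩ * ν⁻¹ ∈ T ⊓ A₁ := (Subgroup.mem_normalizer_iff.mp hν _).mp hcsD
  have hconjT := (Subgroup.mem_inf.mp hconj).1
  rw [hT, Subgroup.mem_subgroupOf, mem_autInducedBy_iff] at hconjT
  obtain ⟨h, hhS, hh⟩ := hconjT
  -- the map `φ` and its extension
  set φ : P →* Ω := P.subtype.comp ((ν : MulAut P) : P ≃* P).toMonoidHom with hφ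
  have hνiso : IsIso F ((ν : MulAut P) : P ≃* P) := (mem_autGroup_iff F hPS _).mp ν.2
  have hφF : φ ∈ F.Hom P := hνiso
  have hrange : φ.range = P := by
    ext y
    constructor
    · rintro ⟨y', rfl⟩
      exact ((ν : MulAut P) y').2
    · intro hy
      exact ⟨(ν : MulAut P)⁻¹ ⟨y, hy⟩, by simp [hφ]⟩
  obtain ⟨ψ, hψ, hψx⟩ := hPr.2 P φ hφF hrange
  have hsE : s ∈ extender S P φ := by
    rw [mem_extender_iff]
    refine ⟨hsS, hsN, h, hhS, fun y hy => ?_⟩
    have h2 := hh ((ν : MulAut P) y)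
    show (((ν : MulAut P) ⟨s * y * s⁻¹, hy⟩ : P) : Ω) = h * (((ν : MulAut P) y : P) : Ω) * h⁻¹
    rw [← h2]
    show _ = ((((ν : MulAut P) * conjAut P s hsN * (ν : MulAut P)⁻¹) ((ν : MulAut P) y) : P) : Ω)
    rw [MulAut.mul_apply, MulAut.mul_apply, MulAut.inv_apply_self]
    rfl
  have hPE : P ≤ extender S P φ := le_extender_of_mem F hφF
  have hES : extender S P φ ≤ S := (F.le_of_mem hψ).1
  have hfinE : Finite (extender S P φ) := finite_of_le hES
  have hlt : P < extender S P φ := lt_of_le_of_ne hPE (fun h => hk1 (h ▸ hsE))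
  have hcard : Nat.card P < Nat.card (extender S P φ) := card_lt_card_of_lt hlt
  have h3 := hbig _ ψ hψ hcard ⟨x, hPE x.2⟩ hx
  rw [hψx x x.2 (hPE x.2)] at h3
  exact h3

end Cfsg.Agent.Helper2.FusGlau
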