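/-
helper2: Glauberman's theorem for fusion systems, assembly: if `S` has class at most `n(p-1)+1`
then `℧ⁿ(Z(S))` is normal in every saturated fusion system over `S` (`glauberman_agemo`).
-/
import Mathlib
import Cfsg.Agent.Helper2.FusGlau2

set_option autoImplicit false

namespace Cfsg.Agent.Helper2.FusGlau

open Cfsg Cfsg.FusionSystem Cfsg.Agent.Helper87

variable {Ω : Type*} [Group Ω] {S : Subgroup Ω}

/-- an automorphism of the system leaving `W ≤ P` invariant (together with its inverse) lies in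
the normalizer system of `W`. -/
theorem isIso_normalizer_of_inv (F : FusionSystem S) {W P : Subgroup Ω} (hWS : W ≤ S)
    (hN : normalizerIn S W = S) (hPS : P ≤ S) (hWP : W ≤ P) (α : MulAut P)
    (hα : IsIso F (α : P ≃* P))
    (h1 : ∀ x : P, (x : Ω) ∈ W → ((α x : P) : Ω) ∈ W)
    (h2 : ∀ x : P, (x : Ω) ∈ W → ((α⁻¹ x : P) : Ω) ∈ W) :
    IsIso (castSystem hN (Cfsg.Agent.S5096.normalizerSystem F W hWS)) (α : P ≃* P) := by
  unfold IsIso
  rw [castSystem_hom]
  have hle : P ⊔ W ≤ P := sup_le le_rfl hWP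
  refine ⟨hα, by rw [hN]; exact hPS, fun x => by rw [hN]; exact hPS (α x).2, _, restrict_mem F hα hle,
    fun x => rfl, ?_⟩
  rw [Helper85.map_subgroupOf_eq_iff]
  refine ⟨fun x hx => ?_, fun y hy => ?_⟩
  · exact h1 (Subgroup.inclusion hle x) hx
  · refine ⟨Subgroup.inclusion le_sup_left (α⁻¹ ⟨y, hWP hy⟩), h2 ⟨y, hWP hy⟩ hy, ?_⟩
    show ((α (α⁻¹ ⟨y, hWP hy⟩) : P) : Ω) = y
    rw [MulAut.apply_inv_self]

/-- a map of the normalizer system of `W` maps `W ∩ Q` into `W`. -/
theorem apply_mem_of_mem_normalizerHom (F : FusionSystem S) {W Q : Subgroup Ω} {φ : Q →* Ω}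
    (hφ : φ ∈ F.normalizerHom W Q) (x : Q) (hx : (x : Ω) ∈ W) : φ x ∈ W := by
  obtain ⟨-, -, -, ψ, -, hψx, hψW⟩ := hφ
  rw [← hψx x]
  have : ψ (Subgroup.inclusion le_sup_left x) ∈ (W.subgroupOf (Q ⊔ W)).map ψ :=
    ⟨Subgroup.inclusion le_sup_left x, hx, rfl⟩
  rw [hψW] at this
  exact this

/-- **Glauberman.** If `S` has nilpotence class at most `n(p-1)+1` then `℧ⁿ(Z(S))` is normal in
every saturated fusion system over `S`. -/
theorem glauberman_agemo [Finite S] {p : ℕ} [Fact p.Prime] (hS : IsPGroup p S) (F : FusionSystem S)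
    (hF : F.IsSaturated p) (n : ℕ)
    (hcl : Subgroup.lowerCentralSeries S (n * (p - 1) + 1) = ⊥) :
    F.IsNormal (Cfsg.powerClosure p n (S ⊓ Subgroup.centralizer (S : Set Ω))) := by
  set W := Cfsg.powerClosure p n (S ⊓ Subgroup.centralizer (S : Set Ω)) with hW
  have hWZ : W ≤ S ⊓ Subgroup.centralizer (S : Set Ω) := powerClosure_le p n _
  have hWS : W ≤ S := hWZ.trans inf_le_left
  have hN : normalizerIn S W = S := by
    apply inf_eq_left.mpr
    intro s hs
    rw [Subgroup.mem_normalizer_iff]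
    intro w
    have key : ∀ w ∈ W, s * w * s⁻¹ = w := by
      intro w hw
      have := Subgroup.mem_centralizer_iff.mp (hWZ hw).2 s hs
      rw [this]; group
    constructor
    · intro hw; rw [key w hw]; exact hw
    · intro hw
      have h1 := key _ hw
      have h3 : w = s * w * s⁻¹ := by
        calc w = s⁻¹ * (s * w * s⁻¹) * s := by group
          _ = s⁻¹ * (s * (s * w * s⁻¹) * s⁻¹) * s := by rw [h1]
          _ = s * w * s⁻¹ := by group
      rw [h3]; exact hw
  set E := castSystem hN (Cfsg.Agent.S5096.normalizerSystem F W hWS) with hE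
  have hEhom : ∀ P, E.Hom P = F.normalizerHom W P := fun P => castSystem_hom hN _ P
  have hEF : E ≤ F := by
    intro P φ hφ
    rw [hEhom] at hφ
    exact hφ.1
  -- containment in centric subgroups
  have hWP : ∀ P : Subgroup Ω, (P = S ∨ F.IsEssential p P) → W ≤ P := by
    intro P hP
    rcases hP with rfl | hess
    · exact hWS
    · intro w hw
      have hPS : P ≤ S := hess.1.1
      obtain ⟨h, -⟩ := mem_center_of_mem_zS hPS (hess.1.2 P (isConj_refl F hPS)) (hWZ hw)
      exact h
  -- the invariance, by downward induction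
  have hinv : ∀ (d : ℕ) (P : Subgroup Ω), (P = S ∨ F.IsEssential p P) → Nat.card S - Nat.card P = d →
      ∀ α : MulAut P, IsIso F (α : P ≃* P) → ∀ x : P, (x : Ω) ∈ W → ((α x : P) : Ω) ∈ W := by
    intro d
    induction d using Nat.strong_induction_on with
    | _ d ih =>
    intro P hP hd α hα x hx
    rcases hP with rfl | hess
    · -- `P = S`
      obtain ⟨z, hz, hzx⟩ := exists_pow_of_mem_powerClosure p n (zS_comm P) hx
      have hzP : z ∈ P := (Subgroup.mem_inf.mp hz).1
      have hzC : z ∈ Subgroup.centralizer (P : Set Ω) := (Subgroup.mem_inf.mp hz).2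
      have hzc : (⟨z, hzP⟩ : P) ∈ Subgroup.center P := by
        rw [Subgroup.mem_center_iff]
        intro y
        apply Subtype.ext
        exact Subgroup.mem_centralizer_iff.mp hzC y y.2
      have h1 := aut_mem_center α hzc
      have hxz : x = (⟨z, hzP⟩ : P) ^ p ^ n := Subtype.ext (by rw [Subgroup.coe_pow]; exact hzx.symm)
      rw [hxz, map_pow, Subgroup.coe_pow]
      apply pow_mem_powerClosure
      refine Subgroup.mem_inf.mpr ⟨(α ⟨z, hzP⟩).2, ?_⟩
      rw [Subgroup.mem_centralizer_iff]
      intro y hy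
      have := Subgroup.mem_center_iff.mp h1 ⟨y, hy⟩
      exact congrArg (fun t : P => (t : Ω)) this
    · -- `P` essential
      have hPS : P ≤ S := hess.1.1
      have hcardP : Nat.card P ≤ Nat.card S := Subgroup.card_le_of_le hPS
      have hbig0 := Cfsg.Agent.Helper51.FusChain.maps_of_big hS F hF E hEF (Nat.card P) (by
        intro P' hP' hlt β hβ
        have hP'S : P' ≤ S := by
          rcases hP' with rfl | hess'
          · exact le_rfl
          · exact hess'.1.1
        have hc : Nat.card P' ≤ Nat.card S := Subgroup.card_le_of_le hP'S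
        have hlt' : Nat.card S - Nat.card P' < d := by omega
        exact isIso_normalizer_of_inv F hWS hN hP'S (hWP P' hP') β hβ
          (ih _ hlt' P' hP' rfl β hβ) (ih _ hlt' P' hP' rfl β⁻¹ hβ.symm))
      apply step hS F hF n hcl P hess ?_ α hα x hx
      intro Q φ hφ hlt y hy
      have h1 := hbig0 Q φ hφ hlt
      rw [hEhom] at h1
      exact apply_mem_of_mem_normalizerHom F h1 y hy
  apply isNormal_of_forall_essential hS F hF
  intro P hP
  have hPS : P ≤ S := by
    rcases hP with rfl | hess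
    · exact le_rfl
    · exact hess.1.1
  refine ⟨hWP P hP, fun α hα => ?_⟩
  have hαiso := (mem_autGroup_iff F hPS α).mp hα
  ext y
  constructor
  · rintro ⟨x, hx, rfl⟩
    exact hinv _ P hP rfl α hαiso x hx
  · intro hy
    refine ⟨α⁻¹ y, hinv _ P hP rfl α⁻¹ hαiso.symm y hy, ?_⟩
    simp

end Cfsg.Agent.Helper2.FusGlau
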