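import Cfsg.Agent.Helper88.OmegaAut
import Cfsg.Agent.Helper87.FusionFrobenius
import Cfsg.Agent.Helper87.FusionBasic
set_option autoImplicit false

/-!
Small cyclic subgroups of the hyperfocal subgroup (S5298): an automorphism, of order prime to `p`, of a subgroup `P` of a
`p`-group `S`, all of whose powers carry each element of small order of `P ∩ H` to an `S`-conjugate (`H` a subgroup of
`S` containing the elements `x⁻¹ αⁱ(x)`), is trivial.
-/

namespace Cfsg.Agent.Helper2.FusSmall

open Cfsg Cfsg.FusionSystem Cfsg.Agent.Helper87 Cfsg.Agent.Helper88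

universe u

/-- A subgroup carried into itself by an automorphism of finite order is carried onto itself. -/
theorem apply_mem_iff_of_forall {P : Type*} [Group P] (α : MulAut P) (k : ℕ) (hk : 0 < k) (hαk : α ^ k = 1)
    (H : Subgroup P) (h : ∀ x ∈ H, α x ∈ H) (x : P) : α x ∈ H ↔ x ∈ H := by
  refine ⟨fun hx => ?_, h x⟩
  have hpow : ∀ (m : ℕ) (y : P), y ∈ H → (α ^ m) y ∈ H := by
    intro m
    induction m with
    | zero => intro y hy; simpa using hy
    | succ m ih =>
      intro y hy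
      rw [pow_succ', MulAut.mul_apply]
      exact h _ (ih y hy)
  have h1 := hpow (k - 1) (α x) hx
  have h2 : (α ^ (k - 1)) (α x) = x := by
    have : (α ^ (k - 1)) (α x) = (α ^ (k - 1) * α) x := rfl
    rw [this, ← pow_succ, Nat.sub_add_cancel hk, hαk]
    rfl
  rwa [h2] at h1

variable {Ω : Type u} [Group Ω]

/-- The key induction along the upper central series of `S`. -/
theorem fix_small_of_conj {S : Subgroup Ω} [Finite S] {p : ℕ} [Fact p.Prime] (hS : IsPGroup p S)
    (H : Subgroup Ω) {P : Subgroup Ω} (hPS : P ≤ S) (α : MulAut P) (k : ℕ) (hk : k.Coprime p) (hαk : α ^ k = 1)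
    (hH : ∀ (i : ℕ) (x : P), (((x⁻¹ * (α ^ i) x : P)) : Ω) ∈ H)
    (hconj : ∀ (i : ℕ) (x : P), (x : Ω) ∈ H → x ^ smallExp p = 1 →
      ∃ g ∈ S, (((α ^ i) x : P) : Ω) = g * (x : Ω) * g⁻¹) :
    ∀ n : ℕ, ∀ x : P, (x : Ω) ∈ H → x ^ smallExp p = 1 →
      (x : Ω) ∈ (Subgroup.upperCentralSeries S n).map S.subtype → α x = x := by
  have hpp : p.Prime := Fact.out
  have hk0 : 0 < k := by
    rcases Nat.eq_zero_or_pos k with h0 | h0
    · rw [h0, Nat.coprime_zero_left] at hk
      exact absurd hk hpp.one_lt.ne'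
    · exact h0
  haveI : Finite P := Finite.of_injective (Subgroup.inclusion hPS) (Subgroup.inclusion_injective hPS)
  have hPp : IsPGroup p P := hS.to_le hPS
  intro n
  induction n with
  | zero =>
    intro x _ _ hx
    rw [Subgroup.upperCentralSeries_zero, Subgroup.map_bot, Subgroup.mem_bot] at hx
    have hx1 : x = 1 := Subtype.ext hx
    rw [hx1, map_one]
  | succ n ih =>
    intro x hxH hxs hxZ
    obtain ⟨x', hx'Z, hx'x⟩ := hxZ
    -- the generators
    set X₀ : Subgroup P := Subgroup.closure (Set.range fun i : ℕ => x⁻¹ * (α ^ i) x) with hX₀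
    have hgenZ : ∀ i : ℕ, (((x⁻¹ * (α ^ i) x : P)) : Ω) ∈ (Subgroup.upperCentralSeries S n).map S.subtype := by
      intro i
      obtain ⟨g, hg, hgx⟩ := hconj i x hxH hxs
      have h1 : x'⁻¹ ∈ Subgroup.upperCentralSeries S (n + 1) := Subgroup.inv_mem _ hx'Z
      rw [Subgroup.mem_upperCentralSeries_succ_iff] at h1
      have h2 := h1 ⟨g, hg⟩
      refine ⟨_, h2, ?_⟩
      have hx'x' : ((x' : S) : Ω) = (x : Ω) := hx'x
      rw [commutatorElement_def]
      simp only [Subgroup.coe_subtype, Subgroup.coe_mul, Subgroup.coe_inv, inv_inv, hx'x', hgx]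
      group
    have hX₀le : X₀ ≤ (H ⊓ (Subgroup.upperCentralSeries S n).map S.subtype).subgroupOf P := by
      rw [hX₀, Subgroup.closure_le]
      rintro _ ⟨i, rfl⟩
      show _ ∈ (H ⊓ (Subgroup.upperCentralSeries S n).map S.subtype).subgroupOf P
      rw [Subgroup.mem_subgroupOf]
      exact Subgroup.mem_inf.mpr ⟨hH i x, hgenZ i⟩
    have hX₀inv : ∀ y ∈ X₀, α y ∈ X₀ := by
      intro y hy
      have hmap : X₀.map (α : P →* P) ≤ X₀ := by
        rw [hX₀, MonoidHom.map_closure, Subgroup.closure_le]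
        rintro _ ⟨_, ⟨i, rfl⟩, rfl⟩
        have e : (α : P →* P) (x⁻¹ * (α ^ i) x) = (x⁻¹ * (α ^ 1) x)⁻¹ * (x⁻¹ * (α ^ (i + 1)) x) := by
          show α (x⁻¹ * (α ^ i) x) = _
          rw [map_mul, map_inv, pow_one, pow_succ', MulAut.mul_apply]
          group
        rw [e]
        exact Subgroup.mul_mem _ (Subgroup.inv_mem _ (Subgroup.subset_closure ⟨1, rfl⟩))
          (Subgroup.subset_closure ⟨i + 1, rfl⟩)
      exact hmap ⟨y, hy, rfl⟩
    have hiff := apply_mem_iff_of_forall α k hk0 hαk X₀ hX₀inv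
    have hβk : (restrictAut α X₀ hiff) ^ k = 1 := by
      ext y
      rw [restrictAut_pow, hαk]
      rfl
    have hX₀p : IsPGroup p X₀ := hPp.to_subgroup X₀
    have hβ1 : restrictAut α X₀ hiff = 1 := by
      apply aut_eq_one_of_fix_small hX₀p _ k hk hβk
      intro y hy
      apply Subtype.ext
      rw [restrictAut_apply]
      have hyK := hX₀le y.2
      rw [Subgroup.mem_subgroupOf] at hyK
      apply ih (y : P) hyK.1 ?_ hyK.2
      have := congrArg Subtype.val hy
      simpa using this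
    -- `α` fixes `c = x⁻¹ α(x)`
    have hcX : x⁻¹ * α x ∈ X₀ := by
      have : x⁻¹ * α x = x⁻¹ * (α ^ 1) x := by rw [pow_one]
      rw [this]
      exact Subgroup.subset_closure ⟨1, rfl⟩
    have hαc : α (x⁻¹ * α x) = x⁻¹ * α x := by
      have h1 := congrArg (fun β : MulAut X₀ => ((β ⟨x⁻¹ * α x, hcX⟩ : X₀) : P)) hβ1
      simpa [restrictAut_apply] using h1
    have hpow : ∀ i : ℕ, (α ^ i) x = x * (x⁻¹ * α x) ^ i := by
      intro i
      induction i with
      | zero => simp
      | succ i ihi =>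
        rw [pow_succ', MulAut.mul_apply, ihi, map_mul, map_pow, hαc, pow_succ', ← mul_assoc, ← mul_assoc,
          mul_inv_cancel, one_mul]
    have hck : (x⁻¹ * α x) ^ k = 1 := by
      have h1 := hpow k
      rw [hαk] at h1
      have h2 : x = x * (x⁻¹ * α x) ^ k := h1
      exact (mul_eq_left.mp h2.symm)
    have hc1 : x⁻¹ * α x = 1 := by
      obtain ⟨m, hm⟩ := hPp (x⁻¹ * α x)
      have h1 : orderOf (x⁻¹ * α x) ∣ p ^ m := orderOf_dvd_of_pow_eq_one hm
      have h2 : orderOf (x⁻¹ * α x) ∣ k := orderOf_dvd_of_pow_eq_one hck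
      have h3 : orderOf (x⁻¹ * α x) ∣ Nat.gcd (p ^ m) k := Nat.dvd_gcd h1 h2
      have h4 : Nat.gcd (p ^ m) k = 1 := Nat.Coprime.pow_left m hk.symm
      rw [h4, Nat.dvd_one, orderOf_eq_one_iff] at h3
      exact h3
    have h5 : α x = x * (x⁻¹ * α x) := by group
    rw [h5, hc1, mul_one]

end Cfsg.Agent.Helper2.FusSmall
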