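import Cfsg.Agent.Helper2.FusGTE
set_option autoImplicit false

/-!
Thompson's normal `p`-complement theorem for fusion systems, part 1: the centre `Z(T)` and the Thompson subgroup `J(T)`
of a finite subgroup `T` of a possibly infinite ambient group; centralizer systems; the model step.
-/

namespace Cfsg.Agent.Helper2.FusGT

open Cfsg Cfsg.FusionSystem Cfsg.Agent.Helper87 Cfsg.Agent.Helper10.ZJF

universe u

variable {Ω : Type u} [Group Ω]

/-! ### The centre of a subgroup, inside the ambient group -/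

/-- `Z(T)`, as a subgroup of the ambient group. -/
def zOf (T : Subgroup Ω) : Subgroup Ω := T ⊓ Subgroup.centralizer (T : Set Ω)

theorem zOf_le (T : Subgroup Ω) : zOf T ≤ T := inf_le_left

theorem le_centralizer_zOf (T : Subgroup Ω) : T ≤ Subgroup.centralizer (zOf T : Set Ω) := by
  intro t ht
  rw [Subgroup.mem_centralizer_iff]
  intro z hz
  exact ((Subgroup.mem_centralizer_iff.mp hz.2) t ht).symm

theorem zOf_ne_bot {p : ℕ} [Fact p.Prime] {T : Subgroup Ω} [Finite T] (hT : IsPGroup p T) (hT1 : T ≠ ⊥) :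
    zOf T ≠ ⊥ := by
  haveI : Nontrivial T := (Subgroup.nontrivial_iff_ne_bot T).2 hT1
  haveI := hT.center_nontrivial
  obtain ⟨⟨z, hz⟩, hz1⟩ := exists_ne (1 : Subgroup.center T)
  intro hbot
  apply hz1
  have hmem : (z : Ω) ∈ zOf T := by
    refine Subgroup.mem_inf.mpr ⟨z.2, ?_⟩
    rw [Subgroup.mem_centralizer_iff]
    intro y hy
    have := (Subgroup.mem_center_iff.1 hz) ⟨y, hy⟩
    exact congrArg Subtype.val this
  rw [hbot, Subgroup.mem_bot] at hmem
  apply Subtype.ext
  apply Subtype.ext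
  exact hmem

theorem zOf_normalizer {T : Subgroup Ω} [Finite T] :
    Subgroup.normalizer (T : Set Ω) ≤ Subgroup.normalizer (zOf T : Set Ω) := by
  intro g hg
  haveI : Finite ↥(zOf T) :=
    Finite.of_injective (Subgroup.inclusion (zOf_le T)) (Subgroup.inclusion_injective (zOf_le T))
  apply Helper85.mem_normalizer_of_finite
  intro y hy
  refine Subgroup.mem_inf.mpr ⟨(Subgroup.mem_normalizer_iff.mp hg y).mp hy.1, ?_⟩
  rw [Subgroup.mem_centralizer_iff]
  intro t ht
  have h1 : g⁻¹ * t * g ∈ T := by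
    have := (Subgroup.mem_normalizer_iff.mp (Subgroup.inv_mem _ hg) t).mp ht
    simpa using this
  have h2 := (Subgroup.mem_centralizer_iff.mp hy.2) _ h1
  calc t * (g * y * g⁻¹) = g * ((g⁻¹ * t * g) * y) * g⁻¹ := by group
    _ = g * (y * (g⁻¹ * t * g)) * g⁻¹ := by rw [h2]
    _ = g * y * g⁻¹ * t := by group

theorem zOf_range {G : Type*} [Group G] {T : Subgroup Ω} (ι : ↥T →* G) (hinj : Function.Injective ι) :
    zOf ι.range = ((zOf T).subgroupOf T).map ι := by
  ext x
  constructor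
  · rintro ⟨⟨t, rfl⟩, hx⟩
    refine ⟨t, ?_, rfl⟩
    show t ∈ (zOf T).subgroupOf T
    rw [Subgroup.mem_subgroupOf]
    refine Subgroup.mem_inf.mpr ⟨t.2, ?_⟩
    rw [Subgroup.mem_centralizer_iff]
    intro s hs
    have h1 := (Subgroup.mem_centralizer_iff.mp hx) (ι ⟨s, hs⟩) ⟨_, rfl⟩
    rw [← map_mul, ← map_mul] at h1
    have h2 := hinj h1
    exact congrArg Subtype.val h2
  · rintro ⟨t, ht, rfl⟩
    have ht : t ∈ (zOf T).subgroupOf T := ht
    rw [Subgroup.mem_subgroupOf] at ht
    refine Subgroup.mem_inf.mpr ⟨⟨t, rfl⟩, ?_⟩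
    rw [Subgroup.mem_centralizer_iff]
    rintro _ ⟨s, rfl⟩
    have h1 := (Subgroup.mem_centralizer_iff.mp ht.2) (s : Ω) s.2
    have h2 : s * t = t * s := Subtype.ext h1
    rw [← map_mul, ← map_mul, h2]

/-! ### The Thompson subgroup of a subgroup, inside the ambient group -/

theorem j_le (T : Subgroup Ω) : thompsonSubgroupAOf T ≤ T := Subgroup.map_subtype_le _

theorem j_subgroupOf (T : Subgroup Ω) : (thompsonSubgroupAOf T).subgroupOf T = thompsonSubgroupA ↥T :=
  Subgroup.comap_map_eq_self_of_injective T.subtype_injective _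

theorem j_ne_bot {T : Subgroup Ω} [Finite T] (hT1 : T ≠ ⊥) : thompsonSubgroupAOf T ≠ ⊥ := by
  haveI : Nontrivial T := (Subgroup.nontrivial_iff_ne_bot T).2 hT1
  have h := thompsonSubgroupA_ne_bot ↥T
  intro h2
  exact h ((Subgroup.map_eq_bot_iff_of_injective _ T.subtype_injective).mp h2)

theorem j_normalizer {T : Subgroup Ω} [Finite T] :
    Subgroup.normalizer (T : Set Ω) ≤ Subgroup.normalizer (thompsonSubgroupAOf T : Set Ω) := by
  intro g hg
  haveI : Finite ↥(thompsonSubgroupAOf T) :=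
    Finite.of_injective (Subgroup.inclusion (j_le T)) (Subgroup.inclusion_injective (j_le T))
  apply Helper85.mem_normalizer_of_finite
  intro y hy
  obtain ⟨z, hz, rfl⟩ := hy
  let φ : ↥T ≃* ↥T := T.normalizerMonoidHom ⟨g, hg⟩
  have h1 := thompsonSubgroupA_map_equiv φ
  have h2 : φ z ∈ thompsonSubgroupA ↥T := by
    rw [← h1]
    exact ⟨z, hz, rfl⟩
  exact ⟨φ z, h2, rfl⟩

theorem j_range {G : Type u} [Group G] {T : Subgroup Ω} (ι : ↥T →* G) (hinj : Function.Injective ι)
    (R : Subgroup G) (hR : R = ι.range) :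
    thompsonSubgroupAOf R = ((thompsonSubgroupAOf T).subgroupOf T).map ι := by
  subst hR
  rw [j_subgroupOf]
  let e : ↥T ≃* ↥ι.range := MonoidHom.ofInjective hinj
  have h1 := thompsonSubgroupA_map_equiv e
  unfold thompsonSubgroupAOf
  rw [← h1, Subgroup.map_map]
  rfl

/-! ### Centralizer systems -/

variable {S : Subgroup Ω}

/-- Maps of the centralizer system of `W` are maps of the normalizer system of `W`. -/
theorem centralizerHom_subset_normalizerHom (F : FusionSystem S) {W D : Subgroup Ω} {φ : D →* Ω}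
    (hφ : φ ∈ F.centralizerHom W D) : φ ∈ F.normalizerHom W D := by
  obtain ⟨h1, h2, h3, ψ, hψ, h4, h5⟩ := hφ
  have hle : centralizerIn S W ≤ normalizerIn S W := by
    unfold centralizerIn normalizerIn
    exact inf_le_inf_left _ (Subgroup.centralizer_le_normalizer _)
  refine ⟨h1, h2.trans hle, fun x => hle (h3 x), ψ, hψ, h4, ?_⟩
  rw [Helper85.map_subgroupOf_eq_iff]
  refine ⟨fun x hx => ?_, fun y hy => ?_⟩
  · have e : x = Subgroup.inclusion le_sup_right (⟨(x : Ω), hx⟩ : W) := Subtype.ext rfl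
    rw [e, h5]
    exact hx
  · exact ⟨Subgroup.inclusion le_sup_right ⟨y, hy⟩, hy, h5 ⟨y, hy⟩⟩

/-- Membership in the centralizer system of a map defined on a subgroup containing `W`. -/
theorem mem_centralizerHom_of_le (F : FusionSystem S) {W B : Subgroup Ω} (hWB : W ≤ B)
    (hBC : B ≤ centralizerIn S W) {ψ : B →* Ω} (hψ : ψ ∈ F.Hom B)
    (hfix : ∀ x : B, (x : Ω) ∈ W → ψ x = x) : ψ ∈ F.centralizerHom W B := by
  have hle : B ⊔ W ≤ B := sup_le le_rfl hWB
  -- `ψ` takes values in `C_S(W)`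
  have hval : ∀ y : B, ψ y ∈ centralizerIn S W := by
    intro y
    refine Subgroup.mem_inf.mpr ⟨(F.le_of_mem hψ).2 y, ?_⟩
    rw [Subgroup.mem_centralizer_iff]
    intro w hw
    have hy : (y : Ω) ∈ Subgroup.centralizer (W : Set Ω) := (hBC y.2).2
    have h1 : w * (y : Ω) = (y : Ω) * w := (Subgroup.mem_centralizer_iff.mp hy) w hw
    have h2 : (⟨w, hWB hw⟩ : B) * y = y * ⟨w, hWB hw⟩ := Subtype.ext h1
    have h3 := congrArg ψ h2
    rw [map_mul, map_mul, hfix ⟨w, hWB hw⟩ hw] at h3
    exact h3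
  refine ⟨hψ, hBC, hval, ψ.comp (Subgroup.inclusion hle), restrict_mem F hψ hle, fun x => ?_, fun x => ?_⟩
  · show ψ (Subgroup.inclusion hle (Subgroup.inclusion le_sup_left x)) = ψ x
    congr 1
  · show ψ (Subgroup.inclusion hle (Subgroup.inclusion le_sup_right x)) = x
    exact hfix _ x.2

end Cfsg.Agent.Helper2.FusGT
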