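import Cfsg.Agent.Helper2.FusTh1
set_option autoImplicit false

/-!
Thompson's normal `p`-complement theorem for fusion systems, part 2: the model step.
-/

namespace Cfsg.Agent.Helper2.FusGT

open Cfsg Cfsg.FusionSystem Cfsg.Agent.Helper87

universe u

variable {Ω : Type u} [Group Ω] {T : Subgroup Ω}

/-- If the centralizer system of `W` is inner, the centralizer of the image of `W` has a normal `p`-complement. -/
theorem npc_centralizer_of_conj [Finite T] {p : ℕ} [Fact p.Prime] (hT : IsPGroup p T)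
    (E : FusionSystem T) {G : Type u} [Group G] [Finite G] (ι : T →* G) (hreal : E.IsRealizedBy ι)
    (Sy : Sylow p G) (hSy : (Sy : Subgroup G) = ι.range) {W : Subgroup Ω} (hWT : W ≤ T)
    (hTW : T ≤ Subgroup.centralizer (W : Set Ω))
    (hSyH : (Sy : Subgroup G) ≤ Subgroup.centralizer (((W.subgroupOf T).map ι : Subgroup G) : Set G))
    (hW : ∀ (D : Subgroup Ω) (φ : D →* Ω), φ ∈ E.centralizerHom W D → ConjBy T φ) :
    HasNormalPComplement p ↥(Subgroup.centralizer (((W.subgroupOf T).map ι : Subgroup G) : Set G)) := by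
  obtain ⟨hinj, hreal⟩ := hreal
  set WG : Subgroup G := (W.subgroupOf T).map ι with hWG
  set H := Subgroup.centralizer (WG : Set G) with hH
  refine ⟨Sy.subtype hSyH, ?_⟩
  apply (Cfsg.Agent.Helper78.frobenius_normal_pComplement_iff (Sy.subtype hSyH)).mpr
  intro Q hQ g hg hcop
  rw [Sylow.coe_subtype] at hQ
  have hQSy : ∀ q ∈ Q, ((q : H) : G) ∈ ι.range := by
    intro q hq
    rw [← hSy]
    exact Subgroup.mem_subgroupOf.mp (hQ hq)
  have hWGSy : WG ≤ ι.range := by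
    rintro _ ⟨w, -, rfl⟩
    exact ⟨w, rfl⟩
  set MG : Subgroup G := Q.map H.subtype ⊔ WG with hMG
  have hMGSy : MG ≤ ι.range := by
    apply sup_le
    · rintro _ ⟨q, hq, rfl⟩
      exact hQSy q hq
    · exact hWGSy
  have hgQ : ∀ y ∈ Q.map H.subtype, (g : G) * y * (g : G)⁻¹ ∈ Q.map H.subtype := by
    rintro _ ⟨q, hq, rfl⟩
    exact ⟨g * q * g⁻¹, (Subgroup.mem_normalizer_iff.mp hg q).mp hq, rfl⟩
  have hgWfix : ∀ y ∈ WG, (g : G) * y * (g : G)⁻¹ = y := by
    intro y hy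
    have h1 : y * (g : G) = (g : G) * y := (Subgroup.mem_centralizer_iff.mp g.2) y hy
    rw [← h1, mul_inv_cancel_right]
  have hgW : ∀ y ∈ WG, (g : G) * y * (g : G)⁻¹ ∈ WG := by
    intro y hy
    rw [hgWfix y hy]
    exact hy
  have hgM : ∀ y ∈ MG, (g : G) * y * (g : G)⁻¹ ∈ MG := by
    have hle : MG ≤ MG.comap (MulAut.conj (g : G)).toMonoidHom := by
      apply sup_le
      · intro y hy
        exact le_sup_left (a := Q.map H.subtype) (hgQ y hy)
      · intro y hy
        exact le_sup_right (a := Q.map H.subtype) (hgW y hy)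
    intro y hy
    exact hle hy
  set M : Subgroup Ω := preimageAlong ι MG with hM
  have hMT : M ≤ T := Helper85.preimageAlong_le ι MG
  have hmem : ∀ y : M, (g : G) * ι ⟨y, hMT y.2⟩ * (g : G)⁻¹ ∈ ι.range := by
    intro y
    apply hMGSy
    apply hgM
    exact ((Helper85.mem_preimageAlong ι MG _).mp y.2).2
  obtain ⟨ψ, hψT, hψ⟩ := exists_hom_of_conj ι hinj hMT (g : G) hmem
  have hψE : ψ ∈ E.Hom M := (hreal M hMT ψ hψT).mpr ⟨g, hψ⟩
  have hWM : W ≤ M := by
    intro w hw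
    rw [hM, Helper85.mem_preimageAlong]
    refine ⟨hWT hw, ?_⟩
    apply le_sup_right (a := Q.map H.subtype)
    exact ⟨⟨w, hWT hw⟩, Subgroup.mem_subgroupOf.mpr hw, rfl⟩
  have hψfix : ∀ x : M, (x : Ω) ∈ W → ψ x = x := by
    intro x hx
    have h1 : ι ⟨x, hMT x.2⟩ ∈ WG := ⟨⟨x, hMT x.2⟩, Subgroup.mem_subgroupOf.mpr hx, rfl⟩
    have h2 := hgWfix _ h1
    rw [← hψ x] at h2
    have h3 := hinj h2
    exact congrArg Subtype.val h3
  have hMN : M ≤ centralizerIn T W := le_inf hMT (hMT.trans hTW)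
  obtain ⟨t, ht, htx⟩ := hW M ψ (mem_centralizerHom_of_le E hWM hMN hψE hψfix)
  obtain ⟨k, hk⟩ := hT ⟨t, ht⟩
  have hτ : (ι ⟨t, ht⟩) ^ (p ^ k) = 1 := by rw [← map_pow, hk, map_one]
  have hcopG : (orderOf (g : G)).Coprime p := by
    rw [Subgroup.orderOf_coe]
    exact hcop
  have hact : ∀ y ∈ Q.map H.subtype, (g : G) * y * (g : G)⁻¹ = ι ⟨t, ht⟩ * y * (ι ⟨t, ht⟩)⁻¹ := by
    rintro _ ⟨q, hq, rfl⟩
    obtain ⟨x, hx⟩ := hQSy q hq
    have hxM : (x : Ω) ∈ M := by
      rw [hM, Helper85.mem_preimageAlong]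
      refine ⟨x.2, ?_⟩
      apply le_sup_left (b := WG)
      exact ⟨q, hq, hx.symm⟩
    have h1 := hψ ⟨x, hxM⟩
    have h2 : (⟨ψ ⟨x, hxM⟩, hψT _⟩ : T) = ⟨t, ht⟩ * x * ⟨t, ht⟩⁻¹ := by
      apply Subtype.ext
      exact htx ⟨x, hxM⟩
    rw [h2, map_mul, map_mul, map_inv] at h1
    have h3 : ι ⟨((⟨x, hxM⟩ : M) : Ω), hMT hxM⟩ = ι x := rfl
    rw [h3, hx] at h1
    exact h1.symm
  have hcent := conj_eq_self_of_coprime (Q.map H.subtype) (g : G) (ι ⟨t, ht⟩) k hτ hcopG hgQ hact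
  rw [Subgroup.mem_centralizer_iff]
  intro q hq
  apply Subtype.ext
  have h1 : (g : G) * (q : G) * (g : G)⁻¹ = (q : G) := hcent _ ⟨q, hq, rfl⟩
  show (q : G) * (g : G) = (g : G) * (q : G)
  calc (q : G) * (g : G) = ((g : G) * q * (g : G)⁻¹) * g := by rw [h1]
    _ = (g : G) * (q : G) := by group


/-- A system with a model `G` for which Thompson's criterion holds, whose centralizer system of `Z(T)` and normalizer
system of `J(T)` are inner, is inner. -/
theorem conjBy_of_model_th [Finite T] {p : ℕ} [Fact p.Prime] (hT : IsPGroup p T)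
    (E : FusionSystem T) {G : Type u} [Group G] (ι : T →* G) (hmodel : E.IsModel p G ι)
    (hTh : ∀ Sy : Sylow p G, (Sy : Subgroup G) = ι.range →
      HasNormalPComplement p ↥(Subgroup.centralizer ((zOf (Sy : Subgroup G) : Subgroup G) : Set G)) →
      HasNormalPComplement p ↥(Subgroup.normalizer ((thompsonSubgroupAOf (Sy : Subgroup G) : Subgroup G) : Set G)) →
      HasNormalPComplement p G)
    (hC : ∀ (D : Subgroup Ω) (φ : D →* Ω), φ ∈ E.centralizerHom (zOf T) D → ConjBy T φ)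
    (hN : ∀ (D : Subgroup Ω) (φ : D →* Ω), φ ∈ E.normalizerHom (thompsonSubgroupAOf T) D → ConjBy T φ) :
    ∀ (D : Subgroup Ω) (φ : D →* Ω), φ ∈ E.Hom D → ConjBy T φ := by
  obtain ⟨hfin, hreal, ⟨Sy, hSy⟩, -⟩ := hmodel
  haveI : Finite G := hfin
  have hinj := hreal.1
  -- the centralizer of `Z(Sy)`
  have hZG : zOf (Sy : Subgroup G) = ((zOf T).subgroupOf T).map ι := by
    rw [hSy]
    exact zOf_range ι hinj
  have hSyC : (Sy : Subgroup G) ≤ Subgroup.centralizer ((((zOf T).subgroupOf T).map ι : Subgroup G) : Set G) := by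
    rw [← hZG]
    exact le_centralizer_zOf _
  have hnpcC := npc_centralizer_of_conj hT E ι hreal Sy hSy (zOf_le T) (le_centralizer_zOf T) hSyC hC
  rw [← hZG] at hnpcC
  -- the normalizer of `J(Sy)`
  have hJG : thompsonSubgroupAOf (Sy : Subgroup G) = ((thompsonSubgroupAOf T).subgroupOf T).map ι :=
    j_range ι hinj _ hSy
  have hSyN : (Sy : Subgroup G) ≤
      Subgroup.normalizer ((((thompsonSubgroupAOf T).subgroupOf T).map ι : Subgroup G) : Set G) := by
    rw [← hJG]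
    exact Subgroup.le_normalizer.trans j_normalizer
  have hnpcN := npc_normalizer_of_conj hT E ι hreal Sy hSy (j_le T)
    (Subgroup.le_normalizer.trans j_normalizer) hSyN hN
  rw [← hJG] at hnpcN
  exact conjBy_of_npc E ι hreal Sy hSy (hTh Sy hSy hnpcC hnpcN)

end Cfsg.Agent.Helper2.FusGT
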