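import Cfsg.Agent.Helper2.FusTh2
import Cfsg.Agent.Helper88.Constrained
import Cfsg.Agent.S5077
import Cfsg.Agent.S5104
set_option autoImplicit false

/-!
Thompson's normal `p`-complement theorem for fusion systems, part 3: the induction, for a class of saturated fusion
systems closed under normalizer systems of fully normalized subgroups and factor systems by normal subgroups, in whose
models (at fully normalized centric subgroups) Thompson's criterion holds.
-/

namespace Cfsg.Agent.Helper2.FusGT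

open Cfsg Cfsg.FusionSystem Cfsg.Agent.Helper87

universe u

/-- Maps of the centralizer system of `L` in the normalizer system of `P` are maps of the centralizer system of `L`. -/
theorem centralizerHom_subset_of_normalizerSystem {Ω : Type*} [Group Ω] {S : Subgroup Ω} (F : FusionSystem S)
    {P : Subgroup Ω} (N : FusionSystem (normalizerIn S P)) (hN : F.IsNormalizerSystem P N) (L D : Subgroup Ω)
    {φ : D →* Ω} (hφ : φ ∈ N.centralizerHom L D) : φ ∈ F.centralizerHom L D := by
  obtain ⟨h1, h2, h3, ψ, hψ, h4, h5⟩ := hφ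
  rw [hN D] at h1
  rw [hN (D ⊔ L)] at hψ
  have hle : centralizerIn (normalizerIn S P) L ≤ centralizerIn S L := by
    unfold centralizerIn
    exact inf_le_inf_right _ inf_le_left
  exact ⟨h1.1, h2.trans hle, fun x => hle (h3 x), ψ, hψ.1, h4, h5⟩

/-- If `N_S(P) < S` and the normalizer system, inside `N_F(P)`, of a nontrivial subgroup `W` of `N_S(P)` normalized by
`N(N_S(P))` is not inner, then some fully normalized subgroup with a bad automorphism has a larger normalizer. -/
theorem exists_bigger_bad {Ω : Type u} [Group Ω] {S : Subgroup Ω} [Finite S] {p : ℕ} [Fact p.Prime]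
    (hS : IsPGroup p S) (F : FusionSystem S) (hF : F.IsSaturated p) {P : Subgroup Ω} (hPS : P ≤ S)
    (hEsat : (Cfsg.Agent.S5096.normalizerSystem F P hPS).IsSaturated p)
    (hTlt : normalizerIn S P < S) {W : Subgroup Ω} (hWT : W ≤ normalizerIn S P) (hW1 : W ≠ ⊥)
    (hNW : Subgroup.normalizer ((normalizerIn S P : Subgroup Ω) : Set Ω) ≤ Subgroup.normalizer (W : Set Ω))
    (hnot : ¬ ∀ (D : Subgroup Ω) (φ : D →* Ω),
      φ ∈ (Cfsg.Agent.S5096.normalizerSystem F P hPS).normalizerHom W D → ConjBy (normalizerIn S P) φ) :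
    ∃ W' : Subgroup Ω, W' ≠ ⊥ ∧ F.IsFullyNormalized W' ∧ BadAut p F W' ∧
      Nat.card (normalizerIn S P) < Nat.card (normalizerIn S W') := by
  set T := normalizerIn S P with hT_def
  have hTS : T ≤ S := inf_le_left
  haveI : Finite T := finite_of_le hTS
  have hTp : IsPGroup p T := hS.to_le hTS
  have hTW : T ≤ Subgroup.normalizer (W : Set Ω) := Subgroup.le_normalizer.trans hNW
  have hNW₁ : normalizerIn T W = T := inf_eq_left.mpr hTW
  have hW₁n : (Cfsg.Agent.S5096.normalizerSystem F P hPS).IsFullyNormalized W := by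
    refine ⟨hWT, fun Q' _ => ?_⟩
    rw [hNW₁]
    exact Subgroup.card_le_of_le inf_le_left
  have hbadE : BadAut p (Cfsg.Agent.S5096.normalizerSystem F P hPS) W := by
    apply badAut_of_not_conj hTp _ hEsat hW₁n
    intro hall
    apply hnot
    intro D φ hφ
    exact (hall D φ hφ).mono inf_le_left
  have hbadF : BadAut p F W := by
    obtain ⟨M, β, hQM, hMN, hβ, hβQ, hbad⟩ := hbadE
    have hle : normalizerIn T W ≤ normalizerIn S W := by
      unfold normalizerIn
      exact inf_le_inf_right _ hTS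
    exact ⟨M, β, hQM, hMN.trans hle, hβ.1, hβQ, hbad⟩
  have hW₁S : W ≤ S := hWT.trans hTS
  obtain ⟨W', hconj, hW'a, hW'r⟩ := hF _ hW₁S
  obtain ⟨χ, hχ, hχN, hχW⟩ := Cfsg.Agent.S5079.result p hS F W' _ hW'a hW'r hconj
  have hbad' : BadAut p F W' := hbadF.transport F le_rfl hχ hχN hχW
  have hW'n := isFullyNormalized_of_automized_receptive hS F hW'a hW'r
  have hW'1 : W' ≠ ⊥ :=
    ne_bot_of_map_eq (le_normalizerIn_self hW₁S) χ (F.injective_of_mem hχ) hχW hW1
  refine ⟨W', hW'1, hW'n, hbad', ?_⟩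
  haveI : Finite (normalizerIn S W') := finite_of_le inf_le_left
  haveI : Finite (normalizerIn S W) := finite_of_le inf_le_left
  haveI : Finite (normalizerIn S T) := finite_of_le inf_le_left
  have h1 : Nat.card (normalizerIn S W) ≤ Nat.card (normalizerIn S W') := by
    apply Nat.card_le_card_of_injective (fun x => (⟨χ x, hχN x⟩ : normalizerIn S W'))
    intro a b hab
    exact F.injective_of_mem hχ (congrArg Subtype.val hab)
  have h2 : normalizerIn S T ≤ normalizerIn S W := by
    unfold normalizerIn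
    exact inf_le_inf_left _ hNW
  have h3 : T < normalizerIn S T := lt_normalizerIn hS hTlt
  have h4 : Nat.card T < Nat.card (normalizerIn S T) := card_lt_card_of_lt h3
  have h5 : Nat.card (normalizerIn S T) ≤ Nat.card (normalizerIn S W) := Subgroup.card_le_of_le h2
  omega

/-- A class of fusion systems (in one universe). -/
abbrev SysClass := ∀ (Ω : Type u) [Group Ω] (S : Subgroup Ω), FusionSystem S → Prop

/-- The class is closed under normalizer systems of fully normalized subgroups and factor systems by normal subgroups,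
and Thompson's criterion holds in the models of the normalizer systems of fully normalized centric subgroups. -/
structure ThClass (p : ℕ) (𝒞 : SysClass.{u}) : Prop where
  normalizer : ∀ (Ω : Type u) [Group Ω] (S : Subgroup Ω) [Finite S], IsPGroup p S → ∀ F : FusionSystem S,
    F.IsSaturated p → 𝒞 Ω S F → ∀ (Q : Subgroup Ω) (hQ : F.IsFullyNormalized Q),
      𝒞 Ω (normalizerIn S Q) (Cfsg.Agent.S5096.normalizerSystem F Q hQ.1)
  quotient : ∀ (Ω : Type u) [Group Ω] (S : Subgroup Ω) [Finite S], IsPGroup p S → ∀ F : FusionSystem S,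
    F.IsSaturated p → 𝒞 Ω S F → ∀ (Q : Subgroup Ω), F.IsNormal Q → ∀ [hn : (Q.subgroupOf S).Normal]
      (Eb : FusionSystem (⊤ : Subgroup (S ⧸ Q.subgroupOf S))),
      F.IsFactorSystem Q (QuotientGroup.mk' (Q.subgroupOf S)) Eb → 𝒞 (S ⧸ Q.subgroupOf S) ⊤ Eb
  model : ∀ (Ω : Type u) [Group Ω] (S : Subgroup Ω) [Finite S], IsPGroup p S → ∀ F : FusionSystem S,
    F.IsSaturated p → 𝒞 Ω S F → ∀ (P : Subgroup Ω) (hP : F.IsFullyNormalized P), F.IsCentric P →
      ∀ (G : Type u) [Group G] (ι : ↥(normalizerIn S P) →* G),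
        (Cfsg.Agent.S5096.normalizerSystem F P hP.1).IsModel p G ι →
        ∀ Sy : Sylow p G, (Sy : Subgroup G) = ι.range →
          HasNormalPComplement p ↥(Subgroup.centralizer ((zOf (Sy : Subgroup G) : Subgroup G) : Set G)) →
          HasNormalPComplement p
            ↥(Subgroup.normalizer ((thompsonSubgroupAOf (Sy : Subgroup G) : Subgroup G) : Set G)) →
          HasNormalPComplement p G

/-- Thompson's theorem for the systems of the class, in the form used for the induction. -/
def ThStatement (p : ℕ) (𝒞 : SysClass.{u}) (Ω' : Type u) [Group Ω'] (S' : Subgroup Ω') : Prop :=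
  ∀ F' : FusionSystem S', F'.IsSaturated p → 𝒞 Ω' S' F' →
    (∀ (D : Subgroup Ω') (φ : D →* Ω'), φ ∈ F'.centralizerHom (zOf S') D → ConjBy S' φ) →
    (∀ (D : Subgroup Ω') (φ : D →* Ω'), φ ∈ F'.normalizerHom (thompsonSubgroupAOf S') D → ConjBy S' φ) →
    ∀ (D : Subgroup Ω') (φ : D →* Ω'), φ ∈ F'.Hom D → ConjBy S' φ

theorem th_main (p : ℕ) [Fact p.Prime] (𝒞 : SysClass.{u}) (h𝒞 : ThClass p 𝒞) :
    ∀ (n : ℕ) (Ω : Type u) [Group Ω] (S : Subgroup Ω) [Finite S], Nat.card S = n → IsPGroup p S →
      ThStatement p 𝒞 Ω S := by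
  intro n
  induction n using Nat.strong_induction_on with
  | _ n ih =>
  intro Ω _ S _ hn hS F hF hF𝒞 hC hN
  by_contra hnot
  -- some automorphism group is not a `p`-group
  have hex : ∃ P₀ : Subgroup Ω, P₀ ≤ S ∧ ¬ IsPGroup p (F.autGroup P₀) := by
    by_contra hall
    push Not at hall
    apply hnot
    intro D φ hφ
    exact frobenius_inner p hS F hF hall D φ hφ
  obtain ⟨P₀, hP₀S, hP₀⟩ := hex
  have hP₀1 : P₀ ≠ ⊥ := by
    rintro rfl
    apply hP₀
    intro α
    refine ⟨0, ?_⟩
    apply Subtype.ext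
    apply DFunLike.ext
    intro x
    exact Subsingleton.elim _ _
  have hbad₀ : BadAut p F P₀ := by
    unfold IsPGroup at hP₀
    push Not at hP₀
    obtain ⟨α, hα⟩ := hP₀
    have hαiso := (mem_autGroup_iff F hP₀S _).mp α.2
    refine ⟨P₀, (α : MulAut P₀), le_rfl, le_normalizerIn_self hP₀S, hαiso,
      fun x _ => ((α : MulAut P₀) x).2, fun k hk => hα k ?_⟩
    apply Subtype.ext
    rw [Subgroup.coe_pow]
    exact hk
  obtain ⟨P₁, hconj₁, hP₁a, hP₁r⟩ := hF P₀ hP₀S
  obtain ⟨φ₁, hφ₁, hφ₁N, hφ₁P⟩ := Cfsg.Agent.S5079.result p hS F P₁ P₀ hP₁a hP₁r hconj₁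
  have hbad₁ : BadAut p F P₁ := hbad₀.transport F le_rfl hφ₁ hφ₁N hφ₁P
  have hP₁n : F.IsFullyNormalized P₁ := isFullyNormalized_of_automized_receptive hS F hP₁a hP₁r
  have hP₁1 : P₁ ≠ ⊥ :=
    ne_bot_of_map_eq (le_normalizerIn_self hP₀S) φ₁ (F.injective_of_mem hφ₁) hφ₁P hP₀1
  -- choose a bad fully normalized subgroup with `|N_S(P)|`, then `|P|`, maximal
  obtain ⟨P, ⟨hP1, hPn, hPbad⟩, hmax⟩ := exists_max_of_bdd
    {P : Subgroup Ω | P ≠ ⊥ ∧ F.IsFullyNormalized P ∧ BadAut p F P}
    (fun P => Nat.card (normalizerIn S P) * (Nat.card S + 1) + Nat.card P)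
    (Nat.card S * (Nat.card S + 1) + Nat.card S)
    (by
      rintro Q ⟨-, hQn, -⟩
      have h1 : Nat.card (normalizerIn S Q) ≤ Nat.card S := Subgroup.card_le_of_le inf_le_left
      have h2 : Nat.card Q ≤ Nat.card S := Subgroup.card_le_of_le hQn.1
      exact Nat.add_le_add (Nat.mul_le_mul_right _ h1) h2)
    ⟨P₁, hP₁1, hP₁n, hbad₁⟩
  have hPS : P ≤ S := hPn.1
  set T := normalizerIn S P with hT_def
  have hTS : T ≤ S := inf_le_left
  haveI : Finite T := finite_of_le hTS
  have hTp : IsPGroup p T := hS.to_le hTS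
  have hPT : P ≤ T := le_normalizerIn_self hPS
  have hT1 : T ≠ ⊥ := fun h => hP1 (le_bot_iff.mp (h ▸ hPT))
  have hEN : F.IsNormalizerSystem P (Cfsg.Agent.S5096.normalizerSystem F P hPS) := fun _ => rfl
  have hEsat : (Cfsg.Agent.S5096.normalizerSystem F P hPS).IsSaturated p :=
    Cfsg.Agent.S5098.result p hS F hF P hPn _ hEN
  have hEnot : ¬ ∀ (D : Subgroup Ω) (φ : D →* Ω),
      φ ∈ (Cfsg.Agent.S5096.normalizerSystem F P hPS).Hom D → ConjBy T φ := by
    intro hall
    apply not_badAut_of_conj hS F (Q := P) ?_ hPbad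
    intro D φ hφ
    exact (hall D φ hφ).mono hTS
  have hPcard : Nat.card P ≤ Nat.card S := Subgroup.card_le_of_le hPS
  have hE𝒞 := h𝒞.normalizer Ω S hS F hF hF𝒞 P hPn
  by_cases hTeq : T = S
  · apply hEnot
    have hP := isNormal_normalizerSystem F hPS _ hEN
    have hPsc : (Cfsg.Agent.S5096.normalizerSystem F P hPS).StronglyClosed P := stronglyClosed_of_isNormal _ hP
    haveI hPn' : (P.subgroupOf T).Normal := normal_subgroupOf_of_stronglyClosed _ hPsc
    obtain ⟨Eb, hfac⟩ := Cfsg.Agent.S5132.result p hTp _ P hPsc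
    have hsurj := Cfsg.Agent.S5134.result p hTp _ hEsat P hPsc (QuotientGroup.mk' (P.subgroupOf T)) Eb hfac
    have hEbsat : Eb.IsSaturated p :=
      Cfsg.Agent.S5133.result p hTp _ hEsat Eb (QuotientGroup.mk' (P.subgroupOf T)) hsurj
    have hTbp : IsPGroup p ↥(⊤ : Subgroup (T ⧸ P.subgroupOf T)) := (hTp.to_quotient _).to_subgroup ⊤
    have hcard : Nat.card ↥(⊤ : Subgroup (T ⧸ P.subgroupOf T)) < n := by
      rw [Subgroup.card_top, ← hn]
      have h1 := Subgroup.card_eq_card_quotient_mul_card_subgroup (P.subgroupOf T)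
      have h2 : Nat.card (P.subgroupOf T) = Nat.card P :=
        Nat.card_congr (Subgroup.subgroupOfEquivOfLe hPT).toEquiv
      haveI : Finite P := finite_of_le hPS
      have h3 : 1 < Nat.card P := (Subgroup.one_lt_card_iff_ne_bot P).mpr hP1
      have h4 : 0 < Nat.card (T ⧸ P.subgroupOf T) := Nat.card_pos
      have h5 : Nat.card T ≤ Nat.card S := Subgroup.card_le_of_le hTS
      rw [h2] at h1
      nlinarith
    have hi : ∀ L : Subgroup Ω, P < L → L ≤ T → T ≤ Subgroup.normalizer (L : Set Ω) →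
        ∀ (D : Subgroup Ω) (φ : D →* Ω),
          φ ∈ (Cfsg.Agent.S5096.normalizerSystem F P hPS).normalizerHom L D → ConjBy T φ := by
      intro L hPL hLT hTL D φ hφ
      have hφF := normalizerHom_subset_of_normalizerSystem F _ hEN L D hφ
      have hLS : L ≤ S := hLT.trans hTS
      have hSL : S ≤ Subgroup.normalizer (L : Set Ω) := by
        rw [← hTeq]
        exact hTL
      have hNL : normalizerIn S L = S := inf_eq_left.mpr hSL
      have hLn : F.IsFullyNormalized L := by
        refine ⟨hLS, fun Q' _ => ?_⟩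
        rw [hNL]
        exact Subgroup.card_le_of_le inf_le_left
      have hL1 : L ≠ ⊥ := by
        rintro rfl
        exact not_lt_bot hPL
      haveI : Finite L := finite_of_le hLS
      have hLbad : ¬ BadAut p F L := by
        intro hb
        have h1 : Nat.card (normalizerIn S L) * (Nat.card S + 1) + Nat.card L ≤
            Nat.card T * (Nat.card S + 1) + Nat.card P := hmax L ⟨hL1, hLn, hb⟩
        rw [hNL, hTeq] at h1
        have h2 : Nat.card P < Nat.card L := card_lt_card_of_lt hPL
        omega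
      by_contra hcon
      apply hLbad
      apply badAut_of_not_conj hS F hF hLn
      intro hall
      apply hcon
      apply (hall D φ hφF).mono
      rw [hNL, hTeq]
    have hEb𝒞 := h𝒞.quotient Ω T hTp _ hEsat hE𝒞 P hP Eb hfac
    have hEb_inner : ∀ (D' : Subgroup (T ⧸ P.subgroupOf T)) (φ' : D' →* (T ⧸ P.subgroupOf T)),
        φ' ∈ Eb.Hom D' → ConjBy ⊤ φ' := by
      by_cases hsub : Subsingleton (T ⧸ P.subgroupOf T)
      · intro D' φ' _
        exact ⟨1, Subgroup.mem_top _, fun x => Subsingleton.elim _ _⟩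
      rw [not_subsingleton_iff_nontrivial] at hsub
      have hnorm : Subgroup.normalizer (((⊤ : Subgroup (T ⧸ P.subgroupOf T)) : Subgroup _) : Set (T ⧸ P.subgroupOf T))
          = ⊤ := Subgroup.normalizer_eq_top _
      apply ih _ hcard (T ⧸ P.subgroupOf T) ⊤ rfl hTbp Eb hEbsat hEb𝒞
      · intro D' φ' hφ'
        have hZ1 : zOf (⊤ : Subgroup (T ⧸ P.subgroupOf T)) ≠ ⊥ := zOf_ne_bot hTbp top_ne_bot
        have hZn : ∀ g : T ⧸ P.subgroupOf T, g ∈ Subgroup.normalizer
            (zOf (⊤ : Subgroup (T ⧸ P.subgroupOf T)) : Set (T ⧸ P.subgroupOf T)) := by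
          intro g
          apply zOf_normalizer
          rw [hnorm]
          exact Subgroup.mem_top g
        exact quot_normalizerHom_conj (p := p) _ hPT Eb hfac hi _ hZ1 hZn D' φ'
          (centralizerHom_subset_normalizerHom Eb hφ')
      · intro D' φ' hφ'
        have hJ1 : thompsonSubgroupAOf (⊤ : Subgroup (T ⧸ P.subgroupOf T)) ≠ ⊥ := j_ne_bot top_ne_bot
        have hJn : ∀ g : T ⧸ P.subgroupOf T, g ∈ Subgroup.normalizer
            (thompsonSubgroupAOf (⊤ : Subgroup (T ⧸ P.subgroupOf T)) : Set (T ⧸ P.subgroupOf T)) := by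
          intro g
          apply j_normalizer
          rw [hnorm]
          exact Subgroup.mem_top g
        exact quot_normalizerHom_conj (p := p) _ hPT Eb hfac hi _ hJ1 hJn D' φ' hφ'
    have hcon := isConstrained_of_quot_inner hTp _ hEsat hP Eb hfac hEb_inner
    -- `P` is the largest normal subgroup of `N_F(P)`, hence centric
    obtain ⟨hcn, hcc⟩ := Cfsg.Agent.Helper88.FS.core_normal_centric_of_isConstrained _ hcon
    have hPcore : P ≤ (Cfsg.Agent.S5096.normalizerSystem F P hPS).core := le_sSup hP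
    have hcoreP : (Cfsg.Agent.S5096.normalizerSystem F P hPS).core = P := by
      by_contra hne
      have hlt : P < (Cfsg.Agent.S5096.normalizerSystem F P hPS).core :=
        lt_of_le_of_ne hPcore (fun h => hne h.symm)
      have hTL := le_normalizer_of_isNormal _ hcn
      apply hEnot
      intro D φ hφ
      exact hi _ hlt hcn.1 hTL D φ (mem_normalizerHom_of_isNormal _ hcn hTL hφ)
    have hPcE : centralizerIn T P ≤ P := by
      have h1 := hcc.2 _ (isConj_refl _ hcn.1)
      rw [hcoreP] at h1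
      exact h1
    have hPc : F.IsCentric P := by
      apply Cfsg.Agent.S5104.result p hS F hF P (((Cfsg.Agent.S5077.result p hS F).mp hF).1 P hPn).1
      rw [← hTeq]
      exact hPcE
    obtain ⟨G, _, ι, hmodel⟩ := Cfsg.Agent.S5090.result p hTp _ hcon
    have hTh := h𝒞.model Ω S hS F hF hF𝒞 P hPn hPc G ι hmodel
    apply conjBy_of_model_th hTp _ ι hmodel hTh
    · intro D φ hφ
      have hφF := centralizerHom_subset_of_normalizerSystem F _ hEN _ D hφ
      rw [hTeq] at hφF
      apply (hC D φ hφF).mono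
      rw [hTeq]
    · intro D φ hφ
      have hφF := normalizerHom_subset_of_normalizerSystem F _ hEN _ D hφ
      rw [hTeq] at hφF
      apply (hN D φ hφF).mono
      rw [hTeq]
  · -- `N_S(P) < S`
    exfalso
    have hTlt : T < S := lt_of_le_of_ne hTS hTeq
    have hcardT : Nat.card T < n := by
      rw [← hn]
      exact card_lt_card_of_lt hTlt
    have hGT := ih (Nat.card T) hcardT Ω T rfl hTp _ hEsat hE𝒞
    have key : ∀ W : Subgroup Ω, W ≤ T → W ≠ ⊥ →
        Subgroup.normalizer (T : Set Ω) ≤ Subgroup.normalizer (W : Set Ω) →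
        ∀ (D : Subgroup Ω) (φ : D →* Ω),
          φ ∈ (Cfsg.Agent.S5096.normalizerSystem F P hPS).normalizerHom W D → ConjBy T φ := by
      intro W hWT hW1 hNW
      by_contra hcon
      obtain ⟨W', hW'1, hW'n, hbad', hlt⟩ := exists_bigger_bad hS F hF hPS hEsat hTlt hWT hW1 hNW hcon
      have hlt' : Nat.card T < Nat.card (normalizerIn S W') := hlt
      have hle : Nat.card (normalizerIn S W') * (Nat.card S + 1) + Nat.card W' ≤
          Nat.card T * (Nat.card S + 1) + Nat.card P := hmax W' ⟨hW'1, hW'n, hbad'⟩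
      have h6 : (Nat.card T + 1) * (Nat.card S + 1) ≤ Nat.card (normalizerIn S W') * (Nat.card S + 1) :=
        Nat.mul_le_mul_right _ (by omega)
      nlinarith
    apply hEnot
    apply hGT
    · intro D φ hφ
      exact key _ (zOf_le T) (zOf_ne_bot hTp hT1) zOf_normalizer D φ (centralizerHom_subset_normalizerHom _ hφ)
    · exact key _ (j_le T) (j_ne_bot hT1) j_normalizer

end Cfsg.Agent.Helper2.FusGT
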