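import Cfsg.Agent.Helper2.FusTh3
import Cfsg.Agent.S2800
import Cfsg.Agent.S5097
import Cfsg.Prelude.Def_FusionReduction
set_option autoImplicit false

/-!
Thompson's normal `p`-complement theorem for fusion systems, part 4: the class of the systems that are `S₄`-free or over
a `p`-group with `p` odd, and Thompson's theorem for it, GIVEN that `S₄`-freeness passes to normalizer systems of fully
normalized subgroups and to factor systems by normal subgroups (the two inheritance statements are hypotheses here).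
-/

namespace Cfsg.Agent.Helper2.FusGT

open Cfsg Cfsg.FusionSystem Cfsg.Agent.Helper87

universe u

/-- `p` is odd, or the system is `S₄`-free. -/
def s4Class (p : ℕ) : SysClass.{u} := fun _ _ _ F => p ≠ 2 ∨ F.IsSectionFree p (Equiv.Perm (Fin 4))

/-- Inheritance of `H`-freeness by normalizer systems of fully normalized subgroups. -/
def InheritsNormalizer (p : ℕ) (H : Type) [Group H] : Prop :=
  ∀ (Ω : Type u) [Group Ω] (S : Subgroup Ω) [Finite S], IsPGroup p S → ∀ F : FusionSystem S, F.IsSaturated p →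
    F.IsSectionFree p H → ∀ (Q : Subgroup Ω), F.IsFullyNormalized Q →
      ∀ N : FusionSystem (normalizerIn S Q), F.IsNormalizerSystem Q N → N.IsSectionFree p H

/-- Inheritance of `H`-freeness by factor systems by normal subgroups. -/
def InheritsQuotient (p : ℕ) (H : Type) [Group H] : Prop :=
  ∀ (Ω : Type u) [Group Ω] (S : Subgroup Ω) [Finite S], IsPGroup p S → ∀ F : FusionSystem S, F.IsSaturated p →
    ∀ (Q : Subgroup Ω), F.IsNormal Q → F.IsSectionFree p H → ∀ [hn : (Q.subgroupOf S).Normal]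
      (Eb : FusionSystem (⊤ : Subgroup (S ⧸ Q.subgroupOf S))),
      F.IsFactorSystem Q (QuotientGroup.mk' (Q.subgroupOf S)) Eb → Eb.IsSectionFree p H

theorem thClass_s4 (p : ℕ) [Fact p.Prime] (h1 : InheritsNormalizer.{u} p (Equiv.Perm (Fin 4)))
    (h2 : InheritsQuotient.{u} p (Equiv.Perm (Fin 4))) : ThClass p (s4Class.{u} p) where
  normalizer := by
    intro Ω _ S _ hS F hF hF𝒞 Q hQ
    rcases hF𝒞 with hp | hfree
    · exact Or.inl hp
    · exact Or.inr (h1 Ω S hS F hF hfree Q hQ _ (fun _ => rfl))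
  quotient := by
    intro Ω _ S _ hS F hF hF𝒞 Q hQ hn Eb hfac
    rcases hF𝒞 with hp | hfree
    · exact Or.inl hp
    · exact Or.inr (h2 Ω S hS F hF Q hQ hfree Eb hfac)
  model := by
    intro Ω _ S _ hS F hF hF𝒞 P hP hPc G _ ι hmodel Sy hSy hC hN
    haveI : Finite G := hmodel.1
    rcases hF𝒞 with hp | hfree
    · exact Cfsg.Agent.S2800.result Sy (Or.inl hp) hC hN
    · have hinv := hfree P hP hPc _ (fun _ => rfl) G ι hmodel
      exact Cfsg.Agent.S2800.result Sy (Or.inr hinv) hC hN

/-- Thompson's theorem for fusion systems, given the two inheritance statements. -/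
theorem thompson_fusion (p : ℕ) [Fact p.Prime] (h1 : InheritsNormalizer.{u} p (Equiv.Perm (Fin 4)))
    (h2 : InheritsQuotient.{u} p (Equiv.Perm (Fin 4))) {Ω : Type u} [Group Ω] {S : Subgroup Ω} [Finite S]
    (hS : IsPGroup p S) (F : FusionSystem S) (hF : F.IsSaturated p)
    (hp : p ≠ 2 ∨ F.IsSectionFree p (Equiv.Perm (Fin 4)))
    (hC : ∀ C : FusionSystem (centralizerIn S (S ⊓ Subgroup.centralizer (S : Set Ω))),
      F.IsCentralizerSystem (S ⊓ Subgroup.centralizer (S : Set Ω)) C → ∀ P : Subgroup Ω,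
        C.Hom P = (innerFusionSystem (centralizerIn S (S ⊓ Subgroup.centralizer (S : Set Ω)))).Hom P)
    (hN : ∀ N : FusionSystem (normalizerIn S (thompsonSubgroupAOf S)),
      F.IsNormalizerSystem (thompsonSubgroupAOf S) N → ∀ P : Subgroup Ω,
        N.Hom P = (innerFusionSystem (normalizerIn S (thompsonSubgroupAOf S))).Hom P) :
    ∀ P : Subgroup Ω, F.Hom P = (innerFusionSystem S).Hom P := by
  have hC' : ∀ (D : Subgroup Ω) (φ : D →* Ω), φ ∈ F.centralizerHom (zOf S) D → ConjBy S φ := by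
    intro D φ hφ
    have h3 := hC (Cfsg.Agent.S5097.centralizerSystem F _ (zOf_le S)) (fun _ => rfl) D
    have h4 : φ ∈ (Cfsg.Agent.S5097.centralizerSystem F (S ⊓ Subgroup.centralizer (S : Set Ω)) (zOf_le S)).Hom D := hφ
    rw [h3] at h4
    obtain ⟨-, g, hg, hgx⟩ := h4
    exact ⟨g, hg.1, hgx⟩
  have hN' : ∀ (D : Subgroup Ω) (φ : D →* Ω), φ ∈ F.normalizerHom (thompsonSubgroupAOf S) D → ConjBy S φ := by
    intro D φ hφ
    have h3 := hN (Cfsg.Agent.S5096.normalizerSystem F _ (j_le S)) (fun _ => rfl) D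
    have h4 : φ ∈ (Cfsg.Agent.S5096.normalizerSystem F _ (j_le S)).Hom D := hφ
    rw [h3] at h4
    obtain ⟨-, g, hg, hgx⟩ := h4
    exact ⟨g, hg.1, hgx⟩
  have hfinal := th_main p (s4Class p) (thClass_s4 p h1 h2) (Nat.card S) Ω S rfl hS F hF hp hC' hN'
  exact hom_eq_inner_of_forall_conj F hfinal

end Cfsg.Agent.Helper2.FusGT
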