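import Cfsg.Agent.Helper2.FusTh4
import Cfsg.Agent.Helper84.ModelNorm2
import Cfsg.Agent.Helper85.QuotFree
import Cfsg.Agent.Helper85.Morphism3
import Cfsg.Agent.S5134
import Cfsg.Agent.S3788
set_option autoImplicit false

/-!
Thompson's normal `p`-complement theorem for fusion systems, part 5: `H`-freeness passes to normalizer systems of fully
normalized subgroups (helper84) and to factor systems by normal subgroups (helper85), for every `H`; hence Thompson's
theorem for fusion systems, unconditionally.
-/

namespace Cfsg.Agent.Helper2.FusGT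

open Cfsg Cfsg.FusionSystem Cfsg.Agent.Helper87

universe u v

/-- `H`-freeness passes to the normalizer systems of the fully normalized subgroups. -/
theorem inheritsNormalizer (p : ℕ) [Fact p.Prime] (H : Type) [Group H] : InheritsNormalizer.{u} p H := by
  intro Ω _ S _ hS F hF hfree Q hQ N hN
  exact Cfsg.Agent.Helper84.isSectionFree_normalizerSystem p hS F hF H hfree Q hQ N hN

/-- `H`-freeness passes to the factor systems by normal subgroups (any `H`). -/
theorem isSectionFree_factorSystem {Ω : Type u} [Group Ω] {S : Subgroup Ω} [Finite S] (p : ℕ) [Fact p.Prime]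
    (hS : IsPGroup p S) (F : FusionSystem S) (hF : F.IsSaturated p) (Q : Subgroup Ω) (hQ : F.IsNormal Q)
    (H : Type*) [Group H] (hfree : F.IsSectionFree p H) {Ω' : Type v} [Group Ω'] {S' : Subgroup Ω'} (θ : ↥S →* Ω')
    (E : FusionSystem S') (hE : F.IsFactorSystem Q θ E) : E.IsSectionFree p H := by
  intro P' hP'n hP'c N' hN' L' _ ι' hmod' hinv
  have h := Cfsg.Agent.Helper85.isFacF_of_isFactorSystem hE
  have hS₀ : F.StronglyClosed Q := stronglyClosed_of_isNormal F hQ
  have hEsat : E.IsSaturated p :=
    Cfsg.Agent.Helper85.isSaturated_of_surjectiveMorphism F E θ hS hF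
      (Cfsg.Agent.S5134.result p hS F hF Q hS₀ θ E hE)
  obtain ⟨hPn, hPc, N, hN, L, instL, ι, hmod, π, hπ⟩ :=
    Cfsg.Agent.Helper85.exists_model_surj p hS F hF Q hQ h hEsat P' hP'n hP'c N' hN' L' ι' hmod'
  exact hfree (h.pre P') hPn hPc N hN L ι hmod (Cfsg.Agent.S3788.involves_of_surjective π hπ hinv)

theorem inheritsQuotient (p : ℕ) [Fact p.Prime] (H : Type) [Group H] : InheritsQuotient.{u} p H := by
  intro Ω _ S _ hS F hF Q hQ hfree hn Eb hfac
  exact isSectionFree_factorSystem p hS F hF Q hQ H hfree _ Eb hfac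

/-- Thompson's normal `p`-complement theorem for fusion systems. -/
theorem thompson_fusion' (p : ℕ) [Fact p.Prime] {Ω : Type u} [Group Ω] {S : Subgroup Ω} [Finite S]
    (hS : IsPGroup p S) (F : FusionSystem S) (hF : F.IsSaturated p)
    (hp : p ≠ 2 ∨ F.IsSectionFree p (Equiv.Perm (Fin 4)))
    (hC : ∀ C : FusionSystem (centralizerIn S (S ⊓ Subgroup.centralizer (S : Set Ω))),
      F.IsCentralizerSystem (S ⊓ Subgroup.centralizer (S : Set Ω)) C → ∀ P : Subgroup Ω,
        C.Hom P = (innerFusionSystem (centralizerIn S (S ⊓ Subgroup.centralizer (S : Set Ω)))).Hom P)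
    (hN : ∀ N : FusionSystem (normalizerIn S (thompsonSubgroupAOf S)),
      F.IsNormalizerSystem (thompsonSubgroupAOf S) N → ∀ P : Subgroup Ω,
        N.Hom P = (innerFusionSystem (normalizerIn S (thompsonSubgroupAOf S))).Hom P) :
    ∀ P : Subgroup Ω, F.Hom P = (innerFusionSystem S).Hom P :=
  thompson_fusion p (inheritsNormalizer p _) (inheritsQuotient p _) hS F hF hp hC hN

/-- The class `s4Class` is a Thompson class. -/
theorem thClass_s4' (p : ℕ) [Fact p.Prime] : ThClass p (s4Class.{u} p) :=
  thClass_s4 p (inheritsNormalizer p _) (inheritsQuotient p _)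

end Cfsg.Agent.Helper2.FusGT
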