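import Cfsg.Agent.Helper2.FusTh5
set_option autoImplicit false

/-!
For a Thompson class of fusion systems: a saturated system of the class that is not inner has a fully normalized
subgroup `P`, normal in `S`, whose normalizer system is constrained and not inner (towards S5221).
-/

namespace Cfsg.Agent.Helper2.FusGT

open Cfsg Cfsg.FusionSystem Cfsg.Agent.Helper87

universe u

theorem exists_constrained_bad_th (p : ℕ) [Fact p.Prime] (𝒞 : SysClass.{u}) (h𝒞 : ThClass p 𝒞)
    {Ω : Type u} [Group Ω] {S : Subgroup Ω}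
    [Finite S] (hS : IsPGroup p S) (F : FusionSystem S) (hF : F.IsSaturated p) (hF𝒞 : 𝒞 Ω S F)
    (hnot : ¬ ∀ (D : Subgroup Ω) (φ : D →* Ω), φ ∈ F.Hom D → ConjBy S φ) :
    ∃ (P : Subgroup Ω) (hPS : P ≤ S), normalizerIn S P = S ∧ F.IsFullyNormalized P ∧
      (Cfsg.Agent.S5096.normalizerSystem F P hPS).IsConstrained p ∧
      ¬ ∀ (D : Subgroup Ω) (φ : D →* Ω),
        φ ∈ (Cfsg.Agent.S5096.normalizerSystem F P hPS).Hom D → ConjBy (normalizerIn S P) φ := by
  -- some automorphism group is not a `p`-group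
  have hex : ∃ P₀ : Subgroup Ω, P₀ ≤ S ∧ ¬ IsPGroup p (F.autGroup P₀) := by
    by_contra hall
    push Not at hall
    apply hnot
    intro D φ hφ
    exact frobenius_inner p hS F hF hall D φ hφ
  obtain ⟨P₀, hP₀S, hP₀⟩ := hex
  have hP₀1 : P₀ ≠ ⊥ := by
    rintro rfl
    apply hP₀
    intro α
    refine ⟨0, ?_⟩
    apply Subtype.ext
    apply DFunLike.ext
    intro x
    exact Subsingleton.elim _ _
  have hbad₀ : BadAut p F P₀ := by
    unfold IsPGroup at hP₀
    push Not at hP₀
    obtain ⟨α, hα⟩ := hP₀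
    have hαiso := (mem_autGroup_iff F hP₀S _).mp α.2
    refine ⟨P₀, (α : MulAut P₀), le_rfl, le_normalizerIn_self hP₀S, hαiso,
      fun x _ => ((α : MulAut P₀) x).2, fun k hk => hα k ?_⟩
    apply Subtype.ext
    rw [Subgroup.coe_pow]
    exact hk
  obtain ⟨P₁, hconj₁, hP₁a, hP₁r⟩ := hF P₀ hP₀S
  obtain ⟨φ₁, hφ₁, hφ₁N, hφ₁P⟩ := Cfsg.Agent.S5079.result p hS F P₁ P₀ hP₁a hP₁r hconj₁
  have hbad₁ : BadAut p F P₁ := hbad₀.transport F le_rfl hφ₁ hφ₁N hφ₁P
  have hP₁n : F.IsFullyNormalized P₁ := isFullyNormalized_of_automized_receptive hS F hP₁a hP₁r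
  have hP₁1 : P₁ ≠ ⊥ :=
    ne_bot_of_map_eq (le_normalizerIn_self hP₀S) φ₁ (F.injective_of_mem hφ₁) hφ₁P hP₀1
  -- choose a bad fully normalized subgroup with `|N_S(P)|`, then `|P|`, maximal
  obtain ⟨P, ⟨hP1, hPn, hPbad⟩, hmax⟩ := exists_max_of_bdd
    {P : Subgroup Ω | P ≠ ⊥ ∧ F.IsFullyNormalized P ∧ BadAut p F P}
    (fun P => Nat.card (normalizerIn S P) * (Nat.card S + 1) + Nat.card P)
    (Nat.card S * (Nat.card S + 1) + Nat.card S)
    (by
      rintro Q ⟨-, hQn, -⟩
      have h1 : Nat.card (normalizerIn S Q) ≤ Nat.card S := Subgroup.card_le_of_le inf_le_left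
      have h2 : Nat.card Q ≤ Nat.card S := Subgroup.card_le_of_le hQn.1
      exact Nat.add_le_add (Nat.mul_le_mul_right _ h1) h2)
    ⟨P₁, hP₁1, hP₁n, hbad₁⟩
  have hPS : P ≤ S := hPn.1
  set T := normalizerIn S P with hT_def
  have hTS : T ≤ S := inf_le_left
  haveI : Finite T := finite_of_le hTS
  have hTp : IsPGroup p T := hS.to_le hTS
  have hPT : P ≤ T := le_normalizerIn_self hPS
  have hT1 : T ≠ ⊥ := fun h => hP1 (le_bot_iff.mp (h ▸ hPT))
  have hEN : F.IsNormalizerSystem P (Cfsg.Agent.S5096.normalizerSystem F P hPS) := fun _ => rfl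
  have hEsat : (Cfsg.Agent.S5096.normalizerSystem F P hPS).IsSaturated p :=
    Cfsg.Agent.S5098.result p hS F hF P hPn _ hEN
  have hEnot : ¬ ∀ (D : Subgroup Ω) (φ : D →* Ω),
      φ ∈ (Cfsg.Agent.S5096.normalizerSystem F P hPS).Hom D → ConjBy T φ := by
    intro hall
    apply not_badAut_of_conj hS F (Q := P) ?_ hPbad
    intro D φ hφ
    exact (hall D φ hφ).mono hTS
  have hPcard : Nat.card P ≤ Nat.card S := Subgroup.card_le_of_le hPS
  have hE𝒞 := h𝒞.normalizer Ω S hS F hF hF𝒞 P hPn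
  by_cases hTeq : T = S
  · refine ⟨P, hPS, hTeq, hPn, ?_, hEnot⟩
    have hP := isNormal_normalizerSystem F hPS _ hEN
    have hPsc : (Cfsg.Agent.S5096.normalizerSystem F P hPS).StronglyClosed P := stronglyClosed_of_isNormal _ hP
    haveI hPn' : (P.subgroupOf T).Normal := normal_subgroupOf_of_stronglyClosed _ hPsc
    obtain ⟨Eb, hfac⟩ := Cfsg.Agent.S5132.result p hTp _ P hPsc
    have hsurj := Cfsg.Agent.S5134.result p hTp _ hEsat P hPsc (QuotientGroup.mk' (P.subgroupOf T)) Eb hfac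
    have hEbsat : Eb.IsSaturated p :=
      Cfsg.Agent.S5133.result p hTp _ hEsat Eb (QuotientGroup.mk' (P.subgroupOf T)) hsurj
    have hTbp : IsPGroup p ↥(⊤ : Subgroup (T ⧸ P.subgroupOf T)) := (hTp.to_quotient _).to_subgroup ⊤
    have hi : ∀ L : Subgroup Ω, P < L → L ≤ T → T ≤ Subgroup.normalizer (L : Set Ω) →
        ∀ (D : Subgroup Ω) (φ : D →* Ω),
          φ ∈ (Cfsg.Agent.S5096.normalizerSystem F P hPS).normalizerHom L D → ConjBy T φ := by
      intro L hPL hLT hTL D φ hφ
      have hφF := normalizerHom_subset_of_normalizerSystem F _ hEN L D hφ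
      have hLS : L ≤ S := hLT.trans hTS
      have hSL : S ≤ Subgroup.normalizer (L : Set Ω) := by
        rw [← hTeq]
        exact hTL
      have hNL : normalizerIn S L = S := inf_eq_left.mpr hSL
      have hLn : F.IsFullyNormalized L := by
        refine ⟨hLS, fun Q' _ => ?_⟩
        rw [hNL]
        exact Subgroup.card_le_of_le inf_le_left
      have hL1 : L ≠ ⊥ := by
        rintro rfl
        exact not_lt_bot hPL
      haveI : Finite L := finite_of_le hLS
      have hLbad : ¬ BadAut p F L := by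
        intro hb
        have h1 : Nat.card (normalizerIn S L) * (Nat.card S + 1) + Nat.card L ≤
            Nat.card T * (Nat.card S + 1) + Nat.card P := hmax L ⟨hL1, hLn, hb⟩
        rw [hNL, hTeq] at h1
        have h2 : Nat.card P < Nat.card L := card_lt_card_of_lt hPL
        omega
      by_contra hcon
      apply hLbad
      apply badAut_of_not_conj hS F hF hLn
      intro hall
      apply hcon
      apply (hall D φ hφF).mono
      rw [hNL, hTeq]
    have hEb𝒞 := h𝒞.quotient Ω T hTp _ hEsat hE𝒞 P hP Eb hfac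
    have hEb_inner : ∀ (D' : Subgroup (T ⧸ P.subgroupOf T)) (φ' : D' →* (T ⧸ P.subgroupOf T)),
        φ' ∈ Eb.Hom D' → ConjBy ⊤ φ' := by
      by_cases hsub : Subsingleton (T ⧸ P.subgroupOf T)
      · intro D' φ' _
        exact ⟨1, Subgroup.mem_top _, fun x => Subsingleton.elim _ _⟩
      rw [not_subsingleton_iff_nontrivial] at hsub
      have hnorm : Subgroup.normalizer (((⊤ : Subgroup (T ⧸ P.subgroupOf T)) : Subgroup _) : Set (T ⧸ P.subgroupOf T))
          = ⊤ := Subgroup.normalizer_eq_top _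
      apply th_main p 𝒞 h𝒞 _ (T ⧸ P.subgroupOf T) ⊤ rfl hTbp Eb hEbsat hEb𝒞
      · intro D' φ' hφ'
        have hZ1 : zOf (⊤ : Subgroup (T ⧸ P.subgroupOf T)) ≠ ⊥ := zOf_ne_bot hTbp top_ne_bot
        have hZn : ∀ g : T ⧸ P.subgroupOf T, g ∈ Subgroup.normalizer
            (zOf (⊤ : Subgroup (T ⧸ P.subgroupOf T)) : Set (T ⧸ P.subgroupOf T)) := by
          intro g
          apply zOf_normalizer
          rw [hnorm]
          exact Subgroup.mem_top g
        exact quot_normalizerHom_conj (p := p) _ hPT Eb hfac hi _ hZ1 hZn D' φ'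
          (centralizerHom_subset_normalizerHom Eb hφ')
      · intro D' φ' hφ'
        have hJ1 : thompsonSubgroupAOf (⊤ : Subgroup (T ⧸ P.subgroupOf T)) ≠ ⊥ := j_ne_bot top_ne_bot
        have hJn : ∀ g : T ⧸ P.subgroupOf T, g ∈ Subgroup.normalizer
            (thompsonSubgroupAOf (⊤ : Subgroup (T ⧸ P.subgroupOf T)) : Set (T ⧸ P.subgroupOf T)) := by
          intro g
          apply j_normalizer
          rw [hnorm]
          exact Subgroup.mem_top g
        exact quot_normalizerHom_conj (p := p) _ hPT Eb hfac hi _ hJ1 hJn D' φ' hφ'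
    exact isConstrained_of_quot_inner hTp _ hEsat hP Eb hfac hEb_inner
  · -- `N_S(P) < S`
    exfalso
    have hTlt : T < S := lt_of_le_of_ne hTS hTeq
    have hGT := th_main p 𝒞 h𝒞 (Nat.card T) Ω T rfl hTp _ hEsat hE𝒞
    have key : ∀ W : Subgroup Ω, W ≤ T → W ≠ ⊥ →
        Subgroup.normalizer (T : Set Ω) ≤ Subgroup.normalizer (W : Set Ω) →
        ∀ (D : Subgroup Ω) (φ : D →* Ω),
          φ ∈ (Cfsg.Agent.S5096.normalizerSystem F P hPS).normalizerHom W D → ConjBy T φ := by
      intro W hWT hW1 hNW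
      by_contra hcon
      obtain ⟨W', hW'1, hW'n, hbad', hlt⟩ := exists_bigger_bad hS F hF hPS hEsat hTlt hWT hW1 hNW hcon
      have hlt' : Nat.card T < Nat.card (normalizerIn S W') := hlt
      have hle : Nat.card (normalizerIn S W') * (Nat.card S + 1) + Nat.card W' ≤
          Nat.card T * (Nat.card S + 1) + Nat.card P := hmax W' ⟨hW'1, hW'n, hbad'⟩
      have h6 : (Nat.card T + 1) * (Nat.card S + 1) ≤ Nat.card (normalizerIn S W') * (Nat.card S + 1) :=
        Nat.mul_le_mul_right _ (by omega)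
      nlinarith
    apply hEnot
    apply hGT
    · intro D φ hφ
      exact key _ (zOf_le T) (zOf_ne_bot hTp hT1) zOf_normalizer D φ (centralizerHom_subset_normalizerHom _ hφ)
    · exact key _ (j_le T) (j_ne_bot hT1) j_normalizer

end Cfsg.Agent.Helper2.FusGT
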