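import Cfsg.Agent.Helper2.FusTh6
import Cfsg.Agent.Helper85.Morphism2
import Cfsg.Agent.Helper88.Constrained
set_option autoImplicit false

/-!
The strengthened Frobenius criterion for fusion systems (S5195): for a Thompson class, a saturated system of the class
all of whose automorphism groups of nontrivial characteristic subgroups of `S` are `p`-groups is inner.
-/

namespace Cfsg.Agent.Helper2.FusGT

open Cfsg Cfsg.FusionSystem Cfsg.Agent.Helper87 Cfsg.Agent.Helper10.ZJF

universe u

variable {Ω : Type u} [Group Ω]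

/-- `Z(T)` is a characteristic subgroup of `T`. -/
theorem zOf_characteristic (T : Subgroup Ω) : ((zOf T).subgroupOf T).Characteristic := by
  have h : (zOf T).subgroupOf T = Subgroup.center T := by
    ext x
    rw [Subgroup.mem_subgroupOf, Subgroup.mem_center_iff]
    constructor
    · intro hx y
      have := (Subgroup.mem_centralizer_iff.mp hx.2) (y : Ω) y.2
      exact Subtype.ext this
    · intro hx
      refine Subgroup.mem_inf.mpr ⟨x.2, ?_⟩
      rw [Subgroup.mem_centralizer_iff]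
      intro y hy
      exact congrArg Subtype.val (hx ⟨y, hy⟩)
  rw [h]
  infer_instance

/-- `J(T)` is a characteristic subgroup of `T`. -/
theorem j_characteristic (T : Subgroup Ω) : ((thompsonSubgroupAOf T).subgroupOf T).Characteristic := by
  rw [j_subgroupOf, Subgroup.characteristic_iff_map_eq]
  intro φ
  exact thompsonSubgroupA_map_equiv φ

theorem characteristic_cast {T S : Subgroup Ω} (h : T = S) (Q : Subgroup Ω)
    (hQ : (Q.subgroupOf T).Characteristic) : (Q.subgroupOf S).Characteristic := by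
  subst h
  exact hQ

/-- The full preimage of a characteristic subgroup of `T/W`, `W` characteristic in `T`, is characteristic in `T`. -/
theorem characteristic_preimageAlong {T : Subgroup Ω} (W : Subgroup Ω) [hWn : (W.subgroupOf T).Normal]
    (hW : (W.subgroupOf T).Characteristic) (Qb : Subgroup (T ⧸ W.subgroupOf T))
    (hQb : (Qb.subgroupOf (⊤ : Subgroup (T ⧸ W.subgroupOf T))).Characteristic) :
    ((preimageAlong (QuotientGroup.mk' (W.subgroupOf T)) Qb).subgroupOf T).Characteristic := by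
  have h1 : (preimageAlong (QuotientGroup.mk' (W.subgroupOf T)) Qb).subgroupOf T =
      Qb.comap (QuotientGroup.mk' (W.subgroupOf T)) := by
    unfold preimageAlong
    exact Subgroup.comap_map_eq_self_of_injective T.subtype_injective _
  rw [h1, Subgroup.characteristic_iff_comap_le]
  intro φ x hx
  rw [Subgroup.mem_comap] at hx ⊢
  rw [Subgroup.mem_comap] at hx
  have hmap : (W.subgroupOf T).map φ.toMonoidHom = W.subgroupOf T :=
    Subgroup.characteristic_iff_map_eq.mp hW φ
  let φb : (T ⧸ W.subgroupOf T) ≃* (T ⧸ W.subgroupOf T) :=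
    QuotientGroup.congr (W.subgroupOf T) (W.subgroupOf T) φ hmap
  have hφb : ∀ y : T, φb (QuotientGroup.mk' (W.subgroupOf T) y) = QuotientGroup.mk' (W.subgroupOf T) (φ y) := by
    intro y
    rfl
  -- transport to an automorphism of `⊤`
  let e : (⊤ : Subgroup (T ⧸ W.subgroupOf T)) ≃* (T ⧸ W.subgroupOf T) := Subgroup.topEquiv
  let ψ : (⊤ : Subgroup (T ⧸ W.subgroupOf T)) ≃* (⊤ : Subgroup (T ⧸ W.subgroupOf T)) :=
    (e.trans φb).trans e.symm
  have h2 := Subgroup.characteristic_iff_comap_le.mp hQb ψ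
  have h3 : (⟨QuotientGroup.mk' (W.subgroupOf T) x, Subgroup.mem_top _⟩ : (⊤ : Subgroup (T ⧸ W.subgroupOf T))) ∈
      (Qb.subgroupOf ⊤).comap ψ.toMonoidHom := by
    rw [Subgroup.mem_comap, Subgroup.mem_subgroupOf]
    have : ((ψ.toMonoidHom ⟨QuotientGroup.mk' (W.subgroupOf T) x, Subgroup.mem_top _⟩ :
        (⊤ : Subgroup (T ⧸ W.subgroupOf T))) : T ⧸ W.subgroupOf T) =
        QuotientGroup.mk' (W.subgroupOf T) (φ x) := rfl
    rw [this]
    exact hx
  have h4 := h2 h3
  rw [Subgroup.mem_subgroupOf] at h4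
  exact h4

/-- In an inner system over a `p`-group the automorphism groups are `p`-groups. -/
theorem isPGroup_autGroup_of_conj {T : Subgroup Ω} {p : ℕ} (hT : IsPGroup p T)
    (E : FusionSystem T)
    (h : ∀ (D : Subgroup Ω) (φ : D →* Ω), φ ∈ E.Hom D → ConjBy T φ) {X : Subgroup Ω} (hX : X ≤ T) :
    IsPGroup p (E.autGroup X) := by
  rintro ⟨α, hα⟩
  have hiso := (mem_autGroup_iff E hX α).mp hα
  obtain ⟨g, hg, hgx⟩ := h X _ hiso
  obtain ⟨k, hk⟩ := hT ⟨g, hg⟩
  have hk' : g ^ (p ^ k) = 1 := by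
    have := congrArg Subtype.val hk
    simpa using this
  refine ⟨k, Subtype.ext ?_⟩
  show α ^ p ^ k = 1
  ext x
  have h1 := pow_apply_of_conj α g (fun x => hgx x) (p ^ k) x
  rw [hk'] at h1
  simpa using h1

theorem pow_apply_of_fixed {M : Type*} [Group M] (δ : MulAut M) (x : M) (h : δ x = x) (k : ℕ) : (δ ^ k) x = x := by
  induction k with
  | zero => simp
  | succ k ih => rw [pow_succ, MulAut.mul_apply, h, ih]

/-- The chain argument: an automorphism `β` (in the system `E`) of `M ≥ W`, `W` the kernel of a surjective morphism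
onto an inner system, some `p`-power of which fixes `W` pointwise, has `p`-power order. -/
theorem pow_eq_one_of_quot_inner {T : Subgroup Ω} [Finite T] {p : ℕ} [Fact p.Prime] (hT : IsPGroup p T)
    (E : FusionSystem T) {W : Subgroup Ω} [hWn : (W.subgroupOf T).Normal]
    (Eb : FusionSystem (⊤ : Subgroup (T ⧸ W.subgroupOf T)))
    (hfac : E.IsFactorSystem W (QuotientGroup.mk' (W.subgroupOf T)) Eb)
    (hsurj : E.IsSurjectiveMorphism Eb (QuotientGroup.mk' (W.subgroupOf T)))
    (hEb : ∀ (D' : Subgroup (T ⧸ W.subgroupOf T)) (φ' : D' →* (T ⧸ W.subgroupOf T)),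
      φ' ∈ Eb.Hom D' → ConjBy ⊤ φ')
    {M : Subgroup Ω} (hMT : M ≤ T) (β : MulAut M) (hβ : IsIso E (β : M ≃* M))
    (b : ℕ) (hb : ∀ x : M, (x : Ω) ∈ W → (β ^ (p ^ b)) x = x) :
    ∃ k : ℕ, β ^ (p ^ k) = 1 := by
  have hker : ∀ s : T, (QuotientGroup.mk' (W.subgroupOf T)) s = 1 ↔ (s : Ω) ∈ W := hfac.2.1
  have hTbp : IsPGroup p ↥(⊤ : Subgroup (T ⧸ W.subgroupOf T)) := (hT.to_quotient _).to_subgroup ⊤
  haveI : Finite M := finite_of_le hMT
  have hMp : IsPGroup p M := hT.to_le hMT
  let β' : E.autGroup M := ⟨β, (mem_autGroup_iff E hMT β).mpr hβ⟩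
  have hXb : imageAlong (QuotientGroup.mk' (W.subgroupOf T)) M ≤ ⊤ := le_top
  have hpg := isPGroup_autGroup_of_conj hTbp Eb hEb hXb
  obtain ⟨a, ha⟩ := hpg (Helper85.autImageHom' E Eb _ hsurj.1 hMT β')
  have hγ1 : Helper85.autImageHom' E Eb _ hsurj.1 hMT (β' ^ (p ^ (a + b))) = 1 := by
    rw [map_pow, pow_add, pow_mul, ha, one_pow]
  have hcoe : ((β' ^ (p ^ (a + b)) : E.autGroup M) : MulAut M) = β ^ (p ^ (a + b)) := by
    rw [Subgroup.coe_pow]
  have hγW : ∀ x : M, (x⁻¹ * (β ^ (p ^ (a + b))) x : M) ∈ W.subgroupOf M := by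
    intro x
    rw [Subgroup.mem_subgroupOf]
    have h1 := Helper85.autImageHom'_apply E Eb _ hsurj.1 hMT (β' ^ (p ^ (a + b))) x
    rw [hγ1, hcoe] at h1
    have h2 : (QuotientGroup.mk' (W.subgroupOf T)) ⟨(x : Ω), hMT x.2⟩ =
        (QuotientGroup.mk' (W.subgroupOf T)) ⟨(((β ^ (p ^ (a + b))) x : M) : Ω), hMT ((β ^ (p ^ (a + b))) x).2⟩ := h1
    have h3 : (QuotientGroup.mk' (W.subgroupOf T))
        (⟨(x : Ω), hMT x.2⟩⁻¹ * ⟨(((β ^ (p ^ (a + b))) x : M) : Ω), hMT ((β ^ (p ^ (a + b))) x).2⟩) = 1 := by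
      rw [map_mul, map_inv, ← h2, inv_mul_cancel]
    exact (hker _).mp h3
  have hγfix : ∀ m ∈ W.subgroupOf M, (β ^ (p ^ (a + b))) m = m := by
    intro m hm
    rw [Subgroup.mem_subgroupOf] at hm
    have e : β ^ (p ^ (a + b)) = (β ^ (p ^ b)) ^ (p ^ a) := by
      rw [← pow_mul, ← pow_add, add_comm]
    rw [e]
    exact pow_apply_of_fixed _ m (hb m hm) _
  have hmem : β ^ (p ^ (a + b)) ∈ Cfsg.Agent.Helper88.FS.chainStab (W.subgroupOf M) := ⟨hγfix, hγW⟩
  obtain ⟨c, hc⟩ := (Cfsg.Agent.Helper88.FS.isPGroup_chainStab hMp _) ⟨β ^ (p ^ (a + b)), hmem⟩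
  have hc' : (β ^ (p ^ (a + b))) ^ p ^ c = 1 := by
    have := congrArg Subtype.val hc
    simpa using this
  refine ⟨a + b + c, ?_⟩
  rw [pow_add p (a + b) c, pow_mul]
  exact hc'

/-- The strengthened Frobenius criterion, in the form used for the induction. -/
def FrobCharStatement (p : ℕ) (𝒞 : SysClass.{u}) (Ω' : Type u) [Group Ω'] (S' : Subgroup Ω') : Prop :=
  ∀ F' : FusionSystem S', F'.IsSaturated p → 𝒞 Ω' S' F' →
    (∀ Q : Subgroup Ω', Q ≤ S' → Q ≠ ⊥ → (Q.subgroupOf S').Characteristic → IsPGroup p (F'.autGroup Q)) →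
    ∀ (D : Subgroup Ω') (φ : D →* Ω'), φ ∈ F'.Hom D → ConjBy S' φ

theorem frobChar_main (p : ℕ) [Fact p.Prime] (𝒞 : SysClass.{u}) (h𝒞 : ThClass p 𝒞) :
    ∀ (n : ℕ) (Ω : Type u) [Group Ω] (S : Subgroup Ω) [Finite S], Nat.card S = n → IsPGroup p S →
      FrobCharStatement p 𝒞 Ω S := by
  intro n
  induction n using Nat.strong_induction_on with
  | _ n ih =>
  intro Ω _ S _ hn hS F hF hF𝒞 h
  by_cases hS1 : S = ⊥
  · intro D φ hφ
    refine ⟨1, S.one_mem, fun x => ?_⟩
    have hD : D ≤ S := (F.le_of_mem hφ).1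
    have hx : (x : Ω) = 1 := by
      have := hD x.2
      rw [hS1, Subgroup.mem_bot] at this
      exact this
    have hx' : x = 1 := Subtype.ext hx
    rw [hx', map_one]
    simp
  have key : ∀ W : Subgroup Ω, W ≤ S → W ≠ ⊥ → (W.subgroupOf S).Characteristic →
      ∀ (D : Subgroup Ω) (φ : D →* Ω), φ ∈ F.normalizerHom W D → ConjBy S φ := by
    intro W hWS hW1 hWchar
    by_contra hcon
    haveI := hWchar
    have hWnS : (W.subgroupOf S).Normal := inferInstance
    have hSW : S ≤ Subgroup.normalizer (W : Set Ω) := (Subgroup.normal_subgroupOf_iff_le_normalizer hWS).mp hWnS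
    have hNW : normalizerIn S W = S := inf_eq_left.mpr hSW
    have hWn : F.IsFullyNormalized W := by
      refine ⟨hWS, fun Q' _ => ?_⟩
      rw [hNW]
      exact Subgroup.card_le_of_le inf_le_left
    have hbadW : BadAut p F W := by
      apply badAut_of_not_conj hS F hF hWn
      intro hall
      apply hcon
      intro D φ hφ
      exact (hall D φ hφ).mono inf_le_left
    obtain ⟨M, β, hWM, hMN, hβ, hβW, hbad⟩ := hbadW
    have hT_def : normalizerIn S W = normalizerIn S W := rfl
    set T := normalizerIn S W with hT_def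
    have hTS : T ≤ S := inf_le_left
    haveI : Finite T := finite_of_le hTS
    have hTp : IsPGroup p T := hS.to_le hTS
    have hWT : W ≤ T := le_normalizerIn_self hWS
    have hEN : F.IsNormalizerSystem W (Cfsg.Agent.S5096.normalizerSystem F W hWS) := fun _ => rfl
    have hEsat : (Cfsg.Agent.S5096.normalizerSystem F W hWS).IsSaturated p :=
      Cfsg.Agent.S5098.result p hS F hF W hWn _ hEN
    have hE𝒞 := h𝒞.normalizer Ω S hS F hF hF𝒞 W hWn
    have hW := isNormal_normalizerSystem F hWS _ hEN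
    have hWsc : (Cfsg.Agent.S5096.normalizerSystem F W hWS).StronglyClosed W := stronglyClosed_of_isNormal _ hW
    haveI hWn' : (W.subgroupOf T).Normal := normal_subgroupOf_of_stronglyClosed _ hWsc
    obtain ⟨Eb, hfac⟩ := Cfsg.Agent.S5132.result p hTp _ W hWsc
    have hsurj := Cfsg.Agent.S5134.result p hTp _ hEsat W hWsc (QuotientGroup.mk' (W.subgroupOf T)) Eb hfac
    have hEbsat : Eb.IsSaturated p :=
      Cfsg.Agent.S5133.result p hTp _ hEsat Eb (QuotientGroup.mk' (W.subgroupOf T)) hsurj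
    have hTbp : IsPGroup p ↥(⊤ : Subgroup (T ⧸ W.subgroupOf T)) := (hTp.to_quotient _).to_subgroup ⊤
    have hcard : Nat.card ↥(⊤ : Subgroup (T ⧸ W.subgroupOf T)) < n := by
      rw [Subgroup.card_top, ← hn]
      have h1 := Subgroup.card_eq_card_quotient_mul_card_subgroup (W.subgroupOf T)
      have h2 : Nat.card (W.subgroupOf T) = Nat.card W :=
        Nat.card_congr (Subgroup.subgroupOfEquivOfLe hWT).toEquiv
      haveI : Finite W := finite_of_le hWS
      have h3 : 1 < Nat.card W := (Subgroup.one_lt_card_iff_ne_bot W).mpr hW1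
      have h4 : 0 < Nat.card (T ⧸ W.subgroupOf T) := Nat.card_pos
      have h5 : Nat.card T ≤ Nat.card S := Subgroup.card_le_of_le hTS
      rw [h2] at h1
      nlinarith
    have hEb𝒞 := h𝒞.quotient Ω T hTp _ hEsat hE𝒞 W hW Eb hfac
    have hrange : (QuotientGroup.mk' (W.subgroupOf T)).range = ⊤ := hfac.2.2.1
    have hker : ∀ s : T, (QuotientGroup.mk' (W.subgroupOf T)) s = 1 ↔ (s : Ω) ∈ W := hfac.2.1
    have hcharb : ∀ Qb : Subgroup (T ⧸ W.subgroupOf T), Qb ≤ ⊤ → Qb ≠ ⊥ →
        (Qb.subgroupOf (⊤ : Subgroup (T ⧸ W.subgroupOf T))).Characteristic → IsPGroup p (Eb.autGroup Qb) := by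
      intro Qb _ _ hQbchar
      have hQT : preimageAlong (QuotientGroup.mk' (W.subgroupOf T)) Qb ≤ T := Helper85.preimageAlong_le _ _
      have hWQ : W ≤ preimageAlong (QuotientGroup.mk' (W.subgroupOf T)) Qb := by
        intro x hx
        rw [Helper85.mem_preimageAlong]
        refine ⟨hWT hx, ?_⟩
        rw [(hker ⟨x, hWT hx⟩).mpr hx]
        exact Subgroup.one_mem _
      have hQ1 : preimageAlong (QuotientGroup.mk' (W.subgroupOf T)) Qb ≠ ⊥ :=
        fun h0 => hW1 (le_bot_iff.mp (h0 ▸ hWQ))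
      have hWcharT : (W.subgroupOf T).Characteristic := characteristic_cast hNW.symm W hWchar
      have hQcharT := characteristic_preimageAlong W hWcharT Qb hQbchar
      have hQcharS := characteristic_cast hNW _ hQcharT
      have hpF := h _ (hQT.trans hTS) hQ1 hQcharS
      have hle : (Cfsg.Agent.S5096.normalizerSystem F W hWS).autGroup
          (preimageAlong (QuotientGroup.mk' (W.subgroupOf T)) Qb) ≤
          F.autGroup (preimageAlong (QuotientGroup.mk' (W.subgroupOf T)) Qb) := by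
        intro α hα
        have hα' := (mem_autGroup_iff _ hQT α).mp hα
        rw [mem_autGroup_iff F (hQT.trans hTS)]
        exact hα'.1
      have hpE := hpF.to_le hle
      have hs := Helper85.autImageHom'_surjective _ Eb _ hsurj hQT (Helper85.kerAlong_le_preimageAlong _ Qb)
      have hp' := hpE.of_surjective _ hs
      have himg : imageAlong (QuotientGroup.mk' (W.subgroupOf T))
          (preimageAlong (QuotientGroup.mk' (W.subgroupOf T)) Qb) = Qb :=
        Helper85.imageAlong_preimageAlong _ (by rw [hrange]; exact le_top)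
      rw [himg] at hp'
      exact hp'
    have hEb_inner := ih _ hcard (T ⧸ W.subgroupOf T) ⊤ rfl hTbp Eb hEbsat hEb𝒞 hcharb
    have hβE : IsIso (Cfsg.Agent.S5096.normalizerSystem F W hWS) (β : M ≃* M) :=
      mem_normalizerHom_of_aut F β hWM hMN hβ hβW
    -- the restriction of `β` to `W`
    haveI : Finite W := finite_of_le hWS
    let ρ : W →* W := ((M.subtype.comp (β : M ≃* M).toMonoidHom).comp (Subgroup.inclusion hWM)).codRestrict W
      (fun w => hβW _ w.2)
    have hρinj : Function.Injective ρ := by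
      intro x y hxy
      have h1 : ((β (Subgroup.inclusion hWM x) : M) : Ω) = ((β (Subgroup.inclusion hWM y) : M) : Ω) :=
        congrArg (fun t : W => (t : Ω)) hxy
      have h2 := β.injective (Subtype.ext h1)
      exact Subgroup.inclusion_injective hWM h2
    have hρbij : Function.Bijective ρ := ⟨hρinj, Finite.injective_iff_surjective.mp hρinj⟩
    let κ : MulAut W := MulEquiv.ofBijective ρ hρbij
    have hκx : ∀ x : W, ((κ x : W) : Ω) = ((β ⟨x, hWM x.2⟩ : M) : Ω) := fun x => rfl
    have hκF : κ ∈ F.autGroup W := by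
      rw [mem_autGroup_iff F hWS]
      have h1 := restrict_mem F hβ hWM
      exact mem_of_eq F h1 (fun x => rfl)
    obtain ⟨b, hb⟩ := (h W hWS hW1 hWchar) ⟨κ, hκF⟩
    have hb' : κ ^ p ^ b = 1 := by
      have := congrArg Subtype.val hb
      simpa using this
    have hbfix : ∀ x : M, (x : Ω) ∈ W → (β ^ (p ^ b)) x = x := by
      intro x hx
      have h1 := Cfsg.Agent.Helper88.FS.pow_apply_of_restrict hWM (β := κ) (α := β) hκx (p ^ b) ⟨x, hx⟩
      rw [hb'] at h1
      apply Subtype.ext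
      exact h1.symm
    obtain ⟨k, hk⟩ := pow_eq_one_of_quot_inner hTp _ Eb hfac hsurj hEb_inner hMN β hβE b hbfix
    exact hbad k hk
  apply th_main p 𝒞 h𝒞 n Ω S hn hS F hF hF𝒞
  · intro D φ hφ
    exact key _ (zOf_le S) (zOf_ne_bot hS hS1) (zOf_characteristic S) D φ (centralizerHom_subset_normalizerHom _ hφ)
  · exact key _ (j_le S) (j_ne_bot hS1) (j_characteristic S)

end Cfsg.Agent.Helper2.FusGT
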