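import Cfsg.Agent.Helper8.GlaubDefs

/-!
helper2 for helper8 (S4359 Glauberman-type lemma, board #13388): leaf (GA1) `chain_step`
of `tools/helper8_glaub/Skel.lean.txt`.
-/

set_option autoImplicit false

namespace Cfsg.Agent.Helper2.Glaub

open Cfsg.Agent.Helper8.Sims3 Cfsg.Agent.Helper8.Glaub Pointwise

variable {G : Type*} [Group G]

/-- the cardinality part of (GA1), at `i = 0`. -/
theorem GA1_card_zero [Finite G] {p : ℕ} (hp : p.Prime) {P : Subgroup G} {h : G}
    (hc : Chain p P h) (m : ℕ) :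
    Nat.card ↥(E P h 1 m) = Nat.card ↥(E P h 0 (m + 1)) ∨
      Nat.card ↥(E P h 1 m) = p * Nat.card ↥(E P h 0 (m + 1)) := by
  set B : Subgroup G := MulAut.conj h • P with hB
  set A : Subgroup G := P ⊓ B with hA
  set K : Subgroup G := E P h 1 m with hK
  have hKB : K ≤ B := by
    have := E_le_conj (P := P) (g := h) (i := 1) (k := 1) (m := m) le_rfl (by omega)
    rwa [zpow_one] at this
  have hE : E P h 0 (m + 1) = A ⊓ K := by
    have h1 := E_succ_left (P := P) (g := h) 0 m
    rw [zpow_zero, conj_one_smul, zero_add] at h1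
    rw [h1, hA, inf_assoc, inf_eq_right.mpr hKB]
  haveI : (A.subgroupOf B).Normal := hc.normal
  have hdvd : A.relIndex K ∣ p := by
    have h1 : (A.subgroupOf B).relIndex (K.subgroupOf B) ∣ (A.subgroupOf B).index :=
      Subgroup.relIndex_dvd_index_of_normal _ _
    rw [Subgroup.relIndex_subgroupOf hKB] at h1
    have h2 : (A.subgroupOf B).index = p := hc.idx
    rwa [h2] at h1
  have hcard := card_mul_relIndex (A ⊓ K) K inf_le_right
  rw [Subgroup.inf_relIndex_right] at hcard
  rw [hE]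
  rcases (Nat.dvd_prime hp).1 hdvd with h1 | h1
  · left
    rw [h1, mul_one] at hcard
    exact hcard.symm
  · right
    rw [h1, mul_comm] at hcard
    exact hcard.symm

/-- (GA1) -/
theorem chain_step [Finite G] {p : ℕ} (hp : p.Prime) {P : Subgroup G} {h : G}
    (hc : Chain p P h) (i : ℤ) (m : ℕ) :
    ((E P h i (m + 1)).subgroupOf (E P h (i + 1) m)).Normal ∧
      (Nat.card ↥(E P h (i + 1) m) = Nat.card ↥(E P h i (m + 1)) ∨
        Nat.card ↥(E P h (i + 1) m) = p * Nat.card ↥(E P h i (m + 1))) := by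
  constructor
  · -- normality
    have hKB : E P h (i + 1) m ≤ MulAut.conj (h ^ (i + 1)) • P :=
      E_le_conj le_rfl (by omega)
    have hE : E P h i (m + 1) = MulAut.conj (h ^ i) • P ⊓ E P h (i + 1) m := E_succ_left i m
    constructor
    intro n hn g
    rw [Subgroup.mem_subgroupOf] at hn ⊢
    have hgK : (g : G) ∈ E P h (i + 1) m := g.2
    have hnK : (n : G) ∈ E P h (i + 1) m := n.2
    have hgB : (g : G) ∈ MulAut.conj (h ^ (i + 1)) • P := hKB hgK
    have hnB : (n : G) ∈ MulAut.conj (h ^ (i + 1)) • P := hKB hnK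
    rw [hE, Subgroup.mem_inf] at hn ⊢
    refine ⟨?_, ?_⟩
    · -- conjugate back by `h ^ i`
      have hnP : (n : G) ∈ MulAut.conj (h ^ i) • P := hn.1
      rw [mem_conj_smul] at hnP ⊢
      have hsplit : ∀ x : G, x ∈ MulAut.conj (h ^ (i + 1)) • P →
          (h ^ i)⁻¹ * x * h ^ i ∈ MulAut.conj h • P := by
        intro x hx
        rw [mem_conj_smul] at hx ⊢
        have e : h⁻¹ * ((h ^ i)⁻¹ * x * h ^ i) * h = (h ^ (i + 1))⁻¹ * x * h ^ (i + 1) := by
          rw [zpow_add_one]
          group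
        rwa [e]
      have hg' := hsplit _ hgB
      have hn' := hsplit _ hnB
      -- apply normality of `P ⊓ conj h • P` in `conj h • P`
      have hnorm := hc.normal.conj_mem
        ⟨(h ^ i)⁻¹ * (n : G) * h ^ i, hn'⟩
        (by
          rw [Subgroup.mem_subgroupOf]
          exact ⟨hnP, hn'⟩)
        ⟨(h ^ i)⁻¹ * (g : G) * h ^ i, hg'⟩
      rw [Subgroup.mem_subgroupOf] at hnorm
      have hP := hnorm.1
      have e : (h ^ i)⁻¹ * ((g : G) * (n : G) * (g : G)⁻¹) * h ^ i
          = ((h ^ i)⁻¹ * (g : G) * h ^ i) * ((h ^ i)⁻¹ * (n : G) * h ^ i)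
            * ((h ^ i)⁻¹ * (g : G) * h ^ i)⁻¹ := by
        group
      have e2 : ((g * n * g⁻¹ : ↥(E P h (i + 1) m)) : G) = (g : G) * (n : G) * (g : G)⁻¹ := by
        simp
      rw [e2, e]
      exact hP
    · exact (g * n * g⁻¹).2
  · -- cardinalities
    have h1 := GA1_card_zero hp hc m
    rw [card_E (P := P) (g := h) (i + 1) m, card_E (P := P) (g := h) i (m + 1)]
    rw [card_E (P := P) (g := h) 1 m] at h1
    exact h1

end Cfsg.Agent.Helper2.Glaub
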