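import Cfsg.Agent.Helper8.GlaubDefs
import Cfsg.Agent.Helper68.Sims3_P2

/-!
helper2 for helper8 (S4359 Glauberman-type lemma, board #13388): leaf (GB2) `ptower_exists_lam`
of `tools/helper8_glaub/Skel.lean.txt`.
-/

set_option autoImplicit false

namespace Cfsg.Agent.Helper2.Glaub

open Cfsg.Agent.Helper8.Sims3 Cfsg.Agent.Helper8.Glaub Pointwise

variable {G : Type*} [Group G]

/-- (GB2) -/
theorem ptower_exists_lam {p t : ℕ} (hp : p.Prime) {y : ℤ → G} (h : PTower p t y) (ht : 1 ≤ t)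
    (n : ℕ)
    (hZ : ∀ x ∈ U y 0 t, (∀ k : ℤ, 0 ≤ k → k < t + n → Commute x (y k)) → x = 1) :
    ∃ l : ℕ, 1 ≤ l ∧ l < t + n ∧ IsLam y l := by
  classical
  obtain ⟨g, hg⟩ := h.shift
  have hex : ∃ d : ℕ, d < t + n ∧ ¬ Commute (y 0) (y (d : ℤ)) := by
    by_contra hcon
    push Not at hcon
    have hy0 : y 0 = 1 := by
      apply hZ (y 0) (mem_U_self y le_rfl (by omega))
      intro k hk0 hk
      obtain ⟨d, hd⟩ := Int.eq_ofNat_of_zero_le hk0
      rw [hd]
      exact hcon d (by omega)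
    have hc := h.card 0 1 ht
    rw [U_one, hy0, Subgroup.zpowers_one_eq_bot, Subgroup.card_bot, pow_one] at hc
    exact hp.one_lt.ne hc
  have hex' : ∃ d : ℕ, ¬ Commute (y 0) (y (d : ℤ)) := by
    obtain ⟨d, _, hd⟩ := hex
    exact ⟨d, hd⟩
  refine ⟨Nat.find hex', ?_, ?_, ?_, ?_⟩
  · by_contra h0
    have h1 : Nat.find hex' = 0 := by omega
    have h2 := Nat.find_spec hex'
    rw [h1] at h2
    exact h2 (by rw [Nat.cast_zero])
  · obtain ⟨d, hds, hd⟩ := hex
    exact lt_of_le_of_lt (Nat.find_min' hex' hd) hds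
  · intro i d hd
    rw [Cfsg.Agent.Helper68.Sims3.P2_comm_iff hg]
    exact not_not.mp (Nat.find_min hex' hd)
  · intro i hc
    rw [Cfsg.Agent.Helper68.Sims3.P2_comm_iff hg] at hc
    exact Nat.find_spec hex' hc

end Cfsg.Agent.Helper2.Glaub
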