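import Cfsg.Agent.Helper78.HKDefs

/-!
# Harris–Knörr (S4674), piece KH1: Knörr's theorem transported to a subgroup `H` and `H ⊓ N`
-/

set_option autoImplicit false
set_option linter.unusedSectionVars false
set_option linter.unusedVariables false
set_option linter.style.haveILetI false

namespace Cfsg.Agent.Helper2.HKKH1

open Cfsg Cfsg.Agent.Helper78

universe u

variable {G : Type u} [Group G] [Fintype G] {M : Ideal AlgInt} {p : ℕ}
variable (N : Subgroup G) [hN : N.Normal] [Fintype N]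

/-- The canonical isomorphism `↥(H ⊓ N) ≃* ↥(N.subgroupOf H)`. -/
def sigmaInf (H : Subgroup G) : ↥(H ⊓ N) ≃* ↥(N.subgroupOf H) where
  toFun l := ⟨⟨l, l.2.1⟩, Subgroup.mem_subgroupOf.mpr l.2.2⟩
  invFun l := ⟨((l : ↥H) : G), ⟨(l : ↥H).2, Subgroup.mem_subgroupOf.mp l.2⟩⟩
  left_inv _ := rfl
  right_inv _ := rfl
  map_mul' _ _ := rfl

theorem sigmaInf_coe (H : Subgroup G) (l : ↥(H ⊓ N)) :
    (((sigmaInf N H l : ↥(N.subgroupOf H)) : ↥H) : G) = (l : G) := rfl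

theorem sigmaInf_coe' (H : Subgroup G) (l : ↥(H ⊓ N)) :
    ((sigmaInf N H l : ↥(N.subgroupOf H)) : ↥H) = Subgroup.inclusion inf_le_left l := rfl

theorem exists_defectGroup_inf_eq_flat [Fact p.Prime] (hM : IsPModular p M) (H : Subgroup G) [Fintype ↥(H ⊓ N)] {Q : Subgroup G} (hQL : Q ≤ H ⊓ N) {e : Set (IrrCharacter ↥(H ⊓ N))} (he : IsPBlock M e) (heQ : IsDefectGroup p M e (Q.subgroupOf (H ⊓ N))) {c : Set (IrrCharacter ↥H)} (hc : IsPBlock M c) (hcov : ∃ ψ ∈ c, ∃ ξ ∈ e, classInner (fun l : ↥(H ⊓ N) => (ψ : ↥H → ℂ) (Subgroup.inclusion inf_le_left l)) (ξ : ↥(H ⊓ N) → ℂ) ≠ 0) : ∃ D : Subgroup G, D ≤ H ∧ IsDefectGroup p M c (D.subgroupOf H) ∧ D ⊓ N = Q := by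
  classical
  haveI : Fintype ↥H := Fintype.ofFinite _
  haveI hLHn : (N.subgroupOf H).Normal := Subgroup.normal_subgroupOf
  haveI : Fintype ↥(N.subgroupOf H) := Fintype.ofFinite _
  have he' : IsPBlock M (irrMap (sigmaInf N H) '' e) :=
    Helper77.isPBlock_image_irrMap (sigmaInf N H) he
  have hQ'LH : Q.subgroupOf H ≤ N.subgroupOf H := fun x hx =>
    Subgroup.mem_subgroupOf.mpr (hQL (Subgroup.mem_subgroupOf.mp hx)).2
  have hmap : (Q.subgroupOf (H ⊓ N)).map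
      ((sigmaInf N H : ↥(H ⊓ N) ≃* ↥(N.subgroupOf H)) : ↥(H ⊓ N) →* ↥(N.subgroupOf H)) =
      (Q.subgroupOf H).subgroupOf (N.subgroupOf H) := by
    ext x
    constructor
    · rintro ⟨y, hy, rfl⟩
      exact hy
    · intro hx
      exact ⟨(sigmaInf N H).symm x, hx, (sigmaInf N H).apply_symm_apply x⟩
  have hQ' : IsDefectGroup p M (irrMap (sigmaInf N H) '' e)
      ((Q.subgroupOf H).subgroupOf (N.subgroupOf H)) := by
    rw [← hmap]
    exact isDefectGroup_image_irrMap p (sigmaInf N H) heQ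
  have hcov' : ∃ χ ∈ c, ∃ θ ∈ irrMap (sigmaInf N H) '' e,
      classInner (fun n : ↥(N.subgroupOf H) => (χ : ↥H → ℂ) n)
        (θ : ↥(N.subgroupOf H) → ℂ) ≠ 0 := by
    obtain ⟨ψ, hψ, ξ, hξ, hne⟩ := hcov
    refine ⟨ψ, hψ, irrMap (sigmaInf N H) ξ, ⟨ξ, hξ, rfl⟩, ?_⟩
    rw [← classInner_comp_mulEquiv (sigmaInf N H)]
    have h2 : (fun a : ↥(H ⊓ N) =>
        (irrMap (sigmaInf N H) ξ : ↥(N.subgroupOf H) → ℂ) (sigmaInf N H a)) =
        (ξ : ↥(H ⊓ N) → ℂ) := by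
      funext l
      exact irrMap_apply_apply (sigmaInf N H) ξ l
    rw [h2]
    exact hne
  obtain ⟨P, hP, hPQ⟩ :=
    Helper16.exists_defectGroup_inf_eq (N.subgroupOf H) hM he' hQ'LH hQ' hc hcov'
  refine ⟨P.map H.subtype, Subgroup.map_subtype_le P, ?_, ?_⟩
  · have : (P.map H.subtype).subgroupOf H = P :=
      Subgroup.comap_map_eq_self_of_injective H.subtype_injective P
    rw [this]
    exact hP
  · ext x
    constructor
    · rintro ⟨⟨y, hy, rfl⟩, hxN⟩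
      have hyLH : y ∈ N.subgroupOf H := Subgroup.mem_subgroupOf.mpr hxN
      have : y ∈ P ⊓ N.subgroupOf H := ⟨hy, hyLH⟩
      rw [hPQ] at this
      exact Subgroup.mem_subgroupOf.mp this
    · intro hx
      have hxHN := hQL hx
      have : (⟨x, hxHN.1⟩ : ↥H) ∈ Q.subgroupOf H := Subgroup.mem_subgroupOf.mpr hx
      rw [← hPQ] at this
      exact ⟨⟨⟨x, hxHN.1⟩, this.1, rfl⟩, hxHN.2⟩

end Cfsg.Agent.Helper2.HKKH1
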