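import Mathlib

set_option autoImplicit false

namespace Cfsg.Agent.Helper2

/-- The integer Heisenberg group: triples `(a, b, c)` standing for `x ^ a * y ^ b * z ^ c` where
`z = [x, y]` is central. -/
@[ext] structure HeisZ where
  a : ℤ
  b : ℤ
  c : ℤ

namespace HeisZ

instance : Mul HeisZ := ⟨fun u v => ⟨u.a + v.a, u.b + v.b, u.c + v.c - u.b * v.a⟩⟩
instance : One HeisZ := ⟨⟨0, 0, 0⟩⟩
instance : Inv HeisZ := ⟨fun u => ⟨-u.a, -u.b, -u.c - u.a * u.b⟩⟩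

@[simp] theorem mul_a (u v : HeisZ) : (u * v).a = u.a + v.a := rfl
@[simp] theorem mul_b (u v : HeisZ) : (u * v).b = u.b + v.b := rfl
@[simp] theorem mul_c (u v : HeisZ) : (u * v).c = u.c + v.c - u.b * v.a := rfl
@[simp] theorem one_a : (1 : HeisZ).a = 0 := rfl
@[simp] theorem one_b : (1 : HeisZ).b = 0 := rfl
@[simp] theorem one_c : (1 : HeisZ).c = 0 := rfl
@[simp] theorem inv_a (u : HeisZ) : (u⁻¹).a = -u.a := rfl
@[simp] theorem inv_b (u : HeisZ) : (u⁻¹).b = -u.b := rfl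
@[simp] theorem inv_c (u : HeisZ) : (u⁻¹).c = -u.c - u.a * u.b := rfl

instance : Group HeisZ where
  mul_assoc u v w := by
    ext
    · simp [add_assoc]
    · simp [add_assoc]
    · simp; ring
  one_mul u := by ext <;> simp
  mul_one u := by ext <;> simp
  inv_mul_cancel u := by
    ext
    · simp
    · simp
    · simp; ring

end HeisZ

section Eval

variable {A : Type*} [Group A]

theorem heis_rearrange (X X' Y Y' C1 C2 C3 : A) (h : Y * X' = C3 * X' * Y)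
    (h1X' : Commute C1 X') (h1Y' : Commute C1 Y')
    (h3X' : Commute C3 X') (h3Y : Commute C3 Y) (h3Y' : Commute C3 Y')
    (h31 : Commute C3 C1) (h32 : Commute C3 C2) :
    X * X' * (Y * Y') * (C1 * C2 * C3) = X * Y * C1 * (X' * Y' * C2) := by
  symm
  calc X * Y * C1 * (X' * Y' * C2) = X * (Y * (C1 * (X' * (Y' * C2)))) := by simp only [mul_assoc]
    _ = X * (Y * (X' * (Y' * (C1 * C2)))) := by rw [h1X'.left_comm, h1Y'.left_comm]
    _ = X * ((Y * X') * (Y' * (C1 * C2))) := by simp only [mul_assoc]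
    _ = X * ((C3 * X' * Y) * (Y' * (C1 * C2))) := by rw [h]
    _ = X * (C3 * (X' * (Y * (Y' * (C1 * C2))))) := by simp only [mul_assoc]
    _ = X * (X' * (Y * (Y' * (C1 * (C2 * C3))))) := by
      rw [h3X'.left_comm, h3Y.left_comm, h3Y'.left_comm, h31.left_comm, h32.eq]
    _ = X * X' * (Y * Y') * (C1 * C2 * C3) := by simp only [mul_assoc]

/-- conjugating `g` by powers of `y` when `y g y⁻¹ = d g` with `d` commuting with `y` and `g`. -/
theorem zpow_mul_zpow_inv_of_conj (y g d : A) (h : y * g * y⁻¹ = d * g) (hdy : Commute d y)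
    (b : ℤ) : y ^ b * g * (y ^ b)⁻¹ = d ^ b * g := by
  have h1 : g * y * g⁻¹ = d⁻¹ * y := by
    have h0 : y * g = d * g * y := by rw [← h]; group
    have h2 : g * y = d⁻¹ * (d * g * y) := by group
    calc g * y * g⁻¹ = d⁻¹ * (d * g * y) * g⁻¹ := by rw [← h2]
      _ = d⁻¹ * (y * g) * g⁻¹ := by rw [h0]
      _ = d⁻¹ * y := by group
  have h3 : g * (y ^ b)⁻¹ * g⁻¹ = d ^ b * (y ^ b)⁻¹ := by
    rw [← zpow_neg, ← conj_zpow, h1, (hdy.inv_left).mul_zpow, inv_zpow, zpow_neg, zpow_neg, inv_inv]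
  calc y ^ b * g * (y ^ b)⁻¹ = y ^ b * (g * (y ^ b)⁻¹ * g⁻¹) * g := by group
    _ = y ^ b * (d ^ b * (y ^ b)⁻¹) * g := by rw [h3]
    _ = d ^ b * g := by
      rw [← mul_assoc, ((hdy.zpow_zpow b b).eq).symm]
      group

variable (x y : A)

/-- the evaluation map `(a, b, c) ↦ x ^ a * y ^ b * [x, y] ^ c` -/
def heisEvalFun (u : HeisZ) : A := x ^ u.a * y ^ u.b * (x * y * x⁻¹ * y⁻¹) ^ u.c

theorem heisEvalFun_mul (hx : Commute (x * y * x⁻¹ * y⁻¹) x) (hy : Commute (x * y * x⁻¹ * y⁻¹) y)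
    (u v : HeisZ) : heisEvalFun x y (u * v) = heisEvalFun x y u * heisEvalFun x y v := by
  set c := x * y * x⁻¹ * y⁻¹ with hc
  unfold heisEvalFun
  rw [← hc]
  simp only [HeisZ.mul_a, HeisZ.mul_b, HeisZ.mul_c]
  -- `y x y⁻¹ = c⁻¹ x`
  have h0 : y * x * y⁻¹ = c⁻¹ * x := by rw [hc]; group
  -- `y x^a y⁻¹ = c^{-a} x^a`
  have h1 : y * x ^ v.a * y⁻¹ = (c⁻¹) ^ v.a * x ^ v.a := by
    rw [← conj_zpow, h0, (hx.inv_left).mul_zpow]
  have hd1 : Commute ((c⁻¹) ^ v.a) y := (hy.inv_left).zpow_left _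
  have h2 := zpow_mul_zpow_inv_of_conj y (x ^ v.a) ((c⁻¹) ^ v.a) h1 hd1 u.b
  have h4 : ((c⁻¹) ^ v.a) ^ u.b = c ^ (-(u.b * v.a)) := by
    rw [← zpow_mul, inv_zpow, ← zpow_neg, mul_comm]
  have h3 : y ^ u.b * x ^ v.a = c ^ (-(u.b * v.a)) * x ^ v.a * y ^ u.b := by
    rw [← h4, ← h2]; group
  have hcx : ∀ n m : ℤ, Commute (c ^ n) (x ^ m) := fun n m => (hx.zpow_left n).zpow_right m
  have hcy : ∀ n m : ℤ, Commute (c ^ n) (y ^ m) := fun n m => (hy.zpow_left n).zpow_right m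
  have hcc : ∀ n m : ℤ, Commute (c ^ n) (c ^ m) := fun n m => (Commute.refl c).zpow_zpow n m
  rw [zpow_add, zpow_add, sub_eq_add_neg, zpow_add, zpow_add]
  exact heis_rearrange _ _ _ _ _ _ _ h3 (hcx _ _) (hcy _ _) (hcx _ _) (hcy _ _) (hcy _ _)
    (hcc _ _) (hcc _ _)

/-- the evaluation homomorphism from the integer Heisenberg group -/
def heisEval (hx : Commute (x * y * x⁻¹ * y⁻¹) x) (hy : Commute (x * y * x⁻¹ * y⁻¹) y) :
    HeisZ →* A where
  toFun := heisEvalFun x y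
  map_one' := by simp [heisEvalFun]
  map_mul' := heisEvalFun_mul x y hx hy

theorem heisEval_apply (hx : Commute (x * y * x⁻¹ * y⁻¹) x) (hy : Commute (x * y * x⁻¹ * y⁻¹) y)
    (u : HeisZ) : heisEval x y hx hy u = x ^ u.a * y ^ u.b * (x * y * x⁻¹ * y⁻¹) ^ u.c := rfl

end Eval

section Marked

variable {A : Type*} [Group A] (x y : A)

theorem conj_zpow_eq (hx : Commute (x * y * x⁻¹ * y⁻¹) x) (a : ℤ) :
    x ^ a * y * (x ^ a)⁻¹ = (x * y * x⁻¹ * y⁻¹) ^ a * y := by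
  apply zpow_mul_zpow_inv_of_conj x y _ _ hx
  group

theorem conj_zpow_eq' (hy : Commute (x * y * x⁻¹ * y⁻¹) y) (b : ℤ) :
    y ^ b * x * (y ^ b)⁻¹ = ((x * y * x⁻¹ * y⁻¹)⁻¹) ^ b * x := by
  apply zpow_mul_zpow_inv_of_conj y x _ _ hy.inv_left
  group

theorem heisEval_eq_one_iff (hx : Commute (x * y * x⁻¹ * y⁻¹) x) (hy : Commute (x * y * x⁻¹ * y⁻¹) y)
    {p : ℕ} (hp : orderOf (x * y * x⁻¹ * y⁻¹) = p) (r s : ℤ)
    (hr : x ^ p = (x * y * x⁻¹ * y⁻¹) ^ r) (hs : y ^ p = (x * y * x⁻¹ * y⁻¹) ^ s) (u : HeisZ) :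
    heisEval x y hx hy u = 1 ↔
      ∃ a₁ b₁ : ℤ, u.a = p * a₁ ∧ u.b = p * b₁ ∧ (p : ℤ) ∣ u.c + r * a₁ + s * b₁ := by
  set c := x * y * x⁻¹ * y⁻¹ with hc
  have hcz : ∀ n : ℤ, c ^ n = 1 ↔ (p : ℤ) ∣ n := by
    intro n
    rw [← hp]
    exact (orderOf_dvd_iff_zpow_eq_one).symm
  have hback : ∀ a₁ b₁ : ℤ, u.a = p * a₁ → u.b = p * b₁ →
      heisEval x y hx hy u = c ^ (u.c + r * a₁ + s * b₁) := by
    intro a₁ b₁ ha hb
    rw [heisEval_apply, ← hc, ha, hb, zpow_mul, zpow_mul, zpow_natCast, zpow_natCast, hr, hs,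
      ← zpow_mul, ← zpow_mul, ← zpow_add, ← zpow_add]
    congr 1
    ring
  constructor
  · intro h
    rw [heisEval_apply, ← hc] at h
    -- `x^a` commutes with `y`
    have h1 : x ^ u.a = (y ^ u.b * c ^ u.c)⁻¹ := by
      rw [eq_inv_iff_mul_eq_one, ← mul_assoc]; exact h
    have hcomm1 : Commute (x ^ u.a) y := by
      rw [h1]
      exact (((Commute.refl y).zpow_left _).mul_left (hy.zpow_left _)).inv_left
    have h2 : c ^ u.a = 1 := by
      have := conj_zpow_eq x y hx u.a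
      rw [← hc, hcomm1.eq, mul_inv_cancel_right] at this
      exact (mul_eq_right.mp this.symm)
    have h3 : y ^ u.b = (x ^ u.a)⁻¹ * (c ^ u.c)⁻¹ := by
      have : x ^ u.a * (y ^ u.b * c ^ u.c) = 1 := by rw [← mul_assoc]; exact h
      calc y ^ u.b = (x ^ u.a)⁻¹ * (x ^ u.a * (y ^ u.b * c ^ u.c)) * (c ^ u.c)⁻¹ := by group
        _ = (x ^ u.a)⁻¹ * (c ^ u.c)⁻¹ := by rw [this, mul_one]
    have hcomm2 : Commute (y ^ u.b) x := by
      rw [h3]
      exact (((Commute.refl x).zpow_left _).inv_left).mul_left ((hx.zpow_left _).inv_left)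
    have h4 : c ^ u.b = 1 := by
      have := conj_zpow_eq' x y hy u.b
      rw [← hc, hcomm2.eq, mul_inv_cancel_right] at this
      have h5 : (c⁻¹) ^ u.b = 1 := mul_eq_right.mp this.symm
      rwa [inv_zpow, inv_eq_one] at h5
    obtain ⟨a₁, ha⟩ := (hcz _).mp h2
    obtain ⟨b₁, hb⟩ := (hcz _).mp h4
    refine ⟨a₁, b₁, ha, hb, ?_⟩
    rw [← hcz, ← hback a₁ b₁ ha hb, heisEval_apply, ← hc]
    exact h
  · rintro ⟨a₁, b₁, ha, hb, hdvd⟩
    rw [hback a₁ b₁ ha hb, hcz]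
    exact hdvd

theorem heisEval_surjective (hx : Commute (x * y * x⁻¹ * y⁻¹) x) (hy : Commute (x * y * x⁻¹ * y⁻¹) y)
    (hgen : Subgroup.closure ({x, y} : Set A) = ⊤) : Function.Surjective (heisEval x y hx hy) := by
  rw [← MonoidHom.range_eq_top, eq_top_iff, ← hgen, Subgroup.closure_le]
  intro g hg
  rcases hg with rfl | hg
  · exact ⟨⟨1, 0, 0⟩, by simp [heisEval_apply]⟩
  · rw [Set.mem_singleton_iff] at hg
    subst hg
    exact ⟨⟨0, 1, 0⟩, by simp [heisEval_apply]⟩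

end Marked

/-- **Marked isomorphism** of two-generated groups with central commutator of the same order and
the same power relations. -/
theorem exists_mulEquiv_of_marked {A A' : Type*} [Group A] [Group A'] (x y : A) (x' y' : A')
    (hx : Commute (x * y * x⁻¹ * y⁻¹) x) (hy : Commute (x * y * x⁻¹ * y⁻¹) y)
    (hx' : Commute (x' * y' * x'⁻¹ * y'⁻¹) x') (hy' : Commute (x' * y' * x'⁻¹ * y'⁻¹) y')
    (hgen : Subgroup.closure ({x, y} : Set A) = ⊤)
    (hgen' : Subgroup.closure ({x', y'} : Set A') = ⊤)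
    {p : ℕ} (hp : orderOf (x * y * x⁻¹ * y⁻¹) = p) (hp' : orderOf (x' * y' * x'⁻¹ * y'⁻¹) = p)
    (r s : ℤ)
    (hr : x ^ p = (x * y * x⁻¹ * y⁻¹) ^ r) (hs : y ^ p = (x * y * x⁻¹ * y⁻¹) ^ s)
    (hr' : x' ^ p = (x' * y' * x'⁻¹ * y'⁻¹) ^ r) (hs' : y' ^ p = (x' * y' * x'⁻¹ * y'⁻¹) ^ s) :
    ∃ α : A ≃* A', α x = x' ∧ α y = y' := by
  set f := heisEval x y hx hy with hf
  set f' := heisEval x' y' hx' hy' with hf'
  have hsurj := heisEval_surjective x y hx hy hgen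
  have hsurj' := heisEval_surjective x' y' hx' hy' hgen'
  have hker : f.ker = f'.ker := by
    ext u
    rw [MonoidHom.mem_ker, MonoidHom.mem_ker, hf, hf',
      heisEval_eq_one_iff x y hx hy hp r s hr hs, heisEval_eq_one_iff x' y' hx' hy' hp' r s hr' hs']
  set e := QuotientGroup.quotientKerEquivOfSurjective f hsurj with he
  set e' := QuotientGroup.quotientKerEquivOfSurjective f' hsurj' with he'
  set α : A ≃* A' := e.symm.trans ((QuotientGroup.quotientMulEquivOfEq hker).trans e') with hα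
  have key : ∀ u : HeisZ, α (f u) = f' u := by
    intro u
    have h1 : e.symm (f u) = (u : HeisZ ⧸ f.ker) := by
      rw [MulEquiv.symm_apply_eq]
      rfl
    rw [hα, MulEquiv.trans_apply, h1, MulEquiv.trans_apply]
    rfl
  refine ⟨α, ?_, ?_⟩
  · have h1 : f ⟨1, 0, 0⟩ = x := by simp [hf, heisEval_apply]
    have h2 : f' ⟨1, 0, 0⟩ = x' := by simp [hf', heisEval_apply]
    rw [← h1, key, h2]
  · have h1 : f ⟨0, 1, 0⟩ = y := by simp [hf, heisEval_apply]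
    have h2 : f' ⟨0, 1, 0⟩ = y' := by simp [hf', heisEval_apply]
    rw [← h1, key, h2]

end Cfsg.Agent.Helper2
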