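import Cfsg.Agent.Helper63.PGroup
import Cfsg.Agent.Helper2.CyclicP

set_option autoImplicit false

namespace Cfsg.Agent.Helper2

open scoped commutatorElement

universe u

/-- A group of order `p ^ m` has nilpotency class at most `m - 1` (at most `1` when `m ≤ 1`). -/
theorem nilpotencyClass_le_of_card {p : ℕ} [hp : Fact p.Prime] :
    ∀ (m : ℕ) (H : Type u) [Group H] [Finite H],
      Nat.card H = p ^ m → Group.nilpotencyClass H ≤ max (m - 1) 1 := by
  intro m
  induction m using Nat.strong_induction_on with
  | _ m ih =>
    intro H _ _ hH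
    have hpG : IsPGroup p H := IsPGroup.of_card hH
    have hnil : Group.IsNilpotent H := hpG.isNilpotent
    have hp1 : 1 < p := hp.out.one_lt
    by_cases hm : m = 0
    · have h1 : Nat.card H = 1 := by rw [hH, hm, pow_zero]
      have : Subsingleton H := (Nat.card_eq_one_iff_unique.mp h1).1
      have h0 : Group.nilpotencyClass H = 0 := Group.nilpotencyClass_zero_iff_subsingleton.mpr this
      rw [h0]; exact Nat.zero_le _
    · have hnt : Nontrivial H := by
        rw [← Finite.one_lt_card_iff_nontrivial, hH]
        exact Nat.one_lt_pow hm hp1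
      rw [Group.nilpotencyClass_eq_quotient_center_plus_one]
      obtain ⟨k, hk⟩ := IsPGroup.exists_card_eq (hpG.to_subgroup (Subgroup.center H))
      have hk0 : k ≠ 0 := by
        rintro rfl
        rw [pow_zero] at hk
        exact (hpG.bot_lt_center).ne' (Subgroup.card_eq_one.mp hk)
      have hcard := Subgroup.card_eq_card_quotient_mul_card_subgroup (Subgroup.center H)
      rw [hH, hk] at hcard
      have hkm : k ≤ m := by
        have : p ^ k ∣ p ^ m := Dvd.intro_left _ hcard.symm
        exact (Nat.pow_dvd_pow_iff_le_right hp1).mp this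
      have hQ : Nat.card (H ⧸ Subgroup.center H) = p ^ (m - k) := by
        have h2 : p ^ m = p ^ (m - k) * p ^ k := by rw [← pow_add, Nat.sub_add_cancel hkm]
        rw [h2] at hcard
        exact (Nat.eq_of_mul_eq_mul_right (pow_pos hp.out.pos k) hcard).symm
      have hjm : m - k < m := by omega
      by_cases hj0 : m - k = 0
      · have h1 : Nat.card (H ⧸ Subgroup.center H) = 1 := by rw [hQ, hj0, pow_zero]
        have : Subsingleton (H ⧸ Subgroup.center H) := (Nat.card_eq_one_iff_unique.mp h1).1
        have h0 : Group.nilpotencyClass (H ⧸ Subgroup.center H) = 0 :=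
          Group.nilpotencyClass_zero_iff_subsingleton.mpr this
        rw [h0]; exact le_max_right _ _
      · by_cases hj1 : m - k = 1
        · exfalso
          have h1 : Nat.card (H ⧸ Subgroup.center H) = p := by rw [hQ, hj1, pow_one]
          have hcyc : IsCyclic (H ⧸ Subgroup.center H) := isCyclic_of_prime_card h1
          have hcomm : IsMulCommutative H :=
            MonoidHom.isMulCommutative_of_isCyclic_of_ker_le_center
              (QuotientGroup.mk' (Subgroup.center H)) (by rw [QuotientGroup.ker_mk'])
          have htop : Subgroup.center H = ⊤ := by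
            rw [eq_top_iff]
            intro x _
            rw [Subgroup.mem_center_iff]
            intro y
            exact hcomm.is_comm.comm y x
          rw [htop, Subgroup.card_top, hH] at hk
          have := Nat.pow_right_injective (show 2 ≤ p from hp1) hk
          omega
        · have hj2 : 2 ≤ m - k := by omega
          have := ih (m - k) hjm (H ⧸ Subgroup.center H) hQ
          have h3 : max (m - k - 1) 1 = m - k - 1 := max_eq_left (by omega)
          rw [h3] at this
          have h4 : m - k ≤ m - 1 := by omega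
          exact le_trans (by omega) (le_max_left _ _)

/-- The commutator map `x ↦ ⁅x, g⁆` on an abelian normal subgroup `A` is a homomorphism. -/
noncomputable def commMap {G : Type u} [Group G] (A : Subgroup G) [hAn : A.Normal]
    (hA : ∀ x ∈ A, ∀ y ∈ A, x * y = y * x) (g : G) : A →* G :=
  MonoidHom.mk' (fun x => ⁅(x : G), g⁆) (by
    intro x y
    have hy : ⁅(y : G), g⁆ ∈ A := by
      rw [commutatorElement_def]
      have h1 : g * (y : G)⁻¹ * g⁻¹ ∈ A := hAn.conj_mem _ (inv_mem y.2) g
      have : (y : G) * g * (y : G)⁻¹ * g⁻¹ = (y : G) * (g * (y : G)⁻¹ * g⁻¹) := by group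
      rw [this]; exact mul_mem y.2 h1
    have hx : ⁅(x : G), g⁆ ∈ A := by
      rw [commutatorElement_def]
      have h1 : g * (x : G)⁻¹ * g⁻¹ ∈ A := hAn.conj_mem _ (inv_mem x.2) g
      have : (x : G) * g * (x : G)⁻¹ * g⁻¹ = (x : G) * (g * (x : G)⁻¹ * g⁻¹) := by group
      rw [this]; exact mul_mem x.2 h1
    have h1 := hA _ x.2 _ hy
    have h2 := hA _ hx _ hy
    show ⁅((x * y : A) : G), g⁆ = ⁅(x : G), g⁆ * ⁅(y : G), g⁆
    rw [h2]
    have h3 : ⁅((x * y : A) : G), g⁆ = ((x : G) * ⁅(y : G), g⁆) * (g * (x : G)⁻¹ * g⁻¹) := by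
      rw [commutatorElement_def, commutatorElement_def, Subgroup.coe_mul]; group
    rw [h3, h1, commutatorElement_def (x : G)]
    group)

theorem commMap_apply {G : Type u} [Group G] (A : Subgroup G) [A.Normal]
    (hA : ∀ x ∈ A, ∀ y ∈ A, x * y = y * x) (g : G) (x : A) :
    commMap A hA g x = ⁅(x : G), g⁆ := rfl

/-- If `A` is an abelian normal subgroup with `G = A⟨g⟩`, then `|A| = |G'| · |A ∩ Z(G)|`. -/
theorem card_eq_card_commutator_mul_card_inf_center {G : Type u} [Group G] [Finite G]
    (A : Subgroup G) [hAn : A.Normal] (hA : ∀ x ∈ A, ∀ y ∈ A, x * y = y * x) (g : G)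
    (hgen : A ⊔ Subgroup.zpowers g = ⊤) :
    Nat.card A = Nat.card (commutator G) * Nat.card (A ⊓ Subgroup.center G : Subgroup G) := by
  set φ := commMap A hA g with hφ
  -- the kernel
  have hker : φ.ker = (A ⊓ Subgroup.center G).subgroupOf A := by
    ext x
    rw [MonoidHom.mem_ker, Subgroup.mem_subgroupOf, Subgroup.mem_inf, hφ, commMap_apply,
      commutatorElement_eq_one_iff_mul_comm]
    constructor
    · intro hx
      refine ⟨x.2, ?_⟩
      have hle : A ⊔ Subgroup.zpowers g ≤ Subgroup.centralizer {(x : G)} := by
        apply sup_le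
        · intro a ha
          rw [Subgroup.mem_centralizer_singleton_iff]
          exact hA a ha x x.2
        · rw [Subgroup.zpowers_le, Subgroup.mem_centralizer_singleton_iff]
          exact hx.symm
      rw [hgen] at hle
      rw [Subgroup.mem_center_iff]
      intro y
      have := hle (Subgroup.mem_top y)
      rw [Subgroup.mem_centralizer_singleton_iff] at this
      exact this
    · rintro ⟨-, hx⟩
      exact (Subgroup.mem_center_iff.mp hx g).symm
  -- the range
  have hmemA : ∀ x ∈ A, ⁅x, g⁆ ∈ A := by
    intro x hx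
    rw [commutatorElement_def]
    have h1 : g * x⁻¹ * g⁻¹ ∈ A := hAn.conj_mem _ (inv_mem hx) g
    have : x * g * x⁻¹ * g⁻¹ = x * (g * x⁻¹ * g⁻¹) := by group
    rw [this]; exact mul_mem hx h1
  have hrangeA : φ.range ≤ A := by
    rintro _ ⟨x, rfl⟩
    exact hmemA x x.2
  have hconj1 : ∀ d ∈ φ.range, g * d * g⁻¹ ∈ φ.range := by
    rintro _ ⟨x, rfl⟩
    refine ⟨⟨g * x * g⁻¹, hAn.conj_mem _ x.2 g⟩, ?_⟩
    rw [hφ, commMap_apply, commMap_apply, commutatorElement_def, commutatorElement_def]
    group
  have hconj2 : ∀ d ∈ φ.range, g⁻¹ * d * g ∈ φ.range := by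
    rintro _ ⟨x, rfl⟩
    have hx' : g⁻¹ * x * g ∈ A := by
      have := hAn.conj_mem _ x.2 g⁻¹
      rwa [inv_inv] at this
    refine ⟨⟨g⁻¹ * x * g, hx'⟩, ?_⟩
    rw [hφ, commMap_apply, commMap_apply, commutatorElement_def, commutatorElement_def]
    group
  have hnorm : φ.range.Normal := by
    have hle : A ⊔ Subgroup.zpowers g ≤ Subgroup.normalizer (φ.range : Set G) := by
      apply sup_le
      · intro a ha
        rw [Subgroup.mem_normalizer_iff]
        intro d
        constructor
        · intro hd
          have : a * d * a⁻¹ = d := by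
            rw [hA a ha d (hrangeA hd)]; group
          rw [this]; exact hd
        · intro hd
          have hd' : a * d * a⁻¹ ∈ A := hrangeA hd
          have hdA : d ∈ A := by
            have := mul_mem (mul_mem (inv_mem ha) hd') ha
            have e : a⁻¹ * (a * d * a⁻¹) * a = d := by group
            rwa [e] at this
          have : a * d * a⁻¹ = d := by
            rw [hA a ha d hdA]; group
          rw [this] at hd; exact hd
      · rw [Subgroup.zpowers_le, Subgroup.mem_normalizer_iff]
        intro d
        constructor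
        · exact hconj1 d
        · intro hd
          have := hconj2 _ hd
          have e : g⁻¹ * (g * d * g⁻¹) * g = d := by group
          rwa [e] at this
    rw [hgen] at hle
    exact Subgroup.normalizer_eq_top_iff.mp (top_le_iff.mp hle)
  have hrange : φ.range = commutator G := by
    apply le_antisymm
    · rintro _ ⟨x, rfl⟩
      rw [hφ, commMap_apply, commutator_def]
      exact Subgroup.commutator_mem_commutator (Subgroup.mem_top _) (Subgroup.mem_top _)
    · -- the quotient by the range is commutative
      set D := φ.range with hD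
      let π := QuotientGroup.mk' D
      have hπ : Function.Surjective π := QuotientGroup.mk'_surjective D
      have hag : ∀ a ∈ A, π a * π g = π g * π a := by
        intro a ha
        rw [← map_mul, ← map_mul]
        apply (QuotientGroup.eq).mpr
        have h1 : ⁅a⁻¹, g⁆ ∈ D := ⟨⟨a⁻¹, inv_mem ha⟩, rfl⟩
        have h2 := hconj2 _ h1
        have e : (a * g)⁻¹ * (g * a) = g⁻¹ * ⁅a⁻¹, g⁆ * g := by
          rw [commutatorElement_def]; group
        rw [e]; exact h2
      have hle : A ⊔ Subgroup.zpowers g ≤ (Subgroup.center (G ⧸ D)).comap π := by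
        have hcg : π g ∈ Subgroup.centralizer ((A.map π : Subgroup (G ⧸ D)) : Set (G ⧸ D)) := by
          rw [Subgroup.mem_centralizer_iff]
          rintro _ ⟨a, ha, rfl⟩
          exact hag a ha
        -- π g is central
        have hgc : π g ∈ Subgroup.center (G ⧸ D) := by
          rw [Subgroup.mem_center_iff]
          intro y
          obtain ⟨y, rfl⟩ := hπ y
          have hy : y ∈ A ⊔ Subgroup.zpowers g := by rw [hgen]; exact Subgroup.mem_top y
          rw [Subgroup.mem_sup_of_normal_left] at hy
          obtain ⟨a, ha, z, hz, rfl⟩ := hy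
          obtain ⟨k, rfl⟩ := Subgroup.mem_zpowers_iff.mp hz
          have h2 : π g ^ k * π g = π g * π g ^ k := (Commute.zpow_self (π g) k).eq
          rw [map_mul, map_zpow, mul_assoc, h2, ← mul_assoc, hag a ha, mul_assoc]
        apply sup_le
        · intro a ha
          rw [Subgroup.mem_comap, Subgroup.mem_center_iff]
          intro y
          obtain ⟨y, rfl⟩ := hπ y
          have hy : y ∈ A ⊔ Subgroup.zpowers g := by rw [hgen]; exact Subgroup.mem_top y
          rw [Subgroup.mem_sup_of_normal_left] at hy
          obtain ⟨a', ha', z, hz, rfl⟩ := hy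
          obtain ⟨k, rfl⟩ := Subgroup.mem_zpowers_iff.mp hz
          have hgk : π (g ^ k) ∈ Subgroup.center (G ⧸ D) := by
            rw [map_zpow]; exact Subgroup.zpow_mem _ hgc k
          have h3 : π a * π (g ^ k) = π (g ^ k) * π a := Subgroup.mem_center_iff.mp hgk (π a)
          have h4 : π a' * π a = π a * π a' := by rw [← map_mul, ← map_mul, hA a' ha' a ha]
          rw [map_mul, mul_assoc, ← h3, ← mul_assoc, h4, mul_assoc]
        · rw [Subgroup.zpowers_le]
          exact hgc
      rw [hgen] at hle
      have hcommQ : ∀ a b : G ⧸ D, a * b = b * a := by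
        intro a b
        obtain ⟨a, rfl⟩ := hπ a
        have := hle (Subgroup.mem_top a)
        rw [Subgroup.mem_comap, Subgroup.mem_center_iff] at this
        exact (this b).symm
      rw [commutator_def, Subgroup.commutator_le]
      intro x _ y _
      rw [← QuotientGroup.eq_one_iff (N := D), commutatorElement_def]
      show π (x * y * x⁻¹ * y⁻¹) = 1
      rw [map_mul, map_mul, map_mul, map_inv, map_inv, hcommQ (π x) (π y)]
      group
  have h1 := (φ.ker).card_mul_index
  rw [Subgroup.index_ker, hrange, hker] at h1
  rw [← h1, mul_comm]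
  congr 1
  exact (Nat.card_congr (Subgroup.subgroupOfEquivOfLe (inf_le_left : A ⊓ Subgroup.center G ≤ A)).toEquiv)

/-- In a `p`-group of maximal class of order at least `p ^ 3` the centre has order `p`. -/
theorem card_center_of_maxClass {p : ℕ} [hp : Fact p.Prime] (n : ℕ) (G : Type u) [Group G]
    [Finite G] (hn : 3 ≤ n) (hG : Nat.card G = p ^ n) (hcl : Group.nilpotencyClass G = n - 1) :
    Nat.card (Subgroup.center G) = p := by
  have hpG : IsPGroup p G := IsPGroup.of_card hG
  have hnil : Group.IsNilpotent G := hpG.isNilpotent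
  have hp1 : 1 < p := hp.out.one_lt
  have hnt : Nontrivial G := by
    rw [← Finite.one_lt_card_iff_nontrivial, hG]
    exact Nat.one_lt_pow (by omega) hp1
  have hcl' := hcl
  rw [Group.nilpotencyClass_eq_quotient_center_plus_one] at hcl'
  obtain ⟨k, hk⟩ := IsPGroup.exists_card_eq (hpG.to_subgroup (Subgroup.center G))
  have hk0 : k ≠ 0 := by
    rintro rfl
    rw [pow_zero] at hk
    exact (hpG.bot_lt_center).ne' (Subgroup.card_eq_one.mp hk)
  have hcard := Subgroup.card_eq_card_quotient_mul_card_subgroup (Subgroup.center G)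
  rw [hG, hk] at hcard
  have hkm : k ≤ n := by
    have : p ^ k ∣ p ^ n := Dvd.intro_left _ hcard.symm
    exact (Nat.pow_dvd_pow_iff_le_right hp1).mp this
  have hQ : Nat.card (G ⧸ Subgroup.center G) = p ^ (n - k) := by
    have h2 : p ^ n = p ^ (n - k) * p ^ k := by rw [← pow_add, Nat.sub_add_cancel hkm]
    rw [h2] at hcard
    exact (Nat.eq_of_mul_eq_mul_right (pow_pos hp.out.pos k) hcard).symm
  have hU := nilpotencyClass_le_of_card (p := p) (n - k) (G ⧸ Subgroup.center G) hQ
  have hk1 : k = 1 := by
    by_cases h1 : 1 ≤ n - k - 1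
    · rw [max_eq_left h1] at hU
      omega
    · exfalso
      have hnk : n - k ≤ 1 := by omega
      have hcyc : IsCyclic (G ⧸ Subgroup.center G) := by
        rcases Nat.le_one_iff_eq_zero_or_eq_one.mp hnk with h0 | h1'
        · have h1 : Nat.card (G ⧸ Subgroup.center G) = 1 := by rw [hQ, h0, pow_zero]
          have : Subsingleton (G ⧸ Subgroup.center G) := (Nat.card_eq_one_iff_unique.mp h1).1
          infer_instance
        · have h1 : Nat.card (G ⧸ Subgroup.center G) = p := by rw [hQ, h1', pow_one]
          exact isCyclic_of_prime_card h1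
      have hcomm : IsMulCommutative G :=
        MonoidHom.isMulCommutative_of_isCyclic_of_ker_le_center
          (QuotientGroup.mk' (Subgroup.center G)) (by rw [QuotientGroup.ker_mk'])
      have := Group.IsNilpotent.nilpotencyClass_le_one_iff.mpr hcomm
      omega
  rw [hk, hk1, pow_one]

/-- In a `p`-group of maximal class (order `p ^ (n + 2)`, class `n + 1`) the derived subgroup has
index `p ^ 2`. -/
theorem index_commutator_of_maxClass {p : ℕ} [hp : Fact p.Prime] :
    ∀ (n : ℕ) (G : Type u) [Group G] [Finite G], Nat.card G = p ^ (n + 2) →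
      Group.nilpotencyClass G = n + 1 → (commutator G).index = p ^ 2 := by
  intro n
  induction n with
  | zero =>
    intro G _ _ hG hcl
    have hpG : IsPGroup p G := IsPGroup.of_card hG
    have hnil : Group.IsNilpotent G := hpG.isNilpotent
    have hcomm : IsMulCommutative G :=
      Group.IsNilpotent.nilpotencyClass_le_one_iff.mp (by omega)
    have hbot : commutator G = ⊥ := by
      rw [commutator_def, Subgroup.commutator_eq_bot_iff_le_centralizer]
      intro x _
      rw [Subgroup.mem_centralizer_iff]
      intro y _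
      exact hcomm.is_comm.comm y x
    rw [hbot, Subgroup.index_bot, hG]
  | succ n ih =>
    intro G _ _ hG hcl
    have hpG : IsPGroup p G := IsPGroup.of_card hG
    have hnil : Group.IsNilpotent G := hpG.isNilpotent
    have hp1 : 1 < p := hp.out.one_lt
    have hnt : Nontrivial G := by
      rw [← Finite.one_lt_card_iff_nontrivial, hG]
      exact Nat.one_lt_pow (by omega) hp1
    have hZ : Nat.card (Subgroup.center G) = p :=
      card_center_of_maxClass (n + 1 + 2) G (by omega) hG (by omega)
    have hcard := Subgroup.card_eq_card_quotient_mul_card_subgroup (Subgroup.center G)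
    rw [hG, hZ] at hcard
    have hQ : Nat.card (G ⧸ Subgroup.center G) = p ^ (n + 2) := by
      have h2 : p ^ (n + 1 + 2) = p ^ (n + 2) * p := by rw [← pow_succ]
      rw [h2] at hcard
      exact (Nat.eq_of_mul_eq_mul_right hp.out.pos hcard).symm
    have hclQ : Group.nilpotencyClass (G ⧸ Subgroup.center G) = n + 1 := by
      have := hcl
      rw [Group.nilpotencyClass_eq_quotient_center_plus_one] at this
      omega
    have hIH := ih (G ⧸ Subgroup.center G) hQ hclQ
    -- the commutator of the quotient
    have hmap : commutator (G ⧸ Subgroup.center G) =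
        (commutator G).map (QuotientGroup.mk' (Subgroup.center G)) := by
      rw [commutator_def, commutator_def, Subgroup.map_commutator,
        Subgroup.map_top_of_surjective _ (QuotientGroup.mk'_surjective _)]
    rw [hmap, Subgroup.index_map, QuotientGroup.ker_mk',
      MonoidHom.range_eq_top.mpr (QuotientGroup.mk'_surjective _), Subgroup.index_top, mul_one]
      at hIH
    -- Z ≤ G'
    have hne : commutator G ≠ ⊥ := by
      intro hbot
      have hcomm : IsMulCommutative G := by
        refine ⟨⟨fun x y => ?_⟩⟩
        have : ⁅x, y⁆ ∈ commutator G := by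
          rw [commutator_def]
          exact Subgroup.commutator_mem_commutator (Subgroup.mem_top _) (Subgroup.mem_top _)
        rw [hbot, Subgroup.mem_bot, commutatorElement_eq_one_iff_mul_comm] at this
        exact this
      have := Group.IsNilpotent.nilpotencyClass_le_one_iff.mpr hcomm
      omega
    have hinf := Cfsg.Agent.Helper63.normal_inf_center_ne_bot hpG (commutator G) hne
    have hle : Subgroup.center G ≤ commutator G := by
      have h1 : Nat.card (commutator G ⊓ Subgroup.center G : Subgroup G) ∣ p :=
        hZ ▸ Subgroup.card_dvd_of_le inf_le_right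
      rcases (Nat.dvd_prime hp.out).mp h1 with h1 | h1
      · exact absurd (Subgroup.card_eq_one.mp h1) hinf
      · have : commutator G ⊓ Subgroup.center G = Subgroup.center G :=
          Subgroup.eq_of_le_of_card_ge inf_le_right (by rw [h1, hZ])
        rw [← this]; exact inf_le_left
    rw [sup_eq_left.mpr hle] at hIH
    exact hIH

/-- A subgroup of index two together with any element outside it generates the group. -/
theorem sup_zpowers_eq_top_of_index_two {G : Type u} [Group G] [Finite G] (C : Subgroup G)
    (hC : C.index = 2) (g : G) (hg : g ∉ C) : C ⊔ Subgroup.zpowers g = ⊤ := by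
  have hle : C ≤ C ⊔ Subgroup.zpowers g := le_sup_left
  have hdvd : (C ⊔ Subgroup.zpowers g).index ∣ 2 := hC ▸ Subgroup.index_dvd_of_le hle
  rcases (Nat.dvd_prime Nat.prime_two).mp hdvd with h1 | h2
  · exact Subgroup.index_eq_one.mp h1
  · exfalso
    have h3 := C.card_mul_index
    have h4 := (C ⊔ Subgroup.zpowers g).card_mul_index
    rw [hC] at h3
    rw [h2, ← h3] at h4
    have h5 : Nat.card (C ⊔ Subgroup.zpowers g : Subgroup G) = Nat.card C :=
      Nat.eq_of_mul_eq_mul_right (by norm_num) h4
    have h6 : C = C ⊔ Subgroup.zpowers g := Subgroup.eq_of_le_of_card_ge hle h5.le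
    apply hg
    rw [h6]
    exact (le_sup_right : Subgroup.zpowers g ≤ C ⊔ Subgroup.zpowers g) (Subgroup.mem_zpowers g)

/-- A group in which every element squares to one is commutative. -/
theorem mul_comm_of_forall_sq_eq_one {G : Type u} [Group G] (h : ∀ x : G, x * x = 1) (x y : G) :
    x * y = y * x := by
  have hx : x⁻¹ = x := inv_eq_of_mul_eq_one_right (h x)
  have hy : y⁻¹ = y := inv_eq_of_mul_eq_one_right (h y)
  have hxy : (x * y)⁻¹ = x * y := inv_eq_of_mul_eq_one_right (h (x * y))
  calc x * y = (x * y)⁻¹ := hxy.symm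
    _ = y⁻¹ * x⁻¹ := mul_inv_rev x y
    _ = y * x := by rw [hx, hy]

/-- A non-abelian group of order `8` has a cyclic subgroup of index `2`. -/
theorem exists_cyclic_index_two_of_card_eight {G : Type u} [Group G] [Finite G]
    (hG : Nat.card G = 8) (hne : commutator G ≠ ⊥) :
    ∃ C : Subgroup G, IsCyclic C ∧ C.index = 2 := by
  have : Fact (Nat.Prime 2) := ⟨Nat.prime_two⟩
  have hpG : IsPGroup 2 G := IsPGroup.of_card (n := 3) (by rw [hG]; norm_num)
  -- an element whose square is not one
  have hex : ∃ x : G, x * x ≠ 1 := by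
    by_contra hcon
    push Not at hcon
    apply hne
    rw [commutator_def, Subgroup.commutator_eq_bot_iff_le_centralizer]
    intro x _
    rw [Subgroup.mem_centralizer_iff]
    intro y _
    exact mul_comm_of_forall_sq_eq_one hcon y x
  obtain ⟨x, hx⟩ := hex
  obtain ⟨j, hj⟩ := (IsPGroup.iff_orderOf.mp hpG) x
  have hdvd : orderOf x ∣ 8 := hG ▸ orderOf_dvd_natCard x
  have hj3 : j ≤ 3 := by
    rw [hj] at hdvd
    exact (Nat.pow_dvd_pow_iff_le_right (by norm_num : 1 < 2)).mp (by simpa using hdvd)
  have hj2 : 2 ≤ j := by
    by_contra hlt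
    have : j = 0 ∨ j = 1 := by omega
    rcases this with rfl | rfl
    · rw [pow_zero, orderOf_eq_one_iff] at hj
      apply hx; rw [hj, mul_one]
    · rw [pow_one] at hj
      apply hx
      rw [← pow_two, ← hj]; exact pow_orderOf_eq_one x
  have key : ∀ y : G, orderOf y = 4 → ∃ C : Subgroup G, IsCyclic C ∧ C.index = 2 := by
    intro y hy
    refine ⟨Subgroup.zpowers y, inferInstance, ?_⟩
    have h1 := (Subgroup.zpowers y).card_mul_index
    rw [Nat.card_zpowers, hy, hG] at h1
    omega
  have : j = 2 ∨ j = 3 := by omega
  rcases this with rfl | rfl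
  · exact key x (by rw [hj]; norm_num)
  · apply key (x ^ 2)
    rw [orderOf_pow, hj]
    norm_num

/-- Elements of the cyclic group generated by an involution. -/
theorem eq_one_or_eq_of_mem_zpowers_of_orderOf_two {G : Type u} [Group G] {a x : G}
    (ha : orderOf a = 2) (hx : x ∈ Subgroup.zpowers a) : x = 1 ∨ x = a := by
  obtain ⟨i, rfl⟩ := Subgroup.mem_zpowers_iff.mp hx
  have h := zpow_mod_orderOf a i
  rw [ha] at h
  rcases Int.emod_two_eq_zero_or_one i with h0 | h1
  · left; rw [← h]; simp [h0]
  · right; rw [← h]; simp [h1]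

/-- Core of Taussky's theorem: the configuration of a non-cyclic abelian subgroup of index two
does not occur in a `2`-group of order at least `16` with `|G : G'| = 4`. -/
theorem taussky_aux {G : Type u} [Group G] [Finite G] (n : ℕ) (hn : 3 ≤ n)
    (hG : Nat.card G = 2 ^ (n + 1)) (hidx : (commutator G).index = 4)
    (C : Subgroup G) (hC2 : C.index = 2) (hCab : ∀ x ∈ C, ∀ y ∈ C, x * y = y * x)
    (z : G) (hz2 : orderOf z = 2) (hzZ : z ∈ Subgroup.center G) (hzC : z ∈ C)
    (c : G) (hcC : c ∈ C) (hgen : ∀ x ∈ C, ∃ k : ℤ, (c ^ k)⁻¹ * x ∈ Subgroup.zpowers z)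
    (hord : orderOf c = 2 ^ (n - 1)) (hzc : z ∉ Subgroup.zpowers c) : False := by
  have hCn : C.Normal := Subgroup.normal_of_index_eq_two hC2
  have hCtop : C ≠ ⊤ := by
    intro h
    rw [h, Subgroup.index_top] at hC2
    omega
  obtain ⟨g, hg⟩ : ∃ g : G, g ∉ C := by
    by_contra hcon
    push Not at hcon
    exact hCtop (eq_top_iff.mpr fun x _ => hcon x)
  have hsup := sup_zpowers_eq_top_of_index_two C hC2 g hg
  have hL := card_eq_card_commutator_mul_card_inf_center C hCab g hsup
  have hCcard : Nat.card C = 2 ^ n := by
    have := C.card_mul_index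
    rw [hC2, hG, pow_succ] at this
    exact Nat.eq_of_mul_eq_mul_right (by norm_num) this
  have hG'card : Nat.card (commutator G) = 2 ^ (n - 1) := by
    have := (commutator G).card_mul_index
    rw [hidx, hG] at this
    have h2 : 2 ^ (n + 1) = 2 ^ (n - 1) * 4 := by
      have : n + 1 = (n - 1) + 2 := by omega
      rw [this, pow_add]; norm_num
    rw [h2] at this
    exact Nat.eq_of_mul_eq_mul_right (by norm_num) this
  have hCZ : Nat.card (C ⊓ Subgroup.center G : Subgroup G) = 2 := by
    rw [hCcard, hG'card] at hL
    have h2 : 2 ^ n = 2 ^ (n - 1) * 2 := by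
      have : n = (n - 1) + 1 := by omega
      conv_lhs => rw [this, pow_succ]
    rw [h2] at hL
    exact (Nat.eq_of_mul_eq_mul_left (by positivity) hL).symm
  have hNle : Subgroup.zpowers z ≤ C ⊓ Subgroup.center G := by
    rw [Subgroup.zpowers_le]
    exact Subgroup.mem_inf.mpr ⟨hzC, hzZ⟩
  have hNeq : Subgroup.zpowers z = C ⊓ Subgroup.center G :=
    Subgroup.eq_of_le_of_card_ge hNle (by rw [hCZ, Nat.card_zpowers, hz2])
  -- the involution of ⟨c⟩
  set c₁ : G := c ^ (2 ^ (n - 3)) with hc₁
  set c₀ : G := c ^ (2 ^ (n - 2)) with hc₀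
  have hc₀₁ : c₁ * c₁ = c₀ := by
    rw [hc₁, hc₀, ← pow_add]
    congr 1
    have : n - 2 = (n - 3) + 1 := by omega
    rw [this, pow_succ]; ring
  have hc₀ord : orderOf c₀ = 2 := by
    rw [hc₀, orderOf_pow_of_dvd (by positivity), hord]
    · rw [Nat.pow_div (by omega) (by norm_num)]
      have : n - 1 - (n - 2) = 1 := by omega
      rw [this, pow_one]
    · rw [hord]; exact pow_dvd_pow 2 (by omega)
  have hc₀C : c₀ ∈ C := Subgroup.pow_mem C hcC _
  have hc₀ne : c₀ ≠ 1 := by
    intro h
    rw [h, orderOf_one] at hc₀ord
    omega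
  have hc₀sq : c₀ * c₀ = 1 := by
    rw [← pow_two, ← hc₀ord]; exact pow_orderOf_eq_one c₀
  -- c₀ is fixed by g
  have hfix : g * c₀ * g⁻¹ = c₀ := by
    have hy : g * c₁ * g⁻¹ ∈ C := hCn.conj_mem _ (Subgroup.pow_mem C hcC _) g
    obtain ⟨k, hk⟩ := hgen _ hy
    set n' : G := (c ^ k)⁻¹ * (g * c₁ * g⁻¹) with hn'
    have hn'Z : n' ∈ Subgroup.center G := by
      obtain ⟨j, hj⟩ := Subgroup.mem_zpowers_iff.mp hk
      rw [← hj]
      exact Subgroup.zpow_mem _ hzZ j
    have hn'sq : n' * n' = 1 := by
      rcases eq_one_or_eq_of_mem_zpowers_of_orderOf_two hz2 hk with h | h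
      · rw [h, mul_one]
      · rw [h, ← pow_two, ← hz2]; exact pow_orderOf_eq_one z
    have hy' : g * c₁ * g⁻¹ = c ^ k * n' := by rw [hn']; group
    have hw : g * c₀ * g⁻¹ = c ^ k * c ^ k := by
      have h1 : g * c₀ * g⁻¹ = (g * c₁ * g⁻¹) * (g * c₁ * g⁻¹) := by
        rw [← hc₀₁]; group
      rw [h1, hy']
      have h2 := Subgroup.mem_center_iff.mp hn'Z (c ^ k)
      calc c ^ k * n' * (c ^ k * n') = c ^ k * (n' * c ^ k) * n' := by group
        _ = c ^ k * (c ^ k * n') * n' := by rw [h2]
        _ = c ^ k * c ^ k * (n' * n') := by group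
        _ = c ^ k * c ^ k := by rw [hn'sq, mul_one]
    -- w = g c₀ g⁻¹ is an involution in ⟨c⟩
    have hwc : g * c₀ * g⁻¹ ∈ Subgroup.zpowers c := by
      rw [hw]
      exact mul_mem (Subgroup.zpow_mem _ (Subgroup.mem_zpowers c) k)
        (Subgroup.zpow_mem _ (Subgroup.mem_zpowers c) k)
    have hwsq : (g * c₀ * g⁻¹) ^ 2 = 1 := by
      rw [pow_two]
      calc g * c₀ * g⁻¹ * (g * c₀ * g⁻¹) = g * (c₀ * c₀) * g⁻¹ := by group
        _ = 1 := by rw [hc₀sq]; group
    have hc₀c : c₀ ∈ Subgroup.zpowers c := Subgroup.pow_mem _ (Subgroup.mem_zpowers c) _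
    have hmem := mem_zpowers_of_pow_eq_one_of_isCyclic (C := Subgroup.zpowers c) (p := 2)
      (by norm_num) ⟨c₀, hc₀c⟩ ⟨g * c₀ * g⁻¹, hwc⟩ (by rw [Subgroup.orderOf_mk]; exact hc₀ord)
      (by apply Subtype.ext; exact hwsq)
    obtain ⟨i, hi⟩ := Subgroup.mem_zpowers_iff.mp hmem
    have hi' : c₀ ^ i = g * c₀ * g⁻¹ := by
      have := congrArg Subtype.val hi
      simpa using this
    have hmem' : g * c₀ * g⁻¹ ∈ Subgroup.zpowers c₀ := by
      rw [← hi']; exact Subgroup.zpow_mem _ (Subgroup.mem_zpowers c₀) i
    rcases eq_one_or_eq_of_mem_zpowers_of_orderOf_two hc₀ord hmem' with h | h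
    · exfalso
      apply hc₀ne
      have : c₀ = g⁻¹ * (g * c₀ * g⁻¹) * g := by group
      rw [this, h]; group
    · exact h
  -- so c₀ is central
  have hc₀Z : c₀ ∈ Subgroup.center G := by
    have hle : C ⊔ Subgroup.zpowers g ≤ Subgroup.centralizer {c₀} := by
      apply sup_le
      · intro a ha
        rw [Subgroup.mem_centralizer_singleton_iff]
        exact hCab a ha c₀ hc₀C
      · rw [Subgroup.zpowers_le, Subgroup.mem_centralizer_singleton_iff]
        calc g * c₀ = (g * c₀ * g⁻¹) * g := by group
          _ = c₀ * g := by rw [hfix]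
    rw [hsup] at hle
    rw [Subgroup.mem_center_iff]
    intro y
    have := hle (Subgroup.mem_top y)
    rw [Subgroup.mem_centralizer_singleton_iff] at this
    exact this
  have hc₀N : c₀ ∈ Subgroup.zpowers z := by
    rw [hNeq]; exact Subgroup.mem_inf.mpr ⟨hc₀C, hc₀Z⟩
  rcases eq_one_or_eq_of_mem_zpowers_of_orderOf_two hz2 hc₀N with h | h
  · exact hc₀ne h
  · apply hzc
    rw [← h]
    exact Subgroup.pow_mem _ (Subgroup.mem_zpowers c) _

/-- **Taussky's theorem** (existence form): a `2`-group with `|G : G'| = 4` has a cyclic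
subgroup of index `2`. -/
theorem exists_cyclic_index_two : ∀ (n : ℕ) (G : Type u) [Group G] [Finite G],
    Nat.card G = 2 ^ n → (commutator G).index = 4 →
    ∃ C : Subgroup G, IsCyclic C ∧ C.index = 2 := by
  intro n
  induction n with
  | zero =>
    intro G _ _ hG hidx
    exfalso
    have := (commutator G).index_dvd_card
    rw [hG, hidx, pow_zero] at this
    omega
  | succ n ih =>
    intro G _ _ hG hidx
    have hF : Fact (Nat.Prime 2) := ⟨Nat.prime_two⟩
    have hpG : IsPGroup 2 G := IsPGroup.of_card hG
    have hcardC := (commutator G).card_mul_index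
    rw [hidx, hG] at hcardC
    by_cases hbot : commutator G = ⊥
    · -- |G| = 4
      rw [hbot, Subgroup.card_bot, one_mul] at hcardC
      have h2 : 2 ∣ Nat.card G := by rw [hG, ← hcardC]; norm_num
      obtain ⟨x, hx⟩ := exists_prime_orderOf_dvd_card' 2 h2
      refine ⟨Subgroup.zpowers x, inferInstance, ?_⟩
      have h1 := (Subgroup.zpowers x).card_mul_index
      rw [Nat.card_zpowers, hx, hG, ← hcardC] at h1
      omega
    · -- a central involution in G'
      have hinf := Cfsg.Agent.Helper63.normal_inf_center_ne_bot hpG (commutator G) hbot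
      have hdvd : 2 ∣ Nat.card (commutator G ⊓ Subgroup.center G : Subgroup G) := by
        obtain ⟨j, hj⟩ := IsPGroup.exists_card_eq
          (hpG.to_subgroup (commutator G ⊓ Subgroup.center G))
        rw [hj]
        rcases Nat.eq_zero_or_pos j with rfl | hpos
        · rw [pow_zero] at hj
          exact absurd (Subgroup.card_eq_one.mp hj) hinf
        · exact dvd_pow_self 2 hpos.ne'
      obtain ⟨z', hz'⟩ := exists_prime_orderOf_dvd_card' 2 hdvd
      set z : G := (z' : G) with hz
      have hz2 : orderOf z = 2 := by rw [hz, Subgroup.orderOf_coe]; exact hz'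
      have hzG' : z ∈ commutator G := (Subgroup.mem_inf.mp z'.2).1
      have hzZ : z ∈ Subgroup.center G := (Subgroup.mem_inf.mp z'.2).2
      set N : Subgroup G := Subgroup.zpowers z with hN
      have hNZ : N ≤ Subgroup.center G := by rw [hN, Subgroup.zpowers_le]; exact hzZ
      have hNn : N.Normal := by
        constructor
        intro x hx g
        have := Subgroup.mem_center_iff.mp (hNZ hx) g
        have e : g * x * g⁻¹ = x := by rw [this]; group
        rw [e]; exact hx
      have hNcard : Nat.card N = 2 := by rw [hN, Nat.card_zpowers, hz2]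
      have hNG' : N ≤ commutator G := by rw [hN, Subgroup.zpowers_le]; exact hzG'
      -- the quotient
      have hQcard : Nat.card (G ⧸ N) = 2 ^ n := by
        have h1 := Subgroup.card_eq_card_quotient_mul_card_subgroup N
        rw [hG, hNcard, pow_succ] at h1
        exact (Nat.eq_of_mul_eq_mul_right (by norm_num) h1).symm
      set π := QuotientGroup.mk' N with hπ
      have hπs : Function.Surjective π := QuotientGroup.mk'_surjective N
      have hQidx : (commutator (G ⧸ N)).index = 4 := by
        have hmap : commutator (G ⧸ N) = (commutator G).map π := by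
          rw [commutator_def, commutator_def, Subgroup.map_commutator,
            Subgroup.map_top_of_surjective _ hπs]
        rw [hmap, Subgroup.index_map, hπ, QuotientGroup.ker_mk',
          MonoidHom.range_eq_top.mpr (QuotientGroup.mk'_surjective _), Subgroup.index_top, mul_one,
          sup_eq_left.mpr hNG', hidx]
      obtain ⟨Cbar, hCcyc, hCidx⟩ := ih (G ⧸ N) hQcard hQidx
      set C : Subgroup G := Cbar.comap π with hC
      have hC2 : C.index = 2 := by
        rw [hC, Subgroup.index_comap_of_surjective Cbar hπs, hCidx]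
      have hNC : N ≤ C := by
        have := MonoidHom.ker_le_comap π Cbar
        rwa [hπ, QuotientGroup.ker_mk'] at this
      -- C is abelian
      have hCcomm : IsMulCommutative C := by
        apply MonoidHom.isMulCommutative_of_isCyclic_of_ker_le_center (π.subgroupComap Cbar)
        intro x hx
        rw [MonoidHom.mem_ker] at hx
        have h1 : π (x : G) = 1 := congrArg Subtype.val hx
        have h2 : (x : G) ∈ N := (QuotientGroup.eq_one_iff _).mp h1
        rw [Subgroup.mem_center_iff]
        intro y
        apply Subtype.ext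
        exact Subgroup.mem_center_iff.mp (hNZ h2) (y : G)
      have hCab : ∀ x ∈ C, ∀ y ∈ C, x * y = y * x := by
        intro x hx y hy
        exact congrArg Subtype.val (hCcomm.is_comm.comm (⟨x, hx⟩ : C) ⟨y, hy⟩)
      by_cases hcyc : IsCyclic C
      · exact ⟨C, hcyc, hC2⟩
      · -- the non-cyclic case
        obtain ⟨⟨cb, hcb⟩, hgenb⟩ := hCcyc.exists_generator
        obtain ⟨c, rfl⟩ := hπs cb
        have hcC : c ∈ C := hcb
        have hgen : ∀ x ∈ C, ∃ k : ℤ, (c ^ k)⁻¹ * x ∈ Subgroup.zpowers z := by
          intro x hx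
          have hxb : π x ∈ Cbar := hx
          obtain ⟨k, hk⟩ := Subgroup.mem_zpowers_iff.mp (hgenb ⟨π x, hxb⟩)
          refine ⟨k, ?_⟩
          have h1 : π (c ^ k) = π x := by
            have := congrArg Subtype.val hk
            rw [map_zpow]
            simpa using this
          exact (QuotientGroup.eq).mp h1
        have hzc : z ∉ Subgroup.zpowers c := by
          intro hzc
          apply hcyc
          have hCeq : C = Subgroup.zpowers c := by
            apply le_antisymm
            · intro x hx
              obtain ⟨k, hk⟩ := hgen x hx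
              have h1 : (c ^ k)⁻¹ * x ∈ Subgroup.zpowers c :=
                (Subgroup.zpowers_le.mpr hzc) hk
              have h2 : x = c ^ k * ((c ^ k)⁻¹ * x) := by group
              rw [h2]
              exact mul_mem (Subgroup.zpow_mem _ (Subgroup.mem_zpowers c) k) h1
            · rw [Subgroup.zpowers_le]; exact hcC
          rw [hCeq]; infer_instance
        -- orders
        have hn1 : 1 ≤ n := by
          by_contra hlt
          have : n = 0 := by omega
          subst this
          have := hcardC
          have h4 : Nat.card (commutator G) * 4 = 2 := by simpa using this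
          omega
        have hCbcard : Nat.card Cbar = 2 ^ (n - 1) := by
          have h1 := Cbar.card_mul_index
          rw [hCidx, hQcard] at h1
          have h2 : 2 ^ n = 2 ^ (n - 1) * 2 := by
            have : n = (n - 1) + 1 := by omega
            conv_lhs => rw [this, pow_succ]
          rw [h2] at h1
          exact Nat.eq_of_mul_eq_mul_right (by norm_num) h1
        have hordb : orderOf (π c) = 2 ^ (n - 1) := by
          have h1 := orderOf_eq_card_of_forall_mem_zpowers hgenb
          rw [Subgroup.orderOf_mk] at h1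
          rw [h1, hCbcard]
        have hord : orderOf c = 2 ^ (n - 1) := by
          apply Nat.dvd_antisymm
          · apply orderOf_dvd_of_pow_eq_one
            have h1 : π (c ^ 2 ^ (n - 1)) = 1 := by
              rw [map_pow, ← hordb]; exact pow_orderOf_eq_one _
            have h2 : c ^ 2 ^ (n - 1) ∈ N := (QuotientGroup.eq_one_iff _).mp h1
            rcases eq_one_or_eq_of_mem_zpowers_of_orderOf_two hz2 h2 with h | h
            · exact h
            · exfalso
              apply hzc
              rw [← h]
              exact Subgroup.pow_mem _ (Subgroup.mem_zpowers c) _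
          · rw [← hordb]; exact orderOf_map_dvd π c
        by_cases hn2 : n = 2
        · -- |G| = 8
          subst hn2
          exact exists_cyclic_index_two_of_card_eight (by rw [hG]; norm_num) hbot
        · have hn3 : 3 ≤ n := by
            by_contra hlt
            have : n = 1 := by omega
            subst this
            -- |G| = 4, so G' = ⊥
            have h4 : Nat.card (commutator G) * 4 = 4 := by simpa using hcardC
            have h5 : Nat.card (commutator G) = 1 := by omega
            exact hbot (Subgroup.card_eq_one.mp h5)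
          exact (taussky_aux n hn3 hG hidx C hC2 hCab z hz2 hzZ (hNC (Subgroup.mem_zpowers z))
            c hcC hgen hord hzc).elim

/-- A group whose derived subgroup is trivial is commutative. -/
theorem isMulCommutative_of_commutator_eq_bot {G : Type u} [Group G] (h : commutator G = ⊥) :
    IsMulCommutative G := by
  refine ⟨⟨fun x y => ?_⟩⟩
  have : ⁅x, y⁆ ∈ commutator G := by
    rw [commutator_def]
    exact Subgroup.commutator_mem_commutator (Subgroup.mem_top _) (Subgroup.mem_top _)
  rw [h, Subgroup.mem_bot, commutatorElement_eq_one_iff_mul_comm] at this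
  exact this

/-- In a `2`-group of order at least `8` with `|G : G'| = 4` the centre has order `2` and lies
in the derived subgroup. -/
theorem card_center_of_index_commutator_eq_four {G : Type u} [Group G] [Finite G] (n : ℕ)
    (hG : Nat.card G = 2 ^ (n + 3)) (hidx : (commutator G).index = 4) :
    Nat.card (Subgroup.center G) = 2 ∧ Subgroup.center G ≤ commutator G := by
  have hF : Fact (Nat.Prime 2) := ⟨Nat.prime_two⟩
  have hpG : IsPGroup 2 G := IsPGroup.of_card hG
  have hG'card : Nat.card (commutator G) = 2 ^ (n + 1) := by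
    have := (commutator G).card_mul_index
    rw [hidx, hG] at this
    have h2 : 2 ^ (n + 3) = 2 ^ (n + 1) * 4 := by
      rw [show n + 3 = (n + 1) + 2 by omega, pow_add]; norm_num
    rw [h2] at this
    exact Nat.eq_of_mul_eq_mul_right (by norm_num) this
  have hbot : commutator G ≠ ⊥ := by
    intro h
    rw [h, Subgroup.card_bot] at hG'card
    have : 1 < 2 ^ (n + 1) := Nat.one_lt_pow (by omega) (by norm_num)
    omega
  obtain ⟨C, hCcyc, hC2⟩ := exists_cyclic_index_two (n + 3) G hG hidx
  have hCn : C.Normal := Subgroup.normal_of_index_eq_two hC2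
  have hCab : ∀ x ∈ C, ∀ y ∈ C, x * y = y * x := by
    intro x hx y hy
    have hc : IsMulCommutative C := inferInstance
    exact congrArg Subtype.val (hc.is_comm.comm (⟨x, hx⟩ : C) ⟨y, hy⟩)
  have hCtop : C ≠ ⊤ := by
    intro h
    rw [h, Subgroup.index_top] at hC2
    omega
  obtain ⟨g, hg⟩ : ∃ g : G, g ∉ C := by
    by_contra hcon
    push Not at hcon
    exact hCtop (eq_top_iff.mpr fun x _ => hcon x)
  have hsup := sup_zpowers_eq_top_of_index_two C hC2 g hg
  have hL := card_eq_card_commutator_mul_card_inf_center C hCab g hsup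
  have hCcard : Nat.card C = 2 ^ (n + 2) := by
    have := C.card_mul_index
    rw [hC2, hG, show n + 3 = (n + 2) + 1 by omega, pow_succ] at this
    exact Nat.eq_of_mul_eq_mul_right (by norm_num) this
  have hCZ : Nat.card (C ⊓ Subgroup.center G : Subgroup G) = 2 := by
    rw [hCcard, hG'card, show n + 2 = (n + 1) + 1 by omega, pow_succ] at hL
    exact (Nat.eq_of_mul_eq_mul_left (by positivity) hL).symm
  -- Z ≤ C
  have hZC : Subgroup.center G ≤ C := by
    intro z hz
    by_contra hzC
    have hsup' := sup_zpowers_eq_top_of_index_two C hC2 z hzC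
    apply hbot
    rw [commutator_def, Subgroup.commutator_eq_bot_iff_le_centralizer]
    -- everything is central
    have hcen : ∀ y : G, y ∈ Subgroup.center G := by
      have hle : C ⊔ Subgroup.zpowers z ≤ Subgroup.center G := by
        apply sup_le
        · intro c hc
          have hle2 : C ⊔ Subgroup.zpowers z ≤ Subgroup.centralizer {c} := by
            apply sup_le
            · intro a ha
              rw [Subgroup.mem_centralizer_singleton_iff]
              exact hCab a ha c hc
            · rw [Subgroup.zpowers_le, Subgroup.mem_centralizer_singleton_iff]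
              exact (Subgroup.mem_center_iff.mp hz c).symm
          rw [hsup'] at hle2
          rw [Subgroup.mem_center_iff]
          intro y
          have := hle2 (Subgroup.mem_top y)
          rw [Subgroup.mem_centralizer_singleton_iff] at this
          exact this
        · rw [Subgroup.zpowers_le]; exact hz
      rw [hsup'] at hle
      exact fun y => hle (Subgroup.mem_top y)
    intro x _
    rw [Subgroup.mem_centralizer_iff]
    intro y _
    exact Subgroup.mem_center_iff.mp (hcen x) y
  have hZcard : Nat.card (Subgroup.center G) = 2 := by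
    rw [← hCZ, inf_eq_right.mpr hZC]
  refine ⟨hZcard, ?_⟩
  have hinf := Cfsg.Agent.Helper63.normal_inf_center_ne_bot hpG (commutator G) hbot
  have h1 : Nat.card (commutator G ⊓ Subgroup.center G : Subgroup G) ∣ 2 :=
    hZcard ▸ Subgroup.card_dvd_of_le inf_le_right
  rcases (Nat.dvd_prime Nat.prime_two).mp h1 with h1 | h1
  · exact absurd (Subgroup.card_eq_one.mp h1) hinf
  · have : commutator G ⊓ Subgroup.center G = Subgroup.center G :=
      Subgroup.eq_of_le_of_card_ge inf_le_right (by rw [h1, hZcard])
    rw [← this]; exact inf_le_left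

/-- **Taussky's theorem**: a `2`-group of order `2 ^ (n + 2)` with `|G : G'| = 4` has class
`n + 1`. -/
theorem nilpotencyClass_of_index_commutator_eq_four :
    ∀ (n : ℕ) (G : Type u) [Group G] [Finite G], Nat.card G = 2 ^ (n + 2) →
      (commutator G).index = 4 → Group.nilpotencyClass G = n + 1 := by
  intro n
  induction n with
  | zero =>
    intro G _ _ hG hidx
    have hF : Fact (Nat.Prime 2) := ⟨Nat.prime_two⟩
    have hpG : IsPGroup 2 G := IsPGroup.of_card hG
    have hnil : Group.IsNilpotent G := hpG.isNilpotent
    have hbot : commutator G = ⊥ := by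
      have := (commutator G).card_mul_index
      rw [hidx, hG] at this
      have h1 : Nat.card (commutator G) = 1 := by omega
      exact Subgroup.card_eq_one.mp h1
    have hcomm := isMulCommutative_of_commutator_eq_bot hbot
    have hle := Group.IsNilpotent.nilpotencyClass_le_one_iff.mpr hcomm
    have hnt : Nontrivial G := by
      rw [← Finite.one_lt_card_iff_nontrivial, hG]; norm_num
    have hne : Group.nilpotencyClass G ≠ 0 := by
      intro h0
      rw [Group.nilpotencyClass_zero_iff_subsingleton] at h0
      exact not_subsingleton G h0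
    omega
  | succ n ih =>
    intro G _ _ hG hidx
    have hF : Fact (Nat.Prime 2) := ⟨Nat.prime_two⟩
    have hpG : IsPGroup 2 G := IsPGroup.of_card hG
    have hnil : Group.IsNilpotent G := hpG.isNilpotent
    have hnt : Nontrivial G := by
      rw [← Finite.one_lt_card_iff_nontrivial, hG]
      exact Nat.one_lt_pow (by omega) (by norm_num)
    obtain ⟨hZcard, hZle⟩ := card_center_of_index_commutator_eq_four n
      (by rw [hG]) hidx
    have hQcard : Nat.card (G ⧸ Subgroup.center G) = 2 ^ (n + 2) := by
      have h1 := Subgroup.card_eq_card_quotient_mul_card_subgroup (Subgroup.center G)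
      rw [hG, hZcard, show n + 1 + 2 = (n + 2) + 1 by omega, pow_succ] at h1
      exact (Nat.eq_of_mul_eq_mul_right (by norm_num) h1).symm
    have hQidx : (commutator (G ⧸ Subgroup.center G)).index = 4 := by
      have hmap : commutator (G ⧸ Subgroup.center G) =
          (commutator G).map (QuotientGroup.mk' (Subgroup.center G)) := by
        rw [commutator_def, commutator_def, Subgroup.map_commutator,
          Subgroup.map_top_of_surjective _ (QuotientGroup.mk'_surjective _)]
      rw [hmap, Subgroup.index_map, QuotientGroup.ker_mk',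
        MonoidHom.range_eq_top.mpr (QuotientGroup.mk'_surjective _), Subgroup.index_top, mul_one,
        sup_eq_left.mpr hZle, hidx]
    have := ih (G ⧸ Subgroup.center G) hQcard hQidx
    rw [Group.nilpotencyClass_eq_quotient_center_plus_one, this]

/-- In a non-abelian group, the centre is contained in every abelian subgroup of index `2`. -/
theorem center_le_of_index_two {G : Type u} [Group G] [Finite G] (C : Subgroup G)
    (hC2 : C.index = 2) (hCab : ∀ x ∈ C, ∀ y ∈ C, x * y = y * x) (hbot : commutator G ≠ ⊥) :
    Subgroup.center G ≤ C := by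
  intro z hz
  by_contra hzC
  have hsup' := sup_zpowers_eq_top_of_index_two C hC2 z hzC
  apply hbot
  rw [commutator_def, Subgroup.commutator_eq_bot_iff_le_centralizer]
  have hcen : ∀ y : G, y ∈ Subgroup.center G := by
    have hle : C ⊔ Subgroup.zpowers z ≤ Subgroup.center G := by
      apply sup_le
      · intro c hc
        have hle2 : C ⊔ Subgroup.zpowers z ≤ Subgroup.centralizer {c} := by
          apply sup_le
          · intro a ha
            rw [Subgroup.mem_centralizer_singleton_iff]
            exact hCab a ha c hc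
          · rw [Subgroup.zpowers_le, Subgroup.mem_centralizer_singleton_iff]
            exact (Subgroup.mem_center_iff.mp hz c).symm
        rw [hsup'] at hle2
        rw [Subgroup.mem_center_iff]
        intro y
        have := hle2 (Subgroup.mem_top y)
        rw [Subgroup.mem_centralizer_singleton_iff] at this
        exact this
      · rw [Subgroup.zpowers_le]; exact hz
    rw [hsup'] at hle
    exact fun y => hle (Subgroup.mem_top y)
  intro x _
  rw [Subgroup.mem_centralizer_iff]
  intro y _
  exact Subgroup.mem_center_iff.mp (hcen x) y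

/-- An element of an abelian subgroup `C` of index `2` that commutes with some `g ∉ C` is
central. -/
theorem mem_center_of_commute_of_index_two {G : Type u} [Group G] [Finite G] (C : Subgroup G)
    (hC2 : C.index = 2) (hCab : ∀ x ∈ C, ∀ y ∈ C, x * y = y * x) (g : G) (hg : g ∉ C)
    (c : G) (hc : c ∈ C) (hcg : g * c = c * g) : c ∈ Subgroup.center G := by
  have hsup := sup_zpowers_eq_top_of_index_two C hC2 g hg
  have hle : C ⊔ Subgroup.zpowers g ≤ Subgroup.centralizer {c} := by
    apply sup_le
    · intro a ha
      rw [Subgroup.mem_centralizer_singleton_iff]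
      exact hCab a ha c hc
    · rw [Subgroup.zpowers_le, Subgroup.mem_centralizer_singleton_iff]
      exact hcg
  rw [hsup] at hle
  rw [Subgroup.mem_center_iff]
  intro y
  have := hle (Subgroup.mem_top y)
  rw [Subgroup.mem_centralizer_singleton_iff] at this
  exact this

/-- Structure of `2`-groups `G` of order `2 ^ (n + 3)` with `|G : G'| = 4`: there are `a` of
order `2 ^ (n + 2)` and `g ∉ ⟨a⟩` with `g² ∈ {1, z}` and `g a g⁻¹ ∈ {a⁻¹, a⁻¹ z}`, where
`z = a ^ (2 ^ (n + 1))` is the central involution. -/
theorem exists_generators_of_index_commutator_eq_four {G : Type u} [Group G] [Finite G] (n : ℕ)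
    (hG : Nat.card G = 2 ^ (n + 3)) (hidx : (commutator G).index = 4) :
    ∃ a g : G, orderOf a = 2 ^ (n + 2) ∧ g ∉ Subgroup.zpowers a ∧
      (Subgroup.zpowers a).index = 2 ∧
      Subgroup.center G = Subgroup.zpowers (a ^ (2 ^ (n + 1))) ∧
      orderOf (a ^ (2 ^ (n + 1))) = 2 ∧
      (g * g = 1 ∨ g * g = a ^ (2 ^ (n + 1))) ∧
      (g * a * g⁻¹ = a⁻¹ ∨ g * a * g⁻¹ = a⁻¹ * a ^ (2 ^ (n + 1))) := by
  have hF : Fact (Nat.Prime 2) := ⟨Nat.prime_two⟩
  have hpG : IsPGroup 2 G := IsPGroup.of_card hG
  obtain ⟨hZcard, hZle⟩ := card_center_of_index_commutator_eq_four n hG hidx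
  have hbot : commutator G ≠ ⊥ := by
    intro h
    rw [h, Subgroup.index_bot, hG] at hidx
    have : 2 ^ 3 ≤ 2 ^ (n + 3) := Nat.pow_le_pow_right (by norm_num) (by omega)
    omega
  obtain ⟨C, hCcyc, hC2⟩ := exists_cyclic_index_two (n + 3) G hG hidx
  have hCab : ∀ x ∈ C, ∀ y ∈ C, x * y = y * x := by
    intro x hx y hy
    have hcm : IsMulCommutative C := inferInstance
    exact congrArg Subtype.val (hcm.is_comm.comm (⟨x, hx⟩ : C) ⟨y, hy⟩)
  have hZC : Subgroup.center G ≤ C := center_le_of_index_two C hC2 hCab hbot
  obtain ⟨⟨a, haC⟩, hagen⟩ := hCcyc.exists_generator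
  have hCeq : C = Subgroup.zpowers a := by
    apply le_antisymm
    · intro x hx
      obtain ⟨k, hk⟩ := Subgroup.mem_zpowers_iff.mp (hagen ⟨x, hx⟩)
      rw [Subgroup.mem_zpowers_iff]
      exact ⟨k, by simpa using congrArg Subtype.val hk⟩
    · rw [Subgroup.zpowers_le]; exact haC
  have hCtop : C ≠ ⊤ := by
    intro h
    rw [h, Subgroup.index_top] at hC2
    omega
  obtain ⟨g, hg⟩ : ∃ g : G, g ∉ C := by
    by_contra hcon
    push Not at hcon
    exact hCtop (eq_top_iff.mpr fun x _ => hcon x)
  have hCn : C.Normal := Subgroup.normal_of_index_eq_two hC2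
  have haord : orderOf a = 2 ^ (n + 2) := by
    rw [← Nat.card_zpowers, ← hCeq]
    have := C.card_mul_index
    rw [hC2, hG, show n + 3 = (n + 2) + 1 by omega, pow_succ] at this
    exact Nat.eq_of_mul_eq_mul_right (by norm_num) this
  set z : G := a ^ (2 ^ (n + 1)) with hz
  have hzord : orderOf z = 2 := by
    rw [hz, orderOf_pow_of_dvd (by positivity), haord]
    · rw [Nat.pow_div (by omega) (by norm_num), show n + 2 - (n + 1) = 1 by omega, pow_one]
    · rw [haord]; exact pow_dvd_pow 2 (by omega)
  have hzsq : z ^ 2 = 1 := by rw [← hzord]; exact pow_orderOf_eq_one z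
  have hzC : z ∈ Subgroup.zpowers a := Subgroup.pow_mem _ (Subgroup.mem_zpowers a) _
  -- the centre is ⟨z⟩
  have hZeq : Subgroup.center G = Subgroup.zpowers z := by
    have h2 : 2 ∣ Nat.card (Subgroup.center G) := by rw [hZcard]
    obtain ⟨z₀, hz₀⟩ := exists_prime_orderOf_dvd_card' 2 h2
    have hz₀ord : orderOf (z₀ : G) = 2 := by rw [Subgroup.orderOf_coe]; exact hz₀
    have hz₀C : (z₀ : G) ∈ Subgroup.zpowers a := hCeq ▸ hZC z₀.2
    have hmem := mem_zpowers_of_pow_eq_one_of_isCyclic (C := Subgroup.zpowers a) (p := 2)
      (by norm_num) ⟨(z₀ : G), hz₀C⟩ ⟨z, hzC⟩ (by rw [Subgroup.orderOf_mk]; exact hz₀ord)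
      (by apply Subtype.ext; exact hzsq)
    obtain ⟨i, hi⟩ := Subgroup.mem_zpowers_iff.mp hmem
    have hi' : (z₀ : G) ^ i = z := by
      have := congrArg Subtype.val hi
      simpa using this
    have hzZ : z ∈ Subgroup.center G := by
      rw [← hi']; exact Subgroup.zpow_mem _ z₀.2 i
    symm
    apply Subgroup.eq_of_le_of_card_ge (Subgroup.zpowers_le.mpr hzZ)
    rw [hZcard, Nat.card_zpowers, hzord]
  have hZmem : ∀ w ∈ Subgroup.center G, w = 1 ∨ w = z := by
    intro w hw
    rw [hZeq] at hw
    exact eq_one_or_eq_of_mem_zpowers_of_orderOf_two hzord hw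
  -- g² and a * g a g⁻¹ are central
  have hg2C : g * g ∈ C := Subgroup.mul_self_mem_of_index_two hC2 g
  have hg2Z : g * g ∈ Subgroup.center G :=
    mem_center_of_commute_of_index_two C hC2 hCab g hg (g * g) hg2C (by group)
  have hb : g * a * g⁻¹ ∈ C := hCn.conj_mem a haC g
  have hnorm : a * (g * a * g⁻¹) ∈ Subgroup.center G := by
    apply mem_center_of_commute_of_index_two C hC2 hCab g hg _ (mul_mem haC hb)
    have h1 : g * (a * (g * a * g⁻¹)) = (g * a * g⁻¹) * ((g * g) * a * (g * g)⁻¹) * g := by group
    have h2 : (g * g) * a * (g * g)⁻¹ = a := by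
      rw [← Subgroup.mem_center_iff.mp hg2Z a]; group
    rw [h1, h2, hCab _ hb _ haC]
  refine ⟨a, g, haord, hCeq ▸ hg, hCeq ▸ hC2, hZeq, hzord, hZmem _ hg2Z, ?_⟩
  rcases hZmem _ hnorm with h | h
  · left
    exact eq_inv_of_mul_eq_one_right h
  · right
    rw [← hz, ← h]; group

end Cfsg.Agent.Helper2
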