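import Cfsg.Agent.S0086

/-!
# (NPC) piece for S4931 (helper78): a normal `p`-complement of a normal subgroup `R ⊇ P`
is normal in `G`.
-/

set_option autoImplicit false
set_option maxHeartbeats 400000
set_option linter.style.haveILetI false

namespace Cfsg.Agent.Helper2.NC

open Cfsg

universe u

section G

variable {G : Type u} [Group G] [Fintype G]

/-- (NPC) a normal `p`-complement of a normal subgroup `R ⊇ P` is normal in `G`. -/
theorem exists_normal_of_hasNormalPComplement (p : ℕ) [Fact p.Prime] (R : Subgroup G) [R.Normal]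
    (P : Sylow p G) (hPR : (P : Subgroup G) ≤ R) (h : HasNormalPComplement p ↥R) :
    ∃ K : Subgroup G, K.Normal ∧ K ≤ R ∧ K ⊓ (P : Subgroup G) = ⊥ ∧
      ∀ r ∈ R, ∃ k ∈ K, ∃ u ∈ (P : Subgroup G), r = k * u := by
  classical
  have hp : p.Prime := Fact.out
  obtain ⟨P0, K0, hK0n, hc⟩ := h
  haveI : K0.Normal := hK0n
  -- membership in K0
  have hmem : ∀ x : ↥R, x ∈ K0 ↔ Nat.Coprime (orderOf (x : G)) p := by
    intro x
    rw [Subgroup.orderOf_coe]
    exact Cfsg.Agent.S0086.result P0 K0 hc x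
  have hmemK : ∀ g : G, g ∈ K0.map R.subtype ↔ g ∈ R ∧ Nat.Coprime (orderOf g) p := by
    intro g
    constructor
    · rintro ⟨x, hx, rfl⟩
      exact ⟨x.2, (hmem x).1 hx⟩
    · rintro ⟨hgR, hco⟩
      exact ⟨⟨g, hgR⟩, (hmem ⟨g, hgR⟩).2 hco, rfl⟩
  have hconj : ∀ a g : G, orderOf (a * g * a⁻¹) = orderOf g := by
    intro a g
    exact orderOf_injective (MulAut.conj a).toMonoidHom (MulAut.conj a).injective g
  refine ⟨K0.map R.subtype, ⟨?_⟩, ?_, ?_, ?_⟩
  · intro g hg a
    rw [hmemK] at hg ⊢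
    refine ⟨‹R.Normal›.conj_mem g hg.1 a, ?_⟩
    rw [hconj]; exact hg.2
  · intro g hg
    exact ((hmemK g).1 hg).1
  · rw [eq_bot_iff]
    intro g hg
    rw [Subgroup.mem_inf] at hg
    obtain ⟨hgK, hgP⟩ := hg
    have hco := ((hmemK g).1 hgK).2
    obtain ⟨k, hk⟩ := P.2 ⟨g, hgP⟩
    have hk' : g ^ p ^ k = 1 := by
      have := congrArg Subtype.val hk
      simpa using this
    have hdvd : orderOf g ∣ p ^ k := orderOf_dvd_of_pow_eq_one hk'
    have h1 : orderOf g = 1 :=
      Nat.Coprime.eq_one_of_dvd (Nat.Coprime.pow_right k hco) hdvd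
    rw [Subgroup.mem_bot]
    exact orderOf_eq_one_iff.1 h1
  · intro r hr
    set PR : Sylow p ↥R := P.subtype hPR with hPRdef
    have hcard : Nat.card (P0 : Subgroup ↥R) = Nat.card (PR : Subgroup ↥R) := by
      rw [Sylow.card_eq_multiplicity, Sylow.card_eq_multiplicity]
    have h1 : Nat.card K0 * Nat.card (PR : Subgroup ↥R) = Nat.card ↥R := by
      rw [← hcard]; exact hc.card_mul_card
    have h2 : Nat.Coprime (Nat.card K0) (Nat.card (PR : Subgroup ↥R)) := by
      have h3 : Nat.card K0 = (P0 : Subgroup ↥R).index := (hc.index_eq_card).symm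
      have h4 : ¬ p ∣ Nat.card K0 := by rw [h3]; exact P0.not_dvd_index
      rw [Sylow.card_eq_multiplicity]
      exact Nat.Coprime.pow_right _ (((Nat.Prime.coprime_iff_not_dvd hp).2 h4).symm)
    have hc' : Subgroup.IsComplement' K0 (PR : Subgroup ↥R) :=
      Subgroup.isComplement'_of_coprime h1 h2
    obtain ⟨⟨⟨k, hk⟩, ⟨u, hu⟩⟩, hku, -⟩ := hc'.existsUnique ⟨r, hr⟩
    refine ⟨(k : G), ⟨k, hk, rfl⟩, (u : G), ?_, ?_⟩
    · have : u ∈ (P : Subgroup G).subgroupOf R := hu
      exact Subgroup.mem_subgroupOf.1 this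
    · have := congrArg Subtype.val hku
      simpa using this.symm

end G

end Cfsg.Agent.Helper2.NC
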