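import Mathlib

set_option autoImplicit false
set_option maxHeartbeats 400000
set_option linter.unusedSectionVars false
set_option linter.unusedVariables false
set_option linter.style.haveILetI false

/-!
Helper2: a nilpotent-action lemma: if a finite `p`-group `Q` normalizes `W ≤ V ≤ Q` and `V ≤ W [V, Q]`, then `V ≤ W`.
-/

namespace Cfsg.Agent.Helper2.NilAct

open scoped commutatorElement

section Nilpotent

variable {K : Type*} [Group K]

/-- In a nilpotent group, a normal subgroup `N` with `N ≤ W ⊔ [N, K]` (`W` normal) lies in `W`. -/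
theorem le_of_le_sup_commutator [Group.IsNilpotent K] (N W : Subgroup K) [N.Normal] [W.Normal]
    (h : N ≤ W ⊔ ⁅N, (⊤ : Subgroup K)⁆) : N ≤ W := by
  have hnorm : ∀ i : ℕ, ((⊤ : Subgroup K).lowerCentralSeries i).Normal := by
    intro i
    induction i with
    | zero => rw [Subgroup.lowerCentralSeries_zero]; infer_instance
    | succ i ih =>
      rw [Subgroup.lowerCentralSeries_succ]
      haveI := ih
      exact Subgroup.commutator_normal _ _
  have key : ∀ i : ℕ, N ≤ W ⊔ (⊤ : Subgroup K).lowerCentralSeries i := by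
    intro i
    induction i with
    | zero => rw [Subgroup.lowerCentralSeries_zero]; exact le_trans le_top le_sup_right
    | succ i ih =>
      refine h.trans (sup_le le_sup_left ?_)
      rw [Subgroup.commutator_le]
      intro a ha k _
      have ha' := ih ha
      rw [← SetLike.mem_coe, Subgroup.normal_mul] at ha'
      obtain ⟨w, hw, c, hc, rfl⟩ := ha'
      have e : ⁅w * c, k⁆ = w * ⁅c, k⁆ * w⁻¹ * ⁅w, k⁆ := by
        simp only [commutatorElement_def]; group
      rw [e]
      have h1 : ⁅c, k⁆ ∈ (⊤ : Subgroup K).lowerCentralSeries (i + 1) := by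
        rw [Subgroup.lowerCentralSeries_succ]
        exact Subgroup.commutator_mem_commutator hc (Subgroup.mem_top _)
      have h2 : w * ⁅c, k⁆ * w⁻¹ ∈ (⊤ : Subgroup K).lowerCentralSeries (i + 1) :=
        (hnorm (i + 1)).conj_mem _ h1 w
      have h3 : ⁅w, k⁆ ∈ W := by
        rw [commutatorElement_def]
        have : k * w⁻¹ * k⁻¹ ∈ W := (inferInstance : W.Normal).conj_mem _ (inv_mem hw) k
        have e2 : w * k * w⁻¹ * k⁻¹ = w * (k * w⁻¹ * k⁻¹) := by group
        rw [e2]; exact mul_mem hw this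
      exact mul_mem (Subgroup.mem_sup_right h2) (Subgroup.mem_sup_left h3)
  obtain ⟨n, hn⟩ := (Subgroup.nilpotent_iff_lowerCentralSeries (G := K)).1 inferInstance
  have := key n
  rw [hn, sup_bot_eq] at this
  exact this

end Nilpotent

section NilpotentAmbient

variable {X : Type*} [Group X] {p : ℕ} [Fact p.Prime]

/-- Ambient form: `Q` a finite `p`-group normalizing `W ≤ V ≤ Q`, with `V ≤ W ⊔ [V, Q]`; then `V ≤ W`. -/
theorem le_of_le_sup_commutator_ambient {Q V W : Subgroup X} [Finite Q] (hQ : IsPGroup p Q)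
    (hWV : W ≤ V) (hVQ : V ≤ Q) (hQV : Q ≤ Subgroup.normalizer (V : Set X))
    (hQW : Q ≤ Subgroup.normalizer (W : Set X)) (h : V ≤ W ⊔ ⁅V, Q⁆) : V ≤ W := by
  haveI : Group.IsNilpotent Q := IsPGroup.isNilpotent hQ
  haveI hVn : (V.subgroupOf Q).Normal := by
    constructor
    intro n hn g
    rw [Subgroup.mem_subgroupOf] at hn ⊢
    have := (Subgroup.mem_normalizer_iff.1 (hQV g.2) n).1 hn
    simpa using this
  haveI hWn : (W.subgroupOf Q).Normal := by
    constructor
    intro n hn g
    rw [Subgroup.mem_subgroupOf] at hn ⊢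
    have := (Subgroup.mem_normalizer_iff.1 (hQW g.2) n).1 hn
    simpa using this
  have hWQ : W ≤ Q := hWV.trans hVQ
  have h' : V.subgroupOf Q ≤ W.subgroupOf Q ⊔ ⁅V.subgroupOf Q, (⊤ : Subgroup Q)⁆ := by
    have hmap : (W.subgroupOf Q ⊔ ⁅V.subgroupOf Q, (⊤ : Subgroup Q)⁆).map Q.subtype = W ⊔ ⁅V, Q⁆ := by
      rw [Subgroup.map_sup, Subgroup.map_commutator, Subgroup.map_subgroupOf_eq_of_le hWQ,
        Subgroup.map_subgroupOf_eq_of_le hVQ, ← MonoidHom.range_eq_map, Subgroup.range_subtype]
    intro x hx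
    rw [Subgroup.mem_subgroupOf] at hx
    have hx' := h hx
    rw [← hmap] at hx'
    obtain ⟨y, hy, hyx⟩ := hx'
    have : y = x := Subtype.ext hyx
    rwa [this] at hy
  have := le_of_le_sup_commutator (V.subgroupOf Q) (W.subgroupOf Q) h'
  intro v hv
  have hvQ : v ∈ Q := hVQ hv
  have : (⟨v, hvQ⟩ : Q) ∈ W.subgroupOf Q := this (by rw [Subgroup.mem_subgroupOf]; exact hv)
  rw [Subgroup.mem_subgroupOf] at this
  exact this

end NilpotentAmbient

end Cfsg.Agent.Helper2.NilAct
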