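import Mathlib

/-!
# The norm ideal of a group algebra

For a group `X` and a commutative ring `R`, `normSpan R X` is the `R`-span, inside `R[X]`, of the
elements `h * N_c`, where `c` runs over the elements of prime order and `N_c` is the sum of the
powers of `c`.  It is a two-sided ideal.  `NF R X` says that it is proper.
-/

set_option autoImplicit false
set_option linter.style.haveILetI false
set_option linter.unusedSectionVars false
set_option linter.unusedVariables false

namespace Cfsg.Agent.Helper2.NormIdeal

open MonoidAlgebra

variable (R : Type*) [CommRing R] {X : Type*} [Group X]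

/-- the norm element of `c`: the sum of its powers -/
noncomputable def normElt (c : X) : MonoidAlgebra R X :=
  ∑ i ∈ Finset.range (orderOf c), MonoidAlgebra.of R X (c ^ i)

/-- the generators `h * N_c` -/
def normGens : Set (MonoidAlgebra R X) :=
  {y | ∃ (h c : X), (orderOf c).Prime ∧ y = MonoidAlgebra.of R X h * normElt R c}

/-- the `R`-span of the generators -/
noncomputable def normSpan : Submodule R (MonoidAlgebra R X) := Submodule.span R (normGens R)

/-- the norm ideal is proper -/
def NF (R : Type*) [CommRing R] (X : Type*) [Group X] : Prop :=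
  (1 : MonoidAlgebra R X) ∉ normSpan R (X := X)

/-- no nonzero integer lies in the integral norm ideal -/
def NFZ (X : Type*) [Group X] : Prop :=
  ∀ m : ℤ, m ≠ 0 → ((m : ℤ) : MonoidAlgebra ℤ X) ∉ normSpan ℤ (X := X)

variable {R}

theorem normElt_conj (c h : X) :
    MonoidAlgebra.of R X h⁻¹ * normElt R c * MonoidAlgebra.of R X h = normElt R (h⁻¹ * c * h) := by
  unfold normElt
  have ho : orderOf (h⁻¹ * c * h) = orderOf c := by
    have := (MulAut.conj h⁻¹).orderOf_eq c
    simpa [MulAut.conj_apply] using this
  rw [ho, Finset.mul_sum, Finset.sum_mul]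
  refine Finset.sum_congr rfl fun i _ => ?_
  rw [← map_mul, ← map_mul]
  congr 1
  have : (h⁻¹ * c * h) ^ i = h⁻¹ * c ^ i * h := by
    have := conj_pow (a := h⁻¹) (b := c) (i := i)
    rw [inv_inv] at this
    exact this
  rw [this]

theorem of_mul_normElt (c : X) : MonoidAlgebra.of R X c * normElt R c = normElt R c := by
  unfold normElt
  rw [Finset.mul_sum]
  have h1 : ∀ i, MonoidAlgebra.of R X c * MonoidAlgebra.of R X (c ^ i) =
      MonoidAlgebra.of R X (c ^ (i + 1)) := by
    intro i
    rw [← map_mul, pow_succ']
  simp_rw [h1]
  have e1 := Finset.sum_range_succ' (fun i => MonoidAlgebra.of R X (c ^ i)) (orderOf c)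
  have e2 := Finset.sum_range_succ (fun i => MonoidAlgebra.of R X (c ^ i)) (orderOf c)
  rw [e1] at e2
  simp only [pow_orderOf_eq_one, pow_zero] at e2
  exact add_right_cancel e2

theorem of_pow_mul_normElt (c : X) (i : ℕ) :
    MonoidAlgebra.of R X (c ^ i) * normElt R c = normElt R c := by
  induction i with
  | zero => rw [pow_zero, map_one, one_mul]
  | succ n ih =>
    rw [pow_succ, map_mul, mul_assoc, of_mul_normElt, ih]

theorem normElt_mul_self (c : X) :
    normElt R c * normElt R c = (orderOf c) • normElt R c := by
  have h1 : normElt R c * normElt R c =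
      ∑ i ∈ Finset.range (orderOf c), MonoidAlgebra.of R X (c ^ i) * normElt R c := by
    nth_rewrite 1 [normElt]
    rw [Finset.sum_mul]
  rw [h1, Finset.sum_congr rfl (fun i _ => of_pow_mul_normElt c i), Finset.sum_const,
    Finset.card_range]

theorem gen_mem (h c : X) (hc : (orderOf c).Prime) :
    MonoidAlgebra.of R X h * normElt R c ∈ normSpan R (X := X) :=
  Submodule.subset_span ⟨h, c, hc, rfl⟩

/-- closed under left multiplication by group elements -/
theorem of_mul_mem (g : X) {y : MonoidAlgebra R X} (hy : y ∈ normSpan R (X := X)) :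
    MonoidAlgebra.of R X g * y ∈ normSpan R (X := X) := by
  unfold normSpan at hy ⊢
  induction hy using Submodule.span_induction with
  | mem x hx =>
    obtain ⟨h, c, hc, rfl⟩ := hx
    rw [← mul_assoc, ← map_mul]
    exact Submodule.subset_span ⟨g * h, c, hc, rfl⟩
  | zero => simp
  | add x y _ _ hx hy => rw [mul_add]; exact Submodule.add_mem _ hx hy
  | smul r x _ hx => rw [mul_smul_comm]; exact Submodule.smul_mem _ r hx

/-- closed under right multiplication by group elements -/
theorem mul_of_mem (g : X) {y : MonoidAlgebra R X} (hy : y ∈ normSpan R (X := X)) :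
    y * MonoidAlgebra.of R X g ∈ normSpan R (X := X) := by
  unfold normSpan at hy ⊢
  induction hy using Submodule.span_induction with
  | mem x hx =>
    obtain ⟨h, c, hc, rfl⟩ := hx
    have e : MonoidAlgebra.of R X h * normElt R c * MonoidAlgebra.of R X g =
        MonoidAlgebra.of R X (h * g) * normElt R (g⁻¹ * c * g) := by
      have e0 : MonoidAlgebra.of R X g * MonoidAlgebra.of R X g⁻¹ = 1 := by
        rw [← map_mul, mul_inv_cancel, map_one]
      calc MonoidAlgebra.of R X h * normElt R c * MonoidAlgebra.of R X g
          = MonoidAlgebra.of R X h * (MonoidAlgebra.of R X g * MonoidAlgebra.of R X g⁻¹) *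
              normElt R c * MonoidAlgebra.of R X g := by rw [e0, mul_one]
        _ = MonoidAlgebra.of R X h * MonoidAlgebra.of R X g *
              (MonoidAlgebra.of R X g⁻¹ * normElt R c * MonoidAlgebra.of R X g) := by
            simp only [mul_assoc]
        _ = _ := by rw [normElt_conj, ← map_mul]
    rw [e]
    refine Submodule.subset_span ⟨h * g, g⁻¹ * c * g, ?_, rfl⟩
    have := (MulAut.conj g⁻¹).orderOf_eq c
    simp only [MulAut.conj_apply, inv_inv] at this
    rwa [this]
  | zero => simp
  | add x y _ _ hx hy => rw [add_mul]; exact Submodule.add_mem _ hx hy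
  | smul r x _ hx => rw [smul_mul_assoc]; exact Submodule.smul_mem _ r hx

/-- closed under left multiplication -/
theorem mul_mem_left (a : MonoidAlgebra R X) {y : MonoidAlgebra R X}
    (hy : y ∈ normSpan R (X := X)) : a * y ∈ normSpan R (X := X) := by
  induction a using MonoidAlgebra.induction_on with
  | of m => exact of_mul_mem m hy
  | add x z hx hz => rw [add_mul]; exact Submodule.add_mem _ hx hz
  | smul r x hx => rw [smul_mul_assoc]; exact Submodule.smul_mem _ r hx

/-- closed under right multiplication -/
theorem mul_mem_right (a : MonoidAlgebra R X) {y : MonoidAlgebra R X}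
    (hy : y ∈ normSpan R (X := X)) : y * a ∈ normSpan R (X := X) := by
  induction a using MonoidAlgebra.induction_on with
  | of m => exact mul_of_mem m hy
  | add x z hx hz => rw [mul_add]; exact Submodule.add_mem _ hx hz
  | smul r x hx => rw [mul_smul_comm]; exact Submodule.smul_mem _ r hx

theorem normElt_mul_mem (c : X) (hc : (orderOf c).Prime) (a : MonoidAlgebra R X) :
    normElt R c * a ∈ normSpan R (X := X) := by
  apply mul_mem_right
  have := gen_mem (R := R) 1 c hc
  rwa [map_one, one_mul] at this

/-- a ring-valued representation in which every `ρ g - 1`, `g ≠ 1`, is a unit kills the norm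
ideal; so the norm ideal is proper. -/
theorem NF_of_fpf {A : Type*} [Ring A] [Algebra R A] [Nontrivial A] (ρ : X →* A)
    (hρ : ∀ g : X, g ≠ 1 → IsUnit (ρ g - 1)) : NF R X := by
  intro h1
  have key : ∀ y ∈ normSpan R (X := X), MonoidAlgebra.lift R A X ρ y = 0 := by
    intro y hy
    unfold normSpan at hy
    induction hy using Submodule.span_induction with
    | mem x hx =>
      obtain ⟨h, c, hc, rfl⟩ := hx
      have hc1 : c ≠ 1 := by
        rintro rfl
        rw [orderOf_one] at hc
        exact Nat.not_prime_one hc
      have hsum : MonoidAlgebra.lift R A X ρ (normElt R c) =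
          ∑ i ∈ Finset.range (orderOf c), ρ c ^ i := by
        unfold normElt
        rw [map_sum]
        refine Finset.sum_congr rfl fun i _ => ?_
        rw [MonoidAlgebra.lift_of, map_pow]
      have h0 : (ρ c - 1) * ∑ i ∈ Finset.range (orderOf c), ρ c ^ i = 0 := by
        rw [mul_geom_sum, ← map_pow, pow_orderOf_eq_one, map_one, sub_self]
      have h2 := (hρ c hc1).mul_right_eq_zero.mp h0
      rw [map_mul, hsum, h2, mul_zero]
    | zero => simp
    | add x y _ _ hx hy => rw [map_add, hx, hy, add_zero]
    | smul r x _ hx => rw [map_smul, hx, smul_zero]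
  have := key 1 h1
  rw [map_one] at this
  exact one_ne_zero this

end Cfsg.Agent.Helper2.NormIdeal
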