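import Mathlib
import Cfsg.Agent.Helper2.NormIdeal
import Cfsg.Agent.Helper24.ZasLin
import Cfsg.Agent.S0038
import Cfsg.Agent.S0589

/-!
# A Frobenius complement has a proper norm ideal in some characteristic prime to its order
-/

set_option autoImplicit false
set_option linter.style.haveILetI false
set_option linter.unusedSectionVars false
set_option linter.unusedVariables false
set_option maxHeartbeats 400000

namespace Cfsg.Agent.Helper2.NormIdeal

open scoped Pointwise

/-- a fixed-point-free representation on a nontrivial `ZMod q`-module forces `q ∤ |G|` -/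
theorem not_dvd_card_of_fpf {G : Type*} [Group G] [Finite G] (q : ℕ) [Fact q.Prime]
    {V : Type*} [AddCommGroup V] [Module (ZMod q) V] [Nontrivial V]
    (ρ : G →* Module.End (ZMod q) V) (hρ : ∀ g : G, g ≠ 1 → IsUnit (ρ g - 1)) :
    ¬ q ∣ Nat.card G := by
  intro hq
  obtain ⟨g, hg⟩ := exists_prime_orderOf_dvd_card' q hq
  have hg1 : g ≠ 1 := by
    rintro rfl
    rw [orderOf_one] at hg
    exact (Fact.out : q.Prime).one_lt.ne hg
  haveI : CharP (Module.End (ZMod q) V) q :=
    charP_of_injective_algebraMap (algebraMap (ZMod q) (Module.End (ZMod q) V)).injective q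
  have hgq : g ^ q = 1 := by rw [← hg]; exact pow_orderOf_eq_one g
  have h1 : (ρ g - 1) ^ q = 0 := by
    rw [sub_pow_char_of_commute q (Commute.one_right _), one_pow, ← map_pow, hgq, map_one,
      sub_self]
  have h2 := (hρ g hg1).pow q
  rw [h1] at h2
  exact not_isUnit_zero h2

theorem exists_prime_NF_of_frobenius {G : Type*} [Group G] [Finite G]
    (hFC : ∃ (L : Type) (_ : Group L) (_ : Finite L) (H : Subgroup L),
      Cfsg.IsFrobeniusComplement H ∧ Nonempty (G ≃* H)) :
    ∃ q : ℕ, q.Prime ∧ ¬ q ∣ Nat.card G ∧ NF (ZMod q) G := by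
  obtain ⟨L, _, _, H, hH, ⟨e⟩⟩ := hFC
  obtain ⟨x, V, hVne, hVab, hVker, hnorm, hVcop⟩ :=
    Cfsg.Agent.S0038.exists_conj_normalizing H hH
      (fun L' hL' => Cfsg.Agent.S0589.result H hH L' hL')
  have hH' := Cfsg.Agent.S0038.isFrobeniusComplement_conj hH x
  set H' := MulAut.conj x • H with hH'def
  let e' : G ≃* H' := e.trans (Subgroup.equivSMul (MulAut.conj x) H)
  -- the basic fixed-point-freeness
  have hfree : ∀ y ∈ H', y ≠ 1 → ∀ m ∈ V, y * m * y⁻¹ = m → m = 1 := by
    intro y hy hy1 m hm hfix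
    by_contra hm1
    have hcomm : m * y = y * m := by
      calc m * y = (y * m * y⁻¹) * y := by rw [hfix]
        _ = y * m := by group
    have hmH' : m ∈ H' := Cfsg.Agent.S0038.mem_of_commute hH' hy hy1 hcomm
    exact Cfsg.Agent.S0038.not_mem_conj_of_mem_kernel (hVker hm) hm1 x hmH'
  obtain ⟨m0, hm0V, hm01⟩ : ∃ m ∈ V, m ≠ 1 := by
    by_contra hcon
    push Not at hcon
    apply hVne
    rw [eq_bot_iff]
    intro m hm
    rw [Subgroup.mem_bot]
    exact hcon m hm
  let φ : G →* MulAut L := (MulAut.conj).comp (H'.subtype.comp e'.toMonoidHom)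
  have hφ : ∀ (g : G) (k : L), φ g k = ((e' g : H') : L) * k * ((e' g : H') : L)⁻¹ := by
    intro g k
    rfl
  have hφ1 : ∀ g : G, g ≠ 1 → φ g ≠ 1 := by
    intro g hg hcon
    have hy1 : ((e' g : H') : L) ≠ 1 := by
      intro h0
      apply hg
      have : e' g = 1 := Subtype.ext h0
      exact e'.injective (by rw [this, map_one])
    have := hfree _ (e' g).2 hy1 m0 hm0V (by rw [← hφ, hcon]; rfl)
    exact hm01 this
  let Γ : Subgroup (MulAut L) := φ.range
  have hV1 : V ≠ ⊥ := hVne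
  have hVc : ∀ a ∈ V, ∀ b ∈ V, a * b = b * a := by
    intro a ha b hb
    have := hVab.is_comm.comm (⟨a, ha⟩ : V) ⟨b, hb⟩
    exact congrArg Subtype.val this
  have hinv : ∀ h ∈ Γ, ∀ m ∈ V, h m ∈ V := by
    rintro _ ⟨g, rfl⟩ m hm
    rw [hφ]
    have hn := hnorm (e' g).2
    rw [Subgroup.mem_normalizer_iff] at hn
    exact (hn m).mp hm
  have hfpf : ∀ h ∈ Γ, h ≠ 1 → ∀ m ∈ V, h m = m → m = 1 := by
    rintro _ ⟨g, rfl⟩ hne m hm hfix
    have hy1 : ((e' g : H') : L) ≠ 1 := by
      intro h0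
      apply hne
      have : e' g = 1 := Subtype.ext h0
      have hg : g = 1 := e'.injective (by rw [this, map_one])
      rw [hg, map_one]
    rw [hφ] at hfix
    exact hfree _ (e' g).2 hy1 m hm hfix
  obtain ⟨q, hq, V₀, iA, iM, iF, iN, ρ, hρ⟩ :=
    Cfsg.Agent.Helper24.Zas.exists_fpf_rep Γ V hV1 hVc hinv hfpf
  let φ' : G →* Γ := φ.rangeRestrict
  let ρG : G →* Module.End (ZMod q) V₀ := ρ.comp φ'
  have hρG : ∀ g : G, g ≠ 1 → IsUnit (ρG g - 1) := by
    intro g hg
    apply hρ (φ' g)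
    intro hcon
    apply hφ1 g hg
    have := congrArg Subtype.val hcon
    exact this
  haveI := hq
  exact ⟨q, hq.out, not_dvd_card_of_fpf q ρG hρG, NF_of_fpf ρG hρG⟩

end Cfsg.Agent.Helper2.NormIdeal
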