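import Mathlib
import Cfsg.Agent.Helper2.NormIdeal

/-!
# Lifting the properness of the norm ideal from characteristic `ℓ` to the integers
-/

set_option autoImplicit false
set_option linter.style.haveILetI false
set_option linter.unusedSectionVars false
set_option linter.unusedVariables false
set_option maxHeartbeats 400000

namespace Cfsg.Agent.Helper2.NormIdeal

open MonoidAlgebra

variable {R S : Type*} [CommRing R] [CommRing S] {X : Type*} [Group X]

theorem mapRingHom_of (φ : R →+* S) (g : X) :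
    MonoidAlgebra.mapRingHom X φ (MonoidAlgebra.of R X g) = MonoidAlgebra.of S X g := by
  rw [MonoidAlgebra.of_apply, MonoidAlgebra.mapRingHom_single, map_one, MonoidAlgebra.of_apply]

theorem mapRingHom_normElt (φ : R →+* S) (c : X) :
    MonoidAlgebra.mapRingHom X φ (normElt R c) = normElt S c := by
  unfold normElt
  rw [map_sum]
  exact Finset.sum_congr rfl fun i _ => mapRingHom_of φ _

theorem mapRingHom_smul (φ : R →+* S) (r : R) (y : MonoidAlgebra R X) :
    MonoidAlgebra.mapRingHom X φ (r • y) = φ r • MonoidAlgebra.mapRingHom X φ y := by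
  ext g
  simp [MonoidAlgebra.coeff_mapRingHom]

theorem map_mem_normSpan (φ : R →+* S) {y : MonoidAlgebra R X} (hy : y ∈ normSpan R (X := X)) :
    MonoidAlgebra.mapRingHom X φ y ∈ normSpan S (X := X) := by
  unfold normSpan at hy
  induction hy using Submodule.span_induction with
  | mem x hx =>
    obtain ⟨h, c, hc, rfl⟩ := hx
    rw [map_mul, mapRingHom_of, mapRingHom_normElt]
    exact gen_mem h c hc
  | zero => rw [map_zero]; exact Submodule.zero_mem _
  | add x y _ _ hx hy => rw [map_add]; exact Submodule.add_mem _ hx hy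
  | smul r x _ hx => rw [mapRingHom_smul]; exact Submodule.smul_mem _ _ hx

/-- the norm span as a left ideal -/
noncomputable def normIdeal (R : Type*) [CommRing R] (X : Type*) [Group X] :
    Submodule (MonoidAlgebra R X) (MonoidAlgebra R X) where
  carrier := normSpan R (X := X)
  add_mem' := fun ha hb => Submodule.add_mem _ ha hb
  zero_mem' := Submodule.zero_mem _
  smul_mem' := fun a _ hy => mul_mem_left a hy

theorem mem_normIdeal {y : MonoidAlgebra R X} : y ∈ normIdeal R X ↔ y ∈ normSpan R (X := X) :=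
  Iff.rfl

/-- Maschke: over a field of characteristic not dividing `|X|` a proper norm ideal is
annihilated on the right by a nonzero idempotent. -/
theorem exists_idem_of_NF [Finite X] (l : ℕ) [Fact l.Prime] (hdvd : ¬ l ∣ Nat.card X)
    (h : NF (ZMod l) X) :
    ∃ f : MonoidAlgebra (ZMod l) X, f ≠ 0 ∧ f * f = f ∧
      ∀ x ∈ normSpan (ZMod l) (X := X), x * f = 0 := by
  haveI : NeZero (Nat.card X : ZMod l) := ⟨by
    rw [Ne, ZMod.natCast_eq_zero_iff]
    exact hdvd⟩
  obtain ⟨Q, hQ⟩ := MonoidAlgebra.Submodule.exists_isCompl (normIdeal (ZMod l) X)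
  have h1 : (1 : MonoidAlgebra (ZMod l) X) ∈ normIdeal (ZMod l) X ⊔ Q := by
    rw [hQ.sup_eq_top]; exact Submodule.mem_top
  obtain ⟨j, hj, f, hf, hjf⟩ := Submodule.mem_sup.mp h1
  have hann : ∀ x ∈ normSpan (ZMod l) (X := X), x * f = 0 := by
    intro x hx
    have hxQ : x * f ∈ Q := Q.smul_mem x hf
    have hxJ : x * f ∈ normIdeal (ZMod l) X := by
      have : x * f = x - x * j := by
        have h2 : f = 1 - j := by rw [← hjf, add_sub_cancel_left]
        rw [h2, mul_sub, mul_one]
      rw [this, mem_normIdeal]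
      exact Submodule.sub_mem _ hx (mul_mem_left x hj)
    have := hQ.disjoint.le_bot (Submodule.mem_inf.mpr ⟨hxJ, hxQ⟩)
    simpa using this
  refine ⟨f, ?_, ?_, hann⟩
  · rintro rfl
    rw [add_zero] at hjf
    rw [hjf] at hj
    exact h hj
  · have : f * f = f - j * f := by
      have h2 : f = 1 - j := by rw [← hjf, add_sub_cancel_left]
      nth_rewrite 1 [h2]
      rw [sub_mul, one_mul]
    rw [this, hann j hj, sub_zero]

section Red

variable (X) (l k : ℕ) [Fact l.Prime] (hk : 0 < k)

/-- reduction `(ℤ/l^k)[X] → (ℤ/l)[X]` -/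
noncomputable def redHom : MonoidAlgebra (ZMod (l ^ k)) X →+* MonoidAlgebra (ZMod l) X :=
  MonoidAlgebra.mapRingHom X (ZMod.castHom (dvd_pow_self l hk.ne') (ZMod l))

theorem scalar_ker (a : ZMod (l ^ k))
    (ha : ZMod.castHom (dvd_pow_self l hk.ne') (ZMod l) a = 0) :
    a = (l : ZMod (l ^ k)) * ((a.val / l : ℕ) : ZMod (l ^ k)) := by
  haveI : NeZero (l ^ k) := ⟨pow_ne_zero _ (Fact.out : l.Prime).ne_zero⟩
  rw [ZMod.castHom_apply, ZMod.cast_eq_val, ZMod.natCast_eq_zero_iff] at ha
  obtain ⟨t, ht⟩ := ha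
  have h1 : a.val / l = t := by
    rw [ht, Nat.mul_div_cancel_left _ (Fact.out : l.Prime).pos]
  rw [h1]
  have h2 : a = ((a.val : ℕ) : ZMod (l ^ k)) := (ZMod.natCast_zmod_val a).symm
  rw [ht] at h2
  rw [h2]
  push_cast
  rfl

theorem natCast_pow_self_eq_zero : ((l ^ k : ℕ) : MonoidAlgebra (ZMod (l ^ k)) X) = 0 := by
  rw [MonoidAlgebra.natCast_def, ZMod.natCast_self, MonoidAlgebra.single_zero]

theorem redHom_ker {x : MonoidAlgebra (ZMod (l ^ k)) X} (hx : redHom X l k hk x = 0) :
    ∃ z : MonoidAlgebra (ZMod (l ^ k)) X, x = (l : MonoidAlgebra (ZMod (l ^ k)) X) * z := by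
  refine ⟨MonoidAlgebra.ofCoeff (x.coeff.mapRange (fun a => ((a.val / l : ℕ) : ZMod (l ^ k)))
    (by simp)), ?_⟩
  ext g
  have h1 : ZMod.castHom (dvd_pow_self l hk.ne') (ZMod l) (x.coeff g) = 0 := by
    have := congrArg (fun y => MonoidAlgebra.coeff y g) hx
    simpa [redHom, MonoidAlgebra.coeff_mapRingHom] using this
  have h2 := scalar_ker l k hk (x.coeff g) h1
  rw [MonoidAlgebra.natCast_def, MonoidAlgebra.coeff_single_one_mul]
  simpa using h2

theorem redHom_surjective : Function.Surjective (redHom X l k hk) := by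
  intro y
  induction y using MonoidAlgebra.induction_linear with
  | zero => exact ⟨0, map_zero _⟩
  | add x y hx hy =>
    obtain ⟨a, rfl⟩ := hx
    obtain ⟨b, rfl⟩ := hy
    exact ⟨a + b, map_add _ _ _⟩
  | single m r =>
    obtain ⟨r', rfl⟩ := ZMod.ringHom_surjective
      (ZMod.castHom (dvd_pow_self l hk.ne') (ZMod l)) r
    exact ⟨MonoidAlgebra.single m r', by rw [redHom, MonoidAlgebra.mapRingHom_single]⟩

theorem redHom_ker_nilpotent :
    ∀ x ∈ RingHom.ker (redHom X l k hk), IsNilpotent x := by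
  intro x hx
  obtain ⟨z, rfl⟩ := redHom_ker X l k hk ((RingHom.mem_ker).mp hx)
  refine ⟨k, ?_⟩
  rw [(Nat.cast_commute l z).mul_pow, ← Nat.cast_pow, natCast_pow_self_eq_zero, zero_mul]

end Red

/-- an idempotent of `(ℤ/l)[X]` annihilating the norm ideal lifts to an element of `(ℤ/l^k)[X]`
annihilating the norm ideal there. -/
theorem lift_annihilator [Finite X] (l k : ℕ) [Fact l.Prime] (hk : 0 < k)
    (hdvd : ¬ l ∣ Nat.card X) (f0 : MonoidAlgebra (ZMod l) X) (hf0 : f0 * f0 = f0)
    (hann : ∀ x ∈ normSpan (ZMod l) (X := X), x * f0 = 0) :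
    ∃ f : MonoidAlgebra (ZMod (l ^ k)) X, redHom X l k hk f = f0 ∧
      ∀ y ∈ normSpan (ZMod (l ^ k)) (X := X), y * f = 0 := by
  have hl : l.Prime := Fact.out
  obtain ⟨f, hfid, hfred⟩ := exists_isIdempotentElem_eq_of_ker_isNilpotent (redHom X l k hk)
    (redHom_ker_nilpotent X l k hk) f0 (RingHom.mem_range.mpr (redHom_surjective X l k hk f0)) hf0
  have hff : f * f = f := hfid
  refine ⟨f, hfred, ?_⟩
  -- the key vanishing
  have key : ∀ c : X, (orderOf c).Prime → ∀ a : MonoidAlgebra (ZMod (l ^ k)) X,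
      normElt (ZMod (l ^ k)) c * a * f = 0 := by
    intro c hc
    set N := normElt (ZMod (l ^ k)) c with hN
    set q := orderOf c with hq
    have hqdvd : q ∣ Nat.card X := orderOf_dvd_natCard c
    have hql : q ≠ l := by
      rintro rfl
      exact hdvd hqdvd
    have hcop : (q ^ k).Coprime (l ^ k) :=
      Nat.Coprime.pow k k ((Nat.coprime_primes hc hl).mpr hql)
    have hunit : IsUnit (((q ^ k : ℕ) : MonoidAlgebra (ZMod (l ^ k)) X)) := by
      have h1 : IsUnit (((q ^ k : ℕ) : ZMod (l ^ k))) := (ZMod.isUnit_iff_coprime _ _).mpr hcop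
      have h2 := h1.map (MonoidAlgebra.singleOneRingHom (R := ZMod (l ^ k)) (M := X))
      rwa [map_natCast] at h2
    have base : ∀ a : MonoidAlgebra (ZMod (l ^ k)) X,
        ∃ z, N * a * f = (l : MonoidAlgebra (ZMod (l ^ k)) X) * z := by
      intro a
      apply redHom_ker X l k hk
      rw [map_mul, map_mul, hfred, hN, redHom, mapRingHom_normElt]
      exact hann _ (normElt_mul_mem c hc _)
    have hNN : ∀ y : MonoidAlgebra (ZMod (l ^ k)) X,
        N * (N * y) = (q : MonoidAlgebra (ZMod (l ^ k)) X) * (N * y) := by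
      intro y
      rw [← mul_assoc, hN, normElt_mul_self, nsmul_eq_mul, mul_assoc]
    have step : ∀ (j : ℕ) (a : MonoidAlgebra (ZMod (l ^ k)) X),
        ∃ w, ((q ^ j : ℕ) : MonoidAlgebra (ZMod (l ^ k)) X) * (N * a * f) =
          ((l ^ j : ℕ) : MonoidAlgebra (ZMod (l ^ k)) X) * w := by
      intro j
      induction j with
      | zero => intro a; exact ⟨N * a * f, by simp⟩
      | succ j ih =>
        intro a
        obtain ⟨z, hz⟩ := base a
        obtain ⟨w, hw⟩ := ih z
        refine ⟨w, ?_⟩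
        have e1 : (q : MonoidAlgebra (ZMod (l ^ k)) X) * (N * a * f) =
            (l : MonoidAlgebra (ZMod (l ^ k)) X) * (N * z * f) := by
          have e2 : N * a * f = N * a * f * f := by rw [mul_assoc (N * a), hff]
          calc (q : MonoidAlgebra (ZMod (l ^ k)) X) * (N * a * f)
              = N * (N * (a * f)) := by rw [hNN, mul_assoc]
            _ = N * (N * a * f * f) := by rw [← mul_assoc N a f, ← e2]
            _ = N * ((l : MonoidAlgebra (ZMod (l ^ k)) X) * z * f) := by rw [hz]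
            _ = (l : MonoidAlgebra (ZMod (l ^ k)) X) * (N * z * f) := by
              rw [mul_assoc (l : MonoidAlgebra (ZMod (l ^ k)) X), ← mul_assoc N,
                ← (Nat.cast_commute l N).eq, mul_assoc, mul_assoc]
        calc ((q ^ (j + 1) : ℕ) : MonoidAlgebra (ZMod (l ^ k)) X) * (N * a * f)
            = ((q ^ j : ℕ) : MonoidAlgebra (ZMod (l ^ k)) X) *
                ((q : MonoidAlgebra (ZMod (l ^ k)) X) * (N * a * f)) := by
              rw [pow_succ, Nat.cast_mul, mul_assoc]
          _ = ((q ^ j : ℕ) : MonoidAlgebra (ZMod (l ^ k)) X) *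
                ((l : MonoidAlgebra (ZMod (l ^ k)) X) * (N * z * f)) := by rw [e1]
          _ = (l : MonoidAlgebra (ZMod (l ^ k)) X) *
                (((q ^ j : ℕ) : MonoidAlgebra (ZMod (l ^ k)) X) * (N * z * f)) := by
              rw [← mul_assoc ((q ^ j : ℕ) : MonoidAlgebra (ZMod (l ^ k)) X)
                (l : MonoidAlgebra (ZMod (l ^ k)) X) (N * z * f),
                (Nat.cast_commute (q ^ j) (l : MonoidAlgebra (ZMod (l ^ k)) X)).eq, mul_assoc]
          _ = (l : MonoidAlgebra (ZMod (l ^ k)) X) *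
                (((l ^ j : ℕ) : MonoidAlgebra (ZMod (l ^ k)) X) * w) := by rw [hw]
          _ = ((l ^ (j + 1) : ℕ) : MonoidAlgebra (ZMod (l ^ k)) X) * w := by
              rw [pow_succ', Nat.cast_mul, mul_assoc]
    intro a
    obtain ⟨w, hw⟩ := step k a
    rw [natCast_pow_self_eq_zero, zero_mul] at hw
    exact hunit.mul_right_eq_zero.mp hw
  intro y hy
  unfold normSpan at hy
  induction hy using Submodule.span_induction with
  | mem x hx =>
    obtain ⟨h, c, hc, rfl⟩ := hx
    have := key c hc 1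
    rw [mul_one] at this
    rw [mul_assoc, this, mul_zero]
  | zero => rw [zero_mul]
  | add x y _ _ hx hy => rw [add_mul, hx, hy, add_zero]
  | smul r x _ hx => rw [smul_mul_assoc, hx, smul_zero]

theorem isUnit_of_cast_ne_zero (l k : ℕ) [Fact l.Prime] (hk : 0 < k) (a : ZMod (l ^ k))
    (ha : ZMod.castHom (dvd_pow_self l hk.ne') (ZMod l) a ≠ 0) : IsUnit a := by
  haveI : NeZero (l ^ k) := ⟨pow_ne_zero _ (Fact.out : l.Prime).ne_zero⟩
  rw [ZMod.castHom_apply, ZMod.cast_eq_val, Ne, ZMod.natCast_eq_zero_iff] at ha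
  have hcop : (a.val).Coprime (l ^ k) :=
    Nat.Coprime.pow_right k ((Nat.Prime.coprime_iff_not_dvd (Fact.out : l.Prime)).mpr ha).symm
  have := (ZMod.isUnit_iff_coprime a.val (l ^ k)).mpr hcop
  rwa [ZMod.natCast_zmod_val] at this

/-- **Lifting**: if the norm ideal of `(ℤ/l)[X]` is proper for a prime `l` not dividing `|X|`,
then no nonzero integer lies in the norm ideal of `ℤ[X]`. -/
theorem NFZ_of_NF_zmod [Finite X] (l : ℕ) (hl : l.Prime) (hdvd : ¬ l ∣ Nat.card X)
    (h : NF (ZMod l) X) : NFZ X := by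
  haveI : Fact l.Prime := ⟨hl⟩
  obtain ⟨f0, hf0ne, hf0id, hann⟩ := exists_idem_of_NF l hdvd h
  intro m hm hmem
  set k := m.natAbs with hkdef
  have hkpos : 0 < k := Int.natAbs_pos.mpr hm
  have hndvd : ¬ ((l ^ k : ℕ) : ℤ) ∣ m := by
    intro hd
    have h1 : (l ^ k) ∣ m.natAbs := Int.natCast_dvd.mp hd
    have h2 : l ^ k ≤ k := Nat.le_of_dvd hkpos h1
    have h3 : k < l ^ k := Nat.lt_pow_self hl.one_lt
    omega
  obtain ⟨f, hfred, hfann⟩ := lift_annihilator l k hkpos hdvd f0 hf0id hann
  have h1 := hfann _ (map_mem_normSpan (Int.castRingHom (ZMod (l ^ k))) hmem)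
  rw [map_intCast] at h1
  apply hf0ne
  rw [← hfred]
  ext g
  have h2 : ((m : ZMod (l ^ k))) * f.coeff g = 0 := by
    have := congrArg (fun y => MonoidAlgebra.coeff y g) h1
    simpa [MonoidAlgebra.intCast_def, MonoidAlgebra.coeff_single_one_mul] using this
  simp only [redHom, MonoidAlgebra.coeff_mapRingHom]
  by_contra hne
  have hu := isUnit_of_cast_ne_zero l k hkpos (f.coeff g) hne
  have h3 : (m : ZMod (l ^ k)) = 0 := hu.mul_left_eq_zero.mp h2
  rw [ZMod.intCast_zmod_eq_zero_iff_dvd] at h3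
  exact hndvd h3

end Cfsg.Agent.Helper2.NormIdeal
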