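import Mathlib.GroupTheory.Sylow
import Mathlib.GroupTheory.Transfer
import Mathlib.GroupTheory.GroupAction.ConjAct
import Mathlib.GroupTheory.Nilpotent
import Mathlib.GroupTheory.Solvable

set_option autoImplicit false

namespace Cfsg.Agent.Helper2

open scoped commutatorElement IsMulCommutative

variable {G : Type*} [Group G] [Finite G] (A : Subgroup G) [hAn : A.Normal] [hAc : IsMulCommutative A]

/-- The norm map of an abelian normal subgroup `A`: `a ↦ ∏_{q ∈ G/A} q a q⁻¹`. -/
noncomputable def normMap : A →* A :=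
  letI : Fintype (G ⧸ A) := Fintype.ofFinite _
  ∏ q : G ⧸ A, (MulAut.conjNormal (q.out : G) : MulAut A).toMonoidHom

theorem normMap_apply [Fintype (G ⧸ A)] (a : A) :
    normMap A a = ∏ q : G ⧸ A, MulAut.conjNormal (q.out : G) a := by
  unfold normMap
  rw [MonoidHom.finsetProd_apply]
  convert rfl
  rfl

omit [Finite G] in
/-- Conjugation on `A` only depends on the coset modulo `A`. -/
theorem conjNormal_out_eq (g : G) (a : A) :
    MulAut.conjNormal ((g : G ⧸ A).out) a = MulAut.conjNormal g a := by
  obtain ⟨h, hh⟩ := QuotientGroup.mk_out_eq_mul A g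
  rw [hh, map_mul, MulAut.mul_apply]
  congr 1
  apply Subtype.ext
  rw [MulAut.conjNormal_apply]
  have := mul_comm' h a
  have h2 : (h : G) * a = a * h := congrArg Subtype.val this
  rw [h2, mul_inv_cancel_right]

theorem conjNormal_normMap (g : G) (a : A) : MulAut.conjNormal g (normMap A a) = normMap A a := by
  classical
  have : Fintype (G ⧸ A) := Fintype.ofFinite _
  rw [normMap_apply, map_prod]
  have h1 : ∀ q : G ⧸ A, MulAut.conjNormal g (MulAut.conjNormal (q.out : G) a)
      = MulAut.conjNormal ((g • q).out : G) a := by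
    intro q
    rw [← MulAut.mul_apply, ← map_mul, ← conjNormal_out_eq A (g * q.out) a]
    congr 3
    rw [← smul_eq_mul, ← MulAction.Quotient.smul_mk, QuotientGroup.out_eq']
  simp_rw [h1]
  exact Fintype.prod_equiv (MulAction.toPerm g) _ _ (fun q => rfl)

theorem normMap_conjNormal (g : G) (a : A) : normMap A (MulAut.conjNormal g a) = normMap A a := by
  classical
  have : Fintype (G ⧸ A) := Fintype.ofFinite _
  rw [normMap_apply, normMap_apply]
  have h1 : ∀ q : G ⧸ A, MulAut.conjNormal (q.out : G) (MulAut.conjNormal g a)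
      = MulAut.conjNormal ((q * (g : G ⧸ A)).out : G) a := by
    intro q
    rw [← MulAut.mul_apply, ← map_mul, ← conjNormal_out_eq A (q.out * g) a]
    congr 3
    rw [QuotientGroup.mk_mul, QuotientGroup.out_eq']
  simp_rw [h1]
  exact Fintype.prod_equiv (Equiv.mulRight (g : G ⧸ A)) _ _ (fun q => rfl)

theorem normMap_mem_center (a : A) : (normMap A a : G) ∈ Subgroup.center G := by
  rw [Subgroup.mem_center_iff]
  intro g
  have h := congrArg Subtype.val (conjNormal_normMap A g a)
  rw [MulAut.conjNormal_apply] at h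
  calc g * (normMap A a : G) = g * (normMap A a : G) * g⁻¹ * g := by group
    _ = (normMap A a : G) * g := by rw [h]

theorem normMap_of_mem_center (z : A) (hz : (z : G) ∈ Subgroup.center G) :
    normMap A z = z ^ A.index := by
  classical
  have : Fintype (G ⧸ A) := Fintype.ofFinite _
  rw [normMap_apply]
  have h1 : ∀ q : G ⧸ A, MulAut.conjNormal (q.out : G) z = z := by
    intro q
    apply Subtype.ext
    rw [MulAut.conjNormal_apply]
    rw [Subgroup.mem_center_iff] at hz
    rw [hz (q.out), mul_inv_cancel_right]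
  simp_rw [h1]
  rw [Finset.prod_const, Finset.card_univ, ← Nat.card_eq_fintype_card, ← Subgroup.index_eq_card]

/-- `a ^ n` and `normMap a` differ by an element of `[A, G]`. -/
theorem pow_index_mul_inv_normMap_mem (a : A) :
    ((a ^ A.index * (normMap A a)⁻¹ : A) : G) ∈ ⁅A, (⊤ : Subgroup G)⁆ := by
  classical
  have : Fintype (G ⧸ A) := Fintype.ofFinite _
  have h1 : a ^ A.index * (normMap A a)⁻¹
      = ∏ q : G ⧸ A, (a * (MulAut.conjNormal (q.out : G) a)⁻¹) := by
    rw [Finset.prod_mul_distrib, Finset.prod_const, Finset.card_univ, ← Nat.card_eq_fintype_card,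
      ← Subgroup.index_eq_card, Finset.prod_inv_distrib, normMap_apply]
  rw [h1]
  have h2 : (∏ q : G ⧸ A, (a * (MulAut.conjNormal (q.out : G) a)⁻¹))
      ∈ (⁅A, (⊤ : Subgroup G)⁆).subgroupOf A := by
    apply Subgroup.prod_mem
    intro q _
    rw [Subgroup.mem_subgroupOf]
    simp only [Subgroup.coe_mul, Subgroup.coe_inv, MulAut.conjNormal_apply]
    have : (a : G) * ((q.out : G) * a * (q.out : G)⁻¹)⁻¹ = ⁅(a : G), (q.out : G)⁆ := by
      rw [commutatorElement_def]; group
    rw [this]
    exact Subgroup.commutator_mem_commutator a.2 (Subgroup.mem_top _)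
  exact h2

/-- The commutator `[a, g]` lies in the kernel of the norm map. -/
theorem normMap_commutator (a : A) (g : G) :
    normMap A (a * (MulAut.conjNormal g a)⁻¹) = 1 := by
  rw [map_mul, map_inv, normMap_conjNormal, mul_inv_cancel]

end Cfsg.Agent.Helper2
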