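import Mathlib
import Cfsg.Agent.Helper2.NormIdeal

/-!
# The norm ideal and injective group homomorphisms
-/

set_option autoImplicit false
set_option linter.style.haveILetI false
set_option linter.unusedSectionVars false
set_option linter.unusedVariables false
set_option maxHeartbeats 400000

namespace Cfsg.Agent.Helper2.NormIdeal

open MonoidAlgebra

variable {R : Type*} [CommRing R] {X Y : Type*} [Group X] [Group Y]

theorem mapDomain_of (f : X →* Y) (g : X) :
    MonoidAlgebra.mapDomainAlgHom R R f (MonoidAlgebra.of R X g) = MonoidAlgebra.of R Y (f g) := by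
  rw [MonoidAlgebra.of_apply, MonoidAlgebra.of_apply]
  show MonoidAlgebra.mapDomain f (MonoidAlgebra.single g 1) = _
  rw [MonoidAlgebra.mapDomain_single]

theorem mapDomain_normElt (f : X →* Y) (hf : Function.Injective f) (c : X) :
    MonoidAlgebra.mapDomainAlgHom R R f (normElt R c) = normElt R (f c) := by
  unfold normElt
  rw [map_sum, orderOf_injective f hf c]
  refine Finset.sum_congr rfl fun i _ => ?_
  rw [mapDomain_of, map_pow]

/-- properness of the norm ideal passes to subgroups -/
theorem NF_of_injective (f : X →* Y) (hf : Function.Injective f) (h : NF R Y) : NF R X := by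
  intro h1
  apply h
  have key : ∀ y ∈ normSpan R (X := X),
      MonoidAlgebra.mapDomainAlgHom R R f y ∈ normSpan R (X := Y) := by
    intro y hy
    unfold normSpan at hy
    induction hy using Submodule.span_induction with
    | mem x hx =>
      obtain ⟨g, c, hc, rfl⟩ := hx
      rw [map_mul, mapDomain_of, mapDomain_normElt f hf]
      exact gen_mem _ _ (by rwa [orderOf_injective f hf c])
    | zero => rw [map_zero]; exact Submodule.zero_mem _
    | add x y _ _ hx hy => rw [map_add]; exact Submodule.add_mem _ hx hy
    | smul r x _ hx => rw [map_smul]; exact Submodule.smul_mem _ _ hx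
  have := key 1 h1
  rwa [map_one] at this

end Cfsg.Agent.Helper2.NormIdeal
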