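import Mathlib
import Cfsg.Agent.Helper99.O9.Defs
import Cfsg.Agent.Helper44.StdNondeg
import Cfsg.Agent.Helper44.OrthRealizeC
import Cfsg.Agent.Helper68.O9NEG8M

set_option autoImplicit false
set_option linter.unusedSectionVars false
set_option linter.unusedVariables false

/-!
# S2517 piece (PLANE) for helper99: a plane `X` with `-1 ∈ Ω(X)`
-/

namespace Cfsg.Agent.Helper2.O9

open Matrix QuadraticMap Cfsg.Agent.Helper44 Cfsg.Agent.Helper44.QType Cfsg.Agent.Helper99.O9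

universe u

variable {F : Type u} [Field F] [Fintype F]

/-- (PLANE) a plane `X` with `-1 ∈ Ω(X)`: the hyperbolic plane if `q ≡ 1 (4)`, the anisotropic plane if
`q ≡ 3 (4)` -/
theorem exists_negOm_plane (hF : Odd (Fintype.card F)) :
    ∃ (ε : ℤ) (X : OPair F), (ε = 1 ∨ ε = -1) ∧ X.ND ∧ X.Typ 1 ε ∧ X.NegOm := by
  have hq : Fintype.card F % 4 = 1 ∨ Fintype.card F % 4 = 3 := by
    obtain ⟨k, hk⟩ := hF
    omega
  rcases hq with hq | hq
  · -- the hyperbolic plane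
    let X : OPair F := { ι := Fin 1 ⊕ Fin 1, Q := plusForm 1 F, g := 1 }
    refine ⟨1, X, Or.inl rfl, ?_, ?_, ?_⟩
    · rw [OPair.nd_def]
      exact (nondeg_iff (plusForm 1 F)).mp (nondegenerate_plusForm 1)
    · rw [OPair.typ_def]
      refine ⟨?_, ?_⟩
      · rw [OPair.dim_def]
        show Fintype.card (Fin 1 ⊕ Fin 1) = 2 * 1
        simp
      · show HasType (⇑(plusForm 1 F)) 1 1
        rw [plusForm_coe]
        exact hasType_plus 1
    · rw [OPair.negOm_def]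
      show ∃ z : ↥(Cfsg.isometryGroup F ⇑(plusForm 1 F)), z ∈ Cfsg.Omega F ⇑(plusForm 1 F) ∧
        ((z : GL (Fin 1 ⊕ Fin 1) F) : Matrix (Fin 1 ⊕ Fin 1) (Fin 1 ⊕ Fin 1) F) = -1
      rw [plusForm_coe]
      apply (exists_neg_one_mem_Omega_plus_iff (F := F) rfl hF 1).mpr
      rw [pow_one]
      exact hq
  · -- the anisotropic plane
    obtain ⟨a, b, hab⟩ := Cfsg.Agent.Helper68.O9.NEG8M_exists_aniso hF
    have h2 : (2 : F) ≠ 0 := two_ne_zero_of_odd_card rfl hF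
    have hD : ¬ IsSquare (a ^ 2 - 4 * b) := not_isSquare_disc_of_anisotropic h2 a b hab
    have hD0 : a ^ 2 - 4 * b ≠ 0 := by
      intro h0
      exact hD ⟨0, by rw [h0, mul_zero]⟩
    let X : OPair F := { ι := (Fin 0 ⊕ Fin 0) ⊕ Fin 2, Q := minusForm 0 F a b, g := 1 }
    refine ⟨-1, X, Or.inr rfl, ?_, ?_, ?_⟩
    · rw [OPair.nd_def]
      exact (nondeg_iff (minusForm 0 F a b)).mp (nondegenerate_minusForm 0 a b hD0)
    · rw [OPair.typ_def]
      refine ⟨?_, ?_⟩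
      · rw [OPair.dim_def]
        show Fintype.card ((Fin 0 ⊕ Fin 0) ⊕ Fin 2) = 2 * 1
        simp
      · show HasType (⇑(minusForm 0 F a b)) 1 (-1)
        rw [minusForm_coe]
        exact hasType_minus 0 a b hab
    · rw [OPair.negOm_def]
      show ∃ z : ↥(Cfsg.isometryGroup F ⇑(minusForm 0 F a b)),
        z ∈ Cfsg.Omega F ⇑(minusForm 0 F a b) ∧
        ((z : GL ((Fin 0 ⊕ Fin 0) ⊕ Fin 2) F) :
          Matrix ((Fin 0 ⊕ Fin 0) ⊕ Fin 2) ((Fin 0 ⊕ Fin 0) ⊕ Fin 2) F) = -1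
      rw [minusForm_coe]
      apply (exists_neg_one_mem_Omega_minus_iff (F := F) rfl hF 1 le_rfl a b hab).mpr
      rw [pow_one]
      exact hq

end Cfsg.Agent.Helper2.O9
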