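import Mathlib
import Cfsg.Agent.Helper99.O9.Defs

set_option autoImplicit false
set_option linter.unusedSectionVars false
set_option linter.unusedVariables false

/-!
# S2517 piece (SIMG) for helper99: `-1 ∈ Ω` is invariant under isometry of pairs
-/

namespace Cfsg.Agent.Helper2.O9

open Matrix QuadraticMap Cfsg.Agent.Helper44 Cfsg.Agent.Helper44.QType Cfsg.Agent.Helper99.O9

universe u

variable {F : Type u} [Field F] [Fintype F]

/-- (SIMG) `-1 ∈ Ω` is invariant -/
theorem sim_negOm {P P' : OPair F} (h : P.Sim P') (hP : P.NegOm) : P'.NegOm := by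
  rw [OPair.sim_def] at h
  obtain ⟨C, hC, hg⟩ := h
  rw [OPair.negOm_def] at hP ⊢
  obtain ⟨z, hz, hz1⟩ := hP
  refine ⟨isoTransport ⇑P.Q ⇑P'.Q C hC z, ?_, ?_⟩
  · exact map_mem_commutator (isoTransport ⇑P.Q ⇑P'.Q C hC) hz
  · apply Matrix.mulVec_injective
    funext v
    have h1 := isoTransport_mulVec ⇑P.Q ⇑P'.Q C hC z v
    have h2 : ((z : GL P.ι F) : Matrix P.ι P.ι F) = -1 := hz1
    rw [h2, Matrix.neg_mulVec, Matrix.one_mulVec, map_neg, LinearEquiv.apply_symm_apply] at h1
    rw [Matrix.neg_mulVec, Matrix.one_mulVec]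
    exact h1

end Cfsg.Agent.Helper2.O9
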