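import Mathlib
import Cfsg.Agent.Helper99.O9.Defs
import Cfsg.Agent.Helper70.O9SIMD

set_option autoImplicit false
set_option linter.unusedSectionVars false
set_option linter.unusedVariables false

/-!
# S2517 piece (SIMY) for helper99: isometric pairs have the same type
-/

namespace Cfsg.Agent.Helper2.O9

open Matrix QuadraticMap Cfsg.Agent.Helper44 Cfsg.Agent.Helper44.QType Cfsg.Agent.Helper99.O9

universe u

variable {F : Type u} [Field F] [Fintype F]

/-- (SIMY) route: `HasType.congr` -/
theorem sim_typ {P P' : OPair F} (h : P.Sim P') {m : ℕ} {ε : ℤ} (hP : P.Typ m ε) : P'.Typ m ε := by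
  have hd := Cfsg.Agent.Helper70.O9.sim_dim h
  rw [OPair.sim_def] at h
  obtain ⟨C, hC, hg⟩ := h
  rw [OPair.typ_def] at hP ⊢
  refine ⟨hd ▸ hP.1, ?_⟩
  exact hP.2.congr C.toEquiv hC

end Cfsg.Agent.Helper2.O9
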