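import Mathlib
import Cfsg.Prelude.Def_Local
import Cfsg.Agent.Lib.Cores
import Cfsg.Agent.Helper11.PSolvable
import Cfsg.Agent.Helper31.PSolvExt
import Cfsg.Agent.S4176

set_option autoImplicit false
set_option linter.style.haveILetI false

/-!
Extensions of `p`-solvable groups (helper2): an extension of a `p`-solvable normal subgroup by a `p`-solvable group is
`p`-solvable; a group with an injective homomorphism into a `p`-solvable group is `p`-solvable.
-/

namespace Cfsg.Agent.Helper2.PSolvExt

open Cfsg Cfsg.Agent.Lib

universe u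

/-- A group embedded in a `p`-solvable group is `p`-solvable. -/
theorem isPSolvable_of_injective {A B : Type*} [Group A] [Group B] {p : ℕ} [Fact p.Prime] (f : A →* B)
    (hf : Function.Injective f) (h : IsPSolvable p B) : IsPSolvable p A :=
  Cfsg.Agent.Helper11.isPSolvable_of_mulEquiv (MonoidHom.ofInjective hf).symm
    (Cfsg.Agent.S4176.isPSolvable_subgroup f.range h)

/-- A nontrivial `p`-solvable group has a nontrivial `p`-core or a nontrivial `p'`-core. -/
theorem core_ne_bot_of_isPSolvable {N : Type*} [Group N] [Finite N] [Nontrivial N] {p : ℕ} [Fact p.Prime]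
    (h : IsPSolvable p N) : Cfsg.pCore p N ≠ ⊥ ∨ Cfsg.pPrimeCore p N ≠ ⊥ := by
  obtain ⟨n, H, h0, hlast, hmono, hnorm, hstep⟩ := h
  have key : ∀ i : Fin (n + 1), H i ≠ ⊥ → (Cfsg.pCore p N ≠ ⊥ ∨ Cfsg.pPrimeCore p N ≠ ⊥) := by
    intro i
    induction i using Fin.induction with
    | zero => intro h; exact absurd h0 h
    | succ i ih =>
      intro hi
      by_cases hc : H i.castSucc = ⊥
      · have hK : (H i.succ).Normal := hnorm _
        rcases hstep i with ⟨m, hm⟩ | hcop
        · left
          rw [hc, Subgroup.relIndex_bot_left] at hm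
          have hp : IsPGroup p (H i.succ) := IsPGroup.of_card hm
          intro hbot
          exact hi (le_bot_iff.mp (hbot ▸ le_pCore hK hp))
        · right
          rw [hc, Subgroup.relIndex_bot_left] at hcop
          intro hbot
          exact hi (le_bot_iff.mp (hbot ▸ le_pPrimeCore hK hcop))
      · exact ih hc
  apply key (Fin.last n)
  rw [hlast]
  exact top_ne_bot

/-- **Extension lemma**: an extension of a `p`-solvable normal subgroup by a `p`-solvable group is `p`-solvable. -/
theorem isPSolvable_of_normal_aux {p : ℕ} [Fact p.Prime] :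
    ∀ (n : ℕ) (G : Type u) [Group G] [Finite G], Nat.card G ≤ n → ∀ (N : Subgroup G) [N.Normal],
      IsPSolvable p N → IsPSolvable p (G ⧸ N) → IsPSolvable p G := by
  intro n
  induction n with
  | zero =>
    intro G _ _ hc
    exact absurd hc (by have := Nat.card_pos (α := G); omega)
  | succ n ih =>
    intro G _ _ hc N _ hN hQ
    by_cases hbot : N = ⊥
    · apply Cfsg.Agent.Helper31.isPSolvable_of_quotient_of_card N _ hQ
      left
      exact ⟨0, by rw [hbot, Subgroup.card_bot, pow_zero]⟩
    · haveI : Nontrivial N := (Subgroup.nontrivial_iff_ne_bot N).mpr hbot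
      -- a nontrivial characteristic subgroup of `N` that is a `p`-group or a `p'`-group
      have hex : ∃ M₀ : Subgroup N, M₀.Characteristic ∧ M₀ ≠ ⊥ ∧
          ((∃ m : ℕ, Nat.card M₀ = p ^ m) ∨ (Nat.card M₀).Coprime p) := by
        rcases core_ne_bot_of_isPSolvable hN with h | h
        · exact ⟨_, pCore_characteristic p, h, Or.inl (IsPGroup.iff_card.mp (isPGroup_pCore p))⟩
        · exact ⟨_, pPrimeCore_characteristic p, h, Or.inr (card_pPrimeCore_coprime p)⟩
      obtain ⟨M₀, hchar, hne, hcardM₀⟩ := hex
      haveI := hchar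
      set M : Subgroup G := M₀.map N.subtype with hM
      haveI hMn : M.Normal := ConjAct.normal_of_characteristic_of_normal
      have hMN : M ≤ N := by
        rintro _ ⟨x, -, rfl⟩
        exact x.2
      have hcardM : Nat.card M = Nat.card M₀ :=
        Subgroup.card_map_of_injective N.subtype_injective
      have hMne : M ≠ ⊥ := by
        intro h
        apply hne
        rw [hM, Subgroup.map_eq_bot_iff_of_injective _ N.subtype_injective] at h
        exact h
      have hlt : Nat.card (G ⧸ M) < Nat.card G := by
        have h1 := Subgroup.card_eq_card_quotient_mul_card_subgroup M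
        have h2 : 1 < Nat.card M := M.one_lt_card_iff_ne_bot.mpr hMne
        have h3 : 0 < Nat.card (G ⧸ M) := Nat.card_pos
        rw [h1]
        nlinarith
      have hN'n : (N.map (QuotientGroup.mk' M)).Normal :=
        Subgroup.Normal.map inferInstance _ (QuotientGroup.mk'_surjective M)
      have hN' : IsPSolvable p ↥(N.map (QuotientGroup.mk' M)) :=
        Cfsg.Agent.Helper11.isPSolvable_of_surjective ((QuotientGroup.mk' M).subgroupMap N)
          ((QuotientGroup.mk' M).subgroupMap_surjective N) hN
      have hQ' : IsPSolvable p ((G ⧸ M) ⧸ N.map (QuotientGroup.mk' M)) :=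
        Cfsg.Agent.Helper11.isPSolvable_of_mulEquiv (QuotientGroup.quotientQuotientEquivQuotient M N hMN).symm hQ
      have hGM : IsPSolvable p (G ⧸ M) :=
        ih (G ⧸ M) (by omega) (N.map (QuotientGroup.mk' M)) hN' hQ'
      apply Cfsg.Agent.Helper31.isPSolvable_of_quotient_of_card M _ hGM
      rw [hcardM]
      exact hcardM₀

/-- **Extension lemma**: an extension of a `p`-solvable normal subgroup by a `p`-solvable group is `p`-solvable. -/
theorem isPSolvable_of_normal {G : Type u} [Group G] [Finite G] {p : ℕ} [Fact p.Prime] (N : Subgroup G) [N.Normal]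
    (hN : IsPSolvable p N) (hQ : IsPSolvable p (G ⧸ N)) : IsPSolvable p G :=
  isPSolvable_of_normal_aux (Nat.card G) G le_rfl N hN hQ

/-- A normal `p`-solvable subgroup whose index is a power of `p` or prime to `p`. -/
theorem isPSolvable_of_normal_of_index {G : Type u} [Group G] [Finite G] {p : ℕ} [Fact p.Prime] (N : Subgroup G)
    [N.Normal] (hN : IsPSolvable p N) (hidx : (∃ m : ℕ, N.index = p ^ m) ∨ N.index.Coprime p) :
    IsPSolvable p G := by
  apply isPSolvable_of_normal N hN
  apply Cfsg.Agent.Helper31.isPSolvable_of_card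
  rw [← Subgroup.index_eq_card]
  exact hidx

end Cfsg.Agent.Helper2.PSolvExt
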