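import Cfsg.Agent.Helper71.PsuA.Defs
import Cfsg.Agent.Helper96.StemBound

/-!
# S2089 block A, `p'`-part (architect helper71): piece (IDX) `noStemP_of_good`
-/

set_option autoImplicit false

namespace Cfsg.Agent.Helper2.PsuA

open scoped commutatorElement
open Matrix Cfsg.Agent.Helper43.PsuM Cfsg.Agent.Helper37.SU3Inv Cfsg.Agent.Helper71.PsuA

universe u

/-- an element of a subgroup of prime order `r` killed by an exponent prime to `r` is trivial -/
theorem IDX_eq_one {Γ : Type*} [Group Γ] (A : Subgroup Γ) (r : ℕ) (hr : r.Prime)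
    (hA : Nat.card A = r) (n : ℕ) (hn : ¬ r ∣ n) (z : Γ) (hz : z ∈ A) (hzn : z ^ n = 1) : z = 1 := by
  haveI : Finite A := Nat.finite_of_card_ne_zero (by rw [hA]; exact hr.ne_zero)
  have h1 : orderOf (⟨z, hz⟩ : A) ∣ r := by rw [← hA]; exact orderOf_dvd_natCard _
  have h2 : z ^ r = 1 := by
    have h3 : (⟨z, hz⟩ : A) ^ r = 1 := orderOf_dvd_iff_pow_eq_one.1 h1
    have h4 := congrArg Subtype.val h3
    rwa [Subgroup.coe_pow] at h4
  have h5 : z ^ (n.gcd r) = 1 := pow_gcd_eq_one.2 ⟨hzn, h2⟩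
  have h6 : n.gcd r = 1 := by
    have : Nat.Coprime r n := (Nat.Prime.coprime_iff_not_dvd hr).2 hn
    exact Nat.Coprime.symm this
  rwa [h6, pow_one] at h5

/-- (IDX) -/
theorem noStemP_of_good {G : Type u} [Group G] [Finite G] (r : ℕ) (hr : r.Prime)
    (P : Subgroup G) (hidx : ¬ r ∣ P.index)
    (h : ∀ (Γ : Type u) [Group Γ] [Finite Γ] (τ : Γ →* G), Cfsg.IsStemExtension τ →
      Nat.card τ.ker = r → Good τ P) : NoStemP G r := by
  intro Γ _ _ τ hτ hcard
  have hgood : τ.ker ⊓ ⁅P.comap τ, P.comap τ⁆ = ⊥ := h Γ τ hτ hcard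
  have hbot : τ.ker = ⊥ := by
    rw [Subgroup.eq_bot_iff_forall]
    intro z hz
    have h1 : z ^ P.index ∈ ⁅P.comap τ, P.comap τ⁆ :=
      Cfsg.Agent.Helper96.StemBound.ker_pow_index_mem τ hτ P hz
    have h2 : z ^ P.index ∈ τ.ker ⊓ ⁅P.comap τ, P.comap τ⁆ := ⟨Subgroup.pow_mem _ hz _, h1⟩
    rw [hgood, Subgroup.mem_bot] at h2
    exact IDX_eq_one τ.ker r hr hcard P.index hidx z hz h2
  rw [hbot, Subgroup.card_bot] at hcard
  exact hr.one_lt.ne hcard

end Cfsg.Agent.Helper2.PsuA
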