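import Cfsg.Agent.Helper71.PsuA.Defs
import Cfsg.Agent.Helper96.StemBound

/-!
# S2089 block A, `p'`-part (architect helper71): piece (REL) `good_of_relIndex`
-/

set_option autoImplicit false

namespace Cfsg.Agent.Helper2.PsuA

open scoped commutatorElement
open Matrix Cfsg.Agent.Helper43.PsuM Cfsg.Agent.Helper37.SU3Inv Cfsg.Agent.Helper71.PsuA

universe u

/-- an element of a subgroup of prime order `r` killed by an exponent prime to `r` is trivial -/
theorem REL_eq_one {Γ : Type*} [Group Γ] (A : Subgroup Γ) (r : ℕ) (hr : r.Prime)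
    (hA : Nat.card A = r) (n : ℕ) (hn : ¬ r ∣ n) (z : Γ) (hz : z ∈ A) (hzn : z ^ n = 1) : z = 1 := by
  haveI : Finite A := Nat.finite_of_card_ne_zero (by rw [hA]; exact hr.ne_zero)
  have h1 : orderOf (⟨z, hz⟩ : A) ∣ r := by rw [← hA]; exact orderOf_dvd_natCard _
  have h2 : z ^ r = 1 := by
    have h3 : (⟨z, hz⟩ : A) ^ r = 1 := orderOf_dvd_iff_pow_eq_one.1 h1
    have h4 := congrArg Subtype.val h3
    rwa [Subgroup.coe_pow] at h4
  have h5 : z ^ (n.gcd r) = 1 := pow_gcd_eq_one.2 ⟨hzn, h2⟩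
  have h6 : n.gcd r = 1 := by
    have : Nat.Coprime r n := (Nat.Prime.coprime_iff_not_dvd hr).2 hn
    exact Nat.Coprime.symm this
  rwa [h6, pow_one] at h5

section central

variable {Γ G : Type*} [Group Γ] [Group G] [Finite Γ] (τ : Γ →* G) (hτ : Function.Surjective τ)
  (hc : τ.ker ≤ Subgroup.center Γ)

include hτ hc

/-- (REL) transfer inside `L̂`. -/
theorem good_of_relIndex (r : ℕ) (hr : r.Prime) (hA : Nat.card τ.ker = r) (L P : Subgroup G)
    (hPL : P ≤ L) (hidx : ¬ r ∣ P.relIndex L) (hP : Good τ P) : Good τ L := by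
  unfold Good at hP ⊢
  rw [Subgroup.eq_bot_iff_forall]
  rintro z ⟨hzA, hzL⟩
  have hPL' : P.comap τ ≤ L.comap τ := Subgroup.comap_mono hPL
  have hzLc : z ∈ L.comap τ := by
    rw [Subgroup.mem_comap, MonoidHom.mem_ker.1 hzA]
    exact L.one_mem
  -- work inside `E = ↥(L.comap τ)`
  have hzc : (⟨z, hzLc⟩ : L.comap τ) ∈ Subgroup.center (L.comap τ) := by
    rw [Subgroup.mem_center_iff]
    intro g
    apply Subtype.ext
    rw [Subgroup.coe_mul, Subgroup.coe_mul]
    exact Subgroup.mem_center_iff.1 (hc hzA) g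
  have hzcomm : (⟨z, hzLc⟩ : L.comap τ) ∈ commutator (L.comap τ) := by
    rw [← Subgroup.map_subtype_commutator] at hzL
    obtain ⟨w, hw, hwz⟩ := hzL
    have : w = ⟨z, hzLc⟩ := Subtype.ext hwz
    rw [← this]
    exact hw
  have h1 := Cfsg.Agent.Helper96.StemBound.pow_index_mem_commutator
    ((P.comap τ).subgroupOf (L.comap τ)) ⟨z, hzLc⟩ hzc hzcomm
  -- the index
  have hidx' : ((P.comap τ).subgroupOf (L.comap τ)).index = P.relIndex L := by
    show (P.comap τ).relIndex (L.comap τ) = P.relIndex L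
    rw [Subgroup.relIndex_comap, Subgroup.map_comap_eq_self_of_surjective hτ]
  rw [hidx'] at h1
  -- push forward to `Γ`
  have h2 : z ^ P.relIndex L ∈ ⁅P.comap τ, P.comap τ⁆ := by
    have h3 : (L.comap τ).subtype ((⟨z, hzLc⟩ : L.comap τ) ^ P.relIndex L) ∈
        (⁅(P.comap τ).subgroupOf (L.comap τ), (P.comap τ).subgroupOf (L.comap τ)⁆).map
          (L.comap τ).subtype := Subgroup.mem_map_of_mem _ h1
    rw [Subgroup.map_commutator, Subgroup.subgroupOf_map_subtype, inf_eq_left.2 hPL'] at h3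
    exact h3
  have h4 : z ^ P.relIndex L ∈ τ.ker ⊓ ⁅P.comap τ, P.comap τ⁆ := ⟨Subgroup.pow_mem _ hzA _, h2⟩
  rw [hP, Subgroup.mem_bot] at h4
  exact REL_eq_one τ.ker r hr hA _ hidx z hzA h4

end central

end Cfsg.Agent.Helper2.PsuA
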