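import Cfsg.Agent.Helper78.PsuII.Stmts

/-!
# S2089 block II, part A (architect helper78): piece (AI) `hIso`: `τ : H̃ → H` is bijective
-/

set_option autoImplicit false
set_option linter.unusedSectionVars false
set_option linter.unusedVariables false

namespace Cfsg.Agent.Helper2.PsuII

open Cfsg.Agent.Helper43.PsuM Cfsg.Agent.Helper78.PsuII

universe u

/-- elements of the join of two elementwise commuting subgroups are products -/
theorem AI_mem_sup {Γ : Type u} [Group Γ] (A B : Subgroup Γ)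
    (hAB : ∀ a ∈ A, ∀ b ∈ B, a * b = b * a) (g : Γ) (hg : g ∈ A ⊔ B) :
    ∃ a ∈ A, ∃ b ∈ B, g = a * b := by
  rw [Subgroup.sup_eq_closure] at hg
  induction hg using Subgroup.closure_induction with
  | mem x hx =>
    rcases hx with hx | hx
    · exact ⟨x, hx, 1, B.one_mem, (mul_one x).symm⟩
    · exact ⟨1, A.one_mem, x, hx, (one_mul x).symm⟩
  | one => exact ⟨1, A.one_mem, 1, B.one_mem, (mul_one 1).symm⟩
  | mul x y _ _ hx hy =>
    obtain ⟨a, ha, b, hb, rfl⟩ := hx
    obtain ⟨a', ha', b', hb', rfl⟩ := hy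
    refine ⟨a * a', A.mul_mem ha ha', b * b', B.mul_mem hb hb', ?_⟩
    have h1 : b * a' = a' * b := (hAB a' ha' b hb).symm
    calc a * b * (a' * b') = a * (b * a') * b' := by group
      _ = a * (a' * b) * b' := by rw [h1]
      _ = a * a' * (b * b') := by group
  | inv x _ hx =>
    obtain ⟨a, ha, b, hb, rfl⟩ := hx
    refine ⟨a⁻¹, A.inv_mem ha, b⁻¹, B.inv_mem hb, ?_⟩
    have h1 : a * b = b * a := hAB a ha b hb
    rw [h1, mul_inv_rev]

section lift

variable {Γ G : Type u} [Group Γ] [Group G] [Finite Γ] {r : ℕ} (τ : Γ →* G)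
  (hτ : Function.Surjective τ) (hc : τ.ker ≤ Subgroup.center Γ) (p : ℕ) [Fact p.Prime]
  (hcop : (Nat.card τ.ker).Coprime p) (D : RData G r) (hD : D.IsSplit p) (hG : GFacts D p)

include hτ hc hcop hD hG

/-- injectivity on the partial suprema -/
theorem AI_inj_partial (hLF : LFacts τ p D) (hHF : HFacts τ p D) :
    ∀ n : ℕ, ∀ g ∈ (⨆ j : {j : Fin r // j.val < n}, Hit τ p D j.1), τ g = 1 → g = 1 := by
  -- the partial suprema lie in `H̃` and map into the partial suprema of the `H_j`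
  have hle : ∀ n : ℕ, (⨆ j : {j : Fin r // j.val < n}, Hit τ p D j.1) ≤ Ht τ p D := by
    intro n
    exact iSup_le fun j => le_iSup (fun i => Hit τ p D i) j.1
  have hmap : ∀ n : ℕ, (⨆ j : {j : Fin r // j.val < n}, Hit τ p D j.1) ≤
      (⨆ j : {j : Fin r // j.val < n}, D.Hi j.1).comap τ := by
    intro n
    refine iSup_le fun j => ?_
    intro g hg
    rw [Subgroup.mem_comap]
    have h1 : τ g ∈ D.Hi j.1 := ⟨hg.2, hLF.map_le j.1 g hg.1⟩
    exact Subgroup.mem_iSup_of_mem j h1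
  intro n
  induction n with
  | zero =>
    intro g hg _
    haveI : IsEmpty {j : Fin r // j.val < 0} := ⟨fun j => Nat.not_lt_zero _ j.2⟩
    rw [iSup_of_empty] at hg
    exact (Subgroup.mem_bot).1 hg
  | succ n ih =>
    intro g hg hτg
    by_cases hn : n < r
    · have hstep : (⨆ j : {j : Fin r // j.val < n + 1}, Hit τ p D j.1) ≤
          (⨆ j : {j : Fin r // j.val < n}, Hit τ p D j.1) ⊔ Hit τ p D ⟨n, hn⟩ := by
        refine iSup_le fun j => ?_
        rcases Nat.lt_succ_iff_lt_or_eq.1 j.2 with h | h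
        · exact le_sup_of_le_left (le_iSup (fun i : {j : Fin r // j.val < n} => Hit τ p D i.1) ⟨j.1, h⟩)
        · have hj : j.1 = ⟨n, hn⟩ := Fin.ext h
          rw [hj]
          exact le_sup_right
      have hcomm : ∀ a ∈ (⨆ j : {j : Fin r // j.val < n}, Hit τ p D j.1),
          ∀ b ∈ Hit τ p D ⟨n, hn⟩, a * b = b * a := by
        intro a ha b hb
        exact hHF.comm a (hle n ha) b (le_iSup (fun i => Hit τ p D i) ⟨n, hn⟩ hb)
      obtain ⟨a, ha, b, hb, rfl⟩ := AI_mem_sup _ _ hcomm g (hstep hg)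
      rw [map_mul] at hτg
      have hτb : τ b = (τ a)⁻¹ := (inv_eq_of_mul_eq_one_right hτg).symm
      have h1 : τ b ∈ D.Hi ⟨n, hn⟩ := ⟨hb.2, hLF.map_le _ b hb.1⟩
      have h2 : τ b ∈ (⨆ j : {j : Fin r // j < (⟨n, hn⟩ : Fin r)}, D.Hi j.1) := by
        rw [hτb]
        exact Subgroup.inv_mem _ (hmap n ha)
      have h3 : τ b = 1 := hD.H_indep ⟨n, hn⟩ (τ b) h1 h2
      have hb1 : b = 1 := hLF.inj _ b hb.1 h3
      have ha1 : a = 1 := by
        apply ih a ha
        rw [h3, mul_one] at hτg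
        exact hτg
      rw [ha1, hb1, mul_one]
    · have hstep : (⨆ j : {j : Fin r // j.val < n + 1}, Hit τ p D j.1) ≤
          (⨆ j : {j : Fin r // j.val < n}, Hit τ p D j.1) := by
        refine iSup_le fun j => ?_
        have h : j.1.val < n := lt_of_lt_of_le j.1.2 (not_lt.1 hn)
        exact le_iSup (fun i : {j : Fin r // j.val < n} => Hit τ p D i.1) ⟨j.1, h⟩
      exact ih g (hstep hg) hτg

/-- (AI) `τ : H̃ → H` is bijective. -/
theorem hIso (hLF : LFacts τ p D) (hHF : HFacts τ p D) : HIso τ p D := by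
  constructor
  · intro g hg hτg
    have hle : Ht τ p D ≤ (⨆ j : {j : Fin r // j.val < r}, Hit τ p D j.1) :=
      iSup_le fun i => le_iSup (fun j : {j : Fin r // j.val < r} => Hit τ p D j.1) ⟨i, i.2⟩
    exact AI_inj_partial τ hτ hc p hcop D hD hG hLF hHF r g (hle hg) hτg
  · intro h hh
    have h1 : h ∈ ⨆ i, D.Hi i := hD.H_gen hh
    refine Subgroup.iSup_induction (fun i => D.Hi i) (C := fun x => ∃ g ∈ Ht τ p D, τ g = x) h1 ?_ ?_ ?_
    · intro i x hx
      obtain ⟨g, hg, rfl⟩ := hLF.surj i x hx.2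
      have hgH : g ∈ Hit τ p D i := ⟨hg, hx.1⟩
      exact ⟨g, le_iSup (fun i => Hit τ p D i) i hgH, rfl⟩
    · exact ⟨1, Subgroup.one_mem _, map_one τ⟩
    · rintro x y ⟨g1, hg1, rfl⟩ ⟨g2, hg2, rfl⟩
      exact ⟨g1 * g2, Subgroup.mul_mem _ hg1 hg2, map_mul τ g1 g2⟩

end lift

end Cfsg.Agent.Helper2.PsuII
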