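import Mathlib
import Cfsg.Agent.Helper2.QuatAut
import Cfsg.Agent.Helper2.SL23Rec
import Cfsg.Agent.Helper20.QD

set_option autoImplicit false

namespace Cfsg.Agent.Helper2

open Subgroup

/-- Quasi-dihedral version of `quaternion_aut_embed`. -/
theorem qd_aut_embed {G : Type*} [Group G] [Finite G] {S : Type*} [Group S] {k : ℕ} {x y : S}
    (hqd : Helper20.QDData S k x y) (Q : Subgroup G) (hQ2 : IsPGroup 2 Q)
    (ι : Q →* S) (hι : Function.Injective ι) (g z : G) (hzQ : z ∈ Q)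
    (hιz : ι ⟨z, hzQ⟩ = x ^ (4 * 2 ^ k : ℤ)) (hgz : g * z * g⁻¹ = z)
    (hgN : g ∈ normalizer (Q : Set G)) (hodd : Odd (orderOf g))
    (hgC : g ∉ centralizer (Q : Set G)) :
    z ≠ 1 ∧ z * z = 1 ∧ ∃ H : Subgroup G, H ≤ Q ∧ ∃ u v : G, u ∈ H ∧ v ∈ Q ∧ v ∉ H ∧
      (∀ h ∈ H, h = 1 ∨ h = u ∨ h = z ∨ h = u * z) ∧
      (∀ w ∈ Q, w ∉ H → v⁻¹ * w ∈ H) ∧
      u * u = z ∧ v * v = z ∧ u * v * u⁻¹ * v⁻¹ = z ∧ g * u * g⁻¹ = v ∧
      g * v * g⁻¹ = u * v := by
  have hP : (0 : ℤ) < 2 ^ k := by positivity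
  obtain ⟨P, hPdef⟩ : ∃ P : ℤ, P = 2 ^ k := ⟨_, rfl⟩
  rw [← hPdef] at hP hιz
  have hx1 : ∀ i : ℤ, x ^ i = 1 ↔ (8 * P : ℤ) ∣ i := by
    intro i; rw [hPdef]; exact hqd.xpow_eq_one_iff i
  have hxe : ∀ i j : ℤ, x ^ i = x ^ j ↔ (8 * P : ℤ) ∣ i - j := by
    intro i j; rw [hPdef]; exact hqd.xpow_eq_iff i j
  obtain ⟨H0, hH0⟩ : ∃ H0 : Subgroup Q, H0 = (zpowers x).comap ι := ⟨_, rfl⟩
  obtain ⟨H, hH⟩ : ∃ H : Subgroup G, H = H0.map Q.subtype := ⟨_, rfl⟩
  have hHQ : H ≤ Q := by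
    rw [hH]; rintro _ ⟨w, _, rfl⟩; exact w.2
  have hmem0 : ∀ w : Q, w ∈ H0 ↔ ∃ i : ℤ, ι w = x ^ i := by
    intro w
    rw [hH0, mem_comap, mem_zpowers_iff]
    exact ⟨fun ⟨i, hi⟩ => ⟨i, hi.symm⟩, fun ⟨i, hi⟩ => ⟨i, hi.symm⟩⟩
  have hmem : ∀ w (hw : w ∈ Q), w ∈ H ↔ ∃ i : ℤ, ι ⟨w, hw⟩ = x ^ i := by
    intro w hw
    rw [hH, Subgroup.mem_map]
    constructor
    · rintro ⟨w', hw', rfl⟩
      exact (hmem0 w').mp hw'
    · intro h
      exact ⟨⟨w, hw⟩, (hmem0 _).mpr h, rfl⟩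
  have hcyc0 : IsCyclic H0 := by
    let f : H0 →* zpowers x :=
      (ι.comp H0.subtype).codRestrict _ (fun w => by
        obtain ⟨i, hi⟩ := (hmem0 w.1).mp w.2
        change ι w.1 ∈ _
        rw [hi]
        exact zpow_mem_zpowers x i)
    have hf : Function.Injective f := by
      intro a b hab
      have := congrArg Subtype.val hab
      change ι a.1 = ι b.1 at this
      exact Subtype.ext (hι this)
    exact isCyclic_of_injective f hf
  have hcyc : IsCyclic H := by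
    have e : H0 ≃* H := hH ▸ H0.equivMapOfInjective Q.subtype Q.subtype_injective
    exact isCyclic_of_surjective e e.surjective
  have hidx : H.relIndex Q ∣ 2 := by
    have h1 : H.subgroupOf Q = H0 := by
      rw [hH]
      exact Subgroup.comap_map_eq_self_of_injective Q.subtype_injective H0
    rw [Subgroup.relIndex, h1, hH0, Subgroup.index_comap]
    have : (zpowers x).Normal := Subgroup.normal_of_index_eq_two hqd.index_zpowers
    have := Subgroup.relIndex_dvd_index_of_normal (zpowers x) ι.range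
    rwa [hqd.index_zpowers] at this
  -- elements outside `H`
  have hout : ∀ s (hs : s ∈ Q), s ∉ H → ∃ i : ℤ, ι ⟨s, hs⟩ = x ^ i * y := by
    intro s hs hsH
    rcases hqd.cases (ι ⟨s, hs⟩) with ⟨i, hi⟩ | ⟨i, hi⟩
    · exact absurd ((hmem s hs).mpr ⟨i, hi⟩) hsH
    · exact ⟨i, hi⟩
  have hzH : z ∈ H := (hmem z hzQ).mpr ⟨_, hιz⟩
  have hz1 : z ≠ 1 := by
    intro h1
    have : (⟨z, hzQ⟩ : Q) = 1 := Subtype.ext h1
    rw [this, map_one] at hιz
    have := (hx1 _).mp hιz.symm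
    obtain ⟨c, hc⟩ := this
    have : P * (8 * c - 4) = 0 := by linarith
    rcases mul_eq_zero.mp this with h | h
    · omega
    · omega
  have hz2 : z * z = 1 := by
    have : ι (⟨z, hzQ⟩ * ⟨z, hzQ⟩) = ι 1 := by
      rw [map_mul, hιz, map_one, ← zpow_add, hx1]
      exact ⟨1, by ring⟩
    exact congrArg Subtype.val (hι this)
  have hinvH : ∀ w ∈ H, w * w = 1 → w = 1 ∨ w = z := by
    intro w hw hww
    have hwQ := hHQ hw
    obtain ⟨i, hi⟩ := (hmem w hwQ).mp hw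
    have h1 : ι (⟨w, hwQ⟩ * ⟨w, hwQ⟩) = 1 := by
      have : (⟨w, hwQ⟩ * ⟨w, hwQ⟩ : Q) = 1 := Subtype.ext hww
      rw [this, map_one]
    rw [map_mul, hi, ← zpow_add, hx1] at h1
    obtain ⟨c, hc⟩ := h1
    have hi' : i = 4 * P * c := by linarith
    rcases Int.even_or_odd' c with ⟨d, hd | hd⟩
    · left
      have : ι ⟨w, hwQ⟩ = ι 1 := by
        rw [hi, map_one, hx1]
        exact ⟨d, by rw [hi', hd]; ring⟩
      exact congrArg Subtype.val (hι this)
    · right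
      have : ι ⟨w, hwQ⟩ = ι ⟨z, hzQ⟩ := by
        rw [hi, hιz, hxe]
        exact ⟨d, by rw [hi', hd]; ring⟩
      exact congrArg Subtype.val (hι this)
  have hsq : ∀ s ∈ Q, s ∉ H → s * s = 1 ∨ s * s = z := by
    intro s hs hsH
    obtain ⟨i, hi⟩ := hout s hs hsH
    have h1 : ι (⟨s, hs⟩ * ⟨s, hs⟩) = x ^ (4 * P * i) := by
      rw [map_mul, hi, hPdef]; exact hqd.xpow_y_sq i
    rcases Int.even_or_odd' i with ⟨d, hd | hd⟩
    · left
      have : ι (⟨s, hs⟩ * ⟨s, hs⟩) = ι 1 := by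
        rw [h1, map_one, hx1]
        exact ⟨d, by rw [hd]; ring⟩
      exact congrArg Subtype.val (hι this)
    · right
      have : ι (⟨s, hs⟩ * ⟨s, hs⟩) = ι ⟨z, hzQ⟩ := by
        rw [h1, hιz, hxe]
        exact ⟨d, by rw [hd]; ring⟩
      exact congrArg Subtype.val (hι this)
  have hconj : ∀ s ∈ Q, s ∉ H → ∀ t ∈ H, t * t = z → s * t * s⁻¹ = t⁻¹ := by
    intro s hs hsH t ht htt
    have htQ := hHQ ht
    obtain ⟨i, hi⟩ := hout s hs hsH
    obtain ⟨j, hj⟩ := (hmem t htQ).mp ht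
    have h1 : ι (⟨t, htQ⟩ * ⟨t, htQ⟩) = ι ⟨z, hzQ⟩ := by
      have : (⟨t, htQ⟩ * ⟨t, htQ⟩ : Q) = ⟨z, hzQ⟩ := Subtype.ext htt
      rw [this]
    rw [map_mul, hj, hιz, ← zpow_add, hxe] at h1
    obtain ⟨c, hc⟩ := h1
    have hj' : j = 2 * P + 4 * P * c := by linarith
    have h2 : ι (⟨s, hs⟩ * ⟨t, htQ⟩) = ι (⟨t, htQ⟩⁻¹ * ⟨s, hs⟩) := by
      rw [map_mul, map_mul, map_inv, hi, hj, ← zpow_neg, Helper20.QDData.xpow_mul_xpow_y,
        hqd.xpow_mul_y_mul_xpow, mul_left_inj, ← hPdef, hxe]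
      exact ⟨P * (1 + 2 * c), by rw [hj']; ring⟩
    have h3 := congrArg Subtype.val (hι h2)
    have h4 : s * t = t⁻¹ * s := h3
    rw [h4]; group
  obtain ⟨u, v, h1, h2, h3, h4, h5, h6, h7, h8, h9, h10⟩ :=
    qd_aut_core Q H g z hHQ hQ2 hcyc hidx hzH hz1 hz2 hgz hinvH hsq hconj hgN hodd hgC
  exact ⟨hz1, hz2, H, hHQ, u, v, h1, h2, h3, h4, h5, h6, h7, h8, h9, h10⟩

/-- In the `SL(2,3)` configuration, `g³` commutes with `x` and `y`. -/
theorem cube_commute_of_relations {G : Type*} [Group G] (x y z g : G) (hz2 : z * z = 1)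
    (hxx : x * x = z) (hyy : y * y = z) (hcomm : x * y * x⁻¹ * y⁻¹ = z)
    (hgx : g * x * g⁻¹ = y) (hgy : g * y * g⁻¹ = x * y) :
    Commute (g ^ 3) x ∧ Commute (g ^ 3) y := by
  have hzx : z * x = x * z := by rw [← hxx, mul_assoc]
  have hconj_mul : ∀ a b : G, g * (a * b) * g⁻¹ = (g * a * g⁻¹) * (g * b * g⁻¹) := by
    intro a b; group
  have hxy : x * y = z * (y * x) := by rw [← hcomm]; group
  have hyx : y * x = z * (x * y) := by rw [hxy, ← mul_assoc, hz2, one_mul]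
  have hyxy : y * (x * y) = x := by
    calc y * (x * y) = (y * x) * y := by rw [mul_assoc]
      _ = z * (x * y) * y := by rw [hyx]
      _ = z * x * (y * y) := by simp only [mul_assoc]
      _ = x * (z * z) := by rw [hyy, hzx, mul_assoc]
      _ = x := by rw [hz2, mul_one]
  have hg3 : ∀ w : G, g ^ 3 * w * (g ^ 3)⁻¹ = g * (g * (g * w * g⁻¹) * g⁻¹) * g⁻¹ := by
    intro w
    rw [show (3 : ℕ) = 1 + 1 + 1 from rfl, pow_add, pow_add, pow_one, mul_inv_rev, mul_inv_rev]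
    simp only [mul_assoc]
  constructor
  · apply commute_of_conj_eq
    rw [hg3, hgx, hgy, hconj_mul x y, hgx, hgy, hyxy]
  · apply commute_of_conj_eq
    rw [hg3, hgy, hconj_mul x y, hgx, hgy, hyxy, hgx]

/-- The subgroup generated by `x, y, g` in the `SL(2,3)` configuration is `SL(2,3)`. -/
theorem nonempty_mulEquiv_sl23_closure {G : Type*} [Group G] (x y z g : G) (hz1 : z ≠ 1)
    (hz2 : z * z = 1) (hxx : x * x = z) (hyy : y * y = z) (hcomm : x * y * x⁻¹ * y⁻¹ = z)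
    (hgx : g * x * g⁻¹ = y) (hgy : g * y * g⁻¹ = x * y) (hg3 : g ^ 3 = 1) :
    Nonempty (↥(closure ({x, y, g} : Set G)) ≃* Matrix.SpecialLinearGroup (Fin 2) (ZMod 3)) := by
  obtain ⟨H, hH⟩ : ∃ H : Subgroup G, H = closure ({x, y, g} : Set G) := ⟨_, rfl⟩
  rw [← hH]
  have hxH : x ∈ H := hH ▸ subset_closure (by simp)
  have hyH : y ∈ H := hH ▸ subset_closure (by simp)
  have hgH : g ∈ H := hH ▸ subset_closure (by simp)
  have hzH : z ∈ H := hxx ▸ H.mul_mem hxH hxH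
  have hcommH : (⟨x, hxH⟩ : H) * ⟨y, hyH⟩ * (⟨x, hxH⟩ : H)⁻¹ * (⟨y, hyH⟩ : H)⁻¹ = ⟨z, hzH⟩ :=
    Subtype.ext hcomm
  have hg1 : g ≠ 1 := by
    intro h
    apply hz1
    rw [h] at hgx
    have h2 : y = x := by rw [← hgx]; group
    rw [← hcomm, h2]; group
  apply nonempty_mulEquiv_sl23 (⟨x, hxH⟩ : H) ⟨y, hyH⟩ ⟨g, hgH⟩
  · rw [hcommH]
    exact Subtype.ext (by rw [Subgroup.coe_pow, pow_two]; exact hxx)
  · rw [hcommH]
    exact Subtype.ext (by rw [Subgroup.coe_pow, pow_two]; exact hyy)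
  · rw [hcommH]
    exact Subtype.ext (by rw [Subgroup.coe_pow, pow_two]; exact hz2)
  · rw [hcommH]
    intro h
    exact hz1 (congrArg Subtype.val h)
  · exact Subtype.ext hgx
  · exact Subtype.ext hgy
  · exact Subtype.ext (by rw [Subgroup.coe_pow]; exact hg3)
  · intro h
    exact hg1 (congrArg Subtype.val h)
  · subst hH
    rw [eq_top_iff, ← Subgroup.closure_closure_coe_preimage]
    apply Subgroup.closure_mono
    intro w hw
    simp only [Set.mem_preimage, Set.mem_insert_iff, Set.mem_singleton_iff] at hw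
    simp only [Set.mem_insert_iff, Set.mem_singleton_iff]
    rcases hw with h | h | h
    · left; exact Subtype.ext h
    · right; left; exact Subtype.ext h
    · right; right; exact Subtype.ext h

/-- Counting a group by its conjugation action on a pair of elements. -/
theorem card_le_of_conj_pairs {G : Type*} [Group G] [Finite G] (x y : G) (A C : Set G)
    (hA : ∀ h : G, h * x * h⁻¹ ∈ A ∧ h * y * h⁻¹ ∈ A)
    (hC : ∀ w : G, w * x = x * w → w * y = y * w → w ∈ C) :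
    Nat.card G ≤ A.ncard * A.ncard * C.ncard := by
  have h1 := MulAction.index_stabilizer (ConjAct G) ((x, y) : G × G)
  have h2 := Subgroup.index_mul_card (MulAction.stabilizer (ConjAct G) ((x, y) : G × G))
  have h3 : Nat.card (ConjAct G) = Nat.card G := Nat.card_congr ConjAct.ofConjAct.toEquiv
  rw [h1, h3] at h2
  rw [← h2]
  apply Nat.mul_le_mul
  · rw [← Set.ncard_prod]
    apply Set.ncard_le_ncard _ (Set.toFinite _)
    rintro _ ⟨c, rfl⟩
    change c • ((x, y) : G × G) ∈ A ×ˢ A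
    rw [Prod.smul_mk, Set.mem_prod]
    simp only [ConjAct.smul_def]
    exact hA (ConjAct.ofConjAct c)
  · rw [← Nat.card_coe_set_eq C]
    have hmemC : ∀ s : MulAction.stabilizer (ConjAct G) ((x, y) : G × G),
        ConjAct.ofConjAct s.1 ∈ C := by
      intro s
      have hs := s.2
      rw [MulAction.mem_stabilizer_iff, Prod.smul_mk, Prod.mk.injEq] at hs
      simp only [ConjAct.smul_def] at hs
      exact hC _ (mul_inv_eq_iff_eq_mul.mp hs.1) (mul_inv_eq_iff_eq_mul.mp hs.2)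
    apply Nat.card_le_card_of_injective (fun s => (⟨ConjAct.ofConjAct s.1, hmemC s⟩ : C))
    intro s t hst
    have := congrArg Subtype.val hst
    simp only at this
    exact Subtype.ext (ConjAct.ofConjAct.injective this)

/-- A finite group which is not a `2`-group has a nontrivial element of odd order. -/
theorem exists_odd_order_ne_one {G : Type*} [Group G] [Finite G] (h : ¬ IsPGroup 2 G) :
    ∃ g : G, Odd (orderOf g) ∧ g ≠ 1 := by
  by_contra hall
  push Not at hall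
  apply h
  intro g
  obtain ⟨a, m, hm, ho⟩ := Nat.exists_eq_two_pow_mul_odd (orderOf_pos g).ne'
  refine ⟨a, ?_⟩
  apply hall
  have h1 : (g ^ 2 ^ a) ^ m = 1 := by rw [← pow_mul, ← ho, pow_orderOf_eq_one]
  have h2 : orderOf (g ^ 2 ^ a) ∣ m := orderOf_dvd_of_pow_eq_one h1
  exact hm.of_dvd_nat h2

theorem ncard_insert_le_succ {α : Type*} {s : Set α} {n : ℕ} (h : s.ncard ≤ n) (a : α) :
    (insert a s).ncard ≤ n + 1 :=
  (Set.ncard_insert_le a s).trans (Nat.succ_le_succ h)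

end Cfsg.Agent.Helper2
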