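import Mathlib
import Cfsg.Agent.Helper97.QuadLin
import Cfsg.Agent.Helper97.QuadStable
import Cfsg.Agent.S3740

set_option autoImplicit false

/-!
# Quadratic pairs with a non-centralized normal `p'`-subgroup give `SL(2,3)` (KS 9.1)
-/

namespace Cfsg.Agent.Helper2

open scoped commutatorElement

/-- a section from a surjective hom out of a subgroup -/
theorem exists_section_of_surjective {G : Type*} [Group G] (S : Subgroup G) {L : Type*} [Group L]
    (Φ : S →* L) (hΦ : Function.Surjective Φ) :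
    ∃ (K : Subgroup G) (_ : (K.subgroupOf S).Normal), Nonempty ((S ⧸ K.subgroupOf S) ≃* L) := by
  have hker : (Φ.ker.map S.subtype).subgroupOf S = Φ.ker := by
    ext x
    rw [Subgroup.mem_subgroupOf]
    constructor
    · rintro ⟨y, hy, hyx⟩
      have : y = x := Subtype.ext hyx
      rw [← this]; exact hy
    · intro hx
      exact ⟨x, hx, rfl⟩
  have hn : ((Φ.ker.map S.subtype).subgroupOf S).Normal := by rw [hker]; infer_instance
  exact ⟨Φ.ker.map S.subtype, hn, ⟨(QuotientGroup.quotientMulEquivOfEq hker).trans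
    (QuotientGroup.quotientKerEquivOfSurjective Φ hΦ)⟩⟩

variable {G : Type*} [Group G] [Finite G] {p : ℕ} [Fact p.Prime]

/-- **Core.** `a` quadratic on `V`, `g` normalizing `V` and not commuting with `a`, with
`⟨a, a^g⟩` faithful on `V`, and `c = g a g⁻¹ a⁻¹` lying in a `p'`-subgroup `Q` normalized
by `⟨a, a^g⟩`: then `p = 3` and `⟨a, a^g⟩` maps onto `SL(2,3)`. -/
theorem sl23_of_quadratic_conj (hp : p ≠ 2) (V : Subgroup G) (hVc : IsMulCommutative V)
    (hVp : ∀ v ∈ V, v ^ p = 1) (a g : G)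
    (hH1V : Subgroup.closure ({a, g * a * g⁻¹} : Set G) ≤ Subgroup.normalizer (V : Set G))
    (hgV : g ∈ Subgroup.normalizer (V : Set G))
    (hf : Subgroup.closure ({a, g * a * g⁻¹} : Set G) ⊓ Subgroup.centralizer (V : Set G) = ⊥)
    (ha : ⁅⁅V, Subgroup.zpowers a⁆, Subgroup.zpowers a⁆ = ⊥)
    (Q : Subgroup G) (hQn : Subgroup.closure ({a, g * a * g⁻¹} : Set G) ≤
      Subgroup.normalizer (Q : Set G))
    (hQ : (Nat.card Q).Coprime p) (hcQ : g * a * g⁻¹ * a⁻¹ ∈ Q) (hc1 : g * a * g⁻¹ * a⁻¹ ≠ 1) :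
    p = 3 ∧ ∃ Φ : ↥(Subgroup.closure ({a, g * a * g⁻¹} : Set G)) →*
      Matrix.SpecialLinearGroup (Fin 2) (ZMod 3), Function.Surjective Φ := by
  have hpp : p.Prime := Fact.out
  set a' : G := g * a * g⁻¹ with ha'
  set c : G := a' * a⁻¹ with hc
  set H₁ : Subgroup G := Subgroup.closure ({a, a'} : Set G) with hH₁
  have haH : a ∈ H₁ := Subgroup.subset_closure (by simp)
  have ha'H : a' ∈ H₁ := Subgroup.subset_closure (by simp)
  have hcH : c ∈ H₁ := H₁.mul_mem ha'H (H₁.inv_mem haH)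
  have hqa' := Cfsg.Agent.Helper97.QuadStable.quadratic_conj V a g hgV ha
  -- `H₁` is not a `p`-group
  have hnp : ¬ IsPGroup p H₁ := by
    intro hP
    obtain ⟨k, hk⟩ := hP ⟨c, hcH⟩
    have hk' : c ^ (p ^ k) = 1 := by
      have := congrArg Subtype.val hk
      simpa using this
    have h1 : orderOf c ∣ p ^ k := orderOf_dvd_of_pow_eq_one hk'
    have h2 : orderOf c ∣ Nat.card Q := by
      have := orderOf_dvd_natCard (⟨c, hcQ⟩ : Q)
      rwa [Subgroup.orderOf_mk] at this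
    have h3 : Nat.Coprime (p ^ k) (Nat.card Q) := (Nat.Coprime.pow_left k hQ.symm)
    have h4 : orderOf c = 1 := Nat.eq_one_of_dvd_coprimes h3 h1 h2
    exact hc1 (orderOf_eq_one_iff.mp h4)
  obtain ⟨K, iF, iFt, iC, φ, x, y, hxa, hya, hgen, hφnp, hxp, hyp⟩ :=
    Cfsg.Agent.Helper97.QuadLin.exists_hom_SL2_of_subgroups V H₁ hVc hVp hH1V hf a a' rfl ha hqa'
      hnp
  -- the image of `Q ∩ H₁`
  set Q₁ : Subgroup H₁ := Q.subgroupOf H₁ with hQ₁
  have hQ₁n : Q₁.Normal := by
    refine ⟨fun q hq h => ?_⟩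
    rw [hQ₁, Subgroup.mem_subgroupOf] at hq ⊢
    have := (Subgroup.mem_normalizer_iff.mp (hQn h.2) (q : G)).mp hq
    simpa using this
  set R : Subgroup (Matrix.SpecialLinearGroup (Fin 2) K) := Q₁.map φ with hR
  have hRcard : (Nat.card R).Coprime p := by
    have h1 : Nat.card R ∣ Nat.card Q₁ := Subgroup.card_map_dvd Q₁ φ
    have h2 : Nat.card Q₁ ∣ Nat.card Q := by
      have : Nat.card Q₁ = Nat.card ↥(Q₁.map H₁.subtype) :=
        (Subgroup.card_map_of_injective (Subgroup.subtype_injective _)).symm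
      rw [this]
      exact Subgroup.card_dvd_of_le (by
        rintro _ ⟨w, hw, rfl⟩
        exact Subgroup.mem_subgroupOf.mp hw)
    exact Nat.Coprime.coprime_dvd_left (h1.trans h2) hQ
  set α := φ x with hα
  have hαp : α ^ p = 1 := by rw [hα, ← map_pow, hxp, map_one]
  have hαP : IsPGroup p ↥(Subgroup.zpowers α) := by
    intro w
    obtain ⟨k, hk⟩ := Subgroup.mem_zpowers_iff.mp w.2
    refine ⟨1, ?_⟩
    apply Subtype.ext
    rw [pow_one, Subgroup.coe_pow, ← hk, ← zpow_natCast, ← zpow_mul, mul_comm, zpow_mul,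
      zpow_natCast, hαp, one_zpow]
    rfl
  have hαR : α ∈ Subgroup.normalizer (R : Set (Matrix.SpecialLinearGroup (Fin 2) K)) := by
    rw [Subgroup.mem_normalizer_iff]
    intro h
    constructor
    · rintro ⟨q, hq, rfl⟩
      exact ⟨x * q * x⁻¹, hQ₁n.conj_mem q hq x, by simp [hα]⟩
    · intro hh
      obtain ⟨q, hq, hqe⟩ := hh
      refine ⟨x⁻¹ * q * x, ?_, ?_⟩
      · have := hQ₁n.conj_mem q hq x⁻¹
        simpa using this
      · rw [map_mul, map_mul, hqe, map_inv, ← hα]; group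
  -- `y = c' * x` with `c' ∈ Q₁`
  set c' : H₁ := ⟨c, hcH⟩ with hc'
  have hc'Q : c' ∈ Q₁ := Subgroup.mem_subgroupOf.mpr hcQ
  have hyx : y = c' * x := by
    apply Subtype.ext
    rw [Subgroup.coe_mul, hya, hxa]
    show a' = c * a
    rw [hc, inv_mul_cancel_right]
  have hnt : ⁅R, Subgroup.zpowers α⁆ ≠ ⊥ := by
    intro hbot
    apply hφnp
    -- `α` commutes with `ρ = φ c'`
    have hρR : φ c' ∈ R := ⟨c', hc'Q, rfl⟩
    have hcomm : Commute (φ c') α := by
      have h1 : ⁅φ c', α⁆ ∈ ⁅R, Subgroup.zpowers α⁆ :=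
        Subgroup.commutator_mem_commutator hρR (Subgroup.mem_zpowers α)
      rw [hbot, Subgroup.mem_bot] at h1
      exact commutatorElement_eq_one_iff_commute.mp h1
    have hρp : (φ c') ^ p = 1 := by
      have h1 : (φ y) ^ p = 1 := by rw [← map_pow, hyp, map_one]
      rw [hyx, map_mul, hcomm.mul_pow, hαp, mul_one] at h1
      exact h1
    have hρ1 : φ c' = 1 := by
      have h1 : orderOf (φ c') ∣ p := orderOf_dvd_of_pow_eq_one hρp
      have h2 : orderOf (φ c') ∣ Nat.card R := by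
        have := orderOf_dvd_natCard (⟨φ c', hρR⟩ : R)
        rwa [Subgroup.orderOf_mk] at this
      have h4 : orderOf (φ c') = 1 := Nat.eq_one_of_dvd_coprimes hRcard.symm h1 h2
      exact orderOf_eq_one_iff.mp h4
    have hφy : φ y = α := by rw [hyx, map_mul, hρ1, one_mul]
    have hrange : φ.range = Subgroup.zpowers α := by
      rw [MonoidHom.range_eq_map, ← hgen, MonoidHom.map_closure, Set.image_pair, hφy, ← hα,
        Set.pair_eq_singleton, Subgroup.zpowers_eq_closure]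
    rw [hrange]
    exact hαP
  obtain ⟨hp3, -, ⟨e⟩⟩ := Cfsg.Agent.S3740.result K hp α hαP R hRcard hαR hnt
  refine ⟨hp3, ?_⟩
  -- `R ⊔ ⟨α⟩` is the whole image
  have hrange : φ.range ≤ R ⊔ Subgroup.zpowers α := by
    rw [MonoidHom.range_eq_map, ← hgen, MonoidHom.map_closure, Subgroup.closure_le]
    rintro _ ⟨w, hw, rfl⟩
    rcases hw with rfl | hw
    · exact (le_sup_right : Subgroup.zpowers α ≤ _) (Subgroup.mem_zpowers α)
    · rw [Set.mem_singleton_iff] at hw
      subst hw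
      rw [hyx, map_mul]
      exact Subgroup.mul_mem _ ((le_sup_left : R ≤ _) ⟨c', hc'Q, rfl⟩)
        ((le_sup_right : Subgroup.zpowers α ≤ _) (Subgroup.mem_zpowers α))
  have hrange' : R ⊔ Subgroup.zpowers α ≤ φ.range := by
    refine sup_le ?_ ?_
    · rintro _ ⟨q, _, rfl⟩
      exact ⟨q, rfl⟩
    · rw [Subgroup.zpowers_le]
      exact ⟨x, rfl⟩
  let ψ : H₁ →* ↥(R ⊔ Subgroup.zpowers α) :=
    φ.codRestrict _ (fun h => hrange ⟨h, rfl⟩)
  have hψ : Function.Surjective ψ := by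
    rintro ⟨w, hw⟩
    obtain ⟨h, rfl⟩ := hrange' hw
    exact ⟨h, rfl⟩
  exact ⟨e.toMonoidHom.comp ψ, e.surjective.comp hψ⟩

end Cfsg.Agent.Helper2
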