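import Mathlib
import Cfsg.Agent.Helper2.QuadSL23
import Cfsg.Agent.Helper62.SL2Comm
import Cfsg.Agent.Helper63.PGroup

set_option autoImplicit false

/-!
# `p`-cores of subgroups of `SL₂` generated by two elements of order `p`
-/

namespace Cfsg.Agent.Helper2

/-- a section from a subgroup of the image of a hom out of a subgroup -/
theorem exists_section_of_le_range {G : Type*} [Group G] (H₁ : Subgroup G) {M : Type*} [Group M]
    (φ : H₁ →* M) (Y : Subgroup M) (hY : Y ≤ φ.range) {L : Type*} [Group L] (e : Y ≃* L) :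
    ∃ (K N : Subgroup G) (_ : (N.subgroupOf K).Normal), K ≤ H₁ ∧
      Nonempty ((K ⧸ N.subgroupOf K) ≃* L) := by
  set K : Subgroup G := (Y.comap φ).map H₁.subtype with hK
  let E : ↥(Y.comap φ) ≃* ↥K := Subgroup.equivMapOfInjective _ _ H₁.subtype_injective
  let Φ : K →* L := e.toMonoidHom.comp ((φ.subgroupComap Y).comp E.symm.toMonoidHom)
  have hsc : Function.Surjective (φ.subgroupComap Y) := by
    rintro ⟨y, hy⟩
    obtain ⟨h, rfl⟩ := hY hy
    exact ⟨⟨h, hy⟩, rfl⟩
  have hΦ : Function.Surjective Φ := e.surjective.comp (hsc.comp E.symm.surjective)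
  obtain ⟨N, hn, hiso⟩ := exists_section_of_surjective K Φ hΦ
  exact ⟨K, N, hn, Subgroup.map_subtype_le _, hiso⟩

/-- A finite group generated by two elements of order dividing `p`, in which commuting with a
fixed nontrivial `p`-element is a transitive relation, is a `p`-group as soon as it has a
nontrivial normal `p`-subgroup. -/
theorem isPGroup_of_commTrans {X : Type*} [Group X] [Finite X] {p : ℕ} [Fact p.Prime]
    (hCT : ∀ u s t : X, u ≠ 1 → (∃ k : ℕ, u ^ (p ^ k) = 1) → Commute s u → Commute t u →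
      Commute s t)
    (α β : X) (hα : α ^ p = 1) (hβ : β ^ p = 1) (hgen : Subgroup.closure {α, β} = ⊤)
    (P : Subgroup X) [hPn : P.Normal] (hP : IsPGroup p P) (hP1 : P ≠ ⊥) : IsPGroup p X := by
  have key : ∀ t : X, t ^ p = 1 → ∃ u ∈ P, u ≠ 1 ∧ Commute t u ∧ ∀ s ∈ P, Commute s u := by
    intro t ht
    have hZ : IsPGroup p (Subgroup.zpowers t) := by
      intro w
      obtain ⟨k, hk⟩ := Subgroup.mem_zpowers_iff.mp w.2
      refine ⟨1, ?_⟩
      apply Subtype.ext
      rw [pow_one, Subgroup.coe_pow, ← hk, ← zpow_natCast, ← zpow_mul, mul_comm, zpow_mul,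
        zpow_natCast, ht, one_zpow]
      rfl
    set T : Subgroup X := P ⊔ Subgroup.zpowers t with hT
    have hTP : IsPGroup p T := IsPGroup.to_sup_of_normal_left hP hZ
    have hPT : P ≤ T := le_sup_left
    have htT : t ∈ T := (le_sup_right : Subgroup.zpowers t ≤ T) (Subgroup.mem_zpowers t)
    have hne : P.subgroupOf T ≠ ⊥ := by
      intro h
      apply hP1
      rw [eq_bot_iff]
      intro w hw
      have : (⟨w, hPT hw⟩ : T) ∈ P.subgroupOf T := Subgroup.mem_subgroupOf.mpr hw
      rw [h, Subgroup.mem_bot] at this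
      exact Subgroup.mem_bot.mpr (congrArg Subtype.val this)
    have hnn : (P.subgroupOf T).Normal := hPn.subgroupOf T
    have h1 := Cfsg.Agent.Helper63.normal_inf_center_ne_bot hTP (P.subgroupOf T) hne
    obtain ⟨w, hw1⟩ := (Subgroup.ne_bot_iff_exists_ne_one).mp h1
    obtain ⟨hwP, hwZ⟩ := Subgroup.mem_inf.mp w.2
    refine ⟨((w : T) : X), Subgroup.mem_subgroupOf.mp hwP, ?_, ?_, ?_⟩
    · intro h
      apply hw1
      apply Subtype.ext
      apply Subtype.ext
      exact h
    · have := Subgroup.mem_center_iff.mp hwZ ⟨t, htT⟩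
      exact congrArg Subtype.val this
    · intro s hs
      have := Subgroup.mem_center_iff.mp hwZ ⟨s, hPT hs⟩
      exact congrArg Subtype.val this
  obtain ⟨u, huP, hu1, hαu, huc⟩ := key α hα
  obtain ⟨u', hu'P, hu'1, hβu', hu'c⟩ := key β hβ
  have hpe : ∀ w ∈ P, ∃ k : ℕ, w ^ (p ^ k) = 1 := by
    intro w hw
    obtain ⟨k, hk⟩ := hP ⟨w, hw⟩
    exact ⟨k, by simpa using congrArg Subtype.val hk⟩
  have h1 : Commute α u' := hCT u α u' hu1 (hpe u huP) hαu (huc u' hu'P)
  have hαβ : Commute α β := hCT u' α β hu'1 (hpe u' hu'P) h1 hβu'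
  -- the group is commutative
  have hcen : ∀ x : X, Commute x α ∧ Commute x β := by
    intro x
    have hx : x ∈ Subgroup.closure ({α, β} : Set X) := hgen ▸ Subgroup.mem_top x
    induction hx using Subgroup.closure_induction with
    | mem w hw =>
      rcases hw with rfl | hw
      · exact ⟨Commute.refl _, hαβ⟩
      · rw [Set.mem_singleton_iff] at hw
        subst hw
        exact ⟨hαβ.symm, Commute.refl _⟩
    | one => exact ⟨Commute.one_left _, Commute.one_left _⟩
    | mul a b _ _ ha hb => exact ⟨ha.1.mul_left hb.1, ha.2.mul_left hb.2⟩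
    | inv a _ ha => exact ⟨ha.1.inv_left, ha.2.inv_left⟩
  have hcomm : ∀ x y : X, Commute x y := by
    intro x y
    have hy : y ∈ Subgroup.closure ({α, β} : Set X) := hgen ▸ Subgroup.mem_top y
    induction hy using Subgroup.closure_induction with
    | mem w hw =>
      rcases hw with rfl | hw
      · exact (hcen x).1
      · rw [Set.mem_singleton_iff] at hw
        subst hw
        exact (hcen x).2
    | one => exact Commute.one_right _
    | mul a b _ _ ha hb => exact ha.mul_right hb
    | inv a _ ha => exact ha.inv_right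
  have hpow : ∀ x : X, x ^ p = 1 := by
    intro x
    have hx : x ∈ Subgroup.closure ({α, β} : Set X) := hgen ▸ Subgroup.mem_top x
    induction hx using Subgroup.closure_induction with
    | mem w hw =>
      rcases hw with rfl | hw
      · exact hα
      · rw [Set.mem_singleton_iff] at hw
        subst hw
        exact hβ
    | one => exact one_pow _
    | mul a b _ _ ha hb => rw [(hcomm a b).mul_pow, ha, hb, one_mul]
    | inv a _ ha => rw [inv_pow, ha, inv_one]
  intro x
  exact ⟨1, by rw [pow_one]; exact hpow x⟩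

open Matrix in
/-- a nontrivial element of odd prime power order of `SL₂` is not central -/
theorem sl2_not_mem_center_of_pow {F : Type*} [Field F] {p : ℕ} [Fact p.Prime] (hp : p ≠ 2)
    (u : SpecialLinearGroup (Fin 2) F) (hu1 : u ≠ 1) (k : ℕ) (hu : u ^ (p ^ k) = 1) :
    u ∉ Subgroup.center (SpecialLinearGroup (Fin 2) F) := by
  intro hc
  obtain ⟨r, hr, hru⟩ := Matrix.SpecialLinearGroup.mem_center_iff.mp hc
  rw [Fintype.card_fin] at hr
  have h2 : u ^ 2 = 1 := by
    apply Subtype.ext
    rw [Matrix.SpecialLinearGroup.coe_pow, ← hru, ← map_pow, hr, map_one, Matrix.SpecialLinearGroup.coe_one]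
  have hpp : p.Prime := Fact.out
  have h3 : orderOf u ∣ 2 := orderOf_dvd_of_pow_eq_one h2
  have h4 : orderOf u ∣ p ^ k := orderOf_dvd_of_pow_eq_one hu
  have h5 : Nat.Coprime 2 (p ^ k) :=
    Nat.Coprime.pow_right k ((Nat.coprime_primes Nat.prime_two hpp).mpr (Ne.symm hp))
  have h6 : orderOf u = 1 := Nat.eq_one_of_dvd_coprimes h5 h3 h4
  exact hu1 (orderOf_eq_one_iff.mp h6)

open Matrix in
/-- **`O_p = 1`.** A subgroup of `SL₂` (odd `p`) generated by two elements of order dividing `p`
that has a nontrivial normal `p`-subgroup is a `p`-group. -/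
theorem sl2_isPGroup_of_normal_pSubgroup {F : Type*} [Field F] {p : ℕ} [Fact p.Prime]
    (hp : p ≠ 2) {X : Type*} [Group X] [Finite X] (ι : X →* SpecialLinearGroup (Fin 2) F)
    (hι : Function.Injective ι)
    (α β : X) (hα : α ^ p = 1) (hβ : β ^ p = 1) (hgen : Subgroup.closure {α, β} = ⊤)
    (P : Subgroup X) [P.Normal] (hP : IsPGroup p P) (hP1 : P ≠ ⊥) : IsPGroup p X := by
  refine isPGroup_of_commTrans ?_ α β hα hβ hgen P hP hP1
  intro u s t hu1 hu hsu htu
  obtain ⟨k, hk⟩ := hu
  have hnc : ι u ∉ Subgroup.center (SpecialLinearGroup (Fin 2) F) :=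
    sl2_not_mem_center_of_pow hp (ι u) (fun h => hu1 (hι (by rw [h, map_one]))) k
      (by rw [← map_pow, hk, map_one])
  have h1 : Commute (ι u) (ι s) := (hsu.map ι).symm
  have h2 : Commute (ι u) (ι t) := (htu.map ι).symm
  have h3 := Cfsg.Agent.Helper62.SL2C.commute_of_commute_noncentral (ι u) (ι s) (ι t) hnc h1 h2
  have h4 : ι (s * t) = ι (t * s) := by rw [map_mul, map_mul]; exact h3.eq
  exact hι h4

end Cfsg.Agent.Helper2
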