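import Cfsg.Agent.S0100
import Cfsg.Agent.Helper2.ClassTwo

/-!
# Normal elementary abelian subgroups of order `p ^ 4` (p odd)

General lemmas for S0122: local class-two power formula, exponent of a product of two mutually
normalizing elementary abelian subgroups, the product-order inequality, a fibre bound and a
maximality lemma.
-/

set_option autoImplicit false

namespace Cfsg.Agent.Helper2

open Cfsg.Agent.Helper52

variable {G : Type*} [Group G]

/-- Local class-two power formula: if `y * x = c * x * y` and `c` commutes with `x` and `y`, then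
`(x * y) ^ n = x ^ n * y ^ n * c ^ (n.choose 2)`. -/
theorem mul_pow_of_commute {x y c : G} (hcx : Commute c x) (hcy : Commute c y)
    (hyx : y * x = c * x * y) (n : ℕ) : (x * y) ^ n = x ^ n * y ^ n * c ^ (n.choose 2) := by
  let H : Subgroup G := Subgroup.centralizer {c}
  have hmem : ∀ z : G, Commute c z → z ∈ H := by
    intro z hz
    refine Subgroup.mem_centralizer_iff.mpr ?_
    intro h hh
    rw [Set.mem_singleton_iff] at hh
    subst hh
    exact hz.eq
  have hxH : x ∈ H := hmem x hcx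
  have hyH : y ∈ H := hmem y hcy
  have hcH : c ∈ H := hmem c (Commute.refl c)
  have hc : ∀ z : H, (⟨c, hcH⟩ : H) * z = z * ⟨c, hcH⟩ := by
    intro z
    apply Subtype.ext
    exact Subgroup.mem_centralizer_iff.mp z.2 c (Set.mem_singleton c)
  have hyx' : (⟨y, hyH⟩ : H) * ⟨x, hxH⟩ = ⟨c, hcH⟩ * ⟨x, hxH⟩ * ⟨y, hyH⟩ := Subtype.ext hyx
  have h := congrArg Subtype.val (mul_pow_of_central hc hyx' n)
  simpa using h

/-- If `x ^ p = y ^ p = c ^ p = 1`, `p` odd, `y * x = c * x * y` and `c` commutes with `x`, `y`,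
then `(x * y) ^ p = 1`. -/
theorem mul_pow_prime_eq_one_of_commute {p : ℕ} (hp : p.Prime) (hp2 : p ≠ 2) {x y c : G}
    (hcx : Commute c x) (hcy : Commute c y) (hyx : y * x = c * x * y)
    (hx : x ^ p = 1) (hy : y ^ p = 1) (hc : c ^ p = 1) : (x * y) ^ p = 1 := by
  rw [mul_pow_of_commute hcx hcy hyx p]
  have h2lt : 2 < p := lt_of_le_of_ne hp.two_le (Ne.symm hp2)
  obtain ⟨k, hk⟩ := Nat.Prime.dvd_choose_self hp (by norm_num : (2 : ℕ) ≠ 0) h2lt
  rw [hk, pow_mul, hc, one_pow, hx, hy, mul_one, mul_one]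

/-- Two mutually normalizing elementary abelian `p`-subgroups (`p` odd) generate a subgroup of
exponent `p`. -/
theorem pow_prime_eq_one_of_mem_sup {p : ℕ} (hp : p.Prime) (hp2 : p ≠ 2) {A B : Subgroup G}
    (hAc : IsMulCommutative A) (hBc : IsMulCommutative B)
    (hAe : ∀ a ∈ A, a ^ p = 1) (hBe : ∀ b ∈ B, b ^ p = 1)
    (hAB : A ≤ Subgroup.normalizer (B : Set G)) (hBA : B ≤ Subgroup.normalizer (A : Set G)) :
    ∀ h ∈ A ⊔ B, h ^ p = 1 := by
  intro h hh
  have hcoe := Subgroup.coe_mul_of_left_le_normalizer_right A B hAB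
  have hh' : h ∈ ((A ⊔ B : Subgroup G) : Set G) := hh
  rw [hcoe] at hh'
  obtain ⟨a, ha, b, hb, rfl⟩ := Set.mem_mul.mp hh'
  have ha' : a ∈ A := ha
  have hb' : b ∈ B := hb
  set c : G := b * a * b⁻¹ * a⁻¹ with hc
  have hcA : c ∈ A := by
    have h1 : b * a * b⁻¹ ∈ A := (Subgroup.mem_normalizer_iff.mp (hBA hb') a).mp ha'
    exact A.mul_mem h1 (A.inv_mem ha')
  have hcB : c ∈ B := by
    have h1 : a * b⁻¹ * a⁻¹ ∈ B := (Subgroup.mem_normalizer_iff.mp (hAB ha') b⁻¹).mp (B.inv_mem hb')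
    have : c = b * (a * b⁻¹ * a⁻¹) := by rw [hc]; group
    rw [this]
    exact B.mul_mem hb' h1
  have hyx : b * a = c * a * b := by rw [hc]; group
  have hca : Commute c a := comm_of_mem hAc hcA ha'
  have hcb : Commute c b := comm_of_mem hBc hcB hb'
  exact mul_pow_prime_eq_one_of_commute hp hp2 hca hcb hyx (hAe a ha') (hBe b hb') (hAe c hcA)

/-- `|A| * |B| ≤ |A ⊔ B| * |A ⊓ B|` for subgroups of a finite group. -/
theorem card_mul_card_le_card_sup_mul_card_inf [Finite G] (A B : Subgroup G) :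
    Nat.card A * Nat.card B ≤ Nat.card (A ⊔ B : Subgroup G) * Nat.card (A ⊓ B : Subgroup G) := by
  have h1 : (A ⊓ B).relIndex B * Nat.card (A ⊓ B : Subgroup G) = Nat.card B :=
    relIndex_mul_card_of_le (inf_le_right : A ⊓ B ≤ B)
  rw [Subgroup.inf_relIndex_right] at h1
  have h2 : A.relIndex (A ⊔ B) * Nat.card A = Nat.card (A ⊔ B : Subgroup G) :=
    relIndex_mul_card_of_le (le_sup_left : A ≤ A ⊔ B)
  have h3 : A.relIndex B ≤ A.relIndex (A ⊔ B) :=
    Subgroup.relIndex_le_of_le_right le_sup_right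
      (by unfold Subgroup.relIndex; exact Subgroup.index_ne_zero_of_finite)
  calc Nat.card A * Nat.card B = Nat.card A * (A.relIndex B * Nat.card (A ⊓ B : Subgroup G)) := by
        rw [h1]
    _ ≤ Nat.card A * (A.relIndex (A ⊔ B) * Nat.card (A ⊓ B : Subgroup G)) :=
        Nat.mul_le_mul_left _ (Nat.mul_le_mul_right _ h3)
    _ = Nat.card (A ⊔ B : Subgroup G) * Nat.card (A ⊓ B : Subgroup G) := by
        rw [← h2]; ring

/-- Fibre bound: if `f` maps `H` into `T` and its fibres on `H` lie in cosets of `X`, then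
`|H| ≤ |T| * |H ⊓ X|`. -/
theorem card_le_card_mul_card_inf_of_fibre [Finite G] (H X T : Subgroup G) (f : G → G)
    (hT : ∀ h ∈ H, f h ∈ T)
    (hf : ∀ h ∈ H, ∀ h' ∈ H, f h = f h' → h'⁻¹ * h ∈ X) :
    Nat.card H ≤ Nat.card T * Nat.card (H ⊓ X : Subgroup G) := by
  have h1 : (H ⊓ X).relIndex H * Nat.card (H ⊓ X : Subgroup G) = Nat.card H :=
    relIndex_mul_card_of_le (inf_le_left : H ⊓ X ≤ H)
  rw [Subgroup.inf_relIndex_left] at h1
  have h2 : X.relIndex H ≤ Nat.card T := by
    unfold Subgroup.relIndex Subgroup.index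
    let φ : (H ⧸ X.subgroupOf H) → T := fun q => ⟨f (q.out : H), hT _ (q.out).2⟩
    refine Nat.card_le_card_of_injective φ ?_
    intro q q' hqq
    have h3 : f (q.out : H) = f (q'.out : H) := congrArg Subtype.val hqq
    have h4 := hf _ (q.out).2 _ (q'.out).2 h3
    have h5 : ((q'.out : H) : H ⧸ X.subgroupOf H) = ((q.out : H) : H ⧸ X.subgroupOf H) := by
      rw [QuotientGroup.eq]
      exact h4
    rw [QuotientGroup.out_eq', QuotientGroup.out_eq'] at h5
    exact h5.symm
  calc Nat.card H = X.relIndex H * Nat.card (H ⊓ X : Subgroup G) := h1.symm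
    _ ≤ Nat.card T * Nat.card (H ⊓ X : Subgroup G) := Nat.mul_le_mul_right _ h2

/-- A subgroup strictly between `Y` and `Z` cannot exist when `|Z| = p * |Y|`: if `Y ≤ X ≤ Z` and
`X ≠ Y` then `X = Z`. -/
theorem eq_of_le_of_le_of_card_eq_prime_mul [Finite G] {p : ℕ} (hp : p.Prime) {Y X Z : Subgroup G}
    (hYX : Y ≤ X) (hXZ : X ≤ Z) (hcard : Nat.card Z = p * Nat.card Y) (hne : X ≠ Y) : X = Z := by
  have h1 : Y.relIndex X * Nat.card Y = Nat.card X := relIndex_mul_card_of_le hYX
  have h2 : X.relIndex Z * Nat.card X = Nat.card Z := relIndex_mul_card_of_le hXZ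
  have hYpos : 0 < Nat.card Y := Nat.card_pos
  have h3 : X.relIndex Z * Y.relIndex X = p := by
    have : X.relIndex Z * Y.relIndex X * Nat.card Y = p * Nat.card Y := by
      rw [mul_assoc, h1, h2, hcard]
    exact Nat.eq_of_mul_eq_mul_right hYpos this
  have h4 : Y.relIndex X ∣ p := Dvd.intro_left _ h3
  rcases (Nat.dvd_prime hp).mp h4 with h5 | h5
  · exfalso
    apply hne
    exact le_antisymm (Subgroup.relIndex_eq_one.mp h5) hYX
  · rw [h5] at h3
    have h6 : X.relIndex Z = 1 := by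
      have : X.relIndex Z * p = 1 * p := by rw [h3, one_mul]
      exact Nat.eq_of_mul_eq_mul_right hp.pos this
    exact le_antisymm hXZ (Subgroup.relIndex_eq_one.mp h6)

/-- If `Y ≤ Z` with `|Z| = p * |Y|`, `Y` centralizes `S`, and some `z ∈ Z \ Y` centralizes `S`, then
`Z` centralizes `S`. -/
theorem le_centralizer_of_prime_mul [Finite G] {p : ℕ} (hp : p.Prime) {Y Z S : Subgroup G}
    (hYZ : Y ≤ Z) (hcard : Nat.card Z = p * Nat.card Y)
    (hY : Y ≤ Subgroup.centralizer (S : Set G)) {z : G} (hzZ : z ∈ Z) (hzY : z ∉ Y)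
    (hz : z ∈ Subgroup.centralizer (S : Set G)) : Z ≤ Subgroup.centralizer (S : Set G) := by
  have h1 : Z ⊓ Subgroup.centralizer (S : Set G) = Z := by
    refine eq_of_le_of_le_of_card_eq_prime_mul hp (le_inf hYZ hY) inf_le_left hcard ?_
    intro h
    apply hzY
    rw [← h]
    exact ⟨hzZ, hz⟩
  rw [← h1]
  exact inf_le_right

end Cfsg.Agent.Helper2
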