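import Cfsg.Agent.Helper2.Rank4

/-!
# For odd `p`: a `p`-group with an elementary abelian subgroup of order `p ^ 4` has a normal one

Proof.  Let `N` be a maximal normal elementary abelian subgroup; by Alperin's lemma (S0130) all
elements of order `p` of `K = C_G(N)` lie in `N`.  If `|N| ≥ p ^ 4` we are done; `|N| ≤ p ^ 2` is
impossible.  If `|N| = p ^ 3`, let `N2 < N` be normal of order `p ^ 2` with `[G, N] ≤ N2`.  Every
elementary abelian `A` of order `p ^ 4` centralizes `N2`, meets `N` in a subgroup of order `p ^ 2`,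
and two such subgroups which normalize each other are equal.  Hence every such `A` is normal
(normalizers grow in `p`-groups).
-/

set_option autoImplicit false

namespace Cfsg.Agent.Helper2

open Cfsg.Agent.Helper52

variable {G : Type*} [Group G] [Finite G] {p : ℕ}

/-- Fibre bound used throughout: if `H` centralizes `N2`, `N2 ≤ N` of index `p`, `n3 ∈ N \ N2` and
the commutators `h n3 h⁻¹ n3⁻¹` (`h ∈ H`) lie in `T`, then `|H| ≤ |T| * |H ∩ C(N)|`. -/
theorem rank4_fibre (hp : p.Prime) {N N2 : Subgroup G} (hN2N : N2 ≤ N)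
    (hcard : Nat.card N = p * Nat.card N2) {n3 : G} (hn3N : n3 ∈ N) (hn3 : n3 ∉ N2)
    {H T : Subgroup G} (hH : H ≤ Subgroup.centralizer (N2 : Set G))
    (hT : ∀ h ∈ H, h * n3 * h⁻¹ * n3⁻¹ ∈ T) :
    Nat.card H ≤ Nat.card T * Nat.card (H ⊓ Subgroup.centralizer (N : Set G) : Subgroup G) := by
  refine card_le_card_mul_card_inf_of_fibre H _ T (fun h => h * n3 * h⁻¹ * n3⁻¹) hT ?_
  intro h hh h' hh' heq
  have heq' : h * n3 * h⁻¹ * n3⁻¹ = h' * n3 * h'⁻¹ * n3⁻¹ := heq
  have hgC : h'⁻¹ * h ∈ Subgroup.centralizer (N2 : Set G) :=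
    (Subgroup.centralizer _).mul_mem ((Subgroup.centralizer _).inv_mem (hH hh')) (hH hh)
  have hgn : (h'⁻¹ * h) * n3 = n3 * (h'⁻¹ * h) := by
    have h1 : h * n3 * h⁻¹ = h' * n3 * h'⁻¹ := mul_right_cancel heq'
    have h2 : h'⁻¹ * (h * n3 * h⁻¹) * h = h'⁻¹ * (h' * n3 * h'⁻¹) * h := by rw [h1]
    have h3 : h'⁻¹ * (h * n3 * h⁻¹) * h = h'⁻¹ * h * n3 := by group
    have h4 : h'⁻¹ * (h' * n3 * h'⁻¹) * h = n3 * (h'⁻¹ * h) := by group
    rw [h3, h4] at h2
    exact h2
  have h5 : N ≤ Subgroup.centralizer ((Subgroup.zpowers (h'⁻¹ * h) : Subgroup G) : Set G) := by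
    refine le_centralizer_of_prime_mul hp hN2N hcard ?_ hn3N hn3 ?_
    · rw [Subgroup.le_centralizer_iff, Subgroup.zpowers_le]
      exact hgC
    · rw [Subgroup.mem_centralizer_iff]
      intro y hy
      obtain ⟨k, rfl⟩ := Subgroup.mem_zpowers_iff.mp hy
      exact ((Commute.zpow_left (show Commute (h'⁻¹ * h) n3 from hgn) k)).eq
  have h6 : Subgroup.zpowers (h'⁻¹ * h) ≤ Subgroup.centralizer (N : Set G) :=
    Subgroup.le_centralizer_iff.mp h5
  exact h6 (Subgroup.mem_zpowers _)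

/-- A `p`-subgroup of order at least `p ^ a` ... helper: from `p ^ (a+1) ≤ p * n` get `p ^ a ≤ n`. -/
theorem le_of_pow_succ_le_mul {p a n : ℕ} (hp : 0 < p) (h : p ^ (a + 1) ≤ p * n) : p ^ a ≤ n := by
  rw [pow_succ'] at h
  exact Nat.le_of_mul_le_mul_left h hp


/-- There is an element of `N` outside `N2` when `|N2| < |N|`. -/
theorem exists_mem_not_mem_of_card_lt {N N2 : Subgroup G} (h : Nat.card N2 < Nat.card N) :
    ∃ n3 ∈ N, n3 ∉ N2 := by
  by_contra hcon
  push Not at hcon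
  have hle : N ≤ N2 := fun x hx => hcon x hx
  exact absurd (Subgroup.card_le_of_le hle) (not_le.mpr h)

/-- In the `|N| = p ^ 3` situation every elementary abelian subgroup of order `p ^ 4` centralizes
`N2`. -/
theorem rank4_le_C2 [Fact p.Prime] (hG : IsPGroup p G) {N N2 : Subgroup G}
    [N.Normal] [N2.Normal] (hNc : IsMulCommutative N)
    (hOmega : ∀ x ∈ Subgroup.centralizer (N : Set G), x ^ p = 1 → x ∈ N)
    (hNcard : Nat.card N = p ^ 3) (hN2N : N2 ≤ N) (hN2card : Nat.card N2 = p ^ 2)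
    (hN2comm : ∀ g : G, ∀ x ∈ N, g * x * g⁻¹ * x⁻¹ ∈ N2)
    (hC2idx : (Subgroup.centralizer (N2 : Set G)).index ≤ p)
    {A : Subgroup G} (hAc : IsMulCommutative A) (hAe : ∀ a ∈ A, a ^ p = 1)
    (hAcard : Nat.card A = p ^ 4) : A ≤ Subgroup.centralizer (N2 : Set G) := by
  classical
  have hp : p.Prime := Fact.out
  by_contra hcon
  obtain ⟨a, haA, haC⟩ := SetLike.not_le_iff_exists.mp hcon
  have hn2 : ∃ n2 ∈ N2, n2 * a ≠ a * n2 := by
    by_contra h
    push Not at h
    exact haC (Subgroup.mem_centralizer_iff.mpr h)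
  obtain ⟨n2, hn2N2, hn2a⟩ := hn2
  have hcardlt : Nat.card N2 < Nat.card N := by
    rw [hNcard, hN2card]; exact Nat.pow_lt_pow_right hp.one_lt (by norm_num)
  obtain ⟨n3, hn3N, hn3⟩ := exists_mem_not_mem_of_card_lt hcardlt
  have hcardmul : Nat.card N = p * Nat.card N2 := by rw [hNcard, hN2card]; ring
  set C2 : Subgroup G := Subgroup.centralizer (N2 : Set G) with hC2
  set K : Subgroup G := Subgroup.centralizer (N : Set G) with hK
  have hC2n : C2.Normal := Subgroup.normal_centralizer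
  have hKC2 : K ≤ C2 := Subgroup.centralizer_le (fun x hx => hN2N hx)
  -- A2 = A ⊓ C2 has order at least p^3
  have hA2card : p ^ 3 ≤ Nat.card (A ⊓ C2 : Subgroup G) := by
    have h1 : (A ⊓ C2).relIndex A * Nat.card (A ⊓ C2 : Subgroup G) = Nat.card A :=
      relIndex_mul_card_of_le (inf_le_left : A ⊓ C2 ≤ A)
    rw [Subgroup.inf_relIndex_left] at h1
    have h2 : C2.relIndex A ≤ p := by
      refine le_trans (Nat.le_of_dvd ?_ (Subgroup.relIndex_dvd_index_of_normal C2 A)) hC2idx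
      exact Nat.pos_of_ne_zero Subgroup.index_ne_zero_of_finite
    apply le_of_pow_succ_le_mul hp.pos
    calc p ^ (3 + 1) = Nat.card A := hAcard.symm
      _ = C2.relIndex A * Nat.card (A ⊓ C2 : Subgroup G) := h1.symm
      _ ≤ p * Nat.card (A ⊓ C2 : Subgroup G) := Nat.mul_le_mul_right _ h2
  -- the target subgroup T = C_{N2}(a)
  set T : Subgroup G := N2 ⊓ Subgroup.centralizer ({a} : Set G) with hT
  have hTmem : ∀ b ∈ (A ⊓ C2 : Subgroup G), b * n3 * b⁻¹ * n3⁻¹ ∈ T := by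
    intro b hb
    have hbA : b ∈ A := hb.1
    have hbC : b ∈ C2 := hb.2
    refine ⟨hN2comm b n3 hn3N, ?_⟩
    show b * n3 * b⁻¹ * n3⁻¹ ∈ Subgroup.centralizer ({a} : Set G)
    rw [Subgroup.mem_centralizer_iff]
    intro y hy
    rw [Set.mem_singleton_iff] at hy
    subst hy
    set m : G := y * n3 * y⁻¹ * n3⁻¹ with hm
    set f : G := b * n3 * b⁻¹ * n3⁻¹ with hf
    have hmN2 : m ∈ N2 := hN2comm y n3 hn3N
    have hfN2 : f ∈ N2 := hN2comm b n3 hn3N
    have hab : y * b = b * y := comm_of_mem hAc haA hbA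
    have hbm : b * m = m * b := (Subgroup.mem_centralizer_iff.mp hbC m hmN2).symm
    have hmf : m * f = f * m := comm_of_mem hNc (hN2N hmN2) (hN2N hfN2)
    have e1 : y * b * y⁻¹ = b := by rw [hab]; group
    have e2 : y * n3 * y⁻¹ = m * n3 := by rw [hm]; group
    have e3 : y * f * y⁻¹ = (y * b * y⁻¹) * (y * n3 * y⁻¹) * (y * b * y⁻¹)⁻¹ * (y * n3 * y⁻¹)⁻¹ := by
      rw [hf]; group
    rw [e1, e2] at e3
    have e4 : b * (m * n3) * b⁻¹ * (m * n3)⁻¹ = (b * m) * (n3 * b⁻¹ * n3⁻¹) * m⁻¹ := by group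
    rw [e4, hbm] at e3
    have e5 : m * b * (n3 * b⁻¹ * n3⁻¹) * m⁻¹ = m * f * m⁻¹ := by rw [hf]; group
    rw [e5, hmf] at e3
    have e6 : y * f * y⁻¹ = f := by rw [e3]; group
    calc y * f = (y * f * y⁻¹) * y := by group
      _ = f * y := by rw [e6]
  -- T is a proper subgroup of N2, so |T| ≤ p
  have hTle : T ≤ N2 := inf_le_left
  have hTne : T ≠ N2 := by
    intro h
    have : n2 ∈ T := h ▸ hn2N2
    have h2 := Subgroup.mem_centralizer_iff.mp this.2 a (Set.mem_singleton a)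
    exact hn2a h2.symm
  have hTcard : Nat.card T ≤ p := by
    obtain ⟨j, hj⟩ := (hG.to_subgroup T).exists_card_eq
    have hj2 : j ≤ 2 := by
      have := Subgroup.card_le_of_le hTle
      rw [hj, hN2card] at this
      exact (Nat.pow_le_pow_iff_right hp.one_lt).mp this
    have hjne : j ≠ 2 := by
      intro hj2'
      apply hTne
      apply Subgroup.eq_of_le_of_card_ge hTle
      rw [hj, hN2card, hj2']
    rw [hj]
    calc p ^ j ≤ p ^ 1 := Nat.pow_le_pow_right hp.pos (by omega)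
      _ = p := pow_one p
  -- fibre bound for A2
  have hfib := rank4_fibre hp hN2N hcardmul hn3N hn3 (inf_le_right : A ⊓ C2 ≤ C2) hTmem
  have hWcard : p ^ 2 ≤ Nat.card ((A ⊓ C2) ⊓ K : Subgroup G) := by
    apply le_of_pow_succ_le_mul hp.pos
    calc p ^ (2 + 1) ≤ Nat.card (A ⊓ C2 : Subgroup G) := hA2card
      _ ≤ Nat.card T * Nat.card ((A ⊓ C2) ⊓ K : Subgroup G) := hfib
      _ ≤ p * Nat.card ((A ⊓ C2) ⊓ K : Subgroup G) := Nat.mul_le_mul_right _ hTcard
  have hWN : (A ⊓ C2) ⊓ K ≤ N := fun x hx => hOmega x hx.2 (hAe x hx.1.1)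
  -- some w ∈ W lies outside N2
  have hw : ∃ w ∈ ((A ⊓ C2) ⊓ K : Subgroup G), w ∉ N2 := by
    by_contra h
    push Not at h
    have hWN2 : (A ⊓ C2) ⊓ K ≤ N2 := fun x hx => h x hx
    have hWeq : (A ⊓ C2) ⊓ K = N2 := by
      apply Subgroup.eq_of_le_of_card_ge hWN2
      rw [hN2card]; exact hWcard
    have hn2A : n2 ∈ A := by
      have : n2 ∈ ((A ⊓ C2) ⊓ K : Subgroup G) := hWeq ▸ hn2N2
      exact this.1.1
    exact hn2a (comm_of_mem hAc hn2A haA)
  obtain ⟨w, hwW, hwN2⟩ := hw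
  have hNcent : N ≤ Subgroup.centralizer ((A ⊓ C2 : Subgroup G) : Set G) := by
    refine le_centralizer_of_prime_mul hp hN2N hcardmul ?_ (hWN hwW) hwN2 ?_
    · rw [Subgroup.le_centralizer_iff]
      exact inf_le_right
    · rw [Subgroup.mem_centralizer_iff]
      intro y hy
      exact comm_of_mem hAc hy.1 hwW.1.1
  have hA2K : A ⊓ C2 ≤ K := Subgroup.le_centralizer_iff.mp hNcent
  have hA2N : A ⊓ C2 ≤ N := fun x hx => hWN ⟨hx, hA2K hx⟩
  have hA2eq : A ⊓ C2 = N := by
    apply Subgroup.eq_of_le_of_card_ge hA2N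
    rw [hNcard]; exact hA2card
  have hNA : N ≤ A := hA2eq ▸ inf_le_left
  apply haC
  apply hKC2
  rw [hK, Subgroup.mem_centralizer_iff]
  intro y hy
  exact comm_of_mem hAc (hNA hy) haA


/-- In the `|N| = p ^ 3` situation every elementary abelian subgroup `A` of order `p ^ 4` meets
`K = C_G(N)` in a subgroup of order `p ^ 2`, equal to `A ⊓ N`. -/
theorem rank4_card_inf [Fact p.Prime] (hG : IsPGroup p G) {N N2 : Subgroup G}
    [N.Normal] [N2.Normal] (hNc : IsMulCommutative N)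
    (hOmega : ∀ x ∈ Subgroup.centralizer (N : Set G), x ^ p = 1 → x ∈ N)
    (hNcard : Nat.card N = p ^ 3) (hN2N : N2 ≤ N) (hN2card : Nat.card N2 = p ^ 2)
    (hN2comm : ∀ g : G, ∀ x ∈ N, g * x * g⁻¹ * x⁻¹ ∈ N2)
    (hC2idx : (Subgroup.centralizer (N2 : Set G)).index ≤ p)
    {A : Subgroup G} (hAc : IsMulCommutative A) (hAe : ∀ a ∈ A, a ^ p = 1)
    (hAcard : Nat.card A = p ^ 4) :
    Nat.card (A ⊓ Subgroup.centralizer (N : Set G) : Subgroup G) = p ^ 2 ∧
      A ⊓ Subgroup.centralizer (N : Set G) = A ⊓ N := by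
  classical
  have hp : p.Prime := Fact.out
  have hAC2 := rank4_le_C2 hG hNc hOmega hNcard hN2N hN2card hN2comm hC2idx hAc hAe hAcard
  have hcardlt : Nat.card N2 < Nat.card N := by
    rw [hNcard, hN2card]; exact Nat.pow_lt_pow_right hp.one_lt (by norm_num)
  obtain ⟨n3, hn3N, hn3⟩ := exists_mem_not_mem_of_card_lt hcardlt
  have hcardmul : Nat.card N = p * Nat.card N2 := by rw [hNcard, hN2card]; ring
  set K : Subgroup G := Subgroup.centralizer (N : Set G) with hK
  have hNK : N ≤ K := Subgroup.le_centralizer_iff_isMulCommutative.mpr hNc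
  have hWN : A ⊓ K ≤ N := fun x hx => hOmega x hx.2 (hAe x hx.1)
  have hfib := rank4_fibre hp hN2N hcardmul hn3N hn3 hAC2
    (fun h _ => hN2comm h n3 hn3N)
  have hWcard : p ^ 2 ≤ Nat.card (A ⊓ K : Subgroup G) := by
    have h1 : p ^ 2 * p ^ 2 ≤ p ^ 2 * Nat.card (A ⊓ K : Subgroup G) := by
      calc p ^ 2 * p ^ 2 = Nat.card A := by rw [hAcard]; ring
        _ ≤ Nat.card N2 * Nat.card (A ⊓ K : Subgroup G) := hfib
        _ = p ^ 2 * Nat.card (A ⊓ K : Subgroup G) := by rw [hN2card]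
    exact Nat.le_of_mul_le_mul_left h1 (pow_pos hp.pos 2)
  obtain ⟨j, hj⟩ := (hG.to_subgroup (A ⊓ K)).exists_card_eq
  have hj3 : j ≤ 3 := by
    have := Subgroup.card_le_of_le hWN
    rw [hj, hNcard] at this
    exact (Nat.pow_le_pow_iff_right hp.one_lt).mp this
  have hj2 : 2 ≤ j := by
    rw [hj] at hWcard
    exact (Nat.pow_le_pow_iff_right hp.one_lt).mp hWcard
  have hjne : j ≠ 3 := by
    intro hj3'
    have hWeq : A ⊓ K = N := by
      apply Subgroup.eq_of_le_of_card_ge hWN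
      rw [hj, hNcard, hj3']
    have hNA : N ≤ A := hWeq ▸ inf_le_left
    have hAK : A ≤ K := by
      intro x hx
      rw [hK, Subgroup.mem_centralizer_iff]
      intro y hy
      exact comm_of_mem hAc (hNA hy) hx
    have : A ⊓ K = A := inf_of_le_left hAK
    rw [this, hAcard] at hj
    have := Nat.pow_right_injective hp.two_le hj
    omega
  have hj' : j = 2 := by omega
  refine ⟨by rw [hj, hj'], ?_⟩
  exact le_antisymm (le_inf inf_le_left hWN) (inf_le_inf_left A hNK)

/-- In the `|N| = p ^ 3` situation two mutually normalizing elementary abelian subgroups of order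
`p ^ 4` are equal. -/
theorem rank4_eq_of_normalizing [Fact p.Prime] (hp2 : p ≠ 2) (hG : IsPGroup p G)
    {N N2 : Subgroup G} [N.Normal] [N2.Normal] (hNc : IsMulCommutative N)
    (hOmega : ∀ x ∈ Subgroup.centralizer (N : Set G), x ^ p = 1 → x ∈ N)
    (hNcard : Nat.card N = p ^ 3) (hN2N : N2 ≤ N) (hN2card : Nat.card N2 = p ^ 2)
    (hN2comm : ∀ g : G, ∀ x ∈ N, g * x * g⁻¹ * x⁻¹ ∈ N2)
    (hC2idx : (Subgroup.centralizer (N2 : Set G)).index ≤ p)
    {A B : Subgroup G} (hAc : IsMulCommutative A) (hAe : ∀ a ∈ A, a ^ p = 1)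
    (hAcard : Nat.card A = p ^ 4) (hBc : IsMulCommutative B) (hBe : ∀ a ∈ B, a ^ p = 1)
    (hBcard : Nat.card B = p ^ 4)
    (hAB : A ≤ Subgroup.normalizer (B : Set G)) (hBA : B ≤ Subgroup.normalizer (A : Set G)) :
    A = B := by
  classical
  have hp : p.Prime := Fact.out
  by_contra hne
  have hAC2 := rank4_le_C2 hG hNc hOmega hNcard hN2N hN2card hN2comm hC2idx hAc hAe hAcard
  have hBC2 := rank4_le_C2 hG hNc hOmega hNcard hN2N hN2card hN2comm hC2idx hBc hBe hBcard
  obtain ⟨hAKcard, hAKeq⟩ :=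
    rank4_card_inf hG hNc hOmega hNcard hN2N hN2card hN2comm hC2idx hAc hAe hAcard
  have hcardlt : Nat.card N2 < Nat.card N := by
    rw [hNcard, hN2card]; exact Nat.pow_lt_pow_right hp.one_lt (by norm_num)
  obtain ⟨n3, hn3N, hn3⟩ := exists_mem_not_mem_of_card_lt hcardlt
  have hcardmul : Nat.card N = p * Nat.card N2 := by rw [hNcard, hN2card]; ring
  set K : Subgroup G := Subgroup.centralizer (N : Set G) with hK
  -- H = A ⊔ B has exponent p and centralizes N2
  have hHe := pow_prime_eq_one_of_mem_sup hp hp2 hAc hBc hAe hBe hAB hBA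
  have hHC2 : A ⊔ B ≤ Subgroup.centralizer (N2 : Set G) := sup_le hAC2 hBC2
  have hHKN : (A ⊔ B) ⊓ K ≤ N := fun x hx => hOmega x hx.2 (hHe x hx.1)
  have hfib := rank4_fibre hp hN2N hcardmul hn3N hn3 hHC2 (fun h _ => hN2comm h n3 hn3N)
  have hHKcard : Nat.card ((A ⊔ B) ⊓ K : Subgroup G) ≤ p ^ 3 := by
    rw [← hNcard]; exact Subgroup.card_le_of_le hHKN
  have hHle : Nat.card (A ⊔ B : Subgroup G) ≤ p ^ 5 := by
    calc Nat.card (A ⊔ B : Subgroup G) ≤ Nat.card N2 * Nat.card ((A ⊔ B) ⊓ K : Subgroup G) := hfib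
      _ ≤ p ^ 2 * p ^ 3 := by rw [hN2card]; exact Nat.mul_le_mul_left _ hHKcard
      _ = p ^ 5 := by ring
  -- B is not contained in A
  have hBnotA : ¬ B ≤ A := by
    intro hBA'
    apply hne
    symm
    apply Subgroup.eq_of_le_of_card_ge hBA'
    rw [hAcard, hBcard]
  obtain ⟨j, hj⟩ := (hG.to_subgroup (A ⊔ B)).exists_card_eq
  have hj5 : j ≤ 5 := by
    rw [hj] at hHle
    exact (Nat.pow_le_pow_iff_right hp.one_lt).mp hHle
  have hj4 : 4 ≤ j := by
    have := Subgroup.card_le_of_le (le_sup_left : A ≤ A ⊔ B)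
    rw [hj, hAcard] at this
    exact (Nat.pow_le_pow_iff_right hp.one_lt).mp this
  have hjne : j ≠ 4 := by
    intro hj4'
    apply hBnotA
    have : A = A ⊔ B := by
      apply Subgroup.eq_of_le_of_card_ge le_sup_left
      rw [hj, hAcard, hj4']
    rw [this]
    exact le_sup_right
  have hj' : j = 5 := by omega
  rw [hj'] at hj
  -- hence (A ⊔ B) ⊓ K = N
  have hHKge : p ^ 3 ≤ Nat.card ((A ⊔ B) ⊓ K : Subgroup G) := by
    have h1 : p ^ 2 * p ^ 3 ≤ p ^ 2 * Nat.card ((A ⊔ B) ⊓ K : Subgroup G) := by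
      calc p ^ 2 * p ^ 3 = Nat.card (A ⊔ B : Subgroup G) := by rw [hj]; ring
        _ ≤ Nat.card N2 * Nat.card ((A ⊔ B) ⊓ K : Subgroup G) := hfib
        _ = p ^ 2 * Nat.card ((A ⊔ B) ⊓ K : Subgroup G) := by rw [hN2card]
    exact Nat.le_of_mul_le_mul_left h1 (pow_pos hp.pos 2)
  have hHKeq : (A ⊔ B) ⊓ K = N := by
    apply Subgroup.eq_of_le_of_card_ge hHKN
    rw [hNcard]; exact hHKge
  have hNH : N ≤ A ⊔ B := hHKeq ▸ inf_le_left
  -- D = A ⊓ B has order at least p^3
  have hDcard : p ^ 3 ≤ Nat.card (A ⊓ B : Subgroup G) := by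
    have h1 := card_mul_card_le_card_sup_mul_card_inf A B
    rw [hAcard, hBcard, hj] at h1
    have h2 : p ^ 5 * p ^ 3 ≤ p ^ 5 * Nat.card (A ⊓ B : Subgroup G) := by
      calc p ^ 5 * p ^ 3 = p ^ 4 * p ^ 4 := by ring
        _ ≤ p ^ 5 * Nat.card (A ⊓ B : Subgroup G) := h1
    exact Nat.le_of_mul_le_mul_left h2 (pow_pos hp.pos 5)
  -- A ⊔ N = A ⊔ B
  have hANcard : Nat.card (A ⊓ N : Subgroup G) = p ^ 2 := by rw [← hAKeq]; exact hAKcard
  have hANeq : A ⊔ N = A ⊔ B := by
    apply Subgroup.eq_of_le_of_card_ge (sup_le le_sup_left hNH)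
    have h1 := card_mul_card_le_card_sup_mul_card_inf A N
    rw [hAcard, hNcard, hANcard] at h1
    rw [hj]
    have h2 : p ^ 2 * p ^ 5 ≤ p ^ 2 * Nat.card (A ⊔ N : Subgroup G) := by
      calc p ^ 2 * p ^ 5 = p ^ 4 * p ^ 3 := by ring
        _ ≤ Nat.card (A ⊔ N : Subgroup G) * p ^ 2 := h1
        _ = p ^ 2 * Nat.card (A ⊔ N : Subgroup G) := by ring
    exact Nat.le_of_mul_le_mul_left h2 (pow_pos hp.pos 2)
  -- pick b ∈ B \ A and write b = a * n
  obtain ⟨b, hbB, hbA⟩ := SetLike.not_le_iff_exists.mp hBnotA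
  have hbH : b ∈ ((A ⊔ N : Subgroup G) : Set G) := by
    show b ∈ A ⊔ N
    rw [hANeq]; exact (le_sup_right : B ≤ A ⊔ B) hbB
  rw [Subgroup.mul_normal A N] at hbH
  obtain ⟨a, ha, n, hn, hab⟩ := Set.mem_mul.mp hbH
  have ha' : a ∈ A := ha
  have hn' : n ∈ N := hn
  have hnA : n ∉ A := by
    intro hnA
    apply hbA
    rw [← hab]
    exact A.mul_mem ha' hnA
  have hnD : n ∈ Subgroup.centralizer ((A ⊓ B : Subgroup G) : Set G) := by
    rw [Subgroup.mem_centralizer_iff]
    intro d hd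
    have hda : d * a = a * d := comm_of_mem hAc hd.1 ha'
    have hdb : d * b = b * d := comm_of_mem hBc hd.2 hbB
    have hn_eq : n = a⁻¹ * b := by rw [← hab]; group
    rw [hn_eq]
    calc d * (a⁻¹ * b) = a⁻¹ * (a * d) * a⁻¹ * b := by group
      _ = a⁻¹ * (d * a) * a⁻¹ * b := by rw [hda]
      _ = a⁻¹ * (d * b) := by group
      _ = a⁻¹ * (b * d) := by rw [hdb]
      _ = a⁻¹ * b * d := by group
  have hNcentD : N ≤ Subgroup.centralizer ((A ⊓ B : Subgroup G) : Set G) := by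
    refine le_centralizer_of_prime_mul hp (inf_le_right : A ⊓ N ≤ N) ?_ ?_ hn'
      (fun h => hnA h.1) hnD
    · rw [hNcard, hANcard]; ring
    · intro x hx
      rw [Subgroup.mem_centralizer_iff]
      intro d hd
      exact comm_of_mem hAc hd.1 hx.1
  have hDK : A ⊓ B ≤ K := Subgroup.le_centralizer_iff.mp hNcentD
  have hDle : A ⊓ B ≤ A ⊓ K := le_inf inf_le_left hDK
  have := Subgroup.card_le_of_le hDle
  rw [hAKcard] at this
  have hlt : p ^ 2 < p ^ 3 := Nat.pow_lt_pow_right hp.one_lt (by norm_num)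
  omega


/-- In the `|N| = p ^ 3` situation every elementary abelian subgroup of order `p ^ 4` is normal. -/
theorem rank4_normal [Fact p.Prime] (hp2 : p ≠ 2) (hG : IsPGroup p G)
    {N N2 : Subgroup G} [N.Normal] [N2.Normal] (hNc : IsMulCommutative N)
    (hOmega : ∀ x ∈ Subgroup.centralizer (N : Set G), x ^ p = 1 → x ∈ N)
    (hNcard : Nat.card N = p ^ 3) (hN2N : N2 ≤ N) (hN2card : Nat.card N2 = p ^ 2)
    (hN2comm : ∀ g : G, ∀ x ∈ N, g * x * g⁻¹ * x⁻¹ ∈ N2)
    (hC2idx : (Subgroup.centralizer (N2 : Set G)).index ≤ p)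
    {A : Subgroup G} (hAc : IsMulCommutative A) (hAe : ∀ a ∈ A, a ^ p = 1)
    (hAcard : Nat.card A = p ^ 4) : A.Normal := by
  classical
  have hp : p.Prime := Fact.out
  by_contra hAn
  have : Group.IsNilpotent G := hG.isNilpotent
  have hnc : NormalizerCondition G := Group.normalizerCondition_of_isNilpotent
  set Nm : Subgroup G := Subgroup.normalizer (A : Set G) with hNm
  have hNmtop : Nm < ⊤ := by
    refine lt_of_le_of_ne le_top ?_
    intro h
    exact hAn (Subgroup.normalizer_eq_top_iff.mp h)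
  have hlt := hnc Nm hNmtop
  obtain ⟨g, hgN, hgNm⟩ := SetLike.exists_of_lt hlt
  set φ : G →* G := (MulAut.conj g).toMonoidHom with hφ
  have hφapp : ∀ x, φ x = g * x * g⁻¹ := fun x => rfl
  set B : Subgroup G := A.map φ with hB
  have hBmem : ∀ x, x ∈ B ↔ ∃ y ∈ A, g * y * g⁻¹ = x := by
    intro x
    rw [hB, Subgroup.mem_map]
    exact Iff.rfl
  have hBc : IsMulCommutative B := by
    refine isMulCommutative_of_comm ?_
    intro x hx y hy
    obtain ⟨x', hx', rfl⟩ := (hBmem x).mp hx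
    obtain ⟨y', hy', rfl⟩ := (hBmem y).mp hy
    have := comm_of_mem hAc hx' hy'
    calc g * x' * g⁻¹ * (g * y' * g⁻¹) = g * (x' * y') * g⁻¹ := by group
      _ = g * (y' * x') * g⁻¹ := by rw [this]
      _ = g * y' * g⁻¹ * (g * x' * g⁻¹) := by group
  have hBe : ∀ b ∈ B, b ^ p = 1 := by
    intro b hb
    obtain ⟨x', hx', rfl⟩ := (hBmem b).mp hb
    rw [conj_pow, hAe x' hx']
    group
  have hBcard : Nat.card B = p ^ 4 := by
    rw [hB, Subgroup.card_map_of_injective (MulAut.conj g).injective, hAcard]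
  -- Nm is mapped onto itself by conjugation with g
  have hgn := Subgroup.mem_normalizer_iff.mp hgN
  have hNmmap : Nm.map φ = Nm := by
    ext x
    rw [Subgroup.mem_map]
    constructor
    · rintro ⟨y, hy, rfl⟩
      exact (hgn y).mp hy
    · intro hx
      refine ⟨g⁻¹ * x * g, ?_, ?_⟩
      · rw [hgn]
        have : g * (g⁻¹ * x * g) * g⁻¹ = x := by group
        rw [this]; exact hx
      · rw [hφapp]; group
  have hnormB : Subgroup.normalizer (B : Set G) = Nm := by
    have h1 := Subgroup.map_equiv_normalizer_eq A (MulAut.conj g)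
    rw [← hNmmap]
    exact h1.symm
  have hAB : A ≤ Subgroup.normalizer (B : Set G) := by
    rw [hnormB]; exact Subgroup.le_normalizer
  have hBA : B ≤ Subgroup.normalizer (A : Set G) := by
    have h1 : A.map φ ≤ Nm.map φ := Subgroup.map_mono Subgroup.le_normalizer
    rw [hNmmap] at h1
    exact h1
  have hABeq := rank4_eq_of_normalizing hp2 hG hNc hOmega hNcard hN2N hN2card hN2comm hC2idx
    hAc hAe hAcard hBc hBe hBcard hAB hBA
  apply hgNm
  rw [hNm, Subgroup.mem_normalizer_iff]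
  intro x
  constructor
  · intro hx
    have : g * x * g⁻¹ ∈ B := (hBmem _).mpr ⟨x, hx, rfl⟩
    rw [← hABeq] at this
    exact this
  · intro hx
    rw [hABeq] at hx
    obtain ⟨y, hy, hyx⟩ := (hBmem _).mp hx
    have : y = x := by
      have h1 : g * y = g * x := mul_right_cancel hyx
      exact mul_left_cancel h1
    rw [← this, hABeq]
    exact hABeq ▸ hy

/-- **Main theorem.** For odd `p`, a finite `p`-group containing an elementary abelian subgroup of
order `p ^ 4` has a normal elementary abelian subgroup of order `p ^ 4`. -/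
theorem exists_normal_elemAb_rank_four [Fact p.Prime] (hp2 : p ≠ 2) (hG : IsPGroup p G)
    (A : Subgroup G) (hAc : IsMulCommutative A) (hAe : ∀ a ∈ A, a ^ p = 1)
    (hAcard : Nat.card A = p ^ 4) :
    ∃ B : Subgroup G, B.Normal ∧ IsMulCommutative B ∧ (∀ b ∈ B, b ^ p = 1) ∧
      Nat.card B = p ^ 4 := by
  classical
  have hp : p.Prime := Fact.out
  -- a maximal normal elementary abelian subgroup
  let S : Set (Subgroup G) := {A | A.Normal ∧ IsMulCommutative A ∧ ∀ a ∈ A, a ^ p = 1}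
  have hSne : S.Nonempty := by
    refine ⟨⊥, Subgroup.normal_bot, isMulCommutative_of_comm ?_, ?_⟩
    · intro a ha b hb
      rw [Subgroup.mem_bot] at ha hb; rw [ha, hb]
    · intro a ha
      rw [Subgroup.mem_bot] at ha; rw [ha, one_pow]
  obtain ⟨N, ⟨hNn, hNc, hNe⟩, hNmax⟩ := wellFounded_gt.has_min S hSne
  have := hNn
  have hmax : ∀ B : Subgroup G, B.Normal → IsMulCommutative B → (∀ b ∈ B, b ^ p ^ 1 = 1) →
      N ≤ B → B = N := by
    intro B hBn hBc hBe hNB
    by_contra hne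
    exact hNmax B ⟨hBn, hBc, fun b hb => by simpa using hBe b hb⟩
      (lt_of_le_of_ne hNB (Ne.symm hne))
  have hp1 : p ^ 1 ≠ 2 := by simpa using hp2
  have hOmega : ∀ x ∈ Subgroup.centralizer (N : Set G), x ^ p = 1 → x ∈ N := by
    intro x hx hxp
    exact Cfsg.Agent.S0130.result hG 1 hp1 N hNc (fun a ha => by simpa using hNe a ha) hmax x hx
      (by simpa using hxp)
  obtain ⟨k, hk⟩ := (hG.to_subgroup N).exists_card_eq
  set K : Subgroup G := Subgroup.centralizer (N : Set G) with hK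
  have hKn : K.Normal := Subgroup.normal_centralizer
  by_cases hk4 : 4 ≤ k
  · -- a normal subgroup of order p^4 inside N
    have hk' : k = 4 + (k - 4) := by omega
    rw [hk'] at hk
    obtain ⟨B, hBn, hBN, hBc⟩ := Cfsg.Agent.S0100.exists_normal_le_card_eq hG (k - 4) N hNn 4 hk
    refine ⟨B, hBn, isMulCommutative_of_comm ?_, fun b hb => hNe b (hBN hb), hBc⟩
    intro a ha b hb
    exact comm_of_mem hNc (hBN ha) (hBN hb)
  · have hk3 : k ≤ 3 := by omega
    have hidx : K.index ≤ p ^ (k * (k - 1) / 2) := index_centralizer_le k hG N hNn hNc hk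
    have hAKN : A ⊓ K ≤ N := fun x hx => hOmega x hx.2 (hAe x hx.1)
    have hAKcard : Nat.card (A ⊓ K : Subgroup G) ≤ p ^ k := by
      rw [← hk]; exact Subgroup.card_le_of_le hAKN
    have hrel : K.relIndex A ≤ p ^ (k * (k - 1) / 2) := by
      refine le_trans (Nat.le_of_dvd ?_ (Subgroup.relIndex_dvd_index_of_normal K A)) hidx
      exact Nat.pos_of_ne_zero Subgroup.index_ne_zero_of_finite
    have hmul := relIndex_mul_card_of_le (inf_le_left : A ⊓ K ≤ A)
    rw [Subgroup.inf_relIndex_left, hAcard] at hmul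
    have hbound : p ^ 4 ≤ p ^ (k * (k - 1) / 2) * p ^ k := by
      rw [← hmul]; exact Nat.mul_le_mul hrel hAKcard
    rw [← pow_add] at hbound
    have hexp : 4 ≤ k * (k - 1) / 2 + k := (Nat.pow_le_pow_iff_right hp.one_lt).mp hbound
    have hk3' : k = 3 := by
      interval_cases k <;> simp at hexp ⊢
    subst hk3'
    -- the |N| = p^3 case
    have hN1 : N ≠ ⊥ := by
      intro h
      rw [h, Subgroup.card_bot] at hk
      have : 1 < p ^ 3 := Nat.one_lt_pow (by norm_num) hp.one_lt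
      omega
    obtain ⟨N2, hN2n, hN2N, hN2idx, hN2comm⟩ := exists_normal_relIndex_prime hG N hN1
    have := hN2n
    have hN2card : Nat.card N2 = p ^ 2 := by
      have := relIndex_mul_card_of_le hN2N
      rw [hN2idx, hk] at this
      have h3 : p * Nat.card N2 = p * p ^ 2 := by rw [this]; ring
      exact Nat.eq_of_mul_eq_mul_left hp.pos h3
    have hN2c : IsMulCommutative N2 := by
      refine isMulCommutative_of_comm ?_
      intro a ha b hb
      exact comm_of_mem hNc (hN2N ha) (hN2N hb)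
    have hC2idx : (Subgroup.centralizer (N2 : Set G)).index ≤ p := by
      have := index_centralizer_le 2 hG N2 hN2n hN2c hN2card
      simpa using this
    have hAn := rank4_normal hp2 hG hNc hOmega hk hN2N hN2card hN2comm hC2idx hAc hAe hAcard
    exact ⟨A, hAn, hAc, hAe, hAcard⟩

end Cfsg.Agent.Helper2
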