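import Mathlib
import Cfsg.Agent.Helper77.Res.Defs
import Cfsg.Agent.Helper37.BlkK
import Cfsg.Agent.Helper30.BlkK2
import Cfsg.Agent.Helper90.BlkAG
import Cfsg.Agent.Helper63.BlkH1
import Cfsg.Agent.Helper75.BlkH2

/-!
# S5289 swarm (architect helper77), piece (C1): `Ω₁(P) ≅ C_p²` central in `P`, `A` not `p`-closed ⇒ `P` abelian
-/

set_option autoImplicit false

universe u

namespace Cfsg.Agent.Helper2.Res

open Subgroup Cfsg.Agent.Helper77.Res
open scoped commutatorElement

variable {Ω : Type u} [Group Ω] {p : ℕ} [hp : Fact p.Prime]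

/-- in a cyclic subgroup, the elements with `y ^ p = 1` are the powers of any element of order `p` -/
theorem C1_mem_zpowers {H : Type u} [Group H] [Finite H] (N : Subgroup H) (hN : IsCyclic N)
    (z : H) (hz : z ∈ N) (hzo : orderOf z = p) (y : H) (hy : y ∈ N) (hyp : y ^ p = 1) :
    y ∈ Subgroup.zpowers z := by
  classical
  haveI := Fintype.ofFinite N
  have hp0 : 0 < p := hp.out.pos
  obtain ⟨S, hSmem, hScard⟩ : ∃ S : Finset N, (∀ a, a ∈ S ↔ a ^ p = 1) ∧ S.card ≤ p :=
    ⟨_, fun a => by simp, IsCyclic.card_pow_eq_one_le (α := N) hp0⟩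
  have hzno : orderOf (⟨z, hz⟩ : N) = p := by rw [← hzo]; exact Subgroup.orderOf_mk z hz
  have hsub : ((Subgroup.zpowers (⟨z, hz⟩ : N) : Set N)).toFinset ⊆ S := by
    intro a ha
    rw [Set.mem_toFinset, SetLike.mem_coe] at ha
    obtain ⟨k, rfl⟩ := Subgroup.mem_zpowers_iff.1 ha
    rw [hSmem, ← zpow_natCast, ← zpow_mul, mul_comm, zpow_mul, zpow_natCast, ← hzno,
      pow_orderOf_eq_one, one_zpow]
  have hcard : ((Subgroup.zpowers (⟨z, hz⟩ : N) : Set N)).toFinset.card = p := by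
    rw [Set.toFinset_card, ← Nat.card_eq_fintype_card]
    rw [← hzno]; exact Nat.card_zpowers _
  have heq := Finset.eq_of_subset_of_card_le hsub (by rw [hcard]; exact hScard)
  have hy' : (⟨y, hy⟩ : N) ∈ S := by
    rw [hSmem]
    apply Subtype.ext
    rw [Subgroup.coe_pow]; exact hyp
  rw [← heq, Set.mem_toFinset, SetLike.mem_coe] at hy'
  obtain ⟨k, hk⟩ := Subgroup.mem_zpowers_iff.1 hy'
  refine Subgroup.mem_zpowers_iff.2 ⟨k, ?_⟩
  have h1 := congrArg Subtype.val hk
  rw [Subgroup.coe_zpow] at h1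
  exact h1

section localcfg
variable {T P : Subgroup Ω} {A : Subgroup (MulAut ↥P)} {B : Subgroup (MulAut ↥T)}

/-- (C1) `R = Ω₁(P) ≅ C_p²` central in `P`, `A` not `p`-closed ⇒ `P` abelian. -/
theorem abelian_of_central (h5 : 5 ≤ p) (hc : Cfg p T P A B) (hnpc : ¬ PClosed T P A)
    (hRexp : ∀ r ∈ Cfsg.omegaOne p P, r ^ p = 1) (hRcard : Nat.card (Cfsg.omegaOne p P) = p ^ 2)
    (hline : ∀ L : Subgroup Ω, L ≤ Cfsg.omegaOne p P → Nat.card L = p →
      (∀ α ∈ A, ∀ x : P, (x : Ω) ∈ L → ((α x : P) : Ω) ∈ L) → PClosed T P A)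
    (hcen : ∀ r ∈ Cfsg.omegaOne p P, ∀ x ∈ P, r * x = x * r) : ∀ x ∈ P, ∀ y ∈ P, x * y = y * x := by
  classical
  have hp2 : p ≠ 2 := by omega
  haveI : Finite T := hc.fin
  haveI : Finite P := Finite.of_injective (Subgroup.inclusion hc.le) (Subgroup.inclusion_injective hc.le)
  have hPp : IsPGroup p P := hc.pgrp.to_le hc.le
  have hΩle : Cfsg.omegaOne p P ≤ P := by
    unfold Cfsg.omegaOne
    rw [Subgroup.closure_le]
    intro x hx; exact hx.1
  have hmemΩ : ∀ c : P, c ^ p = 1 → (c : Ω) ∈ Cfsg.omegaOne p P := by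
    intro c hcp
    refine Subgroup.subset_closure ⟨c.2, ?_⟩
    rw [← Subgroup.coe_pow, hcp]; rfl
  have hPC : Cfsg.Agent.Helper77.Blk.PCentral p P := by
    intro c hcp
    rw [Subgroup.mem_center_iff]
    intro g
    have h2 := hcen _ (hmemΩ c hcp) _ g.2
    apply Subtype.ext
    rw [Subgroup.coe_mul, Subgroup.coe_mul]; exact h2.symm
  have hAG := Cfsg.Agent.Helper90.Blk.propAG.{u} hp2 (Cfsg.Agent.Helper37.Blk.lemmaK hp2)
    (Cfsg.Agent.Helper30.Blk.propK2 hp2 (Cfsg.Agent.Helper37.Blk.lemmaK hp2))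
  have hidx : (Cfsg.powerClosure p 1 (⊤ : Subgroup P)).index ≤ p ^ 2 := by
    have h1 := hAG P hPp hPC ((Cfsg.omegaOne p P).subgroupOf P) (fun c hcp => by
      rw [Subgroup.mem_subgroupOf]
      exact hmemΩ c hcp)
    have h2 : Nat.card ((Cfsg.omegaOne p P).subgroupOf P) = p ^ 2 := by
      rw [← hRcard]
      exact Nat.card_congr (Subgroup.subgroupOfEquivOfLe hΩle).toEquiv
    rwa [h2] at h1
  have hmeta : Cfsg.IsMetacyclic P :=
    Cfsg.Agent.Helper75.Blk.propH2 hp2 (Cfsg.Agent.Helper63.Blk.propH1 hp2) P hPp hidx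
  obtain ⟨N, hNn, hNc, hQc⟩ := hmeta
  have hDN : _root_.commutator P ≤ N := by
    haveI := hNn
    apply Subgroup.Normal.quotient_commutative_iff_commutator_le.mp
    infer_instance
  by_cases hD : _root_.commutator P = ⊥
  · intro x hx y hy
    have h1 : ⁅(⟨x, hx⟩ : P), ⟨y, hy⟩⁆ ∈ _root_.commutator P :=
      Subgroup.commutator_mem_commutator (Subgroup.mem_top _) (Subgroup.mem_top _)
    rw [hD, Subgroup.mem_bot, commutatorElement_eq_one_iff_mul_comm] at h1
    exact congrArg Subtype.val h1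
  · exfalso
    apply hnpc
    have hDp : IsPGroup p (_root_.commutator P) := hPp.to_subgroup _
    haveI : Nontrivial (_root_.commutator P) := (Subgroup.nontrivial_iff_ne_bot _).2 hD
    obtain ⟨k, hk0, hk⟩ := (hDp.nontrivial_iff_card).1 inferInstance
    have hdvd : p ∣ Nat.card (_root_.commutator P) := by rw [hk]; exact dvd_pow_self p hk0.ne'
    obtain ⟨z', hz'⟩ := exists_prime_orderOf_dvd_card' p hdvd
    have hzD : (z' : P) ∈ _root_.commutator P := z'.2
    have hzo : orderOf (z' : P) = p := by rw [← hz']; exact Subgroup.orderOf_coe z'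
    have hzN : (z' : P) ∈ N := hDN hzD
    refine hline ((Subgroup.zpowers (z' : P)).map P.subtype) ?_ ?_ ?_
    · rintro _ ⟨y, hy, rfl⟩
      obtain ⟨k, rfl⟩ := Subgroup.mem_zpowers_iff.1 hy
      refine hmemΩ ((z' : P) ^ k) ?_
      rw [← zpow_natCast, ← zpow_mul, mul_comm, zpow_mul, zpow_natCast, ← hzo,
        pow_orderOf_eq_one, one_zpow]
    · rw [Subgroup.card_map_of_injective P.subtype_injective, Nat.card_zpowers, hzo]
    · intro α hα x hx
      obtain ⟨y, hy, hyx⟩ := hx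
      have hyx' : y = x := Subtype.ext hyx
      rw [← hyx']
      obtain ⟨k, rfl⟩ := Subgroup.mem_zpowers_iff.1 hy
      have hαzD : α (z' : P) ∈ _root_.commutator P := by
        haveI : (_root_.commutator P).Characteristic := by
          unfold _root_.commutator; infer_instance
        exact (Subgroup.characteristic_iff_le_comap.1 inferInstance α) hzD
      have hαzp : (α (z' : P)) ^ p = 1 := by
        rw [← map_pow, ← hzo, pow_orderOf_eq_one, map_one]
      have hαz : α (z' : P) ∈ Subgroup.zpowers (z' : P) :=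
        C1_mem_zpowers N hNc _ hzN hzo _ (hDN hαzD) hαzp
      refine ⟨α ((z' : P) ^ k), ?_, rfl⟩
      rw [map_zpow]
      exact Subgroup.zpow_mem _ hαz k

end localcfg

end Cfsg.Agent.Helper2.Res
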