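import Cfsg.Agent.Helper85.SolvNormal
import Cfsg.Agent.Helper85.PPowerNormal
import Cfsg.Agent.Helper88.Constrained
import Cfsg.Agent.Helper2.PSolvExt
import Cfsg.Agent.S5120
import Cfsg.Agent.S5124
import Cfsg.Agent.S5128

set_option autoImplicit false
set_option linter.style.haveILetI false

/-!
Going up along the `p`-residual subsystem (helper2): if `D = O^p(E)` is solvable (has the step property) then so is `E`;
if all automizers of `D` are `p`-solvable then so are all automizers of `E`.
-/

namespace Cfsg.Agent.Helper2.ResUp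

open Cfsg Cfsg.FusionSystem Cfsg.Agent.Helper87 Cfsg.Agent.Helper85 Cfsg.Agent.Helper88.FS
open scoped commutatorElement

variable {Ω : Type*} [Group Ω] {S : Subgroup Ω}

/-- The step property for a system with an invariant subsystem `E` over `T`, given steps above `T`. -/
theorem stepProp_of_invariant [Finite S] {p : ℕ} [Fact p.Prime] (hS : IsPGroup p S) (F : FusionSystem S)
    (hF : F.IsSaturated p) {T : Subgroup Ω} (E : FusionSystem T) (hE : E.IsInvariantIn F) (hEstep : StepProp E)
    (hup : ∀ A : Subgroup Ω, F.StronglyClosed A → T ≤ A → A ≠ S →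
      ∃ B : Subgroup Ω, F.StronglyClosed B ∧ A < B ∧ ⁅B, B⁆ ≤ A) : StepProp F := by
  intro A hA hAS
  have hT : F.StronglyClosed T := hE.2.1
  have hTS : T ≤ S := hT.1
  by_cases hTA : T ≤ A
  · exact hup A hA hTA hAS
  · have hfinT : Finite T := finite_of_le hTS
    obtain ⟨n, hn⟩ := exists_dser_eq_bot E hEstep
    have hex : ∃ i, dser E i ≤ A := ⟨n, by rw [hn]; exact bot_le⟩
    classical
    have hi : dser E (Nat.find hex) ≤ A := Nat.find_spec hex
    have hi0 : Nat.find hex ≠ 0 := by
      intro h0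
      apply hTA
      have h1 := hi
      rw [h0] at h1
      exact h1
    obtain ⟨j, hj⟩ := Nat.exists_eq_succ_of_ne_zero hi0
    have hjA : ¬ dser E j ≤ A := Nat.find_min hex (by omega)
    have hXsc : F.StronglyClosed (dser E j) :=
      stronglyClosed_of_autStable hE (stronglyClosed_dser E j)
        (autStable_dser E _ (autInv_of_isInvariantIn hE) j)
    have hXX : ⁅dser E j, dser E j⁆ ≤ A := by
      refine (commutator_dser_le E j).trans ?_
      have h1 := hi
      rw [hj] at h1
      exact h1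
    refine ⟨A ⊔ dser E j, Cfsg.Agent.S5128.result p hS F hF A (dser E j) hA hXsc, ?_, ?_⟩
    · exact lt_of_le_of_ne le_sup_left (fun h => hjA (by rw [h]; exact le_sup_right))
    · exact commutator_sup_self_le (le_normalizer_of_stronglyClosed F hA) hA.1 hXsc.1 hXX

/-- Above a proper strongly closed subgroup containing the hyperfocal subgroup there is a larger strongly closed subgroup
with abelian quotient. -/
theorem exists_step_above [Finite S] {p : ℕ} [Fact p.Prime] (hS : IsPGroup p S) (E : FusionSystem S)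
    (hE : E.IsSaturated p) {A : Subgroup Ω} (hA : E.StronglyClosed A) (hhyp : E.hyperfocalSubgroup p ≤ A)
    (hAS : A ≠ S) : ∃ B : Subgroup Ω, E.StronglyClosed B ∧ A < B ∧ ⁅B, B⁆ ≤ A := by
  have hAle : A ≤ S := hA.1
  haveI hAn : (A.subgroupOf S).Normal := normal_subgroupOf_of_stronglyClosed E hA
  have hne : A.subgroupOf S ≠ ⊤ := by
    intro h
    apply hAS
    apply le_antisymm hAle
    intro s hs
    have : (⟨s, hs⟩ : S) ∈ A.subgroupOf S := by rw [h]; trivial
    exact Subgroup.mem_subgroupOf.mp this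
  haveI : Nontrivial (S ⧸ A.subgroupOf S) := by
    rw [← not_subsingleton_iff_nontrivial]
    intro hsub
    exact hne (QuotientGroup.subgroup_eq_top_of_subsingleton _ hsub)
  have hQp : IsPGroup p (S ⧸ A.subgroupOf S) := hS.to_quotient _
  haveI := hQp.center_nontrivial
  obtain ⟨⟨q, hq⟩, hq1⟩ := exists_ne (1 : Subgroup.center (S ⧸ A.subgroupOf S))
  obtain ⟨z, rfl⟩ := QuotientGroup.mk_surjective q
  have hzA : (z : Ω) ∉ A := by
    intro h
    apply hq1
    apply Subtype.ext
    show (QuotientGroup.mk z : S ⧸ A.subgroupOf S) = 1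
    rw [QuotientGroup.eq_one_iff]
    exact Subgroup.mem_subgroupOf.mpr h
  have hcomm : ∀ s ∈ S, ⁅s, (z : Ω)⁆ ∈ A := by
    intro s hs
    have h1 : (QuotientGroup.mk (⁅(⟨s, hs⟩ : S), z⁆) : S ⧸ A.subgroupOf S) = 1 := by
      have h2 : (QuotientGroup.mk (⁅(⟨s, hs⟩ : S), z⁆) : S ⧸ A.subgroupOf S) =
          ⁅(QuotientGroup.mk (⟨s, hs⟩ : S) : S ⧸ A.subgroupOf S), QuotientGroup.mk z⁆ := by
        rw [commutatorElement_def, commutatorElement_def]
        rfl
      rw [h2, commutatorElement_eq_one_iff_mul_comm]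
      exact (Subgroup.mem_center_iff.mp hq _)
    rw [QuotientGroup.eq_one_iff] at h1
    exact Subgroup.mem_subgroupOf.mp h1
  set B : Subgroup Ω := A ⊔ Subgroup.zpowers (z : Ω) with hB
  have hzB : (z : Ω) ∈ B := Subgroup.mem_sup_right (Subgroup.mem_zpowers _)
  have hBS : B ≤ S := sup_le hAle (by rw [Subgroup.zpowers_le]; exact z.2)
  have hSnA : S ≤ Subgroup.normalizer (A : Set Ω) := le_normalizer_of_stronglyClosed E hA
  have hconj : ∀ s ∈ S, ∀ y ∈ B, s * y * s⁻¹ ∈ B := by
    intro s hs y hy
    have hle : B.map (MulAut.conj s).toMonoidHom ≤ B := by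
      rw [hB, Subgroup.map_sup]
      apply sup_le
      · rintro _ ⟨a, ha, rfl⟩
        apply Subgroup.mem_sup_left
        exact (Subgroup.mem_normalizer_iff.mp (hSnA hs) a).mp ha
      · rw [MonoidHom.map_zpowers, Subgroup.zpowers_le]
        show s * (z : Ω) * s⁻¹ ∈ A ⊔ Subgroup.zpowers (z : Ω)
        have e : s * (z : Ω) * s⁻¹ = ⁅s, (z : Ω)⁆ * z := by
          rw [commutatorElement_def]; group
        rw [e]
        exact Subgroup.mul_mem _ (Subgroup.mem_sup_left (hcomm s hs)) hzB
    exact hle ⟨y, hy, rfl⟩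
  have hH : ∀ g ∈ S, ∀ x : Ω, g * x * g⁻¹ ∈ B ↔ x ∈ B := by
    intro g hg x
    refine ⟨fun h => ?_, hconj g hg x⟩
    have := hconj g⁻¹ (S.inv_mem hg) _ h
    have e : g⁻¹ * (g * x * g⁻¹) * g⁻¹⁻¹ = x := by group
    rwa [e] at this
  refine ⟨B, stronglyClosed_of_hyperfocal_le hS E hE hBS hH (hhyp.trans le_sup_left), ?_, ?_⟩
  · exact lt_of_le_of_ne le_sup_left (fun h => hzA (by rw [h]; exact hzB))
  · apply commutator_sup_self_le hSnA hAle (by rw [Subgroup.zpowers_le]; exact z.2)
    rw [Subgroup.commutator_le]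
    intro a ha b hb
    obtain ⟨i, rfl⟩ := Subgroup.mem_zpowers_iff.mp ha
    obtain ⟨j, rfl⟩ := Subgroup.mem_zpowers_iff.mp hb
    have : ⁅(z : Ω) ^ i, (z : Ω) ^ j⁆ = 1 := by
      rw [commutatorElement_eq_one_iff_commute]
      exact (Commute.refl _).zpow_zpow i j
    rw [this]
    exact A.one_mem

/-- **Going up, solvability**: if the `p`-residual subsystem has the step property, so has the system. -/
theorem stepProp_of_pResidual [Finite S] {p : ℕ} [Fact p.Prime] (hS : IsPGroup p S) (E : FusionSystem S)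
    (hE : E.IsSaturated p) (D : FusionSystem (E.hyperfocalSubgroup p)) (hD : E.IsPResidual p D)
    (hDstep : StepProp D) : StepProp E := by
  have hTsc : E.StronglyClosed (E.hyperfocalSubgroup p) := Cfsg.Agent.S5124.result p hS E hE
  have hTn := normal_subgroupOf_of_stronglyClosed E hTsc
  have hnorm := Cfsg.Agent.S5120.result p hS E hE _ hTsc.1 hTn le_rfl D hD.1 hD.2
  apply stepProp_of_invariant hS E hE D hnorm.1.2.2 hDstep
  intro A hA hTA hAS
  exact exists_step_above hS E hE hA hTA hAS

/-- Automizers of subgroups of the hyperfocal subgroup: `p`-solvable if those of the `p`-residual subsystem are. -/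
theorem isPSolvable_autGroup_of_le_hyperfocal.{u} {Ω : Type u} [Group Ω] {S : Subgroup Ω} [Finite S] {p : ℕ}
    [Fact p.Prime] (E : FusionSystem S)
    (D : FusionSystem (E.hyperfocalSubgroup p)) (hD : E.IsPResidual p D) {P : Subgroup Ω}
    (hPT : P ≤ E.hyperfocalSubgroup p) (hDsol : IsPSolvable p (D.autGroup P)) :
    IsPSolvable p (E.autGroup P) := by
  have hPS : P ≤ S := hPT.trans (hyperfocalSubgroup_le E p)
  haveI : Finite (MulAut P) := finite_mulAut_of_le hPS
  have hle : ∀ x : pResidual p (E.autGroup P), (((x : E.autGroup P) : MulAut P)) ∈ D.autGroup P := fun x =>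
    hD.2.2.2 P hPT (Subgroup.mem_map_of_mem _ x.2)
  let f : pResidual p (E.autGroup P) →* D.autGroup P :=
    (((E.autGroup P).subtype).comp (pResidual p (E.autGroup P)).subtype).codRestrict (D.autGroup P) hle
  have hf : Function.Injective f := by
    intro a b hab
    have h1 : (((a : E.autGroup P) : MulAut P)) = (((b : E.autGroup P) : MulAut P)) :=
      congrArg (fun t : D.autGroup P => (t : MulAut P)) hab
    exact Subtype.ext (Subtype.ext h1)
  have hN : IsPSolvable p (pResidual p (E.autGroup P)) := PSolvExt.isPSolvable_of_injective f hf hDsol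
  exact PSolvExt.isPSolvable_of_normal_of_index (pResidual p (E.autGroup P)) hN
    (Or.inl (Cfsg.Agent.Lib.index_pResidual p))

/-- **Going up, automizers**: if all automizers of the `p`-residual subsystem are `p`-solvable, so are those of the
system. -/
theorem isPSolvable_autGroup_of_pResidual.{u} {Ω : Type u} [Group Ω] {S : Subgroup Ω} [Finite S] {p : ℕ}
    [Fact p.Prime] (hS : IsPGroup p S) (E : FusionSystem S)
    (hE : E.IsSaturated p) (D : FusionSystem (E.hyperfocalSubgroup p)) (hD : E.IsPResidual p D)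
    (hDsol : ∀ P : Subgroup Ω, P ≤ E.hyperfocalSubgroup p → IsPSolvable p (D.autGroup P))
    (P : Subgroup Ω) (hPS : P ≤ S) : IsPSolvable p (E.autGroup P) := by
  have hTsc : E.StronglyClosed (E.hyperfocalSubgroup p) := Cfsg.Agent.S5124.result p hS E hE
  haveI : Finite P := finite_of_le hPS
  haveI : Finite (MulAut P) := finite_mulAut_of_le hPS
  have hPp : IsPGroup p P := hS.to_le hPS
  set M : Subgroup Ω := P ⊓ E.hyperfocalSubgroup p with hM
  have hMT : M ≤ E.hyperfocalSubgroup p := inf_le_right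
  have hMP : M ≤ P := inf_le_left
  have hXM : IsPSolvable p (E.autGroup M) :=
    isPSolvable_autGroup_of_le_hyperfocal E D hD hMT (hDsol M hMT)
  have hpres : ∀ γ ∈ E.autGroup P, ∀ x : P, ((γ x : P) : Ω) ∈ M ↔ (x : Ω) ∈ M := by
    intro γ hγ x
    have h1 := aut_mem_iff_of_stronglyClosed E hTsc hPS hγ x
    constructor
    · intro h
      exact ⟨x.2, h1.mp h.2⟩
    · intro h
      exact ⟨(γ x).2, h1.mpr h.2⟩
  set ρ : E.autGroup P →* E.autGroup M := resAutHom E hPS hMP hpres with hρ
  -- the kernel is a `p`-group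
  have hK : IsPGroup p ρ.ker := by
    rintro ⟨a, ha⟩
    have hafix : ∀ (k : ℕ) (x : P), (x : Ω) ∈ M → (((a ^ k : E.autGroup P) : MulAut P) x) = x := by
      intro k x hx
      have hk : a ^ k ∈ ρ.ker := Subgroup.pow_mem _ ha k
      have h1 : ρ (a ^ k) = 1 := hk
      have h2 := resAutHom_apply E hPS hMP hpres (a ^ k) ⟨x, hx⟩
      rw [← hρ, h1] at h2
      apply Subtype.ext
      exact h2.symm
    have hpos : 0 < orderOf a := orderOf_pos a
    obtain ⟨k, m, hm, hkm⟩ := Nat.exists_eq_pow_mul_and_not_dvd hpos.ne' p (Fact.out : p.Prime).ne_one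
    have hcop : (orderOf (a ^ p ^ k)).Coprime p := by
      rw [orderOf_pow' a (pow_ne_zero k (Fact.out : p.Prime).ne_zero), hkm, Nat.gcd_eq_right (Dvd.intro _ rfl),
        Nat.mul_div_cancel_left _ (pow_pos (Fact.out : p.Prime).pos k)]
      exact ((Nat.Prime.coprime_iff_not_dvd Fact.out).mpr hm).symm
    set b : E.autGroup P := a ^ p ^ k with hb
    have hbres : b ∈ pResidual p (E.autGroup P) := Cfsg.Agent.Lib.mem_pResidual_of_coprime hcop
    have hbstab : (b : MulAut P) ∈ chainStab (M.subgroupOf P) := by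
      refine ⟨fun x hx => hafix (p ^ k) x (Subgroup.mem_subgroupOf.mp hx), fun x => ?_⟩
      rw [Subgroup.mem_subgroupOf]
      have h1 := mem_hyperfocalSubgroup E p hPS b hbres x
      refine ⟨?_, ?_⟩
      · exact (x⁻¹ * (b : MulAut P) x).2
      · exact h1
    obtain ⟨j, hj⟩ := (isPGroup_chainStab hPp (M.subgroupOf P)) ⟨(b : MulAut P), hbstab⟩
    have hj' : b ^ p ^ j = 1 := by
      apply Subtype.ext
      have := congrArg Subtype.val hj
      exact this
    have hdvd : orderOf b ∣ p ^ j := orderOf_dvd_of_pow_eq_one hj'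
    have h1 : orderOf b = 1 := (hcop.pow_right j).eq_one_of_dvd hdvd
    refine ⟨k, Subtype.ext ?_⟩
    exact orderOf_eq_one_iff.mp h1
  have hquot : IsPSolvable p (E.autGroup P ⧸ ρ.ker) :=
    PSolvExt.isPSolvable_of_injective (QuotientGroup.kerLift ρ) (QuotientGroup.kerLift_injective ρ) hXM
  exact Cfsg.Agent.Helper31.isPSolvable_of_quotient_of_card ρ.ker (Or.inl (IsPGroup.iff_card.mp hK)) hquot

end Cfsg.Agent.Helper2.ResUp
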