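import Cfsg.Agent.Helper85.TransportSubnormal
import Cfsg.Agent.Helper85.SolvNormal
import Cfsg.Agent.Helper85.PPowerNormal
import Cfsg.Agent.Helper2.ResUp
import Cfsg.Agent.S5114

set_option autoImplicit false
set_option linter.style.haveILetI false

/-!
Going up along the `p'`-residual subsystem (helper2): the `p'`-residual subsystem `E = O^{p'}(F)` is invariant in `F`; if `E` is
solvable (has the step property) then so is `F`; if an automizer of `E` is `p`-solvable then so is that of `F`.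
-/

namespace Cfsg.Agent.Helper2.ResPrime

open Cfsg Cfsg.FusionSystem Cfsg.Agent.Helper87 Cfsg.Agent.Helper85 Cfsg.Agent.Helper88.FS

/-! ### The subgroup generated by the `p`-elements -/

/-- `O^{p'}(G)`: the subgroup generated by the elements of `p`-power order. -/
def opPrime (p : ℕ) (G : Type*) [Group G] : Subgroup G :=
  Subgroup.closure {g : G | ∃ k : ℕ, orderOf g = p ^ k}

theorem opPrime_characteristic (p : ℕ) (G : Type*) [Group G] : (opPrime p G).Characteristic := by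
  rw [Subgroup.characteristic_iff_map_le]
  intro φ
  unfold opPrime
  rw [MonoidHom.map_closure]
  apply Subgroup.closure_mono
  rintro _ ⟨g, ⟨k, hk⟩, rfl⟩
  refine ⟨k, ?_⟩
  show orderOf (φ g) = p ^ k
  rw [MulEquiv.orderOf_eq]
  exact hk

instance opPrime_normal (p : ℕ) (G : Type*) [Group G] : (opPrime p G).Normal :=
  have := opPrime_characteristic p G
  inferInstance

theorem mem_opPrime_of_orderOf {p : ℕ} {G : Type*} [Group G] {g : G} {k : ℕ} (h : orderOf g = p ^ k) :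
    g ∈ opPrime p G := Subgroup.subset_closure ⟨k, h⟩

theorem sylow_le_opPrime {p : ℕ} [Fact p.Prime] {G : Type*} [Group G] (P : Sylow p G) :
    (P : Subgroup G) ≤ opPrime p G := by
  intro g hg
  obtain ⟨k, hk⟩ := (IsPGroup.iff_orderOf.mp P.2) ⟨g, hg⟩
  rw [Subgroup.orderOf_mk] at hk
  exact mem_opPrime_of_orderOf hk

theorem index_opPrime_coprime {p : ℕ} [Fact p.Prime] {G : Type*} [Group G] [Finite G] :
    (opPrime p G).index.Coprime p := by
  obtain ⟨P⟩ := (inferInstance : Nonempty (Sylow p G))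
  have h1 : (opPrime p G).index ∣ (P : Subgroup G).index := Subgroup.index_dvd_of_le (sylow_le_opPrime P)
  have h2 : ¬ p ∣ (P : Subgroup G).index := P.not_dvd_index
  exact ((Nat.Prime.coprime_iff_not_dvd Fact.out).mpr (fun h => h2 (h.trans h1))).symm

/-- A finite group with a `p`-solvable subgroup containing all `p`-elements is `p`-solvable. -/
theorem isPSolvable_of_opPrime_le.{u} {G : Type u} [Group G] [Finite G] {p : ℕ} [Fact p.Prime] (H : Subgroup G)
    (hle : opPrime p G ≤ H) (hH : IsPSolvable p H) : IsPSolvable p G := by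
  have hN : IsPSolvable p (opPrime p G) :=
    PSolvExt.isPSolvable_of_injective (Subgroup.inclusion hle) (Subgroup.inclusion_injective hle) hH
  exact PSolvExt.isPSolvable_of_normal_of_index (opPrime p G) hN (Or.inr index_opPrime_coprime)

/-! ### Automizers -/

/-- **Going up, automizers**: if `E` has index prime to `p` in `F` and `Aut_E(P)` is `p`-solvable, so is `Aut_F(P)`. -/
theorem isPSolvable_autGroup_of_primeIndex.{u} {Ω : Type u} [Group Ω] {S : Subgroup Ω} [Finite S] {p : ℕ}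
    [Fact p.Prime] (F E : FusionSystem S) (hEi : E.HasPrimeToPIndexIn F p) {P : Subgroup Ω} (hPS : P ≤ S)
    (hE : IsPSolvable p (E.autGroup P)) : IsPSolvable p (F.autGroup P) := by
  haveI : Finite (MulAut P) := finite_mulAut_of_le hPS
  have hEF : E.autGroup P ≤ F.autGroup P := Cfsg.Agent.Helper85.autGroup_le_of_isSubsystemOf F E hEi.1 hPS
  apply isPSolvable_of_opPrime_le ((E.autGroup P).subgroupOf (F.autGroup P))
  · have h := hEi.2 P hPS
    rw [Subgroup.map_le_iff_le_comap] at h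
    exact h
  · exact Cfsg.Agent.Helper11.isPSolvable_of_mulEquiv (Subgroup.subgroupOfEquivOfLe hEF).symm hE

/-! ### Invariance of the `p'`-residual subsystem -/

variable {Ω : Type*} [Group Ω] {S : Subgroup Ω}

/-- The extension to the ambient group of an automorphism of `S`. -/
noncomputable def extAut (β : MulAut S) : Ω → Ω := extFun (S.subtype.comp β.toMonoidHom)

theorem extAut_coe (β : MulAut S) (x : S) : extAut β (x : Ω) = ((β x : S) : Ω) := extFun_coe _ x

theorem extAut_inv_apply (α : MulAut S) (x : S) : extAut α⁻¹ ((α x : S) : Ω) = (x : Ω) := by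
  rw [extAut_coe, MulAut.inv_apply_self]

theorem apply_extAut_inv (α : MulAut S) {y : Ω} (hy : y ∈ S) (h : extAut α⁻¹ y ∈ S) :
    ((α ⟨extAut α⁻¹ y, h⟩ : S) : Ω) = y := by
  have e : (⟨extAut α⁻¹ y, h⟩ : S) = α⁻¹ ⟨y, hy⟩ := Subtype.ext (extAut_coe α⁻¹ ⟨y, hy⟩)
  rw [e, MulAut.apply_inv_self]

/-- A saturated fusion system is carried onto itself by its automorphisms of `S`. -/
theorem isImgF_extAut [Finite S] {p : ℕ} [Fact p.Prime] (hS : IsPGroup p S) (F : FusionSystem S)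
    (hF : F.IsSaturated p) {β : MulAut S} (hβ : β ∈ F.autGroup S) : IsImgF (extAut β) F F := by
  have hinv : F.IsInvariantIn F :=
    (Cfsg.Agent.S5119.result p hS F hF F (fun _ _ h => h) ⟨le_rfl, fun R _ φ hφ x => (F.le_of_mem hφ).2 x⟩).mpr
      (strongInv_self F)
  exact isImgF_aut hinv hβ (g := extAut β) (fun x => extAut_coe β x)

/-- The image under `α⁻¹ ∈ Aut_F(S)` of a subsystem of index prime to `p` has index prime to `p`. -/
theorem hasPrimeToPIndexIn_img [Finite S] {p : ℕ} [Fact p.Prime] (F : FusionSystem S)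
    (E E' : FusionSystem S) (hEi : E.HasPrimeToPIndexIn F p) {α : MulAut S} (hα : α ∈ F.autGroup S)
    (hFF : IsImgF (extAut α⁻¹) F F) (hE' : IsImgF (extAut α⁻¹) E E') : E'.HasPrimeToPIndexIn F p := by
  refine ⟨isSubsystemOf_img hFF hE' hEi.1, fun P' hP'S => ?_⟩
  rw [Subgroup.map_le_iff_le_comap, Subgroup.closure_le]
  rintro γ ⟨k, hk⟩
  show ((γ : MulAut P')) ∈ E'.autGroup P'
  rw [mem_autGroup_iff E' hP'S]
  unfold IsIso
  have hαiso : IsIso F (α : S ≃* S) := (mem_autGroup_iff F le_rfl α).mp hα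
  have he₀ : IsIso F (restrictIso (α : S ≃* S) hP'S) := isIso_restrictIso F hαiso hP'S
  have hP₀S : imageSub (α : S ≃* S) P' ≤ S := imageSub_le _ _
  set γ₀ := autTransport F (restrictIso (α : S ≃* S) hP'S) he₀ γ with hγ₀
  have hpow : γ₀ ^ p ^ k = 1 := by
    rw [hγ₀, ← map_pow, ← hk, pow_orderOf_eq_one, map_one]
  obtain ⟨j, -, hj⟩ := (Nat.dvd_prime_pow (Fact.out : p.Prime)).mp (orderOf_dvd_of_pow_eq_one hpow)
  have hgen : γ₀ ∈ Subgroup.closure {α' : F.autGroup (imageSub (α : S ≃* S) P') | ∃ k : ℕ, orderOf α' = p ^ k} :=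
    Subgroup.subset_closure ⟨j, hj⟩
  have hmem : ((γ₀ : MulAut (imageSub (α : S ≃* S) P'))) ∈ E.autGroup (imageSub (α : S ≃* S) P') :=
    hEi.2 _ hP₀S (Subgroup.mem_map_of_mem _ hgen)
  have hφ₀ := (mem_autGroup_iff E hP₀S _).mp hmem
  unfold IsIso at hφ₀
  rw [hE'.iff]
  refine ⟨_, _, hφ₀, ?_, ?_⟩
  · intro y
    constructor
    · intro hy
      refine ⟨((α ⟨y, hP'S hy⟩ : S) : Ω), mem_imageSub (α : S ≃* S) P' ⟨y, hP'S hy⟩ hy, ?_⟩
      exact extAut_inv_apply α ⟨y, hP'S hy⟩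
    · rintro ⟨_, ⟨x, hx, rfl⟩, rfl⟩
      show extAut α⁻¹ ((α x : S) : Ω) ∈ P'
      rw [extAut_inv_apply]
      exact hx
  · rintro ⟨_, ⟨x, hx, rfl⟩⟩ h
    have hx' : (x : Ω) ∈ P' := hx
    have hmem₀ : ((α x : S) : Ω) ∈ imageSub (α : S ≃* S) P' := ⟨x, hx, rfl⟩
    show (((γ : MulAut P') ⟨extAut α⁻¹ ((α x : S) : Ω), h⟩ : P') : Ω) =
      extAut α⁻¹ ((((γ₀ : MulAut (imageSub (α : S ≃* S) P'))
        ⟨((α x : S) : Ω), hmem₀⟩ : imageSub (α : S ≃* S) P')) : Ω)
    have e1 : (⟨((α x : S) : Ω), hmem₀⟩ : imageSub (α : S ≃* S) P') =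
        restrictIso (α : S ≃* S) hP'S ⟨x, hx'⟩ := Subtype.ext rfl
    have e2 : (⟨extAut α⁻¹ ((α x : S) : Ω), h⟩ : P') = ⟨x, hx'⟩ := Subtype.ext (extAut_inv_apply α x)
    rw [e2, e1, hγ₀, autTransport_apply, MulEquiv.symm_apply_apply, restrictIso_apply]
    exact (extAut_inv_apply α (Subgroup.inclusion hP'S ((γ : MulAut P') ⟨x, hx'⟩))).symm

/-- The `p'`-residual subsystem is invariant under `Aut_F(S)`. -/
theorem autInv_of_isPPrimeResidual [Finite S] {p : ℕ} [Fact p.Prime] (hS : IsPGroup p S) (F : FusionSystem S)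
    (hF : F.IsSaturated p) (E : FusionSystem S) (hE : F.IsPPrimeResidual p E) : AutInv E (F.autGroup S) := by
  intro P hPS θ hθ α hα
  have hβ : α⁻¹ ∈ F.autGroup S := (F.autGroup S).inv_mem hα
  have hFF : IsImgF (extAut α⁻¹) F F := isImgF_extAut hS F hF hβ
  obtain ⟨T', E', hE'⟩ := exists_isImgF hFF.hom E
  have hT' : T' = S := hE'.im.eq_right hFF.im
  subst hT'
  have hE'sat : E'.IsSaturated p := isSaturated_img hS hE' hE.1
  have hE'idx : E'.HasPrimeToPIndexIn F p := hasPrimeToPIndexIn_img F E E' hE.2.1 hα hFF hE'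
  have hEE' : E.IsSubsystemOf E' := hE.2.2 E' hE'sat hE'idx
  obtain ⟨P₁, φ₁, hφ₁, him, hind⟩ := (hE'.iff P θ).mp (hEE' P hθ)
  have hP₁S : P₁ ≤ T' := (E.le_of_mem hφ₁).1
  have hφ₁S : ∀ x, φ₁ x ∈ T' := (E.le_of_mem hφ₁).2
  intro P' hP'
  have hPP : P₁ = P' := by
    ext y
    constructor
    · intro hy
      have hgy : extAut α⁻¹ y ∈ P := him.map_mem hy
      exact (hP' y).mpr ⟨⟨extAut α⁻¹ y, hgy⟩, apply_extAut_inv α (hP₁S hy) (hPS hgy)⟩
    · intro hy
      obtain ⟨x, rfl⟩ := (hP' y).mp hy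
      obtain ⟨x₁, hx₁, hx₁x⟩ := (him (x : Ω)).mp x.2
      have e : (⟨(x : Ω), hPS x.2⟩ : T') = ⟨extAut α⁻¹ x₁, by rw [hx₁x]; exact hPS x.2⟩ :=
        Subtype.ext hx₁x.symm
      rw [e, apply_extAut_inv α (hP₁S hx₁)]
      exact hx₁
  subst hPP
  refine ⟨φ₁, hφ₁, fun x hx hθx => ?_⟩
  have hgx : extAut α⁻¹ (((⟨((α ⟨x, hPS x.2⟩ : T') : Ω), hx⟩ : P₁)) : Ω) ∈ P := by
    show extAut α⁻¹ ((α ⟨x, hPS x.2⟩ : T') : Ω) ∈ P
    rw [extAut_inv_apply]
    exact x.2
  have h1 := hind ⟨((α ⟨x, hPS x.2⟩ : T') : Ω), hx⟩ hgx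
  have e2 : (⟨extAut α⁻¹ (((⟨((α ⟨x, hPS x.2⟩ : T') : Ω), hx⟩ : P₁)) : Ω), hgx⟩ : P) = x :=
    Subtype.ext (extAut_inv_apply α ⟨x, hPS x.2⟩)
  rw [e2] at h1
  have h2 : (⟨θ x, hθx⟩ : T') = ⟨extAut α⁻¹ (φ₁ ⟨((α ⟨x, hPS x.2⟩ : T') : Ω), hx⟩), by rw [← h1]; exact hθx⟩ :=
    Subtype.ext h1
  rw [h2, apply_extAut_inv α (hφ₁S _)]

/-- The `p'`-residual subsystem is invariant in the system. -/
theorem isInvariantIn_of_isPPrimeResidual [Finite S] {p : ℕ} [Fact p.Prime] (hS : IsPGroup p S) (F : FusionSystem S)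
    (hF : F.IsSaturated p) (E : FusionSystem S) (hE : F.IsPPrimeResidual p E) : E.IsInvariantIn F := by
  have hAI : AutInv E (F.autGroup S) := autInv_of_isPPrimeResidual hS F hF E hE
  have h14 := Cfsg.Agent.S5114.result p hS F hF E hE.2.1.1 (fun P hP => hE.2.1.2 P hP.1)
  refine ⟨hE.2.1.1, stronglyClosed_self F, ?_, fun P _ => h14.2.1 P⟩
  intro P hPT φ hφ α hα
  obtain ⟨χ, hχ, hχx⟩ := hAI hPT hφ hα _ (imgT_spec α hPT)
  exact ⟨χ, hχ, fun x hφx hαx => hχx x hαx hφx⟩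

/-- **Going up, solvability**: if the `p'`-residual subsystem has the step property, so has the system. -/
theorem stepProp_of_isPPrimeResidual [Finite S] {p : ℕ} [Fact p.Prime] (hS : IsPGroup p S) (F : FusionSystem S)
    (hF : F.IsSaturated p) (E : FusionSystem S) (hE : F.IsPPrimeResidual p E) (hEstep : StepProp E) :
    StepProp F := by
  apply ResUp.stepProp_of_invariant hS F hF E (isInvariantIn_of_isPPrimeResidual hS F hF E hE) hEstep
  intro A hA hSA hAS
  exact absurd (le_antisymm hA.1 hSA) hAS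

end Cfsg.Agent.Helper2.ResPrime
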