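import Cfsg.Agent.Helper88.PullNormal
import Cfsg.Agent.Helper85.ResidualLimit
import Cfsg.Agent.Helper2.ResPrime

set_option autoImplicit false
set_option linter.style.haveILetI false

/-!
Going down along the residual subsystems for a system realized by a `p`-solvable group (helper2): group-theoretic
termination lemma, the hyperfocal subgroup of a realized system lies in `O^p` of the group, and automorphisms of
`p`-power order are induced by elements of `O^{p'}` of the group.
-/

namespace Cfsg.Agent.Helper2.ResDown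

open Cfsg Cfsg.FusionSystem Cfsg.Agent.Helper87 Cfsg.Agent.Helper85 Cfsg.Agent.Helper88.PN
open Cfsg.Agent.Helper2.ResPrime

/-! ### Group theory -/

/-- A finite `p`-solvable group generated by its `p'`-elements and also by its `p`-elements is trivial. -/
theorem subsingleton_of_isPSolvable {K : Type*} [Group K] [Finite K] {p : ℕ} [Fact p.Prime]
    (h : IsPSolvable p K) (h1 : Cfsg.pResidual p K = ⊤) (h2 : opPrime p K = ⊤) : Subsingleton K := by
  obtain ⟨n, H, h0, hlast, hmono, hnorm, hstep⟩ := h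
  have key : ∀ i : Fin (n + 1), H i = ⊤ := by
    intro i
    induction i using Fin.reverseInduction with
    | last => exact hlast
    | cast i ih =>
      haveI := hnorm i.castSucc
      rcases hstep i with ⟨m, hm⟩ | hcop
      · rw [ih, Subgroup.relIndex_top_right] at hm
        have hq : IsPGroup p (K ⧸ H i.castSucc) :=
          IsPGroup.of_card (by rw [← Subgroup.index_eq_card]; exact hm)
        exact top_le_iff.mp (h1 ▸ Cfsg.Agent.Lib.pResidual_le_of_isPGroup_quotient _ hq)
      · rw [ih, Subgroup.relIndex_top_right] at hcop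
        apply top_le_iff.mp
        rw [← h2]
        unfold opPrime
        rw [Subgroup.closure_le]
        rintro g ⟨k, hk⟩
        rw [SetLike.mem_coe, ← QuotientGroup.eq_one_iff]
        have d1 : orderOf (g : K ⧸ H i.castSucc) ∣ p ^ k :=
          hk ▸ orderOf_map_dvd (QuotientGroup.mk' (H i.castSucc)) g
        have d2 : orderOf (g : K ⧸ H i.castSucc) ∣ (H i.castSucc).index := by
          rw [Subgroup.index_eq_card]
          exact orderOf_dvd_natCard _
        exact orderOf_eq_one_iff.mp (Nat.eq_one_of_dvd_coprimes (hcop.pow_right k) d2 d1)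
  have hbt : (⊥ : Subgroup K) = ⊤ := by rw [← h0]; exact key 0
  exact Subgroup.subsingleton_iff.mp (subsingleton_of_bot_eq_top hbt)

/-- In a finite `p`-solvable group a nontrivial Sylow `p`-subgroup is not contained in `O^p(O^{p'}(G))`. -/
theorem sylow_not_le_residual {G : Type*} [Group G] [Finite G] {p : ℕ} [Fact p.Prime] (h : IsPSolvable p G)
    (T : Sylow p G) (hT : (T : Subgroup G) ≠ ⊥) :
    ¬ (T : Subgroup G) ≤ (Cfsg.pResidual p (opPrime p G)).map (opPrime p G).subtype := by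
  intro hle
  haveI hchar := Cfsg.Agent.Lib.pResidual_characteristic (G := opPrime p G) p
  haveI hMn : ((Cfsg.pResidual p (opPrime p G)).map (opPrime p G).subtype).Normal :=
    ConjAct.normal_of_characteristic_of_normal
  -- every `p`-element lies in `M`
  have hNM : opPrime p G ≤ (Cfsg.pResidual p (opPrime p G)).map (opPrime p G).subtype := by
    conv_lhs => unfold opPrime
    rw [Subgroup.closure_le]
    rintro g ⟨k, hk⟩
    have hz : IsPGroup p (Subgroup.zpowers g) := IsPGroup.of_card (by rw [Nat.card_zpowers]; exact hk)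
    obtain ⟨Q, hQ⟩ := hz.exists_le_sylow
    obtain ⟨x, rfl⟩ := MulAction.exists_smul_eq G T Q
    have hg : g ∈ ((x • T : Sylow p G) : Subgroup G) := hQ (Subgroup.mem_zpowers g)
    rw [Sylow.coe_subgroup_smul, Subgroup.mem_pointwise_smul_iff_inv_smul_mem] at hg
    have hg' : x⁻¹ * g * x⁻¹⁻¹ ∈ (T : Subgroup G) := by
      have e : (MulAut.conj x)⁻¹ • g = x⁻¹ * g * x⁻¹⁻¹ := by
        rw [← map_inv, MulAut.smul_def, MulAut.conj_apply]
      rw [← e]
      exact hg
    have h1 : x⁻¹ * g * x⁻¹⁻¹ ∈ (Cfsg.pResidual p (opPrime p G)).map (opPrime p G).subtype := hle hg'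
    have h2 := hMn.conj_mem _ h1 x
    have e : x * (x⁻¹ * g * x⁻¹⁻¹) * x⁻¹ = g := by group
    rwa [e] at h2
  have hres : Cfsg.pResidual p (opPrime p G) = ⊤ := by
    apply Subgroup.map_injective (opPrime p G).subtype_injective
    rw [← MonoidHom.range_eq_map, Subgroup.range_subtype]
    exact le_antisymm (Subgroup.map_subtype_le _) hNM
  have hop : opPrime p (opPrime p G) = ⊤ := by
    apply top_le_iff.mp
    have h1 : Subgroup.closure (((↑) : Subgroup.closure {g : G | ∃ k : ℕ, orderOf g = p ^ k} → G) ⁻¹'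
        {g : G | ∃ k : ℕ, orderOf g = p ^ k}) = ⊤ := Subgroup.closure_closure_coe_preimage
    refine le_trans (le_of_eq h1.symm) ?_
    apply Subgroup.closure_mono
    rintro y ⟨k, hk⟩
    exact ⟨k, by rw [← hk]; exact (Subgroup.orderOf_coe y).symm⟩
  have hsub : Subsingleton (opPrime p G) :=
    subsingleton_of_isPSolvable (Cfsg.Agent.S4176.isPSolvable_subgroup _ h) hres hop
  apply hT
  rw [eq_bot_iff]
  intro t ht
  have htN : t ∈ opPrime p G := sylow_le_opPrime T ht
  have : (⟨t, htN⟩ : opPrime p G) = 1 := Subsingleton.elim _ _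
  rw [Subgroup.mem_bot]
  exact congrArg Subtype.val this

/-! ### Realized systems -/

section realized

variable {Ω : Type*} [Group Ω] {S : Subgroup Ω} {G : Type*} [Group G]

/-- If the generators of a subgroup of `Aut_F(P)` are induced by elements of `H ≤ G`, so is every element. -/
theorem induced_of_mem_closure (F : FusionSystem S) (ι : S →* G) {P : Subgroup Ω} (H : Subgroup G)
    (X : Set (F.autGroup P))
    (hX : ∀ a ∈ X, ∃ g ∈ H, ∀ t : P, jj ι ((((a : MulAut P) t : P)) : Ω) = g * jj ι t * g⁻¹)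
    (α : F.autGroup P) (hα : α ∈ Subgroup.closure X) :
    ∃ g ∈ H, ∀ t : P, jj ι ((((α : MulAut P) t : P)) : Ω) = g * jj ι t * g⁻¹ := by
  induction hα using Subgroup.closure_induction with
  | mem a ha => exact hX a ha
  | one => exact ⟨1, H.one_mem, fun t => by simp⟩
  | mul a b _ _ ha hb =>
    obtain ⟨g, hg, hgt⟩ := ha
    obtain ⟨k, hk, hkt⟩ := hb
    refine ⟨g * k, H.mul_mem hg hk, fun t => ?_⟩
    show jj ι ((((a : MulAut P) ((b : MulAut P) t) : P)) : Ω) = _
    rw [hgt, hkt, mul_inv_rev]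
    group
  | inv a _ ha =>
    obtain ⟨g, hg, hgt⟩ := ha
    refine ⟨g⁻¹, H.inv_mem hg, fun t => ?_⟩
    have h1 := hgt (((a : MulAut P)⁻¹ t))
    rw [MulAut.apply_inv_self] at h1
    show jj ι ((((a : MulAut P)⁻¹ t : P)) : Ω) = _
    rw [h1]
    group

/-- Powers of an inducing element induce the powers of the automorphism. -/
theorem induced_pow (ι : S →* G) {P : Subgroup Ω} (α : MulAut P) (g : G)
    (hg : ∀ t : P, jj ι (((α t : P)) : Ω) = g * jj ι t * g⁻¹) (k : ℕ) (t : P) :
    jj ι ((((α ^ k) t : P)) : Ω) = g ^ k * jj ι t * (g ^ k)⁻¹ := by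
  induction k generalizing t with
  | zero => simp
  | succ k ih =>
    rw [pow_succ', MulAut.mul_apply, hg, ih, pow_succ']
    group

variable [Finite G] {p : ℕ} [Fact p.Prime]

/-- In a realized system, the automorphisms in `O^p(Aut_F(P))` are induced by elements of `O^p(G)`. -/
theorem induced_by_pResidual (F : FusionSystem S) (ι : S →* G) (hι : F.IsRealizedBy ι) {P : Subgroup Ω}
    (hPS : P ≤ S) (α : F.autGroup P) (hα : α ∈ Cfsg.pResidual p (F.autGroup P)) :
    ∃ g ∈ Cfsg.pResidual p G, ∀ t : P, jj ι ((((α : MulAut P) t : P)) : Ω) = g * jj ι t * g⁻¹ := by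
  apply induced_of_mem_closure F ι (Cfsg.pResidual p G) {a : F.autGroup P | Nat.Coprime (orderOf a) p} _ α hα
  intro a ha
  have ha' : Nat.Coprime (orderOf a) p := ha
  obtain ⟨g, hg⟩ := exists_conj_of_mem_autGroup_jj F ι hι hPS a.2
  have hm : orderOf (a : MulAut P) = orderOf a := Subgroup.orderOf_coe a
  obtain ⟨k, m, hmp, hkm⟩ := Nat.exists_eq_pow_mul_and_not_dvd (orderOf_pos g).ne' p (Fact.out : p.Prime).ne_one
  obtain ⟨j, hj1, hj2⟩ := Nat.chineseRemainder (ha'.pow_right k) 1 0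
  have hpj : p ^ k ∣ j := (Nat.modEq_zero_iff_dvd).mp hj2
  have haj : (a : MulAut P) ^ j = a := by
    have h1 : (a : MulAut P) ^ j = (a : MulAut P) ^ 1 := by
      rw [pow_eq_pow_iff_modEq, hm]
      exact hj1
    rwa [pow_one] at h1
  refine ⟨g ^ j, ?_, fun t => ?_⟩
  · apply Cfsg.Agent.Lib.mem_pResidual_of_coprime
    have h1 : (g ^ j) ^ m = 1 := by
      rw [← pow_mul]
      apply orderOf_dvd_iff_pow_eq_one.mp
      rw [hkm]
      exact Nat.mul_dvd_mul_right hpj m
    have h2 : orderOf (g ^ j) ∣ m := orderOf_dvd_of_pow_eq_one h1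
    exact Nat.Coprime.coprime_dvd_left h2 ((Nat.Prime.coprime_iff_not_dvd Fact.out).mpr hmp).symm
  · have h2 := induced_pow ι (a : MulAut P) g hg j t
    rw [haj] at h2
    exact h2

/-- In a realized system, the automorphisms in `O^{p'}(Aut_F(P))` are induced by elements of `O^{p'}(G)`. -/
theorem induced_by_opPrime (F : FusionSystem S) (ι : S →* G) (hι : F.IsRealizedBy ι) {P : Subgroup Ω}
    (hPS : P ≤ S) (α : F.autGroup P)
    (hα : α ∈ Subgroup.closure {a : F.autGroup P | ∃ k : ℕ, orderOf a = p ^ k}) :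
    ∃ g ∈ opPrime p G, ∀ t : P, jj ι ((((α : MulAut P) t : P)) : Ω) = g * jj ι t * g⁻¹ := by
  apply induced_of_mem_closure F ι (opPrime p G) _ _ α hα
  rintro a ⟨k, hk⟩
  obtain ⟨g, hg⟩ := exists_conj_of_mem_autGroup_jj F ι hι hPS a.2
  have hm : orderOf (a : MulAut P) = orderOf a := Subgroup.orderOf_coe a
  obtain ⟨l, m, hmp, hlm⟩ := Nat.exists_eq_pow_mul_and_not_dvd (orderOf_pos g).ne' p (Fact.out : p.Prime).ne_one
  have hcop : Nat.Coprime (p ^ k) m := ((Nat.Prime.coprime_iff_not_dvd Fact.out).mpr hmp).pow_left k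
  obtain ⟨j, hj1, hj2⟩ := Nat.chineseRemainder hcop 1 0
  have hmj : m ∣ j := (Nat.modEq_zero_iff_dvd).mp hj2
  have haj : (a : MulAut P) ^ j = a := by
    have h1 : (a : MulAut P) ^ j = (a : MulAut P) ^ 1 := by
      rw [pow_eq_pow_iff_modEq, hm, hk]
      exact hj1
    rwa [pow_one] at h1
  refine ⟨g ^ j, ?_, fun t => ?_⟩
  · have h1 : (g ^ j) ^ p ^ l = 1 := by
      rw [← pow_mul]
      apply orderOf_dvd_iff_pow_eq_one.mp
      rw [hlm, mul_comm j]
      exact Nat.mul_dvd_mul_left _ hmj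
    obtain ⟨i, -, hi⟩ := (Nat.dvd_prime_pow (Fact.out : p.Prime)).mp (orderOf_dvd_of_pow_eq_one h1)
    exact mem_opPrime_of_orderOf hi
  · have h2 := induced_pow ι (a : MulAut P) g hg j t
    rw [haj] at h2
    exact h2

/-- The hyperfocal subgroup of a realized system is carried into `O^p(G)`. -/
theorem jj_mem_pResidual_of_mem_hyperfocal (F : FusionSystem S) (ι : S →* G) (hι : F.IsRealizedBy ι) :
    ∀ y ∈ F.hyperfocalSubgroup p, y ∈ S ∧ jj ι y ∈ Cfsg.pResidual p G := by
  intro y hy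
  unfold hyperfocalSubgroup at hy
  induction hy using Subgroup.closure_induction with
  | mem y hy =>
    obtain ⟨P, α, x, hPS, hα, rfl⟩ := hy
    obtain ⟨g, hg, hgt⟩ := induced_by_pResidual F ι hι hPS α hα
    have hxS : (x : Ω) ∈ S := hPS x.2
    have hαS : ((((α : MulAut P) x : P)) : Ω) ∈ S := hPS ((α : MulAut P) x).2
    refine ⟨S.mul_mem (S.inv_mem hxS) hαS, ?_⟩
    rw [jj_mul ι (S.inv_mem hxS) hαS, jj_inv ι hxS, hgt]
    have e : (jj ι x)⁻¹ * (g * jj ι x * g⁻¹) = ((jj ι x)⁻¹ * g * (jj ι x)⁻¹⁻¹) * g⁻¹ := by group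
    rw [e]
    exact Subgroup.mul_mem _ ((inferInstance : (Cfsg.pResidual p G).Normal).conj_mem g hg _)
      (Subgroup.inv_mem _ hg)
  | one => exact ⟨S.one_mem, by rw [jj_one]; exact Subgroup.one_mem _⟩
  | mul a b _ _ ha hb =>
    exact ⟨S.mul_mem ha.1 hb.1, by rw [jj_mul ι ha.1 hb.1]; exact Subgroup.mul_mem _ ha.2 hb.2⟩
  | inv a _ ha => exact ⟨S.inv_mem ha.1, by rw [jj_inv ι ha.1]; exact Subgroup.inv_mem _ ha.2⟩

end realized

/-! ### Termination -/

/-- Transport of a fusion system along an equality of the underlying subgroups. -/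
theorem exists_cast {Ω : Type*} [Group Ω] {T S : Subgroup Ω} (h : T = S) (X : FusionSystem T) (p : ℕ) :
    ∃ Y : FusionSystem S, (∀ P : Subgroup Ω, Y.Hom P = X.Hom P) ∧ (X.IsSaturated p → Y.IsSaturated p) := by
  subst h
  exact ⟨X, fun _ => rfl, id⟩

/-- For a system over `S ≠ 1` realized on a Sylow subgroup of a finite `p`-solvable group, the hyperfocal subgroup of
the `p'`-residual subsystem is a proper subgroup of `S`. -/
theorem hyperfocal_pPrimeResidual_ne {Ω : Type*} [Group Ω] {S : Subgroup Ω} [Finite S] {p : ℕ} [Fact p.Prime]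
    (F : FusionSystem S) (hS0 : S ≠ ⊥) {G : Type*} [Group G] [Finite G] (ι : S →* G)
    (hι : F.IsRealizedBy ι) (T : Sylow p G) (hT : (T : Subgroup G) = ι.range) (hsol : IsPSolvable p G)
    (E : FusionSystem S) (hE : F.IsPPrimeResidual p E) : E.hyperfocalSubgroup p ≠ S := by
  intro hEq
  have hTN : ι.range ≤ opPrime p G := hT ▸ sylow_le_opPrime T
  have hpre : preimageAlong ι (opPrime p G) = S := by
    apply le_antisymm (preimageAlong_le ι _)
    intro s hs
    rw [mem_preimageAlong_iff_jj ι _ hs]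
    exact hTN (jj_mem_range ι hs)
  have hsatN : (pullSystem ι hι.1 (opPrime p G)).IsSaturated p := pull_isSaturated F ι hι (opPrime p G) T hT
  obtain ⟨Y, hYhom, hYsat'⟩ := exists_cast hpre (pullSystem ι hι.1 (opPrime p G)) p
  have hYsat := hYsat' hsatN
  have hYmem : ∀ (P : Subgroup Ω) (φ : P →* Ω), φ ∈ Y.Hom P ↔ P ≤ S ∧ (∀ x : P, φ x ∈ S) ∧
      ∃ n ∈ opPrime p G, ∀ x : P, jj ι (φ x) = n * jj ι x * n⁻¹ := by
    intro P φ
    rw [hYhom, mem_pullSystem_iff, hpre]
  have hYF : Y.IsSubsystemOf F := by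
    intro P φ h
    rw [hYhom] at h
    exact pull_isSubsystemOf F ι hι (opPrime p G) P h
  have hYidx : Y.HasPrimeToPIndexIn F p := by
    refine ⟨hYF, fun P hPS => ?_⟩
    rw [Subgroup.map_le_iff_le_comap]
    intro α hα
    show ((α : MulAut P)) ∈ Y.autGroup P
    rw [mem_autGroup_iff Y hPS]
    unfold IsIso
    rw [hYmem]
    obtain ⟨g, hg, hgt⟩ := induced_by_opPrime F ι hι hPS α hα
    exact ⟨hPS, fun x => hPS ((α : MulAut P) x).2, g, hg, hgt⟩
  have hEY : E.IsSubsystemOf Y := hE.2.2 Y hYsat hYidx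
  have hhyp : E.hyperfocalSubgroup p ≤ Y.hyperfocalSubgroup p := hyperfocalSubgroup_mono Y E hEY p
  -- `Y` is realized by `O^{p'}(G)`
  let ιN : S →* opPrime p G := ι.codRestrict (opPrime p G) (fun s => hTN ⟨s, rfl⟩)
  have hreal : Y.IsRealizedBy ιN := by
    refine ⟨fun a b hab => hι.1 (congrArg Subtype.val hab), fun P hP φ hφ => ?_⟩
    rw [hYmem]
    constructor
    · rintro ⟨-, -, n, hn, hnx⟩
      refine ⟨⟨n, hn⟩, fun x => Subtype.ext ?_⟩
      show ι ⟨φ x, hφ x⟩ = n * ι ⟨x, hP x.2⟩ * n⁻¹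
      rw [← jj_eq ι (hφ x), ← jj_eq ι (hP x.2)]
      exact hnx x
    · rintro ⟨g, hg⟩
      refine ⟨hP, hφ, g, g.2, fun x => ?_⟩
      rw [jj_eq ι (hφ x), jj_eq ι (hP x.2)]
      exact congrArg Subtype.val (hg x)
  have hle : (T : Subgroup G) ≤ (Cfsg.pResidual p (opPrime p G)).map (opPrime p G).subtype := by
    rw [hT]
    rintro _ ⟨s, rfl⟩
    have hs : (s : Ω) ∈ Y.hyperfocalSubgroup p := hhyp (by rw [hEq]; exact s.2)
    have h1 := (jj_mem_pResidual_of_mem_hyperfocal (p := p) Y ιN hreal s hs).2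
    rw [jj_eq ιN s.2] at h1
    exact ⟨ιN ⟨s, s.2⟩, h1, rfl⟩
  have hTne : (T : Subgroup G) ≠ ⊥ := by
    intro hbot
    apply hS0
    rw [eq_bot_iff]
    intro s hs
    have h1 : ι ⟨s, hs⟩ ∈ (T : Subgroup G) := by rw [hT]; exact ⟨_, rfl⟩
    rw [hbot, Subgroup.mem_bot] at h1
    have h2 : (⟨s, hs⟩ : S) = 1 := hι.1 (h1.trans (map_one ι).symm)
    rw [Subgroup.mem_bot]
    exact congrArg Subtype.val h2
  exact sylow_not_le_residual hsol T hTne hle

end Cfsg.Agent.Helper2.ResDown
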