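import Mathlib

/-!
# S5289 swarm, sub-farm of piece (T) `torus` (owner helper48): piece (TA1)

A `p`-group of automorphisms of `C_p²` has order at most `p`.
-/

set_option autoImplicit false

universe u

namespace Cfsg.Agent.Helper2.ResT

open Subgroup

variable {Ω : Type u} [Group Ω] {p : ℕ} [hp : Fact p.Prime]

section abstractX

variable {X : Type u} [CommGroup X] [Finite X]

/-- (TA1) a `p`-group of automorphisms of `C_p²` has order `≤ p`. -/
theorem card_le_of_pgroup_aut (hX : Nat.card X = p ^ 2) (hXexp : ∀ x : X, x ^ p = 1)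
    (S : Subgroup (MulAut X)) (hS : IsPGroup p S) : Nat.card S ≤ p := by
  classical
  have hp1 : 1 < p := hp.out.one_lt
  haveI : Finite (MulAut X) := inferInstance
  -- the fixed point subgroup
  let F : Subgroup X :=
    { carrier := {x | ∀ s ∈ S, s x = x}
      mul_mem' := fun {a b} ha hb s hs => by rw [map_mul, ha s hs, hb s hs]
      one_mem' := fun s _ => map_one s
      inv_mem' := fun {a} ha s hs => by rw [map_inv, ha s hs] }
  have hFmem : ∀ x, x ∈ F ↔ ∀ s ∈ S, s x = x := fun x => Iff.rfl
  have hFset : (F : Set X) = MulAction.fixedPoints S X := by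
    ext x
    rw [SetLike.mem_coe, MulAction.mem_fixedPoints, hFmem]
    constructor
    · intro h s; exact h s.1 s.2
    · intro h s hs; exact h ⟨s, hs⟩
  have hmod := hS.card_modEq_card_fixedPoints X
  have hFdvd : p ∣ Nat.card F := by
    have h1 : Nat.card F = Nat.card (MulAction.fixedPoints S X) := by
      rw [← hFset]; rfl
    rw [h1]
    have h2 : Nat.card X % p = 0 := by
      rw [hX]; exact Nat.mod_eq_zero_of_dvd (dvd_pow_self p two_ne_zero)
    have h3 : Nat.card (MulAction.fixedPoints S X) % p = Nat.card X % p := hmod.symm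
    exact Nat.dvd_of_mod_eq_zero (h3.trans h2)
  have hFpos : 0 < Nat.card F := Nat.card_pos
  have hFge : p ≤ Nat.card F := Nat.le_of_dvd hFpos hFdvd
  obtain ⟨k, hk⟩ := (IsPGroup.iff_card.1 hS)
  by_cases hFtop : F = ⊤
  · have h1 : ∀ s : S, s = 1 := by
      intro s
      apply Subtype.ext
      ext x
      have hx : x ∈ F := by rw [hFtop]; exact Subgroup.mem_top x
      exact hx s.1 s.2
    haveI hsub : Subsingleton S := ⟨fun a b => by rw [h1 a, h1 b]⟩
    have h2 : Nat.card S = 1 := Nat.card_unique
    rw [h2]; exact hp1.le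
  · obtain ⟨x2, hx2⟩ : ∃ x2, x2 ∉ F := by
      by_contra hcon
      push_neg at hcon
      exact hFtop ((Subgroup.eq_top_iff' F).2 hcon)
    have hstab : ∀ s ∈ S, s x2 = x2 → s = 1 := by
      intro s hs hsx
      let H : Subgroup X :=
        { carrier := {x | s x = x}
          mul_mem' := fun {a b} ha hb => by
            show s (a * b) = a * b
            have ha' : s a = a := ha
            have hb' : s b = b := hb
            rw [map_mul, ha', hb']
          one_mem' := map_one s
          inv_mem' := fun {a} ha => by
            show s a⁻¹ = a⁻¹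
            have ha' : s a = a := ha
            rw [map_inv, ha'] }
      have hFH : F ≤ H := fun x hx => hx s hs
      have hx2H : x2 ∈ H := hsx
      have hcardlt : Nat.card F < Nat.card H := by
        by_contra hcon
        push_neg at hcon
        have := Subgroup.eq_of_le_of_card_ge hFH hcon
        exact hx2 (this ▸ hx2H)
      have hHdvd : Nat.card H ∣ p ^ 2 := by rw [← hX]; exact Subgroup.card_subgroup_dvd_card H
      obtain ⟨j, hj2, hj⟩ := (Nat.dvd_prime_pow hp.out).1 hHdvd
      have hj1 : 1 < j := by
        have h3 : p ^ 1 < p ^ j := by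
          rw [pow_one, ← hj]; exact lt_of_le_of_lt hFge hcardlt
        exact (Nat.pow_lt_pow_iff_right hp1).1 h3
      have hj' : j = 2 := le_antisymm hj2 hj1
      have hHtop : H = ⊤ := Subgroup.eq_top_of_card_eq H (by rw [hj, hj', hX])
      ext x
      have hxH : x ∈ H := by rw [hHtop]; exact Subgroup.mem_top x
      exact hxH
    have hinj : Function.Injective (fun s : S => (s : MulAut X) x2) := by
      intro s t hst
      have hst' : (s : MulAut X) x2 = (t : MulAut X) x2 := hst
      have h1 : ((t⁻¹ * s : S) : MulAut X) x2 = x2 := by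
        rw [Subgroup.coe_mul, Subgroup.coe_inv, MulAut.mul_apply, hst']
        exact MulAut.inv_apply_self _ _ _
      have h2 := hstab _ (t⁻¹ * s).2 h1
      have h3 : t⁻¹ * s = 1 := Subtype.ext h2
      exact (inv_mul_eq_one.1 h3).symm
    have hnot1 : (1 : X) ∉ Set.range (fun s : S => (s : MulAut X) x2) := by
      rintro ⟨s, hs⟩
      have hs' : (s : MulAut X) x2 = 1 := hs
      have h1 : x2 = 1 := (s : MulAut X).injective (hs'.trans (map_one _).symm)
      exact hx2 (h1 ▸ F.one_mem)
    have hlt : Nat.card S < Nat.card X := by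
      haveI := Fintype.ofFinite S
      haveI := Fintype.ofFinite X
      rw [Nat.card_eq_fintype_card, Nat.card_eq_fintype_card]
      exact Fintype.card_lt_of_injective_of_notMem _ hinj hnot1
    rw [hk, hX] at hlt
    have hk2 : k < 2 := (Nat.pow_lt_pow_iff_right hp1).1 hlt
    rw [hk]
    calc p ^ k ≤ p ^ 1 := Nat.pow_le_pow_right hp.out.pos (by omega)
      _ = p := pow_one p

end abstractX

end Cfsg.Agent.Helper2.ResT
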