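import Cfsg.Agent.Helper8.S3AWalk

/-! # S2858 farm (helper8), wave 2, leaf (TB) `T_D` -/

set_option autoImplicit false

namespace Cfsg.Agent.Helper2.S3A

open Cfsg Cfsg.Agent.Helper8.S3A

variable {G : Type*} [Group G] {M₁ M₂ : Subgroup G}

section PartT
variable (A : Core M₁ M₂) (GA : GoodAPI M₁ M₂) {b : ℕ} (C : CAPI M₁ M₂ b) (hb : 2 ≤ b)
  (hmin : Min M₁ M₂ b) {s : Bool} (hs : Star M₁ M₂ s)
include A GA C hb hmin hs

/-- (TB) consequence: `D_α = Q_α ∩ Q_μ` does not depend on `μ`. -/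
theorem T_D (hK : KProp M₁ M₂ s) {α μ ν : Vx M₁ M₂} (hα : side α = s) (hμ : Adj α μ)
    (hν : Adj α ν) : Q α ⊓ Q μ ≤ Q ν := by
  obtain ⟨K, -, -, -, -, -, -, h7⟩ := hK α hα
  rw [← h7 μ hμ, h7 ν hν]
  exact inf_le_right

end PartT

end Cfsg.Agent.Helper2.S3A
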