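import Cfsg.Agent.Helper8.S3AWalk

/-! # S2858 farm (helper8), wave 2, leaf (TC) `T_par` -/

set_option autoImplicit false

namespace Cfsg.Agent.Helper2.S3A

open Cfsg Cfsg.Agent.Helper8.S3A

variable {G : Type*} [Group G] {M₁ M₂ : Subgroup G}

section PartT
variable (A : Core M₁ M₂) (GA : GoodAPI M₁ M₂) {b : ℕ} (C : CAPI M₁ M₂ b) (hb : 2 ≤ b)
  (hmin : Min M₁ M₂ b) {s : Bool} (hs : Star M₁ M₂ s)
include A GA C hb hmin hs

/-- (TC) critical walks starting at a point end at a point. -/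
theorem T_par
    (hD : ∀ {α μ ν : Vx M₁ M₂}, side α = s → Adj α μ → Adj α ν → Q α ⊓ Q μ ≤ Q ν)
    {γ : ℕ → Vx M₁ M₂} (hα : side (γ 0) = s) (hγ : Crit γ b) : side (γ b) = s := by
  by_contra hne
  apply hγ.2
  have hb1 : b - 1 + 1 = b := by omega
  have hb2 : b - 2 + 1 = b - 1 := by omega
  -- the last two edges
  have e1 : Adj (γ (b - 1)) (γ b) := by
    have := hγ.1 (b - 1) (by omega)
    rwa [hb1] at this
  have e2 : Adj (γ (b - 2)) (γ (b - 1)) := by
    have := hγ.1 (b - 2) (by omega)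
    rwa [hb2] at this
  -- `γ (b - 1)` is a point
  have hy : side (γ (b - 1)) = s := by
    have h1 := A.side_adj e1
    cases hsb : side (γ b) <;> cases hs1 : side (γ (b - 1)) <;> cases s <;> simp_all
  have h1 : Z (γ 0) ≤ Q (γ (b - 1)) :=
    hmin γ (b - 1) (by omega) (fun i hi => hγ.1 i (by omega))
  have h2 : Z (γ 0) ≤ Q (γ (b - 2)) :=
    hmin γ (b - 2) (by omega) (fun i hi => hγ.1 i (by omega))
  exact (le_inf h1 h2).trans (hD hy (A.adj_symm e2) e1)

end PartT

end Cfsg.Agent.Helper2.S3A
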