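import Cfsg.Agent.Helper78.Sak.Defs

/-!
# S5544 (Sakuma) piece (B2) for helper78: `order_of_cases`

`conj_pair` and `inv_unique` of the skeleton are taken as `∀`-hypotheses (verbatim statements).
-/

set_option autoImplicit false

namespace Cfsg.Agent.Helper2.Sak

open Cfsg.Axial

section grp

variable {G : Type*} [Group G]

theorem B2_inv_of_sq {x : G} (hx : x * x = 1) : x⁻¹ = x := inv_eq_of_mul_eq_one_right hx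

theorem B2_pal_sq {a b : G} (ha : a * a = 1) (hb : b * b = 1) : (b * a * b) * (b * a * b) = 1 := by
  calc (b * a * b) * (b * a * b) = b * a * (b * b) * a * b := by group
    _ = b * (a * a) * b := by rw [hb]; group
    _ = 1 := by rw [ha, mul_one, hb]

theorem B2_pow2 {x y : G} (hx : x * x = 1) (hy : y * y = 1) (h : y * x * y⁻¹ = x) :
    (x * y) ^ 2 = 1 := by
  rw [B2_inv_of_sq hy] at h
  calc (x * y) ^ 2 = x * (y * x * y) := by simp only [pow_succ, pow_zero, one_mul, mul_assoc]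
    _ = 1 := by rw [h, hx]

theorem B2_pow3 {x y : G} (hx : x * x = 1) (hy : y * y = 1)
    (h : y * (x * y * x⁻¹) * y⁻¹ = x) : (x * y) ^ 3 = 1 := by
  rw [B2_inv_of_sq hy, B2_inv_of_sq hx] at h
  calc (x * y) ^ 3 = x * (y * (x * y * x) * y) := by simp only [pow_succ, pow_zero, one_mul, mul_assoc]
    _ = 1 := by rw [h, hx]

theorem B2_pow4 {x y : G} (hx : x * x = 1) (hy : y * y = 1)
    (h : y * x * y⁻¹ = x * (y * x * y⁻¹) * x⁻¹) : (x * y) ^ 4 = 1 := by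
  rw [B2_inv_of_sq hy, B2_inv_of_sq hx] at h
  calc (x * y) ^ 4 = (x * (y * x * y) * x) * (y * x * y) := by simp only [pow_succ, pow_zero, one_mul, mul_assoc]
    _ = (y * x * y) * (y * x * y) := by rw [← h]
    _ = 1 := B2_pal_sq hx hy

theorem B2_pow5 {x y : G} (hx : x * x = 1) (hy : y * y = 1)
    (h : y * (x * y * x⁻¹) * y⁻¹ = x * (y * x * y⁻¹) * x⁻¹) : (x * y) ^ 5 = 1 := by
  rw [B2_inv_of_sq hy, B2_inv_of_sq hx] at h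
  calc (x * y) ^ 5 = (x * (y * x * y) * x) * (y * (x * y * x) * y) := by simp only [pow_succ, pow_zero, one_mul, mul_assoc]
    _ = (y * (x * y * x) * y) * (y * (x * y * x) * y) := by rw [← h]
    _ = 1 := B2_pal_sq (B2_pal_sq hy hx) hy

theorem B2_pow6 {x y : G} (hx : x * x = 1) (hy : y * y = 1)
    (h : x * (y * (x * y * x⁻¹) * y⁻¹) * x⁻¹ = y * (x * y * x⁻¹) * y⁻¹) : (x * y) ^ 6 = 1 := by
  rw [B2_inv_of_sq hy, B2_inv_of_sq hx] at h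
  calc (x * y) ^ 6 = (x * (y * (x * y * x) * y) * x) * (y * (x * y * x) * y) := by simp only [pow_succ, pow_zero, one_mul, mul_assoc]
    _ = (y * (x * y * x) * y) * (y * (x * y * x) * y) := by rw [h]
    _ = 1 := B2_pal_sq (B2_pal_sq hy hx) hy

end grp

variable {V : Type*} [AddCommGroup V] [Module ℝ V]
variable {mul : V →ₗ[ℝ] V →ₗ[ℝ] V} {B : LinearMap.BilinForm ℝ V}

theorem B2_sq_eq_one (μ : V ≃ₗ[ℝ] V) (hh : ∀ v : V, μ (μ v) = v) : μ * μ = 1 := by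
  ext v
  simp [LinearEquiv.mul_apply, hh]

/-- Piece (B2): `order_of_cases`, with `conj_pair` and `inv_unique` as hypotheses. -/
theorem order_of_cases
    (hconj : ∀ (μ g : V ≃ₗ[ℝ] V) (a : V), IsMajoranaPair mul B μ a →
      (∀ u v : V, g (mul u v) = mul (g u) (g v)) → (∀ u v : V, B (g u) (g v) = B u v) →
      IsMajoranaPair mul B (g * μ * g⁻¹) (g a))
    (huniq : ∀ (μ μ' : V ≃ₗ[ℝ] V) (a : V), IsMajoranaPair mul B μ a →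
      IsMajoranaPair mul B μ' a → μ = μ')
    (μ₀ μ₁ : V ≃ₗ[ℝ] V) (a₀ a₁ : V) (h₀ : IsMajoranaPair mul B μ₀ a₀)
    (h₁ : IsMajoranaPair mul B μ₁ a₁) (hh₀ : ∀ v : V, μ₀ (μ₀ v) = v) (hh₁ : ∀ v : V, μ₁ (μ₁ v) = v)
    (hc : μ₁ a₀ = a₀ ∨ μ₁ (μ₀ a₁) = a₀ ∨ μ₁ a₀ = μ₀ (μ₁ a₀) ∨ μ₁ (μ₀ a₁) = μ₀ (μ₁ a₀) ∨
      μ₀ (μ₁ (μ₀ a₁)) = μ₁ (μ₀ a₁)) :
    ∃ n : ℕ, 1 ≤ n ∧ n ≤ 6 ∧ (μ₀ * μ₁) ^ n = 1 := by
  have hx : μ₀ * μ₀ = 1 := B2_sq_eq_one μ₀ hh₀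
  have hy : μ₁ * μ₁ = 1 := B2_sq_eq_one μ₁ hh₁
  -- the involutions of the axes a₂, a₋₁, a₃, a₋₂, a₋₃
  have p2 : IsMajoranaPair mul B (μ₁ * μ₀ * μ₁⁻¹) (μ₁ a₀) := hconj μ₀ μ₁ a₀ h₀ h₁.1 h₁.2.1
  have pm1 : IsMajoranaPair mul B (μ₀ * μ₁ * μ₀⁻¹) (μ₀ a₁) := hconj μ₁ μ₀ a₁ h₁ h₀.1 h₀.2.1
  have p3 : IsMajoranaPair mul B (μ₁ * (μ₀ * μ₁ * μ₀⁻¹) * μ₁⁻¹) (μ₁ (μ₀ a₁)) :=
    hconj _ μ₁ _ pm1 h₁.1 h₁.2.1
  have pm2 : IsMajoranaPair mul B (μ₀ * (μ₁ * μ₀ * μ₁⁻¹) * μ₀⁻¹) (μ₀ (μ₁ a₀)) :=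
    hconj _ μ₀ _ p2 h₀.1 h₀.2.1
  have pm3 : IsMajoranaPair mul B (μ₀ * (μ₁ * (μ₀ * μ₁ * μ₀⁻¹) * μ₁⁻¹) * μ₀⁻¹)
      (μ₀ (μ₁ (μ₀ a₁))) := hconj _ μ₀ _ p3 h₀.1 h₀.2.1
  rcases hc with hc | hc | hc | hc | hc
  · rw [hc] at p2
    exact ⟨2, by norm_num, by norm_num, B2_pow2 hx hy (huniq _ _ _ p2 h₀)⟩
  · rw [hc] at p3
    exact ⟨3, by norm_num, by norm_num, B2_pow3 hx hy (huniq _ _ _ p3 h₀)⟩
  · rw [← hc] at pm2
    exact ⟨4, by norm_num, by norm_num, B2_pow4 hx hy (huniq _ _ _ p2 pm2)⟩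
  · rw [← hc] at pm2
    exact ⟨5, by norm_num, by norm_num, B2_pow5 hx hy (huniq _ _ _ p3 pm2)⟩
  · rw [hc] at pm3
    exact ⟨6, by norm_num, by norm_num, B2_pow6 hx hy (huniq _ _ _ pm3 p3)⟩

end Cfsg.Agent.Helper2.Sak
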