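import Cfsg.Agent.Helper1.SZ

set_option autoImplicit false

namespace Cfsg.Agent.Helper2

open scoped Pointwise

variable {G : Type*} [Group G]

/-- Schur–Zassenhaus existence, relative version: if `A ≤ B ≤ N_G(A)` and `|A|` is coprime to
`|B : A|`, then `A` has a complement `C` in `B`. -/
theorem exists_compl_of_coprime_relIndex (A B : Subgroup G) (hAB : A ≤ B)
    (hn : B ≤ Subgroup.normalizer (A : Set G))
    (hcop : (Nat.card A).Coprime (A.relIndex B)) :
    ∃ C : Subgroup G, C ≤ B ∧ A ⊓ C = ⊥ ∧ (∀ b ∈ B, ∃ a ∈ A, ∃ c ∈ C, b = a * c) ∧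
      Nat.card C = A.relIndex B := by
  have hnorm : (A.subgroupOf B).Normal :=
    (Subgroup.normal_subgroupOf_iff_le_normalizer hAB).mpr hn
  have hcard : Nat.card (A.subgroupOf B) = Nat.card A :=
    Nat.card_congr (Subgroup.subgroupOfEquivOfLe hAB).toEquiv
  have hcop' : (Nat.card (A.subgroupOf B)).Coprime (A.subgroupOf B).index := by
    rw [hcard]; exact hcop
  obtain ⟨C', hC'⟩ := Subgroup.exists_right_complement'_of_coprime hcop'
  refine ⟨C'.map B.subtype, ?_, ?_, ?_, ?_⟩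
  · exact Subgroup.map_subtype_le C'
  · rw [eq_bot_iff]
    intro x hx
    obtain ⟨hxA, hxC⟩ := Subgroup.mem_inf.mp hx
    obtain ⟨c, hc, rfl⟩ := Subgroup.mem_map.mp hxC
    have h1 : c ∈ A.subgroupOf B ⊓ C' :=
      Subgroup.mem_inf.mpr ⟨Subgroup.mem_subgroupOf.mpr hxA, hc⟩
    rw [disjoint_iff.mp hC'.disjoint, Subgroup.mem_bot] at h1
    rw [Subgroup.mem_bot, h1]; rfl
  · intro b hb
    have hmul := Subgroup.IsComplement.mul_eq hC'
    have hb' : (⟨b, hb⟩ : B) ∈ ((A.subgroupOf B : Subgroup B) : Set B) * (C' : Set B) := by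
      rw [hmul]; exact Set.mem_univ _
    obtain ⟨a, ha, c, hc, hac⟩ := Set.mem_mul.mp hb'
    refine ⟨a, Subgroup.mem_subgroupOf.mp ha, c, Subgroup.mem_map_of_mem _ hc, ?_⟩
    have := congrArg Subtype.val hac
    simpa using this.symm
  · rw [Subgroup.card_map_of_injective B.subtype_injective]
    exact (Subgroup.IsComplement'.index_eq_card (Subgroup.IsComplement'.symm hC')).symm

/-- Schur–Zassenhaus conjugacy, relative version: two complements in `B` of a solvable normal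
Hall subgroup `A` of `B` are conjugate by an element of `B`. -/
theorem exists_conj_of_compl [Finite G] (A B C₁ C₂ : Subgroup G) (hAB : A ≤ B)
    (hn : B ≤ Subgroup.normalizer (A : Set G))
    (hcop : (Nat.card A).Coprime (A.relIndex B)) (hsolv : Group.IsSolvable A)
    (h1B : C₁ ≤ B) (h1d : A ⊓ C₁ = ⊥) (h1p : ∀ b ∈ B, ∃ a ∈ A, ∃ c ∈ C₁, b = a * c)
    (h2B : C₂ ≤ B) (h2d : A ⊓ C₂ = ⊥) (h2p : ∀ b ∈ B, ∃ a ∈ A, ∃ c ∈ C₂, b = a * c) :
    ∃ b ∈ B, MulAut.conj b • C₁ = C₂ := by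
  have hnorm : (A.subgroupOf B).Normal :=
    (Subgroup.normal_subgroupOf_iff_le_normalizer hAB).mpr hn
  have hcard : Nat.card (A.subgroupOf B) = Nat.card A :=
    Nat.card_congr (Subgroup.subgroupOfEquivOfLe hAB).toEquiv
  have hH : Subgroup.IsComplement' (A.subgroupOf B) (C₁.subgroupOf B) :=
    Cfsg.Agent.Helper1.isComplement'_subgroupOf h1B h1d h1p
  have hK : Subgroup.IsComplement' (A.subgroupOf B) (C₂.subgroupOf B) :=
    Cfsg.Agent.Helper1.isComplement'_subgroupOf h2B h2d h2p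
  have hcop' : (Nat.card (A.subgroupOf B)).Coprime (Nat.card (C₁.subgroupOf B)) := by
    rw [hcard, ← Subgroup.IsComplement'.index_eq_card (Subgroup.IsComplement'.symm hH)]
    exact hcop
  have hs : Group.IsSolvable (A.subgroupOf B) := Cfsg.Agent.Helper1.isSolvable_subgroupOf A B
  obtain ⟨g, hg⟩ := Cfsg.Agent.Helper1.sz_conj (A.subgroupOf B) (C₁.subgroupOf B)
    (C₂.subgroupOf B) hcop' hH hK (Or.inl hs)
  exact ⟨g, g.2, Cfsg.Agent.Helper1.conj_of_subgroupOf h1B h2B g hg⟩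

end Cfsg.Agent.Helper2
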