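import Cfsg.Agent.Helper95.SzOrd.Defs

/-!
# Piece (BEL) of helper95's Suzuki order farm (S0347 / S1147 / S0340)

Types of elements (fixed-point-free / one fixed point / two fixed points) and their numbers.
-/

set_option autoImplicit false
set_option maxHeartbeats 400000
set_option linter.style.haveILetI false
set_option linter.unusedSectionVars false
set_option linter.unusedVariables false

namespace Cfsg.Agent.Helper2.SzOrd

open MulAction Cfsg.Agent.Helper95.SzOrd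

variable {G Ω : Type*} [Group G] [Fintype G] [MulAction G Ω] [Fintype Ω]

section B

variable {a b : Ω} {Q : Subgroup G} {q n : ℕ}

/-- two-point stabilisers all have `q - 1` elements -/
lemma bel_card_two_stab (F : ZTFacts a b Q q n) {c c' : Ω} (hcc' : c ≠ c') :
    Nat.card (stabilizer G c ⊓ stabilizer G c' : Subgroup G) + 1 = q := by
  have h2 : IsMultiplyPretransitive G Ω 2 := F.zt.hZ.2.1
  obtain ⟨g, hga, hgb⟩ := (is_two_pretransitive_iff.mp h2) F.hab hcc'
  have hga' : g⁻¹ • c = a := by rw [← hga, inv_smul_smul]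
  have hgb' : g⁻¹ • c' = b := by rw [← hgb, inv_smul_smul]
  rw [← F.card_K]
  congr 1
  refine Nat.card_congr
    { toFun := fun x => ⟨g⁻¹ * x.1 * g, ?_⟩
      invFun := fun y => ⟨g * y.1 * g⁻¹, ?_⟩
      left_inv := fun x => by apply Subtype.ext; simp only; group
      right_inv := fun y => by apply Subtype.ext; simp only; group }
  · have hx := x.2
    rw [Subgroup.mem_inf, mem_stabilizer_iff, mem_stabilizer_iff] at hx
    rw [Subgroup.mem_inf, mem_stabilizer_iff, mem_stabilizer_iff]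
    constructor
    · rw [mul_smul, mul_smul, hga, hx.1, hga']
    · rw [mul_smul, mul_smul, hgb, hx.2, hgb']
  · have hy := y.2
    rw [Subgroup.mem_inf, mem_stabilizer_iff, mem_stabilizer_iff] at hy
    rw [Subgroup.mem_inf, mem_stabilizer_iff, mem_stabilizer_iff]
    constructor
    · rw [mul_smul, mul_smul, hga', hy.1, hga]
    · rw [mul_smul, mul_smul, hgb', hy.2, hgb]

/-- trichotomy -/
lemma bel_trichotomy (g : G) (hg : g ≠ 1) : IsFpf Ω g ∨ FixOne Ω g ∨ FixTwo Ω g := by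
  by_cases h : ∃ c : Ω, g • c = c
  · obtain ⟨c, hc⟩ := h
    by_cases h' : ∃ c' : Ω, c' ≠ c ∧ g • c' = c'
    · obtain ⟨c', hne, hc'⟩ := h'
      exact Or.inr (Or.inr ⟨c, c', hne.symm, hc, hc', hg⟩)
    · push Not at h'
      refine Or.inr (Or.inl ⟨hg, c, hc, fun c' hc' => ?_⟩)
      by_contra hne
      exact h' c' hne hc'
  · push Not at h
    exact Or.inl h

lemma bel_not_fpf_one (a : Ω) : ¬ IsFpf Ω (1 : G) := fun h => h a (one_smul G a)

lemma bel_excl12 (g : G) : ¬ (IsFpf Ω g ∧ FixOne Ω g) := by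
  rintro ⟨h1, _, c, hc, _⟩
  exact h1 c hc

lemma bel_excl13 (g : G) : ¬ (IsFpf Ω g ∧ FixTwo Ω g) := by
  rintro ⟨h1, c, _, _, hc, _⟩
  exact h1 c hc

lemma bel_excl23 (g : G) : ¬ (FixOne Ω g ∧ FixTwo Ω g) := by
  rintro ⟨⟨_, c, _, hall⟩, c1, c2, hne, h1, h2, _⟩
  exact hne ((hall c1 h1).trans (hall c2 h2).symm)

/-- an element of `G_a` outside `Q` fixes a second point (Frobenius structure of `G_a = Q K`) -/
lemma bel_mem_Q (F : ZTFacts a b Q q n) (g : G) (hga : g • a = a)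
    (hall : ∀ c' : Ω, g • c' = c' → c' = a) : g ∈ Q := by
  obtain ⟨u, hu, k, hk, hguk⟩ := F.stab_eq g (mem_stabilizer_iff.mpr hga)
  by_cases hk1 : k = 1
  · rw [hguk, hk1, mul_one]; exact hu
  exfalso
  have hkab := hk
  rw [Subgroup.mem_inf, mem_stabilizer_iff, mem_stabilizer_iff] at hkab
  have hkstab : k ∈ stabilizer G a := mem_stabilizer_iff.mpr hkab.1
  have hkinvstab : k⁻¹ ∈ stabilizer G a := Subgroup.inv_mem _ hkstab
  -- the map x ↦ x * (k x⁻¹ k⁻¹) on Q is injective, hence surjective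
  let f : Q → Q := fun x => ⟨x.1 * (k * x.1⁻¹ * k⁻¹),
    Q.mul_mem x.2 (F.zt.Qnorm k hkstab _ (Q.inv_mem x.2))⟩
  have hf : Function.Injective f := by
    intro x y hxy
    have h1 : x.1 * (k * x.1⁻¹ * k⁻¹) = y.1 * (k * y.1⁻¹ * k⁻¹) := congrArg Subtype.val hxy
    -- (y⁻¹ x) commutes with k
    have h2 : k * (y.1⁻¹ * x.1) * k⁻¹ = y.1⁻¹ * x.1 := by
      have e1 : y.1⁻¹ * (x.1 * (k * x.1⁻¹ * k⁻¹)) * (k * x.1 * k⁻¹)
          = y.1⁻¹ * x.1 := by group
      have e2 : y.1⁻¹ * (y.1 * (k * y.1⁻¹ * k⁻¹)) * (k * x.1 * k⁻¹)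
          = k * (y.1⁻¹ * x.1) * k⁻¹ := by group
      rw [← e2, ← h1, e1]
    have h3 := F.K_fpf k hk hk1 (y.1⁻¹ * x.1) (Q.mul_mem (Q.inv_mem y.2) x.2) h2
    apply Subtype.ext
    have : x.1 = y.1 * (y.1⁻¹ * x.1) := by group
    rw [this, h3, mul_one]
  have hsurj : Function.Surjective f := Finite.injective_iff_surjective.mp hf
  obtain ⟨x, hx⟩ := hsurj ⟨u, hu⟩
  have hx' : x.1 * (k * x.1⁻¹ * k⁻¹) = u := congrArg Subtype.val hx
  have hg' : g = x.1 * k * x.1⁻¹ := by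
    rw [hguk, ← hx']; group
  -- g fixes x • b ≠ a
  have hxa : x.1 • a = a := mem_stabilizer_iff.mp (F.zt.Qle x.2)
  have hfix : g • (x.1 • b) = x.1 • b := by
    rw [hg', mul_smul, mul_smul, inv_smul_smul, hkab.2]
  have := hall _ hfix
  -- x • b = a = x • a ⇒ b = a
  have hba : b = a := MulAction.injective x.1 (this.trans hxa.symm)
  exact F.hab hba.symm

lemma bel_fixOne_conj (F : ZTFacts a b Q q n) (g : G) (hg : FixOne Ω g) :
    ∃ h : G, h * g * h⁻¹ ∈ Q := by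
  obtain ⟨hg1, c, hc, hall⟩ := hg
  haveI : IsMultiplyPretransitive G Ω 2 := F.zt.hZ.2.1
  haveI : IsPretransitive G Ω := isPretransitive_of_is_two_pretransitive
  obtain ⟨h, hh⟩ := exists_smul_eq G c a
  refine ⟨h, bel_mem_Q F _ ?_ ?_⟩
  · rw [mul_smul, mul_smul, ← hh, inv_smul_smul, hc]
  · intro c' hc'
    rw [mul_smul, mul_smul] at hc'
    have h1 : g • (h⁻¹ • c') = h⁻¹ • c' := (smul_eq_iff_eq_inv_smul h).mp hc'
    have h2 := hall _ h1
    rw [← hh, ← h2, smul_inv_smul]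

lemma bel_fixTwo_conj (F : ZTFacts a b Q q n) (g : G) (hg : FixTwo Ω g) :
    ∃ h : G, h * g * h⁻¹ ∈ Kab G a b := by
  obtain ⟨c, c', hne, hc, hc', hg1⟩ := hg
  obtain ⟨h, hha, hhb⟩ := (is_two_pretransitive_iff.mp F.zt.hZ.2.1) hne F.hab
  refine ⟨h, ?_⟩
  rw [Subgroup.mem_inf, mem_stabilizer_iff, mem_stabilizer_iff]
  constructor
  · rw [mul_smul, mul_smul, ← hha, inv_smul_smul, hc]
  · rw [mul_smul, mul_smul, ← hhb, inv_smul_smul, hc']

/-- counting nonidentity elements of a subgroup -/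
lemma bel_card_ne_one (H : Subgroup G) :
    Nat.card {g : G // g ≠ 1 ∧ g ∈ H} + 1 = Nat.card H := by
  classical
  have e1 : Nat.card {g : G // g ≠ 1 ∧ g ∈ H}
      = ((Finset.univ.filter (fun g : G => g ∈ H)).erase 1).card := by
    rw [Nat.card_eq_fintype_card]
    exact Fintype.card_of_subtype _ (fun x => by simp [Finset.mem_erase])
  have e2 : Nat.card H = (Finset.univ.filter (fun g : G => g ∈ H)).card := by
    rw [Nat.card_eq_fintype_card]
    exact Fintype.card_of_subtype _ (fun x => by simp)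
  rw [e1, e2, Finset.card_erase_add_one]
  simp [H.one_mem]

lemma bel_fix_third (F : ZTFacts a b Q q n) {g : G} (hg : g ≠ 1) {c c' z : Ω} (hne : c ≠ c')
    (hc : g • c = c) (hc' : g • c' = c') (hz : g • z = z) : z = c ∨ z = c' := by
  by_contra h
  push Not at h
  exact hg (F.zt.hZ.2.2.1 g c c' z hne (Ne.symm h.2) (Ne.symm h.1) hc hc' hz)

/-- the ordered fixed pairs of an element fixing two points -/
lemma bel_fiber_two (F : ZTFacts a b Q q n) (g : G) (hg : FixTwo Ω g) :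
    Nat.card {p : Ω × Ω // p.1 ≠ p.2 ∧ g • p.1 = p.1 ∧ g • p.2 = p.2} = 2 := by
  obtain ⟨c, c', hne, hc, hc', hg1⟩ := hg
  rw [Nat.card_eq_two_iff]
  refine ⟨⟨(c, c'), hne, hc, hc'⟩, ⟨(c', c), hne.symm, hc', hc⟩, ?_, ?_⟩
  · intro h
    have := congrArg (fun x => x.1.1) h
    exact hne this
  · apply Set.eq_univ_of_forall
    rintro ⟨⟨x, y⟩, hxy, hx, hy⟩
    simp only [Set.mem_insert_iff, Set.mem_singleton_iff, Subtype.mk.injEq, Prod.mk.injEq]
    dsimp only at hxy hx hy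
    rcases bel_fix_third F hg1 hne hc hc' hx with h1 | h1 <;>
      rcases bel_fix_third F hg1 hne hc hc' hy with h2 | h2
    · exact absurd (h1.trans h2.symm) hxy
    · exact Or.inl ⟨h1, h2⟩
    · exact Or.inr ⟨h1, h2⟩
    · exact absurd (h1.trans h2.symm) hxy

lemma bel_card_offdiag : Nat.card {p : Ω × Ω // p.1 ≠ p.2} = Nat.card Ω * (Nat.card Ω - 1) := by
  classical
  rw [Nat.card_eq_fintype_card, Nat.card_eq_fintype_card]
  rw [Fintype.card_of_subtype (Finset.univ : Finset Ω).offDiag (fun x => by simp)]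
  rw [Finset.offDiag_card, Finset.card_univ, Nat.mul_sub_one]

lemma bel_card_fixTwo (F : ZTFacts a b Q q n) :
    2 * Nat.card {g : G // FixTwo Ω g} = (Nat.card Q + 1) * Nat.card Q * (q - 2) := by
  classical
  have h1 : Nat.card {t : G × (Ω × Ω) // t.1 ≠ 1 ∧ t.2.1 ≠ t.2.2 ∧ t.1 • t.2.1 = t.2.1 ∧
      t.1 • t.2.2 = t.2.2} = 2 * Nat.card {g : G // FixTwo Ω g} := by
    have e : {t : G × (Ω × Ω) // t.1 ≠ 1 ∧ t.2.1 ≠ t.2.2 ∧ t.1 • t.2.1 = t.2.1 ∧
        t.1 • t.2.2 = t.2.2} ≃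
        Σ g : {g : G // FixTwo Ω g},
          {p : Ω × Ω // p.1 ≠ p.2 ∧ g.1 • p.1 = p.1 ∧ g.1 • p.2 = p.2} :=
      { toFun := fun t => ⟨⟨t.1.1, t.1.2.1, t.1.2.2, t.2.2.1, t.2.2.2.1, t.2.2.2.2, t.2.1⟩,
          ⟨t.1.2, t.2.2.1, t.2.2.2.1, t.2.2.2.2⟩⟩
        invFun := fun s => ⟨(s.1.1, s.2.1), by
          obtain ⟨c, c', hne, hc, hc', hg1⟩ := s.1.2
          exact hg1, s.2.2.1, s.2.2.2.1, s.2.2.2.2⟩
        left_inv := fun t => rfl
        right_inv := fun s => rfl }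
    rw [Nat.card_congr e, Nat.card_sigma]
    rw [Finset.sum_congr rfl (fun g _ => bel_fiber_two F g.1 g.2)]
    rw [Finset.sum_const, Finset.card_univ, smul_eq_mul, Nat.card_eq_fintype_card, mul_comm]
  have h2 : Nat.card {t : G × (Ω × Ω) // t.1 ≠ 1 ∧ t.2.1 ≠ t.2.2 ∧ t.1 • t.2.1 = t.2.1 ∧
      t.1 • t.2.2 = t.2.2} = (Nat.card Q + 1) * Nat.card Q * (q - 2) := by
    have e : {t : G × (Ω × Ω) // t.1 ≠ 1 ∧ t.2.1 ≠ t.2.2 ∧ t.1 • t.2.1 = t.2.1 ∧
        t.1 • t.2.2 = t.2.2} ≃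
        Σ p : {p : Ω × Ω // p.1 ≠ p.2},
          {g : G // g ≠ 1 ∧ g ∈ (stabilizer G p.1.1 ⊓ stabilizer G p.1.2 : Subgroup G)} :=
      { toFun := fun t => ⟨⟨t.1.2, t.2.2.1⟩, ⟨t.1.1, t.2.1, by
          rw [Subgroup.mem_inf, mem_stabilizer_iff, mem_stabilizer_iff]
          exact ⟨t.2.2.2.1, t.2.2.2.2⟩⟩⟩
        invFun := fun s => ⟨(s.2.1, s.1.1), s.2.2.1, s.1.2, by
          have := s.2.2.2
          rw [Subgroup.mem_inf, mem_stabilizer_iff, mem_stabilizer_iff] at this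
          exact this⟩
        left_inv := fun t => rfl
        right_inv := fun s => rfl }
    rw [Nat.card_congr e, Nat.card_sigma]
    have hfib : ∀ p : {p : Ω × Ω // p.1 ≠ p.2},
        Nat.card {g : G // g ≠ 1 ∧ g ∈ (stabilizer G p.1.1 ⊓ stabilizer G p.1.2 : Subgroup G)}
          = q - 2 := by
      intro p
      have h3 := bel_card_ne_one (stabilizer G p.1.1 ⊓ stabilizer G p.1.2 : Subgroup G)
      have h4 := bel_card_two_stab F p.2
      omega
    rw [Finset.sum_congr rfl (fun p _ => hfib p)]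
    rw [Finset.sum_const, Finset.card_univ, smul_eq_mul, ← Nat.card_eq_fintype_card,
      bel_card_offdiag, F.card_Ω, Nat.add_sub_cancel]
  rw [← h1, h2]

/-- elements fixing exactly the point `c` -/
lemma bel_fiber_one (F : ZTFacts a b Q q n) (c : Ω) :
    Nat.card {g : G // g ≠ 1 ∧ g • c = c ∧ ∀ c' : Ω, g • c' = c' → c' = c} + 1
      = Nat.card Q := by
  haveI : IsMultiplyPretransitive G Ω 2 := F.zt.hZ.2.1
  haveI : IsPretransitive G Ω := isPretransitive_of_is_two_pretransitive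
  obtain ⟨h, hh⟩ := exists_smul_eq G c a
  have hh' : h⁻¹ • a = c := by rw [← hh, inv_smul_smul]
  rw [← bel_card_ne_one Q]
  congr 1
  refine Nat.card_congr
    { toFun := fun x => ⟨h * x.1 * h⁻¹, ?_, ?_⟩
      invFun := fun y => ⟨h⁻¹ * y.1 * h, ?_, ?_, ?_⟩
      left_inv := fun x => by apply Subtype.ext; simp only; group
      right_inv := fun y => by apply Subtype.ext; simp only; group }
  · intro h1
    apply x.2.1
    have : x.1 = h⁻¹ * (h * x.1 * h⁻¹) * h := by group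
    rw [this, h1]; group
  · refine bel_mem_Q F _ ?_ ?_
    · rw [mul_smul, mul_smul, hh', x.2.2.1, hh]
    · intro c' hc'
      rw [mul_smul, mul_smul] at hc'
      have h1 : x.1 • (h⁻¹ • c') = h⁻¹ • c' := (smul_eq_iff_eq_inv_smul h).mp hc'
      have h2 := x.2.2.2 _ h1
      rw [← hh, ← h2, smul_inv_smul]
  · intro h1
    apply y.2.1
    have : y.1 = h * (h⁻¹ * y.1 * h) * h⁻¹ := by group
    rw [this, h1]; group
  · have hya : y.1 • a = a := mem_stabilizer_iff.mp (F.zt.Qle y.2.2)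
    rw [mul_smul, mul_smul, hh, hya, hh']
  · intro c' hc'
    rw [mul_smul, mul_smul] at hc'
    have h1 : y.1 • (h • c') = h • c' := by
      have := (smul_eq_iff_eq_inv_smul h⁻¹).mp hc'
      rwa [inv_inv] at this
    have h2 := F.Q_fix y.1 y.2.2 y.2.1 _ h1
    rw [← hh', ← h2, inv_smul_smul]

lemma bel_card_fixOne (F : ZTFacts a b Q q n) :
    Nat.card {g : G // FixOne Ω g} = (Nat.card Q + 1) * (Nat.card Q - 1) := by
  classical
  have e : {g : G // FixOne Ω g} ≃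
      Σ c : Ω, {g : G // g ≠ 1 ∧ g • c = c ∧ ∀ c' : Ω, g • c' = c' → c' = c} :=
    { toFun := fun g => ⟨Classical.choose g.2.2, g.1, g.2.1, Classical.choose_spec g.2.2⟩
      invFun := fun s => ⟨s.2.1, s.2.2.1, s.1, s.2.2.2⟩
      left_inv := fun g => rfl
      right_inv := fun s => by
        have hs : FixOne Ω s.2.1 := ⟨s.2.2.1, s.1, s.2.2.2⟩
        have h1 : Classical.choose hs.2 = s.1 :=
          s.2.2.2.2 _ (Classical.choose_spec hs.2).1
        exact Sigma.subtype_ext h1 rfl }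
  rw [Nat.card_congr e, Nat.card_sigma]
  have hfib : ∀ c : Ω,
      Nat.card {g : G // g ≠ 1 ∧ g • c = c ∧ ∀ c' : Ω, g • c' = c' → c' = c}
        = Nat.card Q - 1 := by
    intro c
    have := bel_fiber_one F c
    omega
  rw [Finset.sum_congr rfl (fun c _ => hfib c)]
  rw [Finset.sum_const, Finset.card_univ, smul_eq_mul, ← Nat.card_eq_fintype_card, F.card_Ω]

/-- the partition of `G` -/
lemma bel_partition (a0 : Ω) :
    Nat.card G = 1 + Nat.card {g : G // IsFpf Ω g} + Nat.card {g : G // FixOne Ω g}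
      + Nat.card {g : G // FixTwo Ω g} := by
  classical
  have key : ∀ g : G, (if g = 1 then 1 else 0) + (if IsFpf Ω g then 1 else 0)
      + (if FixOne Ω g then 1 else 0) + (if FixTwo Ω g then 1 else 0) = 1 := by
    intro g
    by_cases h1 : g = 1
    · subst h1
      have n1 : ¬ IsFpf Ω (1 : G) := bel_not_fpf_one a0
      have n2 : ¬ FixOne Ω (1 : G) := fun h => h.1 rfl
      have n3 : ¬ FixTwo Ω (1 : G) := by
        rintro ⟨c, c', _, _, _, h⟩
        exact h rfl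
      simp [n1, n2, n3]
    · rcases bel_trichotomy (Ω := Ω) g h1 with h | h | h
      · have n2 : ¬ FixOne Ω g := fun h' => bel_excl12 g ⟨h, h'⟩
        have n3 : ¬ FixTwo Ω g := fun h' => bel_excl13 g ⟨h, h'⟩
        simp [h1, h, n2, n3]
      · have n1 : ¬ IsFpf Ω g := fun h' => bel_excl12 g ⟨h', h⟩
        have n3 : ¬ FixTwo Ω g := fun h' => bel_excl23 g ⟨h, h'⟩
        simp [h1, h, n1, n3]
      · have n1 : ¬ IsFpf Ω g := fun h' => bel_excl13 g ⟨h', h⟩
        have n2 : ¬ FixOne Ω g := fun h' => bel_excl23 g ⟨h', h⟩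
        simp [h1, h, n1, n2]
  have hsum : Fintype.card G = ∑ g : G, ((if g = 1 then 1 else 0) + (if IsFpf Ω g then 1 else 0)
      + (if FixOne Ω g then 1 else 0) + (if FixTwo Ω g then 1 else 0)) := by
    rw [Finset.sum_congr rfl (fun g _ => key g)]
    simp
  rw [Finset.sum_add_distrib, Finset.sum_add_distrib, Finset.sum_add_distrib] at hsum
  rw [Nat.card_eq_fintype_card, Nat.card_eq_fintype_card, Nat.card_eq_fintype_card,
    Nat.card_eq_fintype_card, Fintype.card_subtype, Fintype.card_subtype, Fintype.card_subtype,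
    Finset.card_filter, Finset.card_filter, Finset.card_filter, hsum]
  simp

theorem BEL (F : ZTFacts a b Q q n) :
    (∀ g : G, g ≠ 1 → (IsFpf Ω g ∨ FixOne Ω g ∨ FixTwo Ω g)) ∧
    (∀ g : G, FixOne Ω g → ∃ h : G, h * g * h⁻¹ ∈ Q) ∧
    (∀ g : G, FixTwo Ω g → ∃ h : G, h * g * h⁻¹ ∈ Kab G a b) ∧
    2 * Nat.card {g : G // FixTwo Ω g} = (Nat.card Q + 1) * Nat.card Q * (q - 2) ∧
    Nat.card {g : G // FixOne Ω g} = (Nat.card Q + 1) * (Nat.card Q - 1) ∧
    2 * Nat.card {g : G // IsFpf Ω g} + 2 + 2 * ((Nat.card Q + 1) * (Nat.card Q - 1))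
      + (Nat.card Q + 1) * Nat.card Q * (q - 2) = 2 * Nat.card G := by
  refine ⟨fun g hg => bel_trichotomy g hg, bel_fixOne_conj F, bel_fixTwo_conj F,
    bel_card_fixTwo F, bel_card_fixOne F, ?_⟩
  have h1 := bel_card_fixTwo F
  have h2 := bel_card_fixOne F
  have h3 := bel_partition (G := G) a
  rw [← h1, ← h2, h3]
  ring

end B

end Cfsg.Agent.Helper2.SzOrd
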