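import Cfsg.Agent.Helper95.SzOrd.Defs
import Cfsg.Agent.S0345

/-!
# Piece (BKI) of helper95's Suzuki order farm (S0347 / S1147 / S0340)

An element fixing exactly two points is inverted by exactly `q - 1` involutions.
-/

set_option autoImplicit false
set_option maxHeartbeats 400000
set_option linter.style.haveILetI false
set_option linter.unusedSectionVars false
set_option linter.unusedVariables false

namespace Cfsg.Agent.Helper2.SzOrd

open MulAction Cfsg.Agent.Helper95.SzOrd

variable {G Ω : Type*} [Group G] [Fintype G] [MulAction G Ω] [Fintype Ω]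

section B

variable {a b : Ω} {Q : Subgroup G} {q n : ℕ}

/-- two-point stabilisers all have `q - 1` elements -/
private lemma card_two_stab (F : ZTFacts a b Q q n) {c c' : Ω} (hcc' : c ≠ c') :
    Nat.card (stabilizer G c ⊓ stabilizer G c' : Subgroup G) + 1 = q := by
  have h2 : IsMultiplyPretransitive G Ω 2 := F.zt.hZ.2.1
  obtain ⟨g, hga, hgb⟩ := (is_two_pretransitive_iff.mp h2) F.hab hcc'
  have hga' : g⁻¹ • c = a := by rw [← hga, inv_smul_smul]
  have hgb' : g⁻¹ • c' = b := by rw [← hgb, inv_smul_smul]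
  rw [← F.card_K]
  congr 1
  refine Nat.card_congr
    { toFun := fun x => ⟨g⁻¹ * x.1 * g, ?_⟩
      invFun := fun y => ⟨g * y.1 * g⁻¹, ?_⟩
      left_inv := fun x => by apply Subtype.ext; simp only; group
      right_inv := fun y => by apply Subtype.ext; simp only; group }
  · have hx := x.2
    rw [Subgroup.mem_inf, mem_stabilizer_iff, mem_stabilizer_iff] at hx
    rw [Subgroup.mem_inf, mem_stabilizer_iff, mem_stabilizer_iff]
    constructor
    · rw [mul_smul, mul_smul, hga, hx.1, hga']
    · rw [mul_smul, mul_smul, hgb, hx.2, hgb']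
  · have hy := y.2
    rw [Subgroup.mem_inf, mem_stabilizer_iff, mem_stabilizer_iff] at hy
    rw [Subgroup.mem_inf, mem_stabilizer_iff, mem_stabilizer_iff]
    constructor
    · rw [mul_smul, mul_smul, hga', hy.1, hga]
    · rw [mul_smul, mul_smul, hgb', hy.2, hgb]

theorem BKI (F : ZTFacts a b Q q n) (u : G) (hu : FixTwo Ω u) :
    Nat.card {s : G // orderOf s = 2 ∧ s * u * s⁻¹ = u⁻¹} = q - 1 := by
  obtain ⟨c, c', hcc', huc, huc', hu1⟩ := hu
  haveI : IsSimpleGroup G := F.zt.simple
  have hZ := F.zt.hZ
  obtain ⟨hcyc, v, hv2, hvc, hvc', hvinv⟩ := Cfsg.Agent.S0345.result hZ hcc'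
  set E : Subgroup G := stabilizer G c ⊓ stabilizer G c' with hE
  have hEcard : Nat.card E + 1 = q := card_two_stab F hcc'
  have hmemE : ∀ x : G, x ∈ E ↔ x • c = c ∧ x • c' = c' := by
    intro x
    rw [hE, Subgroup.mem_inf, mem_stabilizer_iff, mem_stabilizer_iff]
  have huE : u ∈ E := (hmemE u).mpr ⟨huc, huc'⟩
  -- `E` has odd order
  have hEodd : ¬ 2 ∣ Nat.card E := by
    have hq : q = 2 ^ n := F.hq
    have hn : 2 ≤ n := F.hn
    have h2q : 2 ∣ q := by
      rw [hq]
      exact dvd_pow_self 2 (by omega)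
    intro h
    have : 2 ∣ Nat.card E + 1 := by rw [hEcard]; exact h2q
    omega
  -- `E` is abelian
  have hEcomm : ∀ x ∈ E, ∀ y ∈ E, x * y = y * x := by
    obtain ⟨g0, hg0⟩ := hcyc.exists_generator
    intro x hx y hy
    obtain ⟨i, hi⟩ := Subgroup.mem_zpowers_iff.mp (hg0 ⟨x, hx⟩)
    obtain ⟨j, hj⟩ := Subgroup.mem_zpowers_iff.mp (hg0 ⟨y, hy⟩)
    have hx' : x = ((g0 : G)) ^ i := by
      have := congrArg Subtype.val hi
      simpa using this.symm
    have hy' : y = ((g0 : G)) ^ j := by
      have := congrArg Subtype.val hj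
      simpa using this.symm
    rw [hx', hy', ← zpow_add, ← zpow_add, add_comm]
  have hvv : v * v = 1 := by
    have := pow_orderOf_eq_one v
    rw [hv2, pow_two] at this
    exact this
  have hvinv' : v⁻¹ = v := inv_eq_of_mul_eq_one_right hvv
  -- no non-identity element fixes three points
  have h3 := hZ.2.2.1
  -- the bijection
  have key : ∀ s : G, orderOf s = 2 → s * u * s⁻¹ = u⁻¹ → v⁻¹ * s ∈ E := by
    intro s hs2 hsu
    have hss : s * s = 1 := by
      have := pow_orderOf_eq_one s
      rw [hs2, pow_two] at this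
      exact this
    have hsinv : s⁻¹ = s := inv_eq_of_mul_eq_one_right hss
    have hus : u * s = s * u⁻¹ := by
      have : s * u * s⁻¹ * s = u⁻¹ * s := by rw [hsu]
      have h1 : s * u = u⁻¹ * s := by simpa [mul_assoc] using this
      -- u s = s u⁻¹  ⇔  s u s = u⁻¹ ...
      calc u * s = u * (s * u) * u⁻¹ := by group
        _ = u * (u⁻¹ * s) * u⁻¹ := by rw [h1]
        _ = s * u⁻¹ := by group
    have huinvc : u⁻¹ • c = c := by rw [inv_smul_eq_iff, huc]
    have huinvc' : u⁻¹ • c' = c' := by rw [inv_smul_eq_iff, huc']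
    have hfix1 : u • (s • c) = s • c := by
      rw [← mul_smul, hus, mul_smul, huinvc]
    have hfix2 : u • (s • c') = s • c' := by
      rw [← mul_smul, hus, mul_smul, huinvc']
    -- s • c ∈ {c, c'}
    have hsc : s • c = c ∨ s • c = c' := by
      by_contra hcon
      push Not at hcon
      exact hu1 (h3 u c c' (s • c) hcc' (Ne.symm hcon.2) (Ne.symm hcon.1) huc huc' hfix1)
    have hsc' : s • c' = c ∨ s • c' = c' := by
      by_contra hcon
      push Not at hcon
      exact hu1 (h3 u c c' (s • c') hcc' (Ne.symm hcon.2) (Ne.symm hcon.1) huc huc' hfix2)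
    have hinj : s • c ≠ s • c' := fun h => hcc' (MulAction.injective s h)
    rcases hsc with h1 | h1
    · -- s fixes c, hence c': s ∈ E of order 2, impossible
      exfalso
      have h2 : s • c' = c' := by
        rcases hsc' with h2 | h2
        · exact absurd (h1.trans h2.symm) hinj
        · exact h2
      have hsE : s ∈ E := (hmemE s).mpr ⟨h1, h2⟩
      have hord : orderOf (⟨s, hsE⟩ : E) = 2 := by
        rw [← hs2]
        exact (Subgroup.orderOf_coe (⟨s, hsE⟩ : E)).symm
      have := orderOf_dvd_natCard (⟨s, hsE⟩ : E)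
      rw [hord] at this
      exact hEodd this
    · have h2 : s • c' = c := by
        rcases hsc' with h2 | h2
        · exact h2
        · exact absurd (h1.trans h2.symm) hinj
      rw [hmemE]
      constructor
      · rw [mul_smul, h1, inv_smul_eq_iff, hvc]
      · rw [mul_smul, h2, inv_smul_eq_iff, hvc']
  have key2 : ∀ e ∈ E, orderOf (v * e) = 2 ∧ (v * e) * u * (v * e)⁻¹ = u⁻¹ := by
    intro e he
    have hve : v * e * v⁻¹ = e⁻¹ := hvinv e he
    have hve' : v * e = e⁻¹ * v := by
      calc v * e = v * e * v⁻¹ * v := by group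
        _ = e⁻¹ * v := by rw [hve]
    constructor
    · haveI : Fact (Nat.Prime 2) := ⟨Nat.prime_two⟩
      apply orderOf_eq_prime
      · rw [pow_two]
        calc v * e * (v * e) = e⁻¹ * v * (v * e) := by rw [hve']
          _ = e⁻¹ * (v * v) * e := by group
          _ = 1 := by rw [hvv]; group
      · intro h
        have : (v * e) • c = c' := by
          rw [mul_smul, ((hmemE e).mp he).1, hvc]
        rw [h, one_smul] at this
        exact hcc' this
    · have hcomm : e * u * e⁻¹ = u := by
        rw [hEcomm e he u huE]; group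
      calc v * e * u * (v * e)⁻¹ = v * (e * u * e⁻¹) * v⁻¹ := by group
        _ = v * u * v⁻¹ := by rw [hcomm]
        _ = u⁻¹ := hvinv u huE
  have hcard : Nat.card {s : G // orderOf s = 2 ∧ s * u * s⁻¹ = u⁻¹} = Nat.card E := by
    refine Nat.card_congr
      { toFun := fun s => ⟨v⁻¹ * s.1, key s.1 s.2.1 s.2.2⟩
        invFun := fun e => ⟨v * e.1, key2 e.1 e.2⟩
        left_inv := fun s => by apply Subtype.ext; simp
        right_inv := fun e => by apply Subtype.ext; simp }
  rw [hcard]
  omega

end B

end Cfsg.Agent.Helper2.SzOrd
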