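import Cfsg.Agent.Helper34.Tate
import Cfsg.Agent.Helper34.Gaschutz
import Cfsg.Agent.Helper2.Residual

set_option autoImplicit false

namespace Cfsg.Agent.Helper2

open Cfsg.Agent.Helper34

universe u

open scoped commutatorElement

section Splitting

variable {G : Type u} [Group G] [Finite G] {p : ℕ} [hp : Fact p.Prime] (P : Sylow p G)

/-- **Splitting lemma** (Gaschütz): with `D = P ∩ O^p(G)` and `D₀ = [D, D]`, the abelian normal
subgroup `D/D₀` of `P/D₀` has a complement. -/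
theorem tate_splitting :
    ∃ T : Subgroup (↥(P : Subgroup G) ⧸ tateD0 P),
      (∀ y : ↥(P : Subgroup G), y ∈ tateD P →
        (y : ↥(P : Subgroup G) ⧸ tateD0 P) ∈ T → (y : ↥(P : Subgroup G) ⧸ tateD0 P) = 1) ∧
      ∀ q : ↥(P : Subgroup G) ⧸ tateD0 P, ∃ y : ↥(P : Subgroup G), y ∈ tateD P ∧
        ∃ t ∈ T, q = (y : ↥(P : Subgroup G) ⧸ tateD0 P) * t := by
  obtain ⟨H, hH⟩ := gaschutz_exists (tateK P) (tateU P) (tateK_le_tateU P) (tate_coprime P)
    (tateA P) (tateA_le_tateU P) (tateA_inf_tateK P) (tateK_sup_tateA P)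
  have hdisj : ∀ e, e ∈ tateK P → e ∈ H → e = 1 := by
    intro e h1 h2
    have := hH.disjoint.le_bot (show e ∈ tateK P ⊓ H from ⟨h1, h2⟩)
    exact Subgroup.mem_bot.mp this
  have hprod : ∀ e : ↥(tateE P), ∃ k ∈ tateK P, ∃ h ∈ H, e = k * h := by
    intro e
    have h1 : e ∈ (((tateK P) ⊔ H : Subgroup ↥(tateE P)) : Set ↥(tateE P)) := by
      rw [hH.sup_eq_top]; trivial
    rw [Subgroup.normal_mul] at h1
    obtain ⟨k, hk, h, hh, rfl⟩ := h1
    exact ⟨k, hk, h, hh, rfl⟩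
  -- (1) elements of order prime to p lift with trivial second component
  have h1 : ∀ g : G, Nat.Coprime (orderOf g) p → ∃ h ∈ H, tatePi1 P h = g ∧ tatePi2 P h = 1 := by
    intro g hg
    obtain ⟨e, he⟩ := tatePi1_surjective P g
    obtain ⟨k, hk, h, hh, rfl⟩ := hprod e
    have hk1 : tatePi1 P k = 1 := hk
    have hhg : tatePi1 P h = g := by
      rw [map_mul, hk1, one_mul] at he
      exact he
    refine ⟨h, hh, hhg, ?_⟩
    have hpow : h ^ orderOf g = 1 := by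
      apply hdisj _ _ (pow_mem hh _)
      show tatePi1 P (h ^ orderOf g) = 1
      rw [map_pow, hhg, pow_orderOf_eq_one]
    have hq1 : (tatePi2 P h) ^ orderOf g = 1 := by
      rw [← map_pow, hpow, map_one]
    obtain ⟨j, hj⟩ := (isPGroup_quot P) (tatePi2 P h)
    have hd1 : orderOf (tatePi2 P h) ∣ orderOf g := orderOf_dvd_of_pow_eq_one hq1
    have hd2 : orderOf (tatePi2 P h) ∣ p ^ j := orderOf_dvd_of_pow_eq_one hj
    have : orderOf (tatePi2 P h) = 1 :=
      Nat.eq_one_of_dvd_coprimes (Nat.Coprime.pow_right j hg) hd1 hd2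
    exact orderOf_eq_one_iff.mp this
  -- (2) the same for all elements of O^p(G)
  have h2 : ∀ g ∈ Cfsg.pResidual p G, ∃ h ∈ H, tatePi1 P h = g ∧ tatePi2 P h = 1 := by
    intro g hg
    unfold Cfsg.pResidual at hg
    induction hg using Subgroup.closure_induction with
    | mem x hx => exact h1 x hx
    | one => exact ⟨1, one_mem _, map_one _, map_one _⟩
    | mul x y _ _ hx hy =>
      obtain ⟨a, ha, ha1, ha2⟩ := hx
      obtain ⟨b, hb, hb1, hb2⟩ := hy
      exact ⟨a * b, mul_mem ha hb, by rw [map_mul, ha1, hb1], by rw [map_mul, ha2, hb2, one_mul]⟩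
    | inv x _ hx =>
      obtain ⟨a, ha, ha1, ha2⟩ := hx
      exact ⟨a⁻¹, inv_mem ha, by rw [map_inv, ha1], by rw [map_inv, ha2, inv_one]⟩
  refine ⟨H.map (tatePi2 P), ?_, ?_⟩
  · intro y hy hyT
    obtain ⟨h, hh, hhy⟩ := hyT
    have hgL : tatePi1 P h ∈ Cfsg.pResidual p G := by
      have := tateE_rel P h
      rw [hhy, tateBetaBar_mk] at this
      have hd1 : ((y : G) : G ⧸ Cfsg.pResidual p G) = 1 :=
        (QuotientGroup.eq_one_iff _).mpr ((mem_tateD P y).mp hy)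
      rw [hd1] at this
      exact (QuotientGroup.eq_one_iff _).mp this
    obtain ⟨h', hh', hh'1, hh'2⟩ := h2 _ hgL
    have heq : h * h'⁻¹ = 1 := by
      apply hdisj _ _ (mul_mem hh (inv_mem hh'))
      show tatePi1 P (h * h'⁻¹) = 1
      rw [map_mul, map_inv, hh'1, mul_inv_cancel]
    have hhh : h = h' := mul_inv_eq_one.mp heq
    rw [← hhy, hhh, hh'2]
  · intro q
    obtain ⟨x, rfl⟩ := QuotientGroup.mk_surjective q
    obtain ⟨k, hk, h, hh, hkh⟩ := hprod (tateSigma P x)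
    obtain ⟨y, hy, hky⟩ := exists_of_mem_tateK P k hk
    refine ⟨y, hy, tatePi2 P h, Subgroup.mem_map_of_mem _ hh, ?_⟩
    have h4 : tatePi2 P (tateSigma P x) = tatePi2 P (k * h) := by rw [hkh]
    rw [tatePi2_sigma, map_mul, hky] at h4
    exact h4

end Splitting

section LemmaC

open scoped Pointwise

variable {Pt : Type*} [Group Pt]

/-- In a nilpotent group, `H ≤ D ⊔ [H, ⊤]` with `D` normal forces `H ≤ D`. -/
theorem le_of_le_sup_commutator_top [Group.IsNilpotent Pt] (D H : Subgroup Pt) [D.Normal]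
    (h : H ≤ D ⊔ ⁅H, (⊤ : Subgroup Pt)⁆) : H ≤ D := by
  have key : ∀ i : ℕ, H ≤ D ⊔ (⊤ : Subgroup Pt).lowerCentralSeries i := by
    intro i
    induction i with
    | zero => simp
    | succ i ih =>
      refine h.trans (sup_le le_sup_left ?_)
      rw [Subgroup.commutator_le]
      intro g₁ hg₁ g₂ _
      have h1 : g₁ ∈ ((D ⊔ (⊤ : Subgroup Pt).lowerCentralSeries i : Subgroup Pt) : Set Pt) := ih hg₁
      rw [Subgroup.normal_mul] at h1
      obtain ⟨d, hd, l, hl, rfl⟩ := h1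
      have e : ⁅d * l, g₂⁆ = d * ⁅l, g₂⁆ * d⁻¹ * ⁅d, g₂⁆ := by
        simp only [commutatorElement_def]; group
      rw [e]
      have hn : ((⊤ : Subgroup Pt).lowerCentralSeries (i + 1)).Normal := inferInstance
      apply mul_mem
      · apply Subgroup.mem_sup_right
        apply hn.conj_mem
        rw [Subgroup.lowerCentralSeries_succ]
        exact Subgroup.commutator_mem_commutator hl (Subgroup.mem_top _)
      · apply Subgroup.mem_sup_left
        rw [commutatorElement_def]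
        have : d * g₂ * d⁻¹ * g₂⁻¹ = d * (g₂ * d⁻¹ * g₂⁻¹) := by group
        rw [this]
        exact mul_mem hd (Subgroup.Normal.conj_mem inferInstance _ (inv_mem hd) _)
  obtain ⟨n, hn⟩ := Subgroup.nilpotent_iff_lowerCentralSeries.mp (inferInstance : Group.IsNilpotent Pt)
  have := key n
  rwa [hn, sup_bot_eq] at this


theorem commutatorElement_mul_central {Q : Type*} [Group Q] (a b z₁ z₂ : Q)
    (h₁ : z₁ ∈ Subgroup.center Q) (h₂ : z₂ ∈ Subgroup.center Q) :
    ⁅a * z₁, b * z₂⁆ = ⁅a, b⁆ := by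
  rw [Subgroup.mem_center_iff] at h₁ h₂
  have e1 : ∀ c : Q, z₁ * c * z₁⁻¹ = c := fun c => by rw [← h₁ c, mul_inv_cancel_right]
  have e2 : ∀ c : Q, z₂ * c * z₂⁻¹ = c := fun c => by rw [← h₂ c, mul_inv_cancel_right]
  have s1 : ∀ c : Q, ⁅a * z₁, c⁆ = ⁅a, c⁆ := by
    intro c
    rw [commutatorElement_def, commutatorElement_def]
    calc a * z₁ * c * (a * z₁)⁻¹ * c⁻¹ = a * (z₁ * c * z₁⁻¹) * a⁻¹ * c⁻¹ := by group
      _ = a * c * a⁻¹ * c⁻¹ := by rw [e1]
  have s2 : ⁅a, b * z₂⁆ = ⁅a, b⁆ := by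
    rw [commutatorElement_def, commutatorElement_def]
    calc a * (b * z₂) * a⁻¹ * (b * z₂)⁻¹ = a * b * (z₂ * a⁻¹ * z₂⁻¹) * b⁻¹ := by group
      _ = a * b * a⁻¹ * b⁻¹ := by rw [e2]
  rw [s1, s2]

/-- The `p`-group part of the generalized Tate theorem. -/
theorem le_of_splitting [Group.IsNilpotent Pt] (D D' T₀ : Subgroup Pt) [D.Normal] [D'.Normal]
    (hDD' : D ≤ D') (h1 : D' ≤ commutator Pt ⊔ D)
    (hT1 : T₀ ⊓ D' ≤ ⁅D', D'⁆) (hT2 : T₀ ⊔ D' = ⊤) : D' ≤ D := by
  apply le_of_le_sup_commutator_top D D'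
  set C : Subgroup Pt := ⁅D', (⊤ : Subgroup Pt)⁆ with hC
  have hCD' : C ≤ D' := Subgroup.commutator_le_left _ _
  have hMD' : D ⊔ C ≤ D' := sup_le hDD' hCD'
  -- the commutator subgroup lies in `T₀ ⊔ C`
  have hcomm : commutator Pt ≤ T₀ ⊔ C := by
    rw [commutator_def, Subgroup.commutator_le]
    intro a _ b _
    have ha : a ∈ ((T₀ ⊔ D' : Subgroup Pt) : Set Pt) := by rw [hT2]; trivial
    have hb : b ∈ ((T₀ ⊔ D' : Subgroup Pt) : Set Pt) := by rw [hT2]; trivial
    rw [Subgroup.mul_normal] at ha hb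
    obtain ⟨t₁, ht₁, y₁, hy₁, rfl⟩ := ha
    obtain ⟨t₂, ht₂, y₂, hy₂, rfl⟩ := hb
    have hcen : ∀ y ∈ D', ((y : Pt) : Pt ⧸ C) ∈ Subgroup.center (Pt ⧸ C) := by
      intro y hy
      rw [Subgroup.mem_center_iff]
      intro q
      obtain ⟨g, rfl⟩ := QuotientGroup.mk_surjective q
      have h2 : ⁅y, g⁆ ∈ C := Subgroup.commutator_mem_commutator hy (Subgroup.mem_top _)
      have h3 : ((⁅y, g⁆ : Pt) : Pt ⧸ C) = 1 := (QuotientGroup.eq_one_iff _).mpr h2
      rw [commutatorElement_def] at h3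
      simp only [QuotientGroup.mk_mul, QuotientGroup.mk_inv] at h3
      have h4 : (y : Pt ⧸ C) * (g : Pt ⧸ C) = (g : Pt ⧸ C) * (y : Pt ⧸ C) := by
        rw [mul_inv_eq_one, mul_inv_eq_iff_eq_mul] at h3
        exact h3
      exact h4.symm
    have h5 : ((⁅t₁ * y₁, t₂ * y₂⁆ : Pt) : Pt ⧸ C) = ((⁅t₁, t₂⁆ : Pt) : Pt ⧸ C) := by
      have := commutatorElement_mul_central (t₁ : Pt ⧸ C) (t₂ : Pt ⧸ C) _ _ (hcen y₁ hy₁) (hcen y₂ hy₂)
      rw [commutatorElement_def] at this ⊢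
      rw [commutatorElement_def] at this ⊢
      simp only [QuotientGroup.mk_mul, QuotientGroup.mk_inv]
      exact this
    have h6 : (⁅t₁, t₂⁆)⁻¹ * ⁅t₁ * y₁, t₂ * y₂⁆ ∈ C := by
      rw [← QuotientGroup.eq_one_iff, QuotientGroup.mk_mul, QuotientGroup.mk_inv, h5, inv_mul_cancel]
    have h7 : ⁅t₁ * y₁, t₂ * y₂⁆ = ⁅t₁, t₂⁆ * ((⁅t₁, t₂⁆)⁻¹ * ⁅t₁ * y₁, t₂ * y₂⁆) := by group
    rw [h7]
    exact mul_mem (Subgroup.mem_sup_left (Subgroup.commutator_mem_commutator ht₁ ht₂ |> fun h => by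
      have : ⁅T₀, T₀⁆ ≤ T₀ := by
        rw [Subgroup.commutator_le]
        intro u hu v hv
        rw [commutatorElement_def]
        exact mul_mem (mul_mem (mul_mem hu hv) (inv_mem hu)) (inv_mem hv)
      exact this h)) (Subgroup.mem_sup_right h6)
  -- `(T₀ ⊔ (D ⊔ C)) ⊓ D' ≤ D ⊔ C`
  have hinf : (T₀ ⊔ (D ⊔ C)) ⊓ D' ≤ D ⊔ C := by
    rintro x ⟨hx1, hx2⟩
    have hx1' : x ∈ ((T₀ ⊔ (D ⊔ C) : Subgroup Pt) : Set Pt) := hx1
    rw [Subgroup.mul_normal] at hx1'
    obtain ⟨t, ht, m, hm, rfl⟩ := hx1'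
    have htD' : t ∈ D' := by
      have : t = t * m * m⁻¹ := by group
      rw [this]
      exact mul_mem hx2 (inv_mem (hMD' hm))
    have : t ∈ ⁅D', D'⁆ := hT1 ⟨ht, htD'⟩
    have htC : t ∈ C := Subgroup.commutator_mono le_rfl le_top this
    exact mul_mem (Subgroup.mem_sup_right htC) hm
  intro x hx
  apply hinf
  refine ⟨?_, hx⟩
  have h2 : x ∈ commutator Pt ⊔ D := h1 hx
  have h3 : commutator Pt ⊔ D ≤ T₀ ⊔ (D ⊔ C) := by
    apply sup_le
    · exact hcomm.trans (sup_le le_sup_left ((le_sup_right : C ≤ D ⊔ C).trans le_sup_right))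
    · exact (le_sup_left : D ≤ D ⊔ C).trans le_sup_right
  exact h3 h2

end LemmaC

section GT

variable {G : Type u} [Group G] [Finite G] {p : ℕ} [hp : Fact p.Prime]

omit [Finite G] hp in
theorem map_subtype_pResidual_le (V : Subgroup G) :
    (Cfsg.pResidual p ↥V).map V.subtype ≤ Cfsg.pResidual p G := by
  unfold Cfsg.pResidual
  rw [MonoidHom.map_closure, Subgroup.closure_le]
  rintro _ ⟨a, ha, rfl⟩
  apply Subgroup.subset_closure
  simp only [Set.mem_ofPred_eq] at ha ⊢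
  rwa [Subgroup.coe_subtype, Subgroup.orderOf_coe]

/-- **Tate's theorem (general form)**: if `P ≤ V` and `P ∩ G' ≤ V'`, then
`P ∩ O^p(G) ≤ O^p(V)`. -/
theorem tate_general (P : Sylow p G) (V : Subgroup G) (hPV : (P : Subgroup G) ≤ V)
    (h : commutator G ⊓ (P : Subgroup G) ≤ (commutator ↥V).map V.subtype) :
    (P : Subgroup G) ⊓ Cfsg.pResidual p G ≤ (Cfsg.pResidual p ↥V).map V.subtype := by
  have : Group.IsNilpotent ↥(P : Subgroup G) := P.2.isNilpotent
  set f : ↥(P : Subgroup G) →* ↥V := Subgroup.inclusion hPV with hf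
  set K : Subgroup ↥V := Cfsg.pResidual p ↥V with hK
  set D : Subgroup ↥(P : Subgroup G) := K.comap f with hD
  have hDD' : D ≤ tateD P := by
    intro x hx
    rw [mem_tateD]
    have hx' : f x ∈ K := hx
    exact map_subtype_pResidual_le V ⟨f x, hx', rfl⟩
  -- `V = K P`
  set PV : Sylow p ↥V := P.subtype hPV with hPV'
  have hPVrange : (PV : Subgroup ↥V) = (⊤ : Subgroup ↥(P : Subgroup G)).map f := by
    ext v
    rw [hPV', Sylow.coe_subtype, Subgroup.mem_subgroupOf, Subgroup.mem_map]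
    constructor
    · intro hv
      exact ⟨⟨(v : G), hv⟩, Subgroup.mem_top _, Subtype.ext rfl⟩
    · rintro ⟨x, -, rfl⟩
      exact x.2
  have htop : K ⊔ (PV : Subgroup ↥V) = ⊤ := pResidual_sup_sylow_eq_top PV
  have h1 : tateD P ≤ commutator ↥(P : Subgroup G) ⊔ D := by
    intro x hx
    have hxG : (x : G) ∈ commutator G :=
      sylow_inf_pResidual_le_commutator P ⟨x.2, (mem_tateD P x).mp hx⟩
    obtain ⟨v, hv, hvx⟩ := h ⟨hxG, x.2⟩
    have hvf : v = f x := Subtype.ext hvx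
    -- work modulo `K`
    have hmaptop : (PV : Subgroup ↥V).map (QuotientGroup.mk' K) = ⊤ := by
      have := congrArg (Subgroup.map (QuotientGroup.mk' K)) htop
      rw [Subgroup.map_sup, Subgroup.map_top_of_surjective _ (QuotientGroup.mk'_surjective K),
        QuotientGroup.map_mk'_self, bot_sup_eq] at this
      exact this
    have h2 : (QuotientGroup.mk' K) v ∈ (commutator ↥V).map (QuotientGroup.mk' K) :=
      Subgroup.mem_map_of_mem _ hv
    rw [commutator_def, Subgroup.map_commutator,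
      Subgroup.map_top_of_surjective _ (QuotientGroup.mk'_surjective K), ← hmaptop,
      ← Subgroup.map_commutator, hPVrange, ← Subgroup.map_commutator, Subgroup.map_map] at h2
    obtain ⟨c₀, hc₀, hc₀v⟩ := h2
    have h3 : c₀⁻¹ * x ∈ D := by
      show f (c₀⁻¹ * x) ∈ K
      rw [map_mul, map_inv, ← hvf]
      have h4 : (QuotientGroup.mk' K) ((f c₀)⁻¹ * v) = 1 := by
        rw [map_mul, map_inv, ← hc₀v]
        simp
      exact (QuotientGroup.eq_one_iff _).mp h4
    have h5 : x = c₀ * (c₀⁻¹ * x) := by group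
    rw [h5]
    exact mul_mem (Subgroup.mem_sup_left hc₀) (Subgroup.mem_sup_right h3)
  obtain ⟨T, hT1, hT2⟩ := tate_splitting P
  have key : tateD P ≤ D := by
    apply le_of_splitting D (tateD P) (T.comap (QuotientGroup.mk' (tateD0 P))) hDD' h1
    · rintro x ⟨hx1, hx2⟩
      have h6 := hT1 x hx2 hx1
      exact (QuotientGroup.eq_one_iff _).mp h6
    · rw [eq_top_iff]
      intro x _
      obtain ⟨y, hy, t, ht, hyt⟩ := hT2 (x : ↥(P : Subgroup G) ⧸ tateD0 P)
      have h7 : y⁻¹ * x ∈ T.comap (QuotientGroup.mk' (tateD0 P)) := by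
        show ((y⁻¹ * x : ↥(P : Subgroup G)) : ↥(P : Subgroup G) ⧸ tateD0 P) ∈ T
        rw [QuotientGroup.mk_mul, hyt, QuotientGroup.mk_inv, inv_mul_cancel_left]
        exact ht
      have h8 : x = (y⁻¹ * x) * ((y⁻¹ * x)⁻¹ * y * (y⁻¹ * x)) := by group
      rw [h8]
      refine mul_mem (Subgroup.mem_sup_left h7) (Subgroup.mem_sup_right ?_)
      have hn : (tateD P).Normal := inferInstance
      have := hn.conj_mem y hy (y⁻¹ * x)⁻¹
      simpa using this
  rintro x ⟨hxP, hxR⟩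
  have h9 : (⟨x, hxP⟩ : ↥(P : Subgroup G)) ∈ D := key ((mem_tateD P _).mpr hxR)
  exact ⟨f ⟨x, hxP⟩, h9, rfl⟩

end GT

end Cfsg.Agent.Helper2
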